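import Cfsg.Agent.H21.McB
import Cfsg.Agent.H21.MultTransfer
import Cfsg.Agent.H83.InvPair
import Cfsg.Agent.H9.ExtraAut

/-! `blueprints/LOCAL3C.md`, §1.1, steps 1 and 8: `JobM1`. -/

set_option autoImplicit false
set_option maxRecDepth 100000

namespace H21.MC

open Cfsg Subgroup H98 H56.L3 H42.L3 H90 H47.MC
open scoped commutatorElement

universe u

variable {G : Type u} [Group G] [Finite G]

namespace Bas

variable {S Q L J M : Subgroup G} {z g t : G} {π : L →* SL5} (h : Bas S Q L z π)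
  (hJ : J ≤ S) (hc : J ≤ cn J) (h81 : Nat.card J = 81)
include h

theorem inf_Ce {t : L} (ht : π t = -1) : Q ⊓ Ce (t : G) ≤ zpowers z := fun q hq => by
  by_contra e
  have := h.cube hq.1 e (l := t) ⟨h.LN t.2, by rw [← mem_Ce.1 hq.2]; simp⟩
  rw [ht] at this
  exact absurd this (by decide +kernel)

theorem fratQ {t : L} (ht : π t = -1) (h2 : (t : G) * t = 1) (hg : g ∈ Nz z) :
    ∃ q ∈ Q, q⁻¹ * g ∈ Ce (t : G) := by
  let t' : L := ⟨g * t * g⁻¹, conj_mem_of_mem_normalizer (h.nL hg) t.2⟩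
  have h3 : (t' : G) * t' = 1 := by rw [conj_mul, h2, mul_one, mul_inv_cancel]
  have h4 : π t' = -1 := (sl_inv _ (by
    rw [← map_mul, show t' * t' = 1 from Subtype.ext h3, map_one])).resolve_left fun e => by
      have h5 := h.expQ _ ((h.ker _).1 e)
      rw [pow_three', h3, one_mul, conj_eq_one_iff] at h5
      rw [show t = 1 from Subtype.ext h5, map_one] at ht
      exact absurd ht (by decide +kernel)
  have h5 : (t : G) * t' ∈ Q := (h.ker (t * t')).1 (by rw [map_mul, ht, h4]; simp)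
  obtain ⟨k, hk⟩ := H83.exists_zpow_conj_of_odd h2 h3
    ((by decide : Odd 3).of_dvd_nat (orderOf_dvd_of_pow_eq_one (h.expQ _ h5)))
  refine ⟨_, zpow_mem h5 k, mem_Ce'.2 ?_⟩
  generalize ((t : G) * t') ^ k = q at hk
  calc _ = q⁻¹ * (g * t * g⁻¹) * q := by group
    _ = _ := by rw [show g * t * g⁻¹ = _ from hk.symm]; group

include hJ hc h81

theorem mem_L (h1 : t ∈ nr J) (h2 : t ∈ Ce z) (h3 : t * t = 1)
    (h4 : ∀ a ∈ J ⊓ Q, t * a * t⁻¹ * a ∈ zpowers z) (h5 : ∀ j ∈ J, t * j * t⁻¹ * j⁻¹ ∈ Q) :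
    ∃ ht : t ∈ L, π ⟨t, ht⟩ = -1 := by
  obtain ⟨s, s2, s1, sQ⟩ := h.two
  have a1 : ∀ l : L, (s : G) * l * (s : G)⁻¹ * (l : G)⁻¹ ∈ Q := fun l =>
    (h.ker (s * l * s⁻¹ * l⁻¹)).1 (by simp [s1])
  have a2 : (s : G) ∈ nr J := h.nS_le hJ hc h81 (mem_normalizer_of_cj_le (by
    rintro _ ⟨x, hx, rfl⟩
    simpa using mul_mem (h.QS (a1 ⟨x, h.SL hx⟩)) hx))
  have a3 : ∀ q ∈ Q, s * q * (s : G)⁻¹ * q ∈ zpowers z := fun q hq => by
    have b1 := conj_mem_of_mem_normalizer (h.nQ (h.LN s.2)) hq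
    refine sQ ⟨mul_mem b1 hq, mem_Ce.2 (h.comm_St (h.Lz s.2) ⟨h.LN s.2, ?_⟩ s2 (by decide)).symm⟩
    convert h.cm q hq _ b1 using 1
    calc _ = (s : G) * s * q * ((s : G) * s)⁻¹ * (s * q * (s : G)⁻¹) * q⁻¹ *
          (s * q * (s : G)⁻¹)⁻¹ := by group
      _ = _ := by rw [← pow_two, s2]; group
  have uz : t * s ∈ Ce z := mul_mem h2 (h.Lz s.2)
  have uJ : t * s ∈ nr J := mul_mem h1 a2
  have uQ := h.nQ (Ce_le_nr uz)
  have b1 : ∀ a ∈ J ⊓ Q, (t * s) ^ 3 * a = a * (t * s) ^ 3 := fun a ha => by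
    have c1 : t * s * a * (t * s)⁻¹ * a⁻¹ ∈ zpowers z := by
      convert mul_mem (conj_mem_of_mem_normalizer (Ce_le_nr h2) (a3 a ha.2))
        (h4 a⁻¹ (inv_mem ha)) using 1
      group
    have := pow_conj (inv_mul_cancel_right _ _).symm (h.comm_Z uz c1) 3
    rwa [h.expQ _ (h.ZQ c1), one_mul, mul_inv_eq_iff_eq_mul] at this
  have b2 : ((t * s) ^ 3) ^ 3 ∈ J := h.cJ hJ hc h81 fun j hj => by
    have c1 : t * s ∈ St (J ⊓ Q) j := ⟨inf_normalizer_le_normalizer_inf ⟨uJ, uQ⟩,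
      mem_inf.2 ⟨J.mul_mem (conj_mem_of_mem_normalizer uJ hj) (J.inv_mem hj), by
        convert mul_mem (conj_mem_of_mem_normalizer (h.nQ (Ce_le_nr h2)) (a1 ⟨j, h.SL (hJ hj)⟩))
          (h5 j hj) using 1
        group⟩⟩
    have c2 := (pow_mem c1 3).2
    have := pow_conj (inv_mul_cancel_right _ _).symm (b1 _ c2) 3
    rw [h.expQ _ c2.2, one_mul, mul_inv_eq_iff_eq_mul] at this
    exact this.symm
  obtain ⟨k, hk⟩ := isPGroup_iff_forall.1 (h.syl.isPGroup.to_le hJ) _ b2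
  have b3 : (t * s) ^ 3 ^ (2 + k) = 1 := by rwa [pow_add, pow_mul, pow_two, pow_mul]
  have b4 := h.three _ (Ce_le_nr uz) _ b3
  have ht := (mul_mem_cancel_right s.2).1 b4
  refine ⟨ht, (sl_inv _ (by
    rw [← map_mul, show (⟨t, ht⟩ : L) * ⟨t, ht⟩ = 1 from Subtype.ext h3, map_one])).resolve_left
      fun e => ?_⟩
  have := map_pow π (⟨t, ht⟩ * s) (3 ^ (2 + k))
  rw [show (⟨t, ht⟩ * s) ^ 3 ^ (2 + k) = 1 from Subtype.ext b3, map_one, map_mul, e, s1, one_mul,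
    Odd.neg_one_pow (Odd.pow (by decide))] at this
  exact absurd this (by decide +kernel)

theorem lf {t : L} (ht : π t = -1) (h2 : (t : G) * t = 1) (h1 : (t : G) ∈ nr J) (hSM : S ≤ M)
    (hM : nr J ≤ nr M) : ∃ L₁ f, LF J Q M L₁ z t f := by
  have hZ := h.inf_Ce ht
  have ZJ := h.Z_le_J hJ hc h81
  obtain ⟨j, hj, hj'⟩ := SetLike.not_le_iff_exists.1 (h.ab81 hJ hc h81).2.1
  have j1 := conj_mem_of_mem_normalizer h1 hj
  let d₀ : L := ⟨j, h.SL (hJ hj)⟩ * (t * ⟨j, h.SL (hJ hj)⟩ * t⁻¹)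
  have d1 : (d₀ : G) ∈ J := mul_mem hj j1
  have d2 : (d₀ : G) ∈ Ce (t : G) := mem_Ce.2 (by
    calc j * (t * j * (t : G)⁻¹) * t = j * t * j * ((t : G) * t)⁻¹ * (t * t) := by group
      _ = (t : G) * t * j * ((t : G) * t)⁻¹ * t * j := by rw [h2]; group
      _ = t * (t * j * (t : G)⁻¹ * j) := by group
      _ = t * (j * (t * j * (t : G)⁻¹)) := by rw [hc j1 j hj])
  have d3 : (d₀ : G) ∉ Q := fun e => hj' ((h.ker ⟨j, h.SL (hJ hj)⟩).1 (by
    have e1 := (h.ker d₀).2 e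
    have e2 := h.π_cube (hJ hj)
    simp only [d₀, map_mul, map_inv, ht] at e1
    rwa [pow_three', show π ⟨j, _⟩ * π ⟨j, _⟩ = 1 by simpa using e1, one_mul] at e2))
  set C := L ⊓ Ce (t : G) with hC
  let ρ : C →* SL5 := π.comp (inclusion inf_le_left)
  have ρs : Function.Surjective ρ := fun x => by
    obtain ⟨l, rfl⟩ := h.surj x
    obtain ⟨q, hq, e⟩ := h.fratQ ht h2 (h.LN l.2)
    refine ⟨⟨_, L.mul_mem (L.inv_mem (h.QL hq)) l.2, e⟩, ?_⟩
    show π ((⟨q, h.QL hq⟩ : L)⁻¹ * l) = _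
    rw [map_mul, map_inv, (h.ker _).2 hq, inv_one, one_mul]
  have zC : z ∈ C := ⟨h.QL h.zQ, (h.Z_le t.2 (mem_zpowers z)).2⟩
  have hD : IsSyl 3 (J ⊓ C) C := by
    refine ⟨inf_le_right, h.syl.isPGroup.to_le (inf_le_left.trans hJ),
      fun P hP a1 a2 => le_antisymm (fun p hp => mem_inf.2 ⟨?_, a2 hp⟩) a1⟩
    have a3 : d₀.1 ∈ P := a1 ⟨d1, d₀.2, d2⟩
    have a4 := h.syl.eq_of_le (IsPGroup.to_sup_of_normal_left' (h.syl.isPGroup.to_le h.QS) hP
      (a2.trans (inf_le_left.trans (h.LN.trans h.nQ))))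
      (h.gen (hJ d1) d3 le_sup_left (mem_sup_right a3)) le_top
    obtain ⟨a, ha, _, ⟨k, rfl⟩, rfl⟩ := (mem_sup_right_norm (zpowers_le.2 (h.nQ (h.LN d₀.2)))).1
      (h.gen (hJ d1) d3 le_sup_left (mem_sup_right (mem_zpowers _)) (a4.le (mem_sup_right hp)))
    exact mul_mem (ZJ (hZ ⟨ha, (mul_mem_cancel_right (zpow_mem d2 k)).1 (a2 hp).2⟩)) (zpow_mem d1 k)
  have z1 : z ∉ ⁅C, C⁆ := fun e => by
    rw [← map_subtype_commutator] at e
    obtain ⟨y, hy, rfl⟩ := e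
    have a1 := H21.pow_index_mem_commutator ((J ⊓ C).subgroupOf C)
      (mem_center_iff.2 fun g => Subtype.ext (mem_Ce.1 (h.Lz g.2.1))) hy
    rw [(commutator_eq_bot_iff_le_centralizer (H₁ := (J ⊓ C).subgroupOf C)
      (H₂ := (J ⊓ C).subgroupOf C)).2 fun a ha b hb => Subtype.ext (hc ha.1 b hb.1), mem_bot] at a1
    exact hD.not_dvd_relIndex (h.ord ▸ orderOf_dvd_of_pow_eq_one (congrArg Subtype.val a1))
  have L1 : ⁅C, C⁆ ≤ L := (comm_le C).trans inf_le_left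
  let ψ : (⁅C, C⁆ : Subgroup G) →* SL5 := π.comp (inclusion L1)
  have ψi : Function.Injective ψ := (injective_iff_map_eq_one ψ).2 fun l hl => by
    rcases H52.L3.mem_zp3 h.z3 (hZ ⟨(h.ker _).1 hl, (comm_le C l.2).2⟩) with e | e | e
    exacts [Subtype.ext e, absurd (e ▸ l.2) z1, absurd (inv_mem_iff.1 (e ▸ l.2)) z1]
  have ψs : Function.Surjective ψ := fun x => by
    obtain ⟨c, h3, rfl⟩ : x ∈ (commutator C).map ρ := by
      rw [_root_.commutator_def, map_commutator, ← MonoidHom.range_eq_map, MonoidHom.range_eq_top.2 ρs,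
        ← _root_.commutator_def, commutator_SL5]
      trivial
    exact ⟨⟨c, map_subtype_commutator C ▸ ⟨c, h3, rfl⟩⟩, rfl⟩
  obtain ⟨d, hd⟩ := ψs (π d₀)
  have e0 := (h.ker (d₀⁻¹ * inclusion L1 d)).1 (by
    rw [map_mul, map_inv, ← hd]; exact inv_mul_cancel _)
  have e1 : (d : G) ∈ J := (mul_mem_cancel_left (inv_mem d1)).1
    (ZJ (hZ ⟨e0, (Ce _).mul_mem ((Ce _).inv_mem d2) (comm_le C d.2).2⟩))
  have e2 : (d : G) ∉ Q := fun e => d3 (inv_mem_iff.1 ((mul_mem_cancel_right e).1 e0))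
  have x3 : ψ d ^ 3 = 1 := h.π_cube (hJ e1)
  have x1 : ψ d ≠ 1 := fun e => e2 ((h.ker _).1 e)
  obtain ⟨y, y1, y2⟩ := (sl_three _ x3 x1).1
  obtain ⟨f, rfl⟩ := ψs y
  have sq : ∀ f : (⁅C, C⁆ : Subgroup G), ψ f * ψ f = -1 ↔ (f : G) * f = t := fun f => by
    refine ⟨fun e => ?_, fun e => ht ▸ (map_mul ψ f f).symm.trans (congrArg π (Subtype.ext e))⟩
    have a1 := (comm_le C (f * f).2).2
    have a2 := hZ ⟨(h.ker (t⁻¹ * inclusion L1 (f * f))).1 (by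
      rw [map_mul, map_inv, ht, ← e, ← map_mul]; exact inv_mul_cancel _),
      (Ce _).mul_mem ((Ce _).inv_mem (mem_Ce.2 rfl)) a1⟩
    have a3 : f * f * (f * f) = 1 := ψi (by rw [map_mul, map_mul, e, map_one]; simp)
    have a4 : ((t : G)⁻¹ * (f * f :)) ^ 2 = 1 := by
      rw [(Commute.inv_left (mem_Ce.1 a1).symm).mul_pow, inv_pow, pow_two, pow_two, h2]
      simpa using congrArg Subtype.val a3
    exact (inv_mul_eq_one.1 ((pow_eq_one_iff_of_coprime (by decide : Nat.Coprime 2 3)).1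
      ⟨a4, h.expQ _ (h.ZQ a2)⟩)).symm
  have fd : (f : G) * d * (f : G)⁻¹ = d * d := by
    rw [mul_inv_eq_iff_eq_mul]
    exact congrArg Subtype.val (ψi (by simpa only [map_mul] using y1) : f * d = d * d * f)
  have fN : (f : G) ∈ nr J := h.nS_le hJ hc h81 (by
    rw [le_antisymm (h.gen (hJ e1) e2 le_sup_left (mem_sup_right (mem_zpowers _)))
      (sup_le h.QS (zpowers_le.2 (hJ e1)))]
    exact normalizer_inf_normalizer_le_normalizer_sup _ _ ⟨h.nQ (h.LN (L1 f.2)),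
      mem_Nz.2 (fd ▸ mul_mem (mem_zpowers _) (mem_zpowers _))⟩)
  have finv : ∀ j ∈ J, f * j * (f : G)⁻¹ * j ∈ Q := fun j hj => by
    obtain ⟨i, -, e⟩ := h.exists_pow (hJ e1) e2 (hJ hj)
    refine (h.ker (inclusion L1 f * ⟨j, h.SL (hJ hj)⟩ * (inclusion L1 f)⁻¹ *
      ⟨j, h.SL (hJ hj)⟩)).1 ?_
    rw [map_mul, map_mul, map_mul, map_inv, e, ← conj_pow]
    change (ψ f * ψ d * (ψ f)⁻¹) ^ i * ψ d ^ i = 1
    rw [y1, mul_inv_cancel_right, ← (Commute.refl _).mul_left (Commute.refl _) |>.mul_pow,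
      ← pow_three', x3, one_pow]
  have nor : Nz z ⊓ Ce (t : G) ≤ nr ⁅C, C⁆ := by
    have := le_normalizer_inf (inf_le_left.trans h.nL)
      ((inf_le_right (a := Nz z)).trans (le_normalizer (H := Ce (t : G))))
    exact le_normalizer_commutator this this
  refine ⟨_, f, (sq f).1 y2, fN, f.2, le_inf ((comm_le C).trans inf_le_right) (L1.trans h.Lz),
    ⟨MulEquiv.ofBijective ψ ⟨ψi, ψs⟩⟩, nor, ⟨d, e1, d.2, fun e => e2 (e ▸ one_mem _)⟩, finv,
    fun g hg => ?_, fun g hg => ?_⟩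
  · have a1 := nor ⟨hg.1.2, hg.2⟩
    let f' : (⁅C, C⁆ : Subgroup G) := ⟨_, conj_mem_of_mem_normalizer a1 f.2⟩
    let d' : (⁅C, C⁆ : Subgroup G) := ⟨_, conj_mem_of_mem_normalizer (inv_mem a1) d.2⟩
    have a2 : f * d' * f⁻¹ * d' = 1 := ψi (((h.ker _).2 (finv _
      (conj_mem_of_mem_normalizer (inv_mem hg.1.1) e1))).trans ψ.map_one.symm)
    have a3 : f' * d * f'⁻¹ * d = 1 := Subtype.ext (by
      have := congrArg (fun x : (⁅C, C⁆ : Subgroup G) => g * x * g⁻¹) a2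
      simpa [f', d', mul_assoc] using this)
    obtain ⟨i, -, e⟩ := sl_nf _ x3 x1 _ y2 y1 (ψ f') ((sq f').2 (by
      rw [conj_mul, (sq f).1 y2, mem_Ce'.1 hg.2])) (by
        have := congrArg ψ a3
        rw [map_mul, map_mul, map_mul, map_inv, map_one, ← x3, pow_three', mul_left_inj] at this
        exact mul_inv_eq_iff_eq_mul.1 this)
    rw [← map_pow, ← map_mul, ← map_mul, ψi.eq_iff, ψi.eq_iff] at e
    refine e.imp (fun e => ?_) fun e => ?_
    · rw [show g * f * g⁻¹ = _ from congrArg Subtype.val e]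
      simpa using pow_mem e1 i
    · rw [show g * f * g⁻¹ * f = _ from congrArg Subtype.val e]
      exact pow_mem e1 i
  · obtain ⟨a, ha, n, hn, e⟩ := (h.syl.of_le hSM le_top).frattini_mem (hM (inv_mem hg))
    obtain ⟨q, hq, e'⟩ := h.fratQ ht h2 (inv_mem (h.nS ha))
    refine ⟨n⁻¹ * q, mul_mem (inv_mem hn) (hSM (h.QS hq)), ?_⟩
    rw [← inv_inv g, e, show (n⁻¹ * q)⁻¹ * (a * n)⁻¹ = q⁻¹ * a⁻¹ by group]
    exact mem_inf.2 ⟨mul_mem (inv_mem (h.LN (h.QL hq))) (inv_mem (h.nS ha)), e'⟩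

end Bas

theorem nr_closure (H : Subgroup G) :
    H ≤ nr (closure {g : G | g ∈ H ∧ ∃ k : ℕ, orderOf g = 3 ^ k}) := fun g hg =>
  mem_normalizer_of_cj_le (by
    rw [H98.cj, MonoidHom.map_closure, closure_le]
    rintro _ ⟨x, ⟨h1, k, h2⟩, rfl⟩
    exact subset_closure ⟨mul_mem (mul_mem hg h1) (inv_mem hg), k, (H83.orderOf_conj g x).trans h2⟩)

omit [Finite G] in
theorem mem_closure3 {H : Subgroup G} {g : G} (hg : g ∈ H) {k : ℕ} (h : g ^ 3 ^ k = 1) :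
    g ∈ closure {g : G | g ∈ H ∧ ∃ k : ℕ, orderOf g = 3 ^ k} :=
  subset_closure ⟨hg, ((Nat.dvd_prime_pow Nat.prime_three).1 (orderOf_dvd_of_pow_eq_one h)).imp
    fun _ e => e.2⟩

theorem bas {S : Sylow 3 G} {Z J M L Q : Subgroup G} (h : Hyp S Z J M L Q) :
    ∃ z π, Bas S Q L z π := by
  obtain ⟨π, h1, h2⟩ := h.eL
  have hS := isSyl_sylow S
  have SZ : (S : Subgroup G) ≤ cn Z := le_centralizer_iff.1 (h.hZ.le.trans inf_le_right)
  have SN : (S : Subgroup G) ≤ nr Z := SZ.trans (centralizer_le_normalizer _)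
  have hQ : Q = pCoreOf 3 (nr Z) := h.hQ
  have QS : Q ≤ S := hQ ▸ (hS.of_le SN le_top).pCoreOf_le
  have cQ : cn Q ≤ Q := by
    have := h.iii
    rwa [show (pCore 3 _).map _ = pCoreOf 3 (cn Z) from rfl, pCoreOf_eq_inf_of_normal
      (centralizer_le_normalizer _) (normalizer_le_normalizer_centralizer Z), ← hQ,
      inf_eq_left.2 (QS.trans SZ)] at this
  have ZQ : Z ≤ (center Q).map Q.subtype := fun x hx => by
    have := le_centralizer_iff.1 (QS.trans SZ) hx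
    exact ⟨⟨x, cQ this⟩, mem_center_iff.2 fun g => Subtype.ext (this g g.2), rfl⟩
  have c3 : Nat.card ((center Q).map Q.subtype) = 3 := by
    rw [card_map_of_injective Q.subtype_injective, h.ex.2]
  obtain ⟨z, hz, z1⟩ : ∃ z ∈ Z, z ≠ 1 := by
    have : Nontrivial (S : Subgroup G) := (nontrivial_iff_ne_bot _).2 fun e => by
      have := card_le_of_le (QS.trans e.le)
      rw [h.cardQ, card_bot] at this
      omega
    have := S.isPGroup'.center_nontrivial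
    obtain ⟨⟨w, hw⟩, h5⟩ := exists_ne (1 : center (S : Subgroup G))
    exact ⟨w, h.hZ.ge ⟨w.2, fun g hg => congrArg Subtype.val (mem_center_iff.1 hw ⟨g, hg⟩)⟩,
      fun e => h5 (Subtype.ext (Subtype.ext e))⟩
  have zQ := map_subtype_le _ (ZQ hz)
  have ho : orderOf z = 3 := orderOf_eq_prime (h.expQ z zQ) z1
  have e1 := eq_of_le_of_card_ge ((zpowers_le.2 hz).trans ZQ) (by rw [c3, Nat.card_zpowers, ho])
  obtain rfl : Z = zpowers z := le_antisymm (ZQ.trans e1.ge) (zpowers_le.2 hz)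
  refine ⟨z, π, ho, zQ, fun a ha b hb => e1.ge ⟨⁅(⟨a, ha⟩ : Q), ⟨b, hb⟩⁆, h.ex.1.2.2.le
    (commutator_mem_commutator (mem_top _) (mem_top _)), rfl⟩, ?_, cQ, h.cardQ, h.expQ,
    fun A h3 h4 => ?_, QS, fun s hs => ?_, hS, hQ ▸ self_le_normalizer_pCoreOf _,
    h.hL ▸ nr_closure _, ?_, fun g hg k e => h.hL ▸ mem_closure3 hg e, h1, h2⟩
  · rw [h.hL, closure_le]
    rintro g ⟨hg, k, hk⟩
    obtain ⟨m, hm⟩ := exists_pow_eq_self_of_coprime (x := g) (n := 2)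
      (hk ▸ Nat.Coprime.pow_right k (by decide))
    refine hm ▸ pow_mem (mem_Ce'.2 ?_) m
    have e : g ^ 2 * z * (g ^ 2)⁻¹ = g * (g * z * g⁻¹) * g⁻¹ := by rw [pow_two]; group
    rcases H52.L3.mem_zp3 (h.expQ z zQ) (mem_Nz.1 hg) with e' | e' | e'
    · exact absurd (conj_eq_one_iff.1 e') z1
    · rw [e, e', e']
    · rw [e, e', ← conj_inv, e', inv_inv]
  · obtain ⟨m, c, -, h5, -, h6⟩ := H27.exists_cform_of_isExtraspecial h.ex
    obtain rfl : m = 2 := by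
      have := Nat.pow_right_injective (by decide : 2 ≤ 3) (h.cardQ.symm.trans h5)
      omega
    rw [← Nat.card_congr (subgroupOfEquivOfLe h3).toEquiv]
    exact H9.cform_card_le_of_isMulCommutative c h6 (m := 2) (Module.finrank_fin_fun _)
      (le_centralizer_iff_isMulCommutative.1 fun a ha b hb => Subtype.ext (h4 ha b hb))
  · obtain ⟨k, hk⟩ := isPGroup_iff_forall.1 hS.isPGroup s hs
    exact h.hL ▸ mem_closure3 (SN hs) hk
  · show _ ≤ nr (zpowers z)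
    rw [h.hZ]
    exact le_normalizer_inf le_rfl (normalizer_le_normalizer_centralizer _)

/-- `LOCAL3C.md`, §1.1. -/
theorem jobM1 : JobM1.{u} := fun G _ _ S Z J M L Q H => by
  obtain ⟨z, π, h⟩ := bas H
  have hc : J ≤ cn J := le_centralizer_iff_isMulCommutative.2 H.comm
  have h81 : Nat.card J = 81 := H.card
  have hJ := H.hJS
  have SM : (S : Subgroup G) ≤ M := fun s hs => by
    obtain ⟨k, hk⟩ := isPGroup_iff_forall.1 h.syl.isPGroup s hs
    exact H.hM ▸ mem_closure3 (h.nS_le hJ hc h81 (le_normalizer hs)) hk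
  refine ⟨z, h.ord, h.Z_le_J hJ hc h81 (mem_zpowers z), h.zQ, h.SL.trans h.Lz, h.cardS,
    fun P hP h1 => h.syl.eq_of_le hP h1 le_top, h.QS, SM,
    H.hM ▸ (closure_le _).2 fun _ hg => hg.1, h.expQ, h.nQ, ?_, fun s hs => ?_,
    (h.ab81 hJ hc h81).1, h.wc hJ hc h81, h.cJ hJ hc h81,
    fun g hg j hj h1 e => h.y3 hJ hc h81 hg hj h1 e, fun a ha => h.qconj hJ hc h81 ha,
    fun t ht h1 h2 h3 => ?_⟩
  · rw [h.S_eq hJ hc h81]
    exact le_normalizer_sup (inf_le_right.trans h.nQ) inf_le_left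
  · exact (mem_sup_right_norm (hJ.trans (h.SL.trans (h.LN.trans h.nQ)))).1
      ((h.S_eq hJ hc h81).le hs)
  · obtain ⟨h4, h5⟩ := h.mem_L hJ hc h81 ht.1 ht.2 h1 h2 h3
    exact h.lf hJ hc h81 h5 h1 ht.1 SM (H.hM ▸ nr_closure _)

end H21.MC
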