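import Cfsg.Agent.H67.SPIII

/-! STD-SP chapter III, job `JobPP`: the graph on the pairs (vector, functional). -/

set_option autoImplicit false
set_option linter.all false

namespace H21.SPP

open H67.UA H67.SP Module Submodule

variable {m : ℕ} {F : Type} [Field F] [StarRing F] [TrivialStar F] [CharP F 2] [Finite F]

omit [Finite F] in
theorem sym (x y : Vn m F) : hf x y = hf y x := by rw [← star_hf, star_trivial]

/-- `x ↦ hf x s` -/
def lf (s : Vn m F) : Vn m F →ₗ[F] F where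
  toFun x := hf x s
  map_add' x y := hf_add_left x y s
  map_smul' a x := hf_smul_left a x s

/-- the span of a list -/
def sp (l : List (Vn m F)) : Submodule F (Vn m F) := span F {x | x ∈ l}

theorem mem_sp {l : List (Vn m F)} {x : Vn m F} (h : x ∈ l) : x ∈ sp l := subset_span h

theorem rk_sp (l : List (Vn m F)) : finrank F (sp l) ≤ l.length := by
  classical
  have := finrank_span_finset_le_card (R := F) l.toFinset
  rw [Set.finrank, List.coe_toFinset] at this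
  exact this.trans l.toFinset_card_le

/-- `x` solves the equations `hf x s = 1`. -/
def So (l : List (Vn m F)) (x : Vn m F) : Prop := ∀ s ∈ l, hf x s = 1

theorem ext {l : List (Vn m F)} {x a : Vn m F} (hx : So l x) (ha : a ∉ sp l) :
    ∃ y, So (a :: l) y := by
  obtain ⟨f, h1, h2⟩ := exists_le_ker_of_notMem ha
  have k : ∀ s, hf (fun i => f (ev i.rev)) s = f s := fun s => by
    rw [f.pi_apply_eq_sum_univ s, hf, ← Equiv.sum_comp Fin.revPerm]
    refine Finset.sum_congr rfl fun i _ => ?_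
    rw [show (fun j => if i = j then 1 else 0) = (ev i : Vn m F) from
      funext fun j => by simp [ev_apply, eq_comm]]
    simp [mul_comm]
  refine ⟨x + ((1 - hf x a) / f a) • fun i => f (ev i.rev), fun s hs => ?_⟩
  rw [hf_add_left, hf_smul_left, k]
  rcases List.mem_cons.1 hs with rfl | hs
  · rw [div_mul_cancel₀ _ h1]; ring
  · rw [hx s hs, show f s = 0 from h2 (mem_sp hs), mul_zero, add_zero]

theorem card_so {l : List (Vn m F)} {x : Vn m F} (hx : So l x) :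
    Nat.card F ^ (m + 1 - l.length) ≤ {y | So l y}.ncard := by
  let φ : Vn m F →ₗ[F] (Fin l.length → F) := LinearMap.pi fun i => lf (l.get i)
  have h1 := φ.finrank_range_add_finrank_ker
  have h2 := (LinearMap.range φ).finrank_le
  simp only [finrank_fintype_fun_eq_card, Fintype.card_fin] at h1 h2
  refine (Nat.pow_le_pow_right Nat.card_pos (by omega : _ ≤ finrank F (LinearMap.ker φ))).trans ?_
  rw [← natCard_eq_pow_finrank, ← SetLike.coe_sort_coe, Nat.card_coe_set_eq]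
  refine Set.ncard_le_ncard_of_injOn (x + ·) (fun y hy s hs => ?_) fun _ _ _ _ => add_left_cancel
  obtain ⟨i, rfl⟩ := List.get_of_mem hs
  rw [hf_add_left, hx _ hs, show hf y (l.get i) = 0 from congrFun (LinearMap.mem_ker.1 hy) i, add_zero]

theorem card_inf {l : List (Vn m F)} {s : Vn m F} (hs : s ∈ l) {U : Submodule F (Vn m F)} {k : ℕ}
    (hU : finrank F U ≤ k + 1) : ({y | So l y} ∩ U).ncard ≤ Nat.card F ^ k := by
  rcases Set.eq_empty_or_nonempty ({y | So l y} ∩ U) with h | ⟨x, h1, h2⟩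
  · rw [h, Set.ncard_empty]; exact Nat.zero_le _
  have : U ⊓ LinearMap.ker (lf s) < U := lt_of_le_of_ne inf_le_left fun e =>
    one_ne_zero ((h1 s hs).symm.trans (e.ge h2).2)
  have := finrank_lt_finrank_of_lt this
  refine le_trans ?_ (Nat.pow_le_pow_right Nat.card_pos
    (by omega : finrank F (U ⊓ LinearMap.ker (lf s) : Submodule F _) ≤ k))
  rw [← natCard_eq_pow_finrank, ← SetLike.coe_sort_coe, Nat.card_coe_set_eq]
  refine Set.ncard_le_ncard_of_injOn (· - x) (fun y hy => ⟨sub_mem hy.2 h2, ?_⟩)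
    fun _ _ _ _ e => sub_left_injective e
  exact LinearMap.mem_ker.2 (by rw [map_sub]; exact sub_eq_zero.2 ((hy.1 s hs).trans (h1 s hs).symm))

/-- Avoiding two subspaces and some points. -/
theorem av {l : List (Vn m F)} {s x : Vn m F} (hs : s ∈ l) (hx : So l x) {U U' : Submodule F (Vn m F)}
    {k : ℕ} (hU : finrank F U ≤ k + 1) (hU' : finrank F U' ≤ k + 1) (P : List (Vn m F))
    (h : 2 * Nat.card F ^ k + P.length < Nat.card F ^ (m + 1 - l.length)) :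
    ∃ y, So l y ∧ y ∉ U ∧ y ∉ U' ∧ y ∉ P := by
  classical
  by_contra! hc
  have c : {y | So l y} ⊆ ({y | So l y} ∩ U ∪ {y | So l y} ∩ U') ∪ P.toFinset := fun y hy => by
    by_cases h1 : y ∈ U
    · exact .inl (.inl ⟨hy, h1⟩)
    by_cases h2 : y ∈ U'
    · exact .inl (.inr ⟨hy, h2⟩)
    · exact .inr (by simpa using hc y hy h1 h2)
  have h1 := ((card_so hx).trans (Set.ncard_le_ncard c)).trans ((Set.ncard_union_le _ _).trans
    (add_le_add (Set.ncard_union_le _ _) le_rfl))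
  have h2 := card_inf hs hU
  have h3 := card_inf hs hU'
  have h4 := P.toFinset_card_le
  rw [Set.ncard_coe_finset] at h1
  omega

/-- The numerical hypothesis. -/
def Big (m q : ℕ) : Prop := 2 * q ^ 2 + 4 < q ^ (m + 1 - 4) ∧ 6 < q ^ (m + 1 - 5)

theorem big (n : ℕ) (F : Type) [Field F] [Finite F] [h : H67.SP.Par n F] : Big (n + 1) (Nat.card F) := by
  have h2 : 2 ≤ Nat.card F := Finite.one_lt_card
  obtain ⟨k, hk⟩ := h.odd
  have h5 := h.five
  have h4 := h.four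
  generalize Nat.card F = q at *
  by_cases e : n = 5
  · subst e
    have := h4 rfl
    exact ⟨by norm_num; nlinarith, by norm_num; nlinarith⟩
  have a : 2 ^ 3 ≤ q ^ 3 := Nat.pow_le_pow_left h2 3
  have b : 2 ^ 2 ≤ q ^ 2 := Nat.pow_le_pow_left h2 2
  refine ⟨lt_of_lt_of_le ?_ (Nat.pow_le_pow_right (by omega) (by omega : 3 + 2 ≤ _)),
    lt_of_lt_of_le ?_ (Nat.pow_le_pow_right (by omega) (by omega : 3 ≤ _))⟩
  · rw [pow_add]; nlinarith
  · omega

theorem Big.le {q : ℕ} (h : Big m q) {j : ℕ} (hj : j ≤ 4) {r : ℕ} (hr : r ≤ 4) :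
    2 * q ^ 2 + r < q ^ (m + 1 - j) := by
  have : 0 < q := Nat.pos_of_ne_zero fun e => by
    have := h.1; subst e
    rcases Nat.eq_zero_or_pos (m + 1 - 4) with e | e
    · rw [e] at this; omega
    · rw [zero_pow e.ne'] at this; omega
  exact lt_of_le_of_lt (by omega) (h.1.trans_le (Nat.pow_le_pow_right this (by omega)))

abbrev Pt (m : ℕ) (F : Type) := Vn m F × Vn m F

theorem mk {p y : Pt m F} (h : hf p.1 p.2 = 1) (h1 : hf y.2 y.1 = 1) (h2 : hf y.1 p.2 = 1)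
    (h3 : hf y.2 p.1 = 1) (n1 : y.1 ≠ p.1) (n2 : y.2 ≠ p.2) : RP y p :=
  ⟨(sym _ _).trans h1, h, h2, (sym _ _).trans h3, iff_of_false n1 n2⟩

theorem exY (b : Big m (Nat.card F)) {x y z : Pt m F} (h : RP x y) (h' : RP y z) (a a' a'' f f' f'' : Vn m F) :
    ∃ w : Pt m F, RP w x ∧ RP w y ∧ RP w z ∧ w.1 ∉ sp [a, a', a''] ∧ w.2 ∉ sp [f, f', f''] := by
  obtain ⟨u, u1, u2, u3, -⟩ := av (l := [x.2, y.2, z.2]) (s := x.2) (x := y.1) (by simp)
    (by simp [So, h.2.2.2.1, h.2.1, h'.2.2.1]) (rk_sp [a, a', a'']) (rk_sp [x.1, y.1, z.1]) []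
    (b.le (by simp) (by simp))
  obtain ⟨v0, hv⟩ := ext (x := y.2) (by
    simp [So, sym y.2, h.2.2.1, h.2.1, h'.2.2.2.1]) u3
  obtain ⟨v, v1, v2, -, v3⟩ := av (s := u) (by simp) hv (rk_sp [f, f', f'']) (rk_sp [f, f', f''])
    [x.2, y.2, z.2] (b.le (by simp) (by simp))
  simp only [So, List.mem_cons, List.not_mem_nil, or_false, forall_eq_or_imp, forall_eq, not_or]
    at u1 v1 v3
  exact ⟨(u, v), mk h.1 v1.1 u1.1 v1.2.1 (fun e => u3 (mem_sp (by simp [← e]))) v3.1,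
    mk h.2.1 v1.1 u1.2.1 v1.2.2.1 (fun e => u3 (mem_sp (by simp [← e]))) v3.2.1,
    mk h'.2.1 v1.1 u1.2.2 v1.2.2.2 (fun e => u3 (mem_sp (by simp [← e]))) v3.2.2, u2, v2⟩

theorem exW (b : Big m (Nat.card F)) {x y z t : Pt m F} (h : RP x y) (h' : RP y z)
    (ht : hf t.1 t.2 = 1) (t1 : t.1 ∉ sp [x.1, y.1, z.1]) (t2 : t.2 ∉ sp [x.2, y.2, z.2]) :
    ∃ w : Pt m F, RP w x ∧ RP w y ∧ RP w z ∧ RP w t := by
  obtain ⟨u0, hu⟩ := ext (x := y.1) (by simp [So, h.2.2.2.1, h.2.1, h'.2.2.1]) t2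
  obtain ⟨v0, hv⟩ := ext (x := y.2) (by simp [So, sym y.2, h.2.2.1, h.2.1, h'.2.2.2.1]) t1
  have b0 : finrank F (⊥ : Submodule F (Vn m F)) ≤ 0 + 1 := by simp
  obtain ⟨u, u1, u2, v1, hv1⟩ : ∃ u, So [t.2, x.2, y.2, z.2] u ∧ u ∉ [t.1, x.1, y.1, z.1] ∧
      ∃ v, So (u :: [t.1, x.1, y.1, z.1]) v := by
    by_cases c : So [t.1, x.1, y.1, z.1] t.2
    · obtain ⟨u, u1, -, -, u2⟩ := av (s := t.2) (by simp) hu (rk_sp [u0, u0, u0]) (rk_sp [u0, u0, u0])
        [t.1, x.1, y.1, z.1] (b.le (by simp) (by simp))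
      exact ⟨u, u1, u2, t.2, List.forall_mem_cons.2 ⟨(sym _ _).trans (u1 _ (by simp)), c⟩⟩
    obtain ⟨p, p1, p2, p3, p4⟩ : ∃ p : Pt m F, p.1 ∈ [t.1, x.1, y.1, z.1] ∧
        p.2 ∈ [t.2, x.2, y.2, z.2] ∧ hf p.1 p.2 = 1 ∧ hf t.2 p.1 ≠ 1 := by
      simp only [So, List.forall_mem_cons, not_and_or, List.not_mem_nil, IsEmpty.forall_iff,
        implies_true, not_true, or_false] at c
      rcases c with c | c | c | c
      exacts [⟨t, by simp, by simp, ht, c⟩, ⟨x, by simp, by simp, h.1, c⟩,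
        ⟨y, by simp, by simp, h.2.1, c⟩, ⟨z, by simp, by simp, h'.2.1, c⟩]
    have lt : sp [t.1, x.1, y.1, z.1] ⊓ LinearMap.ker (lf p.2 - lf t.2) < sp [t.1, x.1, y.1, z.1] :=
      lt_of_le_of_ne inf_le_left fun e => p4 (by
        rw [sym, ← p3]; exact (sub_eq_zero.1 (e.ge (mem_sp p1)).2).symm)
    have r := (finrank_lt_finrank_of_lt lt).trans_le (rk_sp _)
    obtain ⟨u, u1, u2, -⟩ := av (s := t.2) (by simp) hu (k := 2) (Nat.lt_succ_iff.1 r)
      (Nat.lt_succ_iff.1 r) [] (b.le (by simp) (by simp))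
    have u3 : u ∉ sp [t.1, x.1, y.1, z.1] := fun k =>
      u2 ⟨k, sub_eq_zero.2 ((u1 _ p2).trans (u1 t.2 (by simp)).symm)⟩
    exact ⟨u, u1, fun k => u3 (mem_sp k), ext hv u3⟩
  obtain ⟨v, v2, -, -, v3⟩ := av (s := u) (by simp) hv1 b0 b0 [t.2, x.2, y.2, z.2]
    (by simpa using b.2)
  simp only [So, List.mem_cons, List.not_mem_nil, or_false, forall_eq_or_imp, forall_eq, not_or]
    at u1 u2 v2 v3
  exact ⟨(u, v), mk h.1 v2.1 u1.2.1 v2.2.2.1 u2.2.1 v3.2.1,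
    mk h.2.1 v2.1 u1.2.2.1 v2.2.2.2.1 u2.2.2.1 v3.2.2.1,
    mk h'.2.1 v2.1 u1.2.2.2 v2.2.2.2.2 u2.2.2.2 v3.2.2.2, mk ht v2.1 u1.1 v2.2.1 u2.1 v3.1⟩

theorem symm {p p' : Pt m F} (h : RP p p') : RP p' p :=
  ⟨h.2.1, h.1, h.2.2.2.1, h.2.2.1, by rw [eq_comm, h.2.2.2.2, eq_comm]⟩

theorem jobPP : JobPP := by
  intro n F _ _ _ _ _ _
  have b := big n F
  refine ⟨fun x0 x1 x2 x3 x4 h0 h1 h2 h3 => .inr (.inr ?_), fun p p' h h' => ?_⟩
  · obtain ⟨y, y2, y3, y4, a, f⟩ := exY b h2 h3 x0.1 x1.1 x2.1 x0.2 x1.2 x2.2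
    obtain ⟨w, hw⟩ := exW b h0 h1 y2.1 a f
    exact ⟨y, w, y2, y3, y4, hw⟩
  · have r : RP p p := ⟨h, h, h, h, by simp⟩
    have r' : RP p' p' := ⟨h', h', h', h', by simp⟩
    obtain ⟨y, y2, -, -, a, f⟩ := exY b r r p'.1 p'.1 p'.1 p'.2 p'.2 p'.2
    obtain ⟨w, w1, -, -, w2⟩ := exW b r' r' y2.1 a f
    exact .head (symm y2) (.head (symm w2) (.single w1))

end H21.SPP
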