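import Cfsg.Agent.H21.SWWr2

/-! STD-S kit, part 4: the halves `h a`, good pairs, transvections. -/

set_option autoImplicit false
set_option linter.unusedSectionVars false

namespace H21.SW

open H64.SG Subgroup
open H67.SA (cm mem_cjs conj_mem_cjs card_cjs cm_eq_one)

universe u

section Tv

variable {E : Type*} [Group E] [Finite E] (h : ∀ x : E, x * x = 1)
include h

theorem comm_of_sq (a b : E) : a * b = b * a := El.comm (A := ⊤) (fun a _ => h a) trivial trivial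

/-- A hyperplane through `C` missing `a`. -/
theorem exists_hyp {C : Subgroup E} {a : E} (ha : a ∉ C) :
    ∃ M : Subgroup E, C ≤ M ∧ a ∉ M ∧ ∀ x, x ∈ M ∨ x * a ∈ M := by
  obtain ⟨M, h1, h2, h3⟩ := Finite.exists_le_maximal (p := fun M : Subgroup E => a ∉ M) ha
  refine ⟨M, h1, h2, fun x => or_iff_not_imp_left.2 fun hx => ?_⟩
  have : a ∈ M ⊔ zpowers x := by_contra fun k =>
    hx (h3 k le_sup_left (mem_sup_right (mem_zpowers x)))
  obtain ⟨m, hm, y, hy, rfl⟩ := (H98.mem_sup_right_norm (fun y _ => mem_normalizer_iff.2 fun m => by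
    rw [comm_of_sq h y m, mul_inv_cancel_right])).1 this
  rcases (mem_zp2 (h x)).1 hy with rfl | rfl
  · exact absurd (by simpa using hm) h2
  · rwa [comm_of_sq h m y, ← mul_assoc, h, one_mul]

/-- The transvection with axis `M` and centre `c`. -/
theorem exists_tv {M : Subgroup E} {a c : E} (hc : c ∈ M) (hM : ∀ x, x ∈ M ∨ x * a ∈ M) :
    ∃ φ : MulAut E, (∀ x ∈ M, φ x = x) ∧ ∀ x ∉ M, φ x = x * c := by
  classical
  have k1 : ∀ {x y}, x ∉ M → y ∉ M → x * y ∈ M := fun {x y} hx hy => by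
    have := mul_mem ((hM x).resolve_left hx) ((hM y).resolve_left hy)
    rwa [comm_of_sq h y a, mul_assoc, ← mul_assoc a, h, one_mul] at this
  let f : E →* E := MonoidHom.mk' (fun x => if x ∈ M then x else x * c) fun x y => by
    by_cases hx : x ∈ M <;> by_cases hy : y ∈ M
    · simp only [hx, hy, mul_mem hx hy, if_true]
    · simp only [hx, hy, (mul_mem_cancel_left hx).not.2 hy, if_true, if_false, mul_assoc]
    · simp only [hx, hy, (mul_mem_cancel_right hy).not.2 hx, if_true, if_false, mul_assoc,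
        comm_of_sq h y c]
    · simp only [hx, hy, k1 hx hy, if_true, if_false]
      rw [comm_of_sq h y c, mul_assoc, ← mul_assoc c, h, one_mul]
  have f1 : ∀ x ∈ M, f x = x := fun x hx => if_pos hx
  have f2 : ∀ x ∉ M, f x = x * c := fun x hx => if_neg hx
  have f3 : ∀ x, f (f x) = x := fun x => by
    by_cases hx : x ∈ M
    · rw [f1 x hx, f1 x hx]
    · rw [f2 x hx, f2 _ ((mul_mem_cancel_right hc).not.2 hx), mul_assoc, h, mul_one]
  exact ⟨MonoidHom.toMulEquiv f f (MonoidHom.ext f3) (MonoidHom.ext f3), f1, f2⟩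

theorem exists_aut {a b : E} (ha : a ≠ 1) (hb : b ≠ 1) : ∃ φ : MulAut E, φ a = b := by
  obtain ⟨M, h1, h2, h3⟩ := exists_hyp h (C := zpowers (a * b)) (a := a) fun k => by
    rcases (mem_zp2 (h _)).1 k with k | k
    exacts [ha k, hb (left_eq_mul.1 k)]
  obtain ⟨φ, -, k⟩ := exists_tv h (h1 (mem_zpowers _)) h3
  exact ⟨φ, by rw [k a h2, ← mul_assoc, h, one_mul]⟩

end Tv

variable {X : Type} [Group X] {G : Type u} [Group G] {e : X →* G} {t : G} {h : X → G}
  {a b c z : X}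

theorem FOd.trans {z ζ s j₁ j₂ a : X} {E L : Subgroup X} [Finite X] (hO : FOd z ζ s j₁ j₂ a E L)
    {x y : X} (hx : x ∈ E) (hy : y ∈ E) (h1 : x ≠ 1) (h2 : y ≠ 1) : ∃ m ∈ Ns E, m * x * m⁻¹ = y := by
  obtain ⟨φ, k⟩ := exists_aut (E := E) (fun x => Subtype.ext (hO.el x x.2)) (a := ⟨x, hx⟩)
    (b := ⟨y, hy⟩) (fun k => h1 (congrArg Subtype.val k)) fun k => h2 (congrArg Subtype.val k)
  obtain ⟨m, hm, k'⟩ := hO.gl φ
  exact ⟨m, hm, (k' ⟨x, hx⟩).trans (congrArg Subtype.val k)⟩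

/-- The halves exist. -/
theorem mkHC (hF : F0 X) (hB : B1 e t) {O : Subgroup G} (hA : AB e t O) (hz : I z) {w : G}
    (hw : Hf e t O z w) : ∃ h, HC e t h ∧ ∀ g, h (g * z * g⁻¹) = e g * w * (e g)⁻¹ := by
  classical
  let h : X → G := fun a => if k : ∃ g, g * z * g⁻¹ = a then e k.choose * w * (e k.choose)⁻¹ else 1
  have h1 : ∀ g, h (g * z * g⁻¹) = e g * w * (e g)⁻¹ := fun g => by
    have k : ∃ g', g' * z * g'⁻¹ = g * z * g⁻¹ := ⟨g, rfl⟩
    have k1 := k.choose_spec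
    have k2 := mem_Cs_map.1 hw.2.2.1 (g⁻¹ * k.choose) (mem_Cz.2 (by
      generalize k.choose = g' at k1
      rw [show g⁻¹ * g' * z = g⁻¹ * (g' * z * g'⁻¹) * g' by group, k1]; group))
    rw [show h _ = _ from dif_pos k, show k.choose = g * (g⁻¹ * k.choose) by group, map_mul,
      mul_assoc (e g), k2]
    group
  have h2 : ∀ a, I a → ∃ g, a = g * z * g⁻¹ := fun a ha =>
    (isConj_iff.1 (hF.one z a hz ha)).imp fun _ => Eq.symm
  refine ⟨h, ⟨hB, fun a ha => ?_, fun a ha => ?_, fun a g ha => ?_, fun k k1 k2 _ => ?_⟩, h1⟩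
  · obtain ⟨g, rfl⟩ := h2 a ha
    rw [h1, conj_mul, hw.1, mul_one, mul_inv_cancel]
  · obtain ⟨g, rfl⟩ := h2 a ha
    rw [h1, ← hB.conj_t g, conj_mul, conj_mul, hw.2.1, map_mul, map_mul, map_inv, conj_mul]
  · obtain ⟨g', rfl⟩ := h2 a ha
    rw [h1, show g * (g' * z * g'⁻¹) * g⁻¹ = g * g' * z * (g * g')⁻¹ by group, h1, map_mul]; group
  · have key : ∀ o ∈ O, Odd (orderOf o) ∧ ∀ a, I a → Commute o (h a) := fun o ho =>
      ⟨odd_orderOf_of_mem hA.odd ho, fun a ha => by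
        obtain ⟨g, rfl⟩ := h2 a ha
        have c1 : Commute o (e g) := (mem_Cs_range.1 (hA.le ho).1 g).symm
        rw [h1]
        exact (c1.mul_right (hw.2.2.2 o ho)).mul_right c1.inv_right⟩
    rcases hA.ko k k2 k1 with k3 | k3
    · exact ⟨k, (key _ k3).1, (key _ k3).2, Or.inl rfl⟩
    · exact ⟨_, (key _ k3).1, (key _ k3).2, Or.inr (by
        rw [← mul_assoc, mem_Cz.1 k1, mul_assoc, hB.tt, mul_one])⟩

/-- The product formula for `ON`. -/
theorem mkHP3 (hF : F0 X) (hB : B1 e t) {O : Subgroup G} (hA : AB e t O) {ζ s j₁ j₂ : X}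
    {E L : Subgroup X} (hO : FOd z ζ s j₁ j₂ a E L) {w : G} (hw : Hf e t O z w)
    (hm : ∀ m ∈ Ns E, ∀ n ∈ Ns E, m * z * m⁻¹ ≠ z → n * z * n⁻¹ = z * (m * z * m⁻¹) →
      e n * w * (e n)⁻¹ = w * (e m * w * (e m)⁻¹)) : ∃ h, HP Ln3 e t h := by
  have := hF.fin
  obtain ⟨h, H, h1⟩ := mkHC hF hB hA hO.zI hw
  have h0 : h z = w := by simpa using h1 1
  refine ⟨h, H, fun a b hl => ?_⟩
  obtain ⟨g, hg⟩ := isConj_iff.1 (hF.one a z hl.1 hO.zI)
  obtain ⟨x, hx, hy⟩ := hO.rep _ (hg ▸ hl.conj g)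
  have k1 : x * g * a * (x * g)⁻¹ = z := by
    rw [mul_inv_rev, mul_assoc x, mul_assoc x, ← mul_assoc _ g⁻¹, ← mul_assoc x, hg, ← mem_Cz.1 hx]; group
  have l1 := hl.conj (x * g)
  rw [show x * (g * b * g⁻¹) * x⁻¹ = x * g * b * (x * g)⁻¹ by group] at hy
  generalize x * g = g at k1 l1 hy
  rw [k1] at l1
  obtain ⟨m, hm1, hm2⟩ := hO.trans hO.zE hy hO.zI.ne l1.2.1.ne
  obtain ⟨n, hn1, hn2⟩ := hO.trans hO.zE (mul_mem hO.zE hy) hO.zI.ne fun k =>
    l1.2.2.1 (by rw [eq_inv_of_mul_eq_one_right k, inv_eq_of_mul_eq_one_right hO.zI.sq])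
  have k2 := hm m hm1 n hn1 (hm2 ▸ l1.2.2.1) (hm2 ▸ hn2)
  rw [← h1, ← h1, hm2, hn2, ← h0, ← k1, conj_mul] at k2
  have k3 : I (a * b) := by
    have := (hO.zI.conj n).conj g⁻¹
    rwa [hn2, ← k1, conj_mul, show g⁻¹ * (g * (a * b) * g⁻¹) * g⁻¹⁻¹ = a * b by group] at this
  refine ⟨k3, mem_Cz.1 hl.mem, ?_⟩
  rwa [H.eqv _ _ k3, H.eqv _ _ hl.1, H.eqv _ _ hl.2.1, conj_mul, mul_left_inj, mul_right_inj] at k2

/-- The group generated by `A`, the halves and `t`. -/
abbrev HH (e : X →* G) (t : G) (h : X → G) : Subgroup G :=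
  closure (Set.range e ∪ h '' {a | I a} ∪ {t})

theorem e_mem_HH (x : X) : e x ∈ HH e t h := subset_closure (Or.inl (Or.inl ⟨x, rfl⟩))
theorem h_mem_HH (ha : I a) : h a ∈ HH e t h := subset_closure (Or.inl (Or.inr ⟨a, ha, rfl⟩))
theorem t_mem_HH : t ∈ HH e t h := subset_closure (Or.inr rfl)

namespace HC

variable (H : HC e t h)
include H

theorem inv_h (ha : I a) : (h a)⁻¹ = h a := inv_eq_of_mul_eq_one_right (H.sq a ha)
/-- `h a` commutes with `e C(a)`. -/
theorem comm (ha : I a) {g : X} (hg : g * a = a * g) : e g * h a = h a * e g := by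
  have := H.eqv a g ha
  rw [hg, mul_inv_cancel_right] at this
  exact mul_inv_eq_iff_eq_mul.1 this.symm
theorem mem_Cs (ha : I a) : h a ∈ Cs ((Cz a).map e) :=
  mem_Cs_map.2 fun _ hg => H.comm ha (mem_Cz.1 hg).symm
theorem e_mul (ha : I a) (g : X) : e g * h a = h (g * a * g⁻¹) * e g := by
  rw [H.eqv a g ha, inv_mul_cancel_right]
theorem tht (ha : I a) : t * h a * t = h a * e a := by
  have h1 : t * h a * t * h a = e a := by
    rw [mul_assoc t, mul_assoc t, H.ht a ha, ← mul_assoc, H.toB1.tt, one_mul]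
  rw [← H.comm ha rfl, ← h1, mul_assoc _ (h a) (h a), H.sq a ha, mul_one]
theorem conj_t (ha : I a) : t * h a * t⁻¹ = h a * e a := by rw [H.toB1.inv_eq, H.tht ha]
theorem t_mul (ha : I a) : t * h a = h a * e a * t := by rw [← H.conj_t ha, inv_mul_cancel_right]
theorem h_ne (ha : I a) : h a ≠ 1 := fun k => by
  have := H.tht ha
  rw [k, mul_one, one_mul, H.toB1.tt] at this
  exact ha.ne (H.inj (by rw [← this, map_one]))

/-- An element of `C(t) ⊓ HH` acting as `v`. -/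
theorem split {x : G} (hx : x ∈ HH e t h) (ht : x ∈ Cz t) {v : X} (hv : Ind e x (MulAut.conj v)) :
    ∃ o, Odd (orderOf o) ∧ (∀ a, I a → Commute o (h a)) ∧ o ∈ Cs e.range ∧ o ∈ Cz t ∧
      (x = o * e v ∨ x = t * o * e v) := by
  have k1 := ind_conj_iff.1 hv
  have k2 := mul_mem ht (inv_mem (H.toB1.mem_Cz v))
  obtain ⟨o, h1, h2, h3⟩ := H.ker _ k2 k1 (mul_mem hx (inv_mem (e_mem_HH v)))
  refine ⟨o, h1, h2, ?_, ?_, h3.imp eq_mul_of_mul_inv_eq eq_mul_of_mul_inv_eq⟩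
  · rcases h3 with k | k
    exacts [k ▸ k1, (mul_mem_cancel_left H.cen).1 (k ▸ k1)]
  · rcases h3 with k | k
    exacts [k ▸ k2, (mul_mem_cancel_left (mem_Cz.2 rfl)).1 (k ▸ k2)]

/-- An element of `C(t) ⊓ HH` acting as `v`, inverted by `h a`, `h b`. -/
theorem eq_e (hF : F0 X) {x : G} (hx : x ∈ HH e t h) (ht : x ∈ Cz t) {v : X}
    (hv : Ind e x (MulAut.conj v)) (ha : I a) (hb : I b) (hab : a ≠ b) (va : v * a = a * v)
    (vb : v * b = b * v) (ia : h a * x * h a = x⁻¹) (ib : h b * x * h b = x⁻¹) :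
    v * v = 1 ∧ x = e v := by
  obtain ⟨o, h1, h2, h3, -, k | k⟩ := H.split hx ht hv
  · have k1 : x * x = 1 := by
      rw [← eq_inv_iff_mul_eq_one, ← ia, k, ← mul_assoc, ← (h2 a ha).eq, mul_assoc o, ← H.comm ha va,
        mul_assoc, mul_assoc, H.sq a ha, mul_one]
    obtain ⟨k2, k3⟩ := pow_comp H.inj hF (n := 2) h3 (s := v) (by rw [pow_two, ← k, k1])
    rw [pow_two] at k2 k3
    exact ⟨k3, by rw [k, (is2_of_sq k2).eq_one h1, one_mul]⟩
  · have key : ∀ a, I a → v * a = a * v → h a * x * h a = t * e a * (o * e v) := fun a ha va => by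
      rw [← H.ht a ha, k, mul_assoc, mul_assoc, H.comm ha va, mul_assoc, ← mul_assoc o, (h2 a ha).eq]
      simp only [mul_assoc]
    have := (key a ha va).symm.trans (ia.trans (ib.symm.trans (key b hb vb)))
    exact absurd (H.inj (mul_left_cancel (mul_right_cancel this))) hab

theorem core (hF : F0 X) {Q : Subgroup X} (hQ : NQ z Q) {x : G} (hx : x ∈ HH e t h) (ht : x ∈ Cz t)
    (hc : x ∈ Cs (Q.map e)) (ha : I a) (hb : I b) (hab : a ≠ b) (aQ : a ∈ Q) (bQ : b ∈ Q)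
    (ia : h a * x * h a = x⁻¹) (ib : h b * x * h b = x⁻¹) : x = 1 ∨ x = e z := by
  obtain ⟨β, hβ⟩ := H.toB1.ind ht
  have k := hβ.le_fx H.inj hc
  obtain ⟨v, rfl, hv⟩ := hQ.cq β k
  rw [fx_conj] at k
  obtain ⟨k1, k2⟩ := H.eq_e hF hx ht hβ ha hb hab (mem_Cz.1 (k aQ)) (mem_Cz.1 (k bQ)) ia ib
  exact (hv k1).imp (fun k => by rw [k2, k, map_one]) fun k => by rw [k2, k]

theorem gd_iff (hb : I b) : Gd e h a b ↔ Commute (h a) (t * h b * t⁻¹) := by
  rw [Gd, H.conj_t hb]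

theorem gd_symm (ha : I a) (hb : I b) (k : Gd e h a b) : Gd e h b a := by
  have := ((H.gd_iff hb).1 k).conj t
  rw [H99.Wr.tt_conj H.toB1.tt] at this
  exact (H.gd_iff ha).2 this.symm

theorem gd_conj (ha : I a) (hb : I b) (k : Gd e h a b) (g : X) :
    Gd e h (g * a * g⁻¹) (g * b * g⁻¹) := by
  rw [Gd, H.eqv a g ha, H.eqv b g hb, map_mul, map_mul, map_inv, conj_mul]
  exact Commute.conj k (e g)

theorem gd_self (ha : I a) : Gd e h a a := (Commute.refl _).mul_right (H.comm ha rfl).symm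

theorem gd_close (hb : I b) (hc : I c) (k1 : Gd e h a b) (k2 : Gd e h a c) (k3 : Gd e h b c) :
    Gd e h a (b * c * b⁻¹) := by
  have e1 : e b = h b * e b * h b := by rw [mul_assoc, H.comm hb rfl, ← mul_assoc, H.sq b hb, one_mul]
  have e2 : h (b * c * b⁻¹) * e (b * c * b⁻¹) = h b * e b * (h c * e c) * (h b * e b)⁻¹ := by
    rw [H.eqv c b hc, map_mul, map_mul, map_inv, conj_mul]
    conv_lhs => rw [e1, mul_assoc _ (h b), k3.eq]
    group
  rw [Gd, e2]
  exact (Commute.mul_right k1 k2).mul_right (Commute.inv_right k1)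

/-- For commuting `a, b`: good means that the halves commute. -/
theorem gd_iff_comm (ha : I a) (hab : a * b = b * a) : Gd e h a b ↔ h a * h b = h b * h a := by
  rw [Gd, commute_iff_eq, mul_assoc, H.comm ha hab.symm, ← mul_assoc, ← mul_assoc, mul_left_inj]

/-- For `[a, b] = z` -/
theorem gd_iff_sp (ha : I a) (hb : I b) (k : b * a * b⁻¹ = z * a) (hp : h (z * a) = h z * h a)
    (hc : h z * h b = h b * h z) : Gd e h a b ↔ cm (h a) (h b) = h z := by
  rw [Gd, commute_iff_eq, mul_assoc (h b), H.e_mul ha, k, hp, ← mul_assoc, ← mul_assoc, mul_left_inj,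
    ← mul_assoc, ← hc, cm, mul_inv_eq_iff_eq_mul, mul_inv_eq_iff_eq_mul]

end HC

namespace HP

variable {Ln : X → X → Prop} (H : HP Ln e t h)
include H

theorem comm (hz : I z) (ha : I a) (l : Ln z a) : h z * h a = h a * h z := by
  obtain ⟨k1, -, k2⟩ := H.pf z a l
  have := H.toHC.inv_h k1
  rwa [k2, mul_inv_rev, H.toHC.inv_h hz, H.toHC.inv_h ha, eq_comm] at this

variable {Q : Subgroup X} (hF : F0 X) (hQ : NQ z Q) (ha : I a) (hb : I b) (aQ : a ∈ Q) (bQ : b ∈ Q)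
  (la : Ln z a) (lb : Ln z b)
include hQ ha aQ la

theorem conj_Q {q : X} (hq : q ∈ Q) : (q * a * q⁻¹ = a ∧ e q * h a * (e q)⁻¹ = h a) ∨
    (q * a * q⁻¹ = z * a ∧ e q * h a * (e q)⁻¹ = h z * h a) :=
  (hQ.cl q hq a aQ).imp (fun k => ⟨k, by rw [← H.eqv a q ha, k]⟩)
    fun k => ⟨k, by rw [← H.eqv a q ha, k, (H.pf z a la).2.2]⟩

include hb bQ lb

theorem cm_mem : cm (h a) (h b) ∈ Cs (Q.map e) := mem_Cs_map.2 fun q hq => by
  have ca := H.comm hQ.zI ha la
  have cb := H.comm hQ.zI hb lb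
  have e1 : ∀ {x y : G}, h z * x = x * h z → h z * y = y * h z → cm (h z * x) y = cm x y :=
    fun {x y} cx cy => by
      have c1 : Commute (h z) x := cx
      have c2 : Commute (h z) y := cy
      have := mul_inv_eq_iff_eq_mul.2 ((c1.mul_right c2).mul_right c1.inv_right).eq
      rw [cm, cm, ← this]; group
  have e2 : ∀ {x y : G}, h z * x = x * h z → h z * y = y * h z → cm x (h z * y) = cm x y :=
    fun {x y} cx cy => by
      have := congrArg (·⁻¹) (e1 cy cx)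
      simpa only [cm, mul_inv_rev, inv_inv, mul_assoc] using this
  rw [← mul_inv_eq_iff_eq_mul, show e q * cm (h a) (h b) * (e q)⁻¹ =
    cm (e q * h a * (e q)⁻¹) (e q * h b * (e q)⁻¹) by simp only [cm]; group]
  rcases H.conj_Q hQ ha aQ la hq with ⟨-, k1⟩ | ⟨-, k1⟩ <;>
  rcases H.conj_Q hQ hb bQ lb hq with ⟨-, k2⟩ | ⟨-, k2⟩ <;> rw [k1, k2]
  · exact e2 ca cb
  · exact e1 ca cb
  · rw [e1 ca (by rw [← mul_assoc, mul_assoc (h z) (h b), ← cb, mul_assoc]), e2 ca cb]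

omit hQ aQ bQ la lb in
theorem inv_cm : h a * cm (h a) (h b) * h a = (cm (h a) (h b))⁻¹ ∧
    h b * cm (h a) (h b) * h b = (cm (h a) (h b))⁻¹ := by
  simp only [cm, mul_inv_rev, inv_inv, H.toHC.inv_h ha, H.toHC.inv_h hb, ← mul_assoc, H.sq a ha,
    one_mul, true_and]
  rw [mul_assoc _ (h b), H.sq b hb, mul_one]

include hF

/-- n0: commuting lines of `z`. -/
theorem n0 (hab : a * b = b * a) : cm (h a) (h b) = 1 ∨ cm (h a) (h b) = e z := by
  by_cases k : a = b
  · exact Or.inl (cm_eq_one.2 (by rw [k]))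
  have m1 := h_mem_HH (e := e) (t := t) (h := h) ha
  have m2 := h_mem_HH (e := e) (t := t) (h := h) hb
  refine H.toHC.core hF hQ (mul_mem (mul_mem (mul_mem m1 m2) (inv_mem m1)) (inv_mem m2))
    (mem_Cz.2 ?_) (H.cm_mem hQ ha hb aQ bQ la lb) ha hb k aQ bQ (H.inv_cm ha hb).1 (H.inv_cm ha hb).2
  have c1 := H.toHC.comm ha rfl
  have c2 := H.toHC.comm hb rfl
  have c3 := H.toHC.comm ha hab.symm
  have c4 := H.toHC.comm hb hab
  have c5 : e b * e a = e a * e b := by rw [← map_mul, ← hab, map_mul]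
  have s1 : e a * e a = 1 := by rw [← map_mul, ha.sq, map_one]
  have s2 : e b * e b = 1 := by rw [← map_mul, hb.sq, map_one]
  have r : ∀ {x y : G}, x * y = y * x → ∀ w, x * (y * w) = y * (x * w) := fun k w => by
    rw [← mul_assoc, k, mul_assoc]
  have r' : ∀ {x : G}, x * x = 1 → ∀ w, x * (x * w) = w := fun k w => by rw [← mul_assoc, k, one_mul]
  have r2 : ∀ {x : X}, I x → ∀ w, t * (h x * w) = h x * (e x * (t * w)) := fun hx w => by
    rw [← mul_assoc, H.toHC.t_mul hx]; simp only [mul_assoc]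
  simp only [cm, H.toHC.inv_h ha, H.toHC.inv_h hb, mul_assoc, r2 ha, r2 hb, H.toHC.t_mul hb, r c1, r c2,
    r c3, r c4, r c5, r' s1, r' s2]

/-- n1: `[a, b] = z`. -/
theorem n1 (hab : a * b * a⁻¹ = z * b) : cm (h a) (h b) = h z ∨ cm (h a) (h b) = h z * e z := by
  have hz := hQ.zI
  have k : a ≠ b := fun k => hz.ne (by rw [k] at hab; simpa using hab.symm)
  have za := mem_Cz.1 (hQ.le aQ)
  have zb := mem_Cz.1 (hQ.le bQ)
  have hba : b * a * b⁻¹ = z * a := (hQ.cl b bQ a aQ).resolve_left fun k => hz.ne (by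
    rw [← mul_inv_eq_iff_eq_mul.1 k, mul_inv_cancel_right] at hab; simpa using hab.symm)
  have m1 := h_mem_HH (e := e) (t := t) (h := h) ha
  have m2 := h_mem_HH (e := e) (t := t) (h := h) hb
  have d1 : Commute (h z) (h a) := H.comm hz ha la
  have d2 : Commute (h z) (h b) := H.comm hz hb lb
  have d3 : Commute (h z) (cm (h a) (h b)) :=
    ((d1.mul_right d2).mul_right d1.inv_right).mul_right d2.inv_right
  have iv : ∀ {x : X}, Commute (h z) (h x) → h x * cm (h a) (h b) * h x = (cm (h a) (h b))⁻¹ →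
      h x * (h z * cm (h a) (h b)) * h x = (h z * cm (h a) (h b))⁻¹ := fun d k => by
    rw [← mul_assoc, ← d.eq, mul_assoc (h z), mul_assoc (h z), k, mul_inv_rev (h z), H.toHC.inv_h hz,
      d3.inv_right.eq]
  refine (H.toHC.core hF hQ (mul_mem (h_mem_HH hz) (mul_mem (mul_mem (mul_mem m1 m2) (inv_mem m1))
    (inv_mem m2))) (mem_Cz.2 ?_) (mul_mem (centralizer_le (map_mono hQ.le) (H.toHC.mem_Cs hz))
      (H.cm_mem hQ ha hb aQ bQ la lb)) ha hb k aQ bQ (iv d1 (H.inv_cm ha hb).1)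
      (iv d2 (H.inv_cm ha hb).2)).imp (fun k => ?_) fun k => ?_
  · have c1 := H.toHC.comm ha rfl
    have c2 := H.toHC.comm hb rfl
    have c3 : e b * h a = h z * (h a * e b) := by
      rw [H.toHC.e_mul ha, hba, (H.pf z a la).2.2, mul_assoc]
    have c4 : e a * h b = h z * (h b * e a) := by
      rw [H.toHC.e_mul hb, hab, (H.pf z b lb).2.2, mul_assoc]
    have c5 : e b * e a = e z * (e a * e b) := by
      rw [← map_mul, ← map_mul, ← map_mul, ← mul_assoc, ← hba, inv_mul_cancel_right]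
    have s0 : e z * e z = 1 := by rw [← map_mul, hz.sq, map_one]
    have s1 : e a * e a = 1 := by rw [← map_mul, ha.sq, map_one]
    have s2 : e b * e b = 1 := by rw [← map_mul, hb.sq, map_one]
    have f1 : e a * e z = e z * e a := by rw [← map_mul, ← za, map_mul]
    have f2 : e b * e z = e z * e b := by rw [← map_mul, ← zb, map_mul]
    have r : ∀ {x y : G}, x * y = y * x → ∀ w, x * (y * w) = y * (x * w) := fun k w => by
      rw [← mul_assoc, k, mul_assoc]
    have r3 : ∀ {x y c : G}, x * y = c * (y * x) → ∀ w, x * (y * w) = c * (y * (x * w)) := fun k w => by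
      rw [← mul_assoc, k, mul_assoc, mul_assoc]
    have r' : ∀ {x : G}, x * x = 1 → ∀ w, x * (x * w) = w := fun k w => by rw [← mul_assoc, k, one_mul]
    have r2 : ∀ {x : X}, I x → ∀ w, t * (h x * w) = h x * (e x * (t * w)) := fun hx w => by
      rw [← mul_assoc, H.toHC.t_mul hx]; simp only [mul_assoc]
    simp only [cm, H.toHC.inv_h ha, H.toHC.inv_h hb, mul_assoc, r2 ha, r2 hb, r2 hz, H.toHC.t_mul hb,
      r c1, r c2, r3 c3, r3 c4, r3 c5, r' s0, r' s1, r' s2, r' (H.sq z hz), r f1, r f2, r d1.eq.symm,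
      r d2.eq.symm, r (H.toHC.comm hz za.symm), r (H.toHC.comm hz zb.symm), r (H.toHC.comm hz rfl),
      r (H.toHC.comm ha za), r (H.toHC.comm hb zb)]
  · exact (eq_inv_of_mul_eq_one_right k).trans (H.toHC.inv_h hz)
  · rw [← k, ← mul_assoc, H.sq z hz, one_mul]

/-- n2: `a b` is also a line of `z`, and the three halves commute. -/
theorem n2 (hab : a * b = b * a) (hc : I (a * b)) (lc : Ln z (a * b)) (k1 : h a * h b = h b * h a)
    (k2 : h a * h (a * b) = h (a * b) * h a) (k3 : h b * h (a * b) = h (a * b) * h b) :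
    h (a * b) = h a * h b ∨ h (a * b) = h a * h b * e z := by
  have hz := hQ.zI
  have k : a ≠ b := fun k => hc.ne (by rw [k, hb.sq])
  have r : ∀ {x y : G}, x * y = y * x → ∀ w, x * (y * w) = y * (x * w) := fun k w => by
    rw [← mul_assoc, k, mul_assoc]
  have r' : ∀ {x : G}, x * x = 1 → ∀ w, x * (x * w) = w := fun k w => by rw [← mul_assoc, k, one_mul]
  have r2 : ∀ {x : X}, I x → ∀ w, t * (h x * w) = h x * (e x * (t * w)) := fun hx w => by
    rw [← mul_assoc, H.toHC.t_mul hx]; simp only [mul_assoc]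
  have i0 : (h a * h b * h (a * b))⁻¹ = h a * h b * h (a * b) := by
    simp only [mul_inv_rev, H.toHC.inv_h ha, H.toHC.inv_h hb, H.toHC.inv_h hc, mul_assoc, ← k1,
      r k2.symm, ← k3, r k3.symm, ← k2, r k1.symm]
  have d1 := H.comm hz ha la
  have d2 := H.comm hz hb lb
  refine (H.toHC.core hF hQ (mul_mem (mul_mem (h_mem_HH ha) (h_mem_HH hb)) (h_mem_HH hc))
    (mem_Cz.2 ?_) (mem_Cs_map.2 fun q hq => ?_) ha hb k aQ bQ ?_ ?_).imp (fun k => ?_) fun k => ?_
  · have s1 : e a * e a = 1 := by rw [← map_mul, ha.sq, map_one]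
    have s2 : e b * e b = 1 := by rw [← map_mul, hb.sq, map_one]
    have c5 : e b * e a = e a * e b := by rw [← map_mul, ← hab, map_mul]
    simp only [mul_assoc, r2 ha, r2 hb, H.toHC.t_mul hc, map_mul, r (H.toHC.comm hb hab), r c5, r' s1,
      r' s2, r (H.toHC.comm hc (g := a) (by rw [mul_assoc, hab])),
      r (H.toHC.comm hc (g := b) (by rw [← mul_assoc, hab]))]
  · rw [← mul_inv_eq_iff_eq_mul, ← conj_mul, ← conj_mul, ← H.eqv _ q hc, ← conj_mul (a := a) (b := q) (c := b)]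
    have p := (H.pf z _ lc).2.2
    have zb := mem_Cz.1 (hQ.le aQ)
    rcases H.conj_Q hQ ha aQ la hq with ⟨j1, k1⟩ | ⟨j1, k1⟩ <;>
    rcases H.conj_Q hQ hb bQ lb hq with ⟨j2, k2⟩ | ⟨j2, k2⟩ <;> rw [k1, k2, j1, j2]
    · rw [← mul_assoc a, ← zb, mul_assoc z, p]
      simp only [mul_assoc, r d2.symm, r' (H.sq z hz)]
    · rw [mul_assoc z, p]
      simp only [mul_assoc, r d2.symm, r d1.symm, r' (H.sq z hz)]
    · rw [mul_assoc z, ← mul_assoc a, ← zb, ← mul_assoc z, ← mul_assoc z, hz.sq, one_mul]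
      simp only [mul_assoc, r d1.symm, r' (H.sq z hz)]
  · rw [i0]; simp only [mul_assoc, ← k2, r k1.symm, r' (H.sq a ha)]
  · rw [i0]; simp only [mul_assoc, ← k3, r k1.symm, r' (H.sq b hb)]
  · rw [eq_inv_of_mul_eq_one_right k, mul_inv_rev, H.toHC.inv_h ha, H.toHC.inv_h hb, k1]
  · rw [← k]; simp only [mul_assoc, r k1.symm, r' (H.sq a ha), r' (H.sq b hb)]

end HP

end H21.SW
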