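import Cfsg.Agent.H46.BMDefs

/-! BM stage 1, seat B2: vector codes, words in the ten root elements, invariance of the form
and equivariance of `O`, `Tv`, `R`, `E`, `Nt`, `D2`. -/

set_option autoImplicit false

open H46.BM H73 H49
open scoped Matrix

namespace H21.BM

/-- the vector with code `u` -/
def vd (u : ℕ) : M := fun i => b2z (Nat.testBit u i)

theorem vd_xor (u v : ℕ) : vd (Nat.xor u v) = vd u + vd v := by
  funext i
  show b2z (Nat.testBit (u ^^^ v) i) = b2z _ + b2z _
  rw [Nat.testBit_xor, b2z_xor]

theorem vd_zero : vd 0 = 0 := by
  funext i; simp [vd, b2z]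

theorem vd_pow (i : Fin 20) : vd (2 ^ i.val) = e i := by
  funext j
  simp only [vd, e, Nat.testBit_two_pow, Pi.single_apply, b2z, decide_eq_true_eq, Fin.ext_iff]
  by_cases h : i.val = j.val
  · rw [if_pos h, if_pos h.symm]
  · rw [if_neg h, if_neg (fun h' => h h'.symm)]

theorem vd_inj {u v : ℕ} (hu : u < 1048576) (hv : v < 1048576) (h : vd u = vd v) : u = v := by
  apply Nat.eq_of_testBit_eq
  intro p
  by_cases hp : p < 20
  · exact b2z_inj (congrFun h ⟨p, hp⟩)
  · have h2 : 1048576 ≤ 2 ^ p := by
      calc 1048576 = 2 ^ 20 := by norm_num
        _ ≤ 2 ^ p := Nat.pow_le_pow_right (by norm_num) (by omega)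
    rw [Nat.testBit_lt_two_pow (hu.trans_le h2), Nat.testBit_lt_two_pow (hv.trans_le h2)]

theorem M_ind {p : M → Prop} (h0 : p 0) (he : ∀ i, p (e i))
    (ha : ∀ u v, p u → p v → p (u + v)) (v : M) : p v := by
  rw [← Finset.univ_sum_single v]
  refine Finset.sum_induction _ p ha h0 fun i _ => ?_
  rcases (by decide : ∀ c : ZMod 2, c = 0 ∨ c = 1) (v i) with h | h <;> rw [h]
  · rw [Pi.single_zero]; exact h0
  · exact he i

theorem xor_lt {u v : ℕ} (hu : u < 1048576) (hv : v < 1048576) : Nat.xor u v < 1048576 :=
  Nat.xor_lt_two_pow (n := 20) hu hv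

theorem vd_surj (v : M) : ∃ u < 1048576, vd u = v := by
  refine M_ind (p := fun v => ∃ u < 1048576, vd u = v) ⟨0, by norm_num, vd_zero⟩
    (fun i => ⟨2 ^ i.val, ?_, vd_pow i⟩) ?_ v
  · calc 2 ^ i.val < 2 ^ 20 := Nat.pow_lt_pow_right (by norm_num) i.2
      _ = 1048576 := by norm_num
  · rintro _ _ ⟨u, hu, rfl⟩ ⟨w, hw, rfl⟩
    exact ⟨Nat.xor u w, xor_lt hu hw, vd_xor u w⟩

/-- `∑ 2 ^ (20 i)` -/
def cm : ℕ := 2462627735819477471478834772908959182061088422696729859886664622502584576226632519972005200658167352298026533126145

theorem cm_eq : cm = cmask 20 20 := by decide +kernel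

attribute [irreducible] cm

theorem testBit_cm (q : ℕ) : Nat.testBit cm q = (decide (q / 20 < 20) && decide (q % 20 = 0)) := by
  have := testBit_cmask (n := 20) (by norm_num) 20 (q / 20) (q % 20) (Nat.mod_lt _ (by norm_num))
  rwa [Nat.div_add_mod, ← cm_eq] at this

/-- matrix code times vector code -/
noncomputable def ap (a u : ℕ) : ℕ :=
  frc (Nat.land a (Nat.mul cm (Nat.land u 1048575))) fun t =>
  frc (Nat.xor t (Nat.shiftRight t 10)) fun t =>
  frc (Nat.xor t (Nat.shiftRight t 5)) fun t =>
  frc (Nat.xor t (Nat.shiftRight t 1)) fun t2 =>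
  frc (Nat.land (Nat.xor (Nat.xor t2 (Nat.shiftRight t2 2)) (Nat.shiftRight t 4)) cm) fun s =>
  frc (Nat.xor s (Nat.shiftRight s 19)) fun r1 =>
  frc (Nat.xor r1 (Nat.shiftRight r1 38)) fun r2 =>
  frc (Nat.xor r2 (Nat.shiftRight r2 76)) fun r3 =>
  Nat.land (Nat.xor (Nat.xor r3 (Nat.shiftRight r3 152)) (Nat.shiftRight r2 304)) 1048575

theorem land_lt (x : ℕ) : Nat.land x 1048575 < 1048576 :=
  Nat.lt_succ_of_le Nat.and_le_right

theorem ap_lt (a u : ℕ) : ap a u < 1048576 := by
  simp only [ap, frc_eq]; exact land_lt _

theorem testBit_rm (q : ℕ) : Nat.testBit 1048575 q = decide (q < 20) :=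
  Nat.testBit_two_pow_sub_one 20 q

/-- compression of the bits `20 i` -/
def cmpF (x : ℕ) : ℕ :=
  let s := x &&& cm
  let r1 := s ^^^ (s >>> 19)
  let r2 := r1 ^^^ (r1 >>> 38)
  let r3 := r2 ^^^ (r2 >>> 76)
  ((r3 ^^^ (r3 >>> 152)) ^^^ (r2 >>> 304)) &&& 1048575

/-- parities of windows of 20 bits -/
def parF (t : ℕ) : ℕ :=
  let t1 := t ^^^ (t >>> 10)
  let t2 := t1 ^^^ (t1 >>> 5)
  let t3 := t2 ^^^ (t2 >>> 1)
  (t3 ^^^ (t3 >>> 2)) ^^^ (t2 >>> 4)

theorem cmp_spec (x : ℕ) (p : Fin 20) : Nat.testBit (cmpF x) p = Nat.testBit x (20 * p) := by
  simp only [cmpF, Nat.testBit_and, Nat.testBit_xor, Nat.testBit_shiftRight, testBit_cm,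
    testBit_rm]
  fin_cases p <;> simp

theorem par_spec (t q : ℕ) :
    b2z (Nat.testBit (parF t) q) = ∑ j : Fin 20, b2z (Nat.testBit t (j + q)) := by
  simp only [parF, Nat.testBit_xor, Nat.testBit_shiftRight, b2z_xor]
  simp only [← Nat.add_assoc, Nat.reduceAdd]
  simp only [Fin.sum_univ_succ, Fin.val_succ, Fin.val_zero, Finset.univ_eq_empty, Finset.sum_empty,
    Nat.reduceAdd, Nat.zero_add, add_zero]
  abel

theorem ap_eq (a u : ℕ) : ap a u = cmpF (parF (a &&& (cm * (u &&& 1048575)))) := by
  simp only [ap, frc_eq]; rfl

theorem testBit_cm_mul (u : ℕ) (i j : Fin 20) :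
    Nat.testBit (cm * (u &&& 1048575)) (20 * i + j) = Nat.testBit u j := by
  have h := testBit_cmask_mul (n := 20) (by norm_num) (u &&& 1048575) (land_lt u) 20 cm i j j.2
  rw [← cm_eq, Nat.and_self] at h
  rw [h, testBit_cm, Nat.testBit_and, testBit_rm]
  simp

theorem ap_spec (a u : ℕ) : dec2 20 a *ᵥ vd u = vd (ap a u) := by
  funext i
  have e1 : vd (ap a u) i = b2z (Nat.testBit (ap a u) i) := rfl
  have e2 : (dec2 20 a *ᵥ vd u) i =
      ∑ j : Fin 20, b2z (Nat.testBit a (20 * i + j)) * b2z (Nat.testBit u j) := rfl
  rw [e1, e2, ap_eq, cmp_spec, par_spec]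
  refine Finset.sum_congr rfl fun j _ => ?_
  rw [add_comm j.val, Nat.testBit_and, testBit_cm_mul, b2z_and]

/-! ### elements computed on codes -/

/-- `f` computes `g` on codes -/
def Rl (g : GM) (f : ℕ → ℕ) : Prop := ∀ u, g • vd u = vd (f u)

theorem smul_def (g : GM) (v : M) :
    g • v = (g : Matrix (Fin 20) (Fin 20) (ZMod 2)) *ᵥ v := rfl

theorem rl_of_val {g : GM} {a : ℕ} (h : (g : Matrix (Fin 20) (Fin 20) (ZMod 2)) = dec2 20 a) :
    Rl g (ap a) := fun u => by rw [smul_def, h, ap_spec]

theorem rl_iv (a : ℕ) (h : UG.chk CM a a = true) : Rl (iv a h) (ap a) := rl_of_val rfl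

theorem rl_ug (x : UG CM) : Rl (UG.toUnits CM x) (ap x.c) := rl_of_val rfl

theorem rl_one : Rl 1 (fun u => u) := fun _ => one_smul _ _

theorem Rl.mul {g h : GM} {f f' : ℕ → ℕ} (hg : Rl g f) (hh : Rl h f') :
    Rl (g * h) (fun u => f (f' u)) := fun u => by rw [mul_smul, hh, hg]

theorem ext_basis {g h : GM} (H : ∀ i, g • e i = h • e i) : g = h := by
  have : ∀ v : M, g • v = h • v := M_ind (by rw [smul_zero, smul_zero]) H fun u v hu hv => by
    rw [smul_add, smul_add, hu, hv]
  have h1 : h⁻¹ * g = 1 := eq_one_of_smul fun v => by rw [mul_smul, this, inv_smul_smul]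
  exact (inv_mul_eq_one.mp h1).symm

/-- `p i` for all `i < n` -/
noncomputable def allN (n : ℕ) (p : ℕ → Bool) : Bool :=
  Nat.rec (motive := fun _ => Bool) true
    (fun i acc => Bool.rec (motive := fun _ => Bool) false acc (p i)) n

theorem allN_spec {n : ℕ} {p : ℕ → Bool} (h : allN n p = true) : ∀ i < n, p i = true := by
  induction n with
  | zero => intro i hi; omega
  | succ n ih =>
    have h' : Bool.rec (motive := fun _ => Bool) false (allN n p) (p n) = true := h
    cases hp : p n
    · rw [hp] at h'; exact absurd h' (by simp)
    · rw [hp] at h'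
      intro i hi
      rcases Nat.lt_succ_iff_lt_or_eq.mp hi with h1 | rfl
      exacts [ih h' i h1, hp]

/-- `p a` for all `a` in the list -/
noncomputable def allL {α : Type} (L : List α) (p : α → Bool) : Bool :=
  List.rec (motive := fun _ => Bool) true
    (fun a _ acc => Bool.rec (motive := fun _ => Bool) false acc (p a)) L

theorem allL_spec {α : Type} {L : List α} {p : α → Bool} (h : allL L p = true) :
    ∀ a ∈ L, p a = true := by
  induction L with
  | nil => intro a ha; simp at ha
  | cons b L ih =>
    have h' : Bool.rec (motive := fun _ => Bool) false (allL L p) (p b) = true := h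
    cases hp : p b
    · rw [hp] at h'; exact absurd h' (by simp)
    · rw [hp] at h'
      intro a ha
      rcases List.mem_cons.mp ha with rfl | h1
      exacts [hp, ih h' a h1]

/-- two code functions agree on the basis -/
noncomputable def eqB (f f' : ℕ → ℕ) : Bool :=
  allN 20 fun i => Nat.beq (f (Nat.shiftLeft 1 i)) (f' (Nat.shiftLeft 1 i))

theorem vd_shl (i : Fin 20) : vd (Nat.shiftLeft 1 i) = e i := by
  rw [← vd_pow]; congr 1; exact Nat.one_shiftLeft i

theorem Rl.eq {g h : GM} {f f' : ℕ → ℕ} (hg : Rl g f) (hh : Rl h f') (H : eqB f f' = true) :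
    g = h := ext_basis fun i => by
  rw [← vd_shl, hg, hh, Nat.eq_of_beq_eq_true (allN_spec H i i.2)]

/-- bit `u` of `b` -/
def tb (b u : ℕ) : Bool := Nat.beq (Nat.land (Nat.shiftRight b u) 1) 1

theorem beq_land_one (x : ℕ) : Nat.beq (Nat.land x 1) 1 = Nat.testBit x 0 := by
  show Nat.beq (x &&& 1) 1 = _
  rw [Nat.and_one_is_mod, Nat.testBit_zero]
  rcases Nat.mod_two_eq_zero_or_one x with h | h <;> rw [h] <;> rfl

theorem tb_eq (b u : ℕ) : tb b u = Nat.testBit b u := by
  rw [tb, beq_land_one]
  show Nat.testBit (b >>> u) 0 = _
  rw [Nat.testBit_shiftRight, add_zero]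

/-- the quadratic form on codes -/
noncomputable def qc (u : ℕ) : Bool :=
  frc u fun u => Nat.beq (Nat.land
    (Nat.xor (Nat.xor (Nat.xor (Nat.xor (Nat.xor (Nat.xor (Nat.xor (Nat.xor (Nat.xor
    (Nat.land u (Nat.shiftRight u 19))
    (Nat.land (Nat.shiftRight u 1) (Nat.shiftRight u 18)))
    (Nat.land (Nat.shiftRight u 2) (Nat.shiftRight u 17)))
    (Nat.land (Nat.shiftRight u 3) (Nat.shiftRight u 16)))
    (Nat.land (Nat.shiftRight u 4) (Nat.shiftRight u 15)))
    (Nat.land (Nat.shiftRight u 5) (Nat.shiftRight u 14)))
    (Nat.land (Nat.shiftRight u 6) (Nat.shiftRight u 13)))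
    (Nat.land (Nat.shiftRight u 7) (Nat.shiftRight u 12)))
    (Nat.land (Nat.shiftRight u 8) (Nat.shiftRight u 11)))
    (Nat.land (Nat.shiftRight u 9) (Nat.shiftRight u 10))) 1) 1

theorem qf_vd (u : ℕ) : qf (vd u) = b2z (qc u) := by
  rw [qc, frc_eq, beq_land_one]
  show _ = b2z (Nat.testBit ((((((((((u &&& u >>> 19) ^^^ (u >>> 1 &&& u >>> 18)) ^^^
    (u >>> 2 &&& u >>> 17)) ^^^ (u >>> 3 &&& u >>> 16)) ^^^ (u >>> 4 &&& u >>> 15)) ^^^
    (u >>> 5 &&& u >>> 14)) ^^^ (u >>> 6 &&& u >>> 13)) ^^^ (u >>> 7 &&& u >>> 12)) ^^^
    (u >>> 8 &&& u >>> 11)) ^^^ (u >>> 9 &&& u >>> 10)) 0)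
  simp only [Nat.testBit_xor, Nat.testBit_and, Nat.testBit_shiftRight, b2z_xor, b2z_and, add_zero]
  simp [qf, vd, Fin.sum_univ_succ, Fin.rev, add_assoc]

/-- the polar form on codes -/
noncomputable def bc (u v : ℕ) : Bool := xor (xor (qc (Nat.xor u v)) (qc u)) (qc v)

theorem bf_vd (u v : ℕ) : bf (vd u) (vd v) = b2z (bc u v) := by
  rw [bc, b2z_xor, b2z_xor, ← qf_vd, ← qf_vd, ← qf_vd, vd_xor, qf_add]
  generalize qf (vd u) = a
  generalize qf (vd v) = b
  generalize bf (vd u) (vd v) = c
  revert a b c; decide

theorem b2z_eq_zero {b : Bool} : b2z b = 0 ↔ b = false := by cases b <;> decide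
theorem b2z_eq_one {b : Bool} : b2z b = 1 ↔ b = true := by cases b <;> decide

theorem qf_of_basis {g : GM} (h1 : ∀ i, qf (g • e i) = qf (e i))
    (h2 : ∀ i j, qf (g • (e i + e j)) = qf (e i + e j)) (v : M) : qf (g • v) = qf v := by
  have b1 : ∀ i j, bf (g • e i) (g • e j) = bf (e i) (e j) := fun i j => by
    have := h2 i j
    rw [smul_add, qf_add, qf_add, h1, h1] at this
    exact add_left_cancel this
  have b2 : ∀ i w, bf (g • w) (g • e i) = bf w (e i) := fun i =>
    M_ind (by rw [smul_zero, bf_zero_left, bf_zero_left]) (fun j => b1 j i) fun u v hu hv => by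
      rw [smul_add, bf_add_left, bf_add_left, hu, hv]
  have b3 : ∀ u w, bf (g • w) (g • u) = bf w u := fun u =>
    M_ind (p := fun u => ∀ w, bf (g • w) (g • u) = bf w u)
      (fun w => by rw [smul_zero, bf_comm, bf_zero_left, bf_comm, bf_zero_left]) b2
      (fun u v hu hv w => by rw [smul_add, bf_add_right, bf_add_right, hu, hv]) u
  exact M_ind (p := fun v => qf (g • v) = qf v) (by rw [smul_zero]) h1
    (fun u v hu hv => by rw [smul_add, qf_add, qf_add, hu, hv, b3]) v

/-- `f` preserves the form on basis vectors and their sums -/
noncomputable def qB (f : ℕ → ℕ) : Bool :=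
  allN 20 fun i => (qc (f (Nat.shiftLeft 1 i)) == qc (Nat.shiftLeft 1 i)) && allN 20 fun j =>
    frc (Nat.xor (Nat.shiftLeft 1 i) (Nat.shiftLeft 1 j)) fun u => qc (f u) == qc u

theorem Rl.qf_smul {g : GM} {f : ℕ → ℕ} (hg : Rl g f) (H : qB f = true) (v : M) :
    qf (g • v) = qf v := by
  refine qf_of_basis (fun i => ?_) (fun i j => ?_) v
  · have := allN_spec H i i.2
    rw [Bool.and_eq_true, beq_iff_eq] at this
    rw [← vd_shl, hg, qf_vd, qf_vd, this.1]
  · have := allN_spec H i i.2
    rw [Bool.and_eq_true] at this
    have := allN_spec this.2 j j.2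
    rw [frc_eq, beq_iff_eq] at this
    rw [← vd_shl, ← vd_shl, ← vd_xor, hg, qf_vd, qf_vd, this]

/-- the codes of the identity and the ten root elements, 400 bits each -/
def GT : ℕ :=
  0x8000040000200001000008000040000200001000008000040000200001000008000040000200001000008000040000200001800004000020000100000800004000020000100000800004000020000100000800004000020000100000800004000020000180000400002000010000080000400002000010000080000400002000010000080000400002000010000080000400002000018000040000200001000008000040000200001000008000040000200001000008000040000200001000008000040000200001800004000020000100000800004000020000100000800004000020000100000800004000020000100000800004000020000180000400006000010000080000400052000050000c8000040000200001000008000040001a000110000480000400046000018000040000200005000008000040006200009000048000040000200001000008000040001200009000008000440004a00001800007200022000120000880005800020000100000800004000020000130000a00004e00020000100000a000060000200001800006200020000120000900004800020000100000800004000020000120000900004a0002000010000080000600002000018000040000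2000010000380002400002000030000080002c00002000030000080002c0000200001000018000340000200001800004000020000100002800014000020000100002800034000020000100002800034000020000100002800014000020000180000400002c00018000080000400003c000140000c0000400003c000140000c000040000240001c00008000040000200001800004000028000140000800004000034000100000c00004000034000100000c000040000280001400008000040000200001804004004020008100040800004000020020100000800004000020100100000800004000020000100000800004000020000180000400002000010000080000400002000010000080080400002000010000080400400002000010200081000402002002018000040000200001000008000040000200001000008000040000200001000008000040000200001000008000040000200001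

/-- the 891 points, each with a word that moves it to `e 0` -/
def PL : List ℕ :=
  [1, 2290181210114, 159877431299, 8945401920, 623902785, 143135866950, 9991880775, 143136915530,
    9992929355, 2290184355918, 159880577103, 34603520, 2097665, 143232336402, 10088350227,
    143249113634, 10105127459, 143518597682, 10374611507, 558891712, 38798017, 8951694038,
    630194903, 8952742634, 631243499, 143237579518, 10093593343, 559940416, 39846721, 143506015070,
    10362028895, 8968471398, 646972263, 8969519994, 648020859, 8948548544, 627049409, 143187248090,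
    10043261915, 143250162670, 10106176495, 143186199542, 10042213367, 150064754330698752,
    9379080460829698, 653218743845893, 40859486651399, 662258542707721, 41391223735307,
    653825424753677, 42495030330383, 9379217899783232, 653356182799427, 9378943021876293,
    586217254028358, 9387982820738121, 586748991112266, 9405643726259277, 587852797707342,
    586190448238592, 36637034684418, 2551637352465, 159609004051, 2586947100705, 161684135971,
    2655935012913, 165995880499, 36637571555840, 2552174223875, 36636497814033, 2289912783378,
    36671807562273, 2291987915298, 36740795474481, 2296299659826, 9379047145483264, 586192528616450,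
    40826171304981, 2553717730327, 41391158733865, 2586951298091, 40864088861757, 2655939210303,
    586201118551744, 40834761240259, 586183938682581, 36638578192086, 586748926111465,
    36671811759850, 587852732706557, 36740799672062, 9379047162262528, 586192545395714,
    40826188084253, 2553734509599, 41391159784485, 2586952348711, 40859542238265, 2655940260923,
    586201135331136, 40834778019651, 586183955461981, 36638594971486, 586748927162213,
    36671812810598, 587852733757305, 36740800722810, 150064754318130176, 9379080448261122,
    41959322303513, 40859474082843, 653219012295725, 40859755101231, 40863820430389, 40859693235255,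
    586217578053568, 653356170231747, 653360516579289, 586217241460698, 653218950430701,
    586217522479086, 653223244349429, 586217460613110, 2289806082048, 143113060416, 9966977153,
    623116481, 10235412737, 639893825, 160559268225, 10035134913, 143115158016, 9969074753,
    143110963841, 8944616128, 143379399425, 8961393472, 2289777771393, 143116207040,
    9379047141557248, 586192530981952, 40826167379077, 2553720095941, 2622439572749, 41925685298509,
    41105346545033, 41925679007177, 36638574265874, 2553713804883, 40834757314199, 586192524691158,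
    2622433281823, 36707293742942, 41105340254107, 36707300034522, 9379047164642304,
    586192547775552, 2553736889481, 2553989596361, 2622709073157, 2622456366405, 40859511063949,
    41925947459021, 36638842717730, 2553982256739, 40835025766059, 586192793143018, 2622701733671,
    36707562194790, 40859503724463, 36638597351406, 9379047434142720, 586192817275968,
    2554006389901, 40826459964621, 41925971592457, 2622725866825, 40859779515781, 41963501176261,
    36707586328114, 40860795586163, 40859471234751, 586205702178558, 40835049899835,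
    586201407211386, 40863781930935, 36638866851830, 36636902891520, 2289814544454, 159477211281,
    9975439575, 163772178721, 10243875175, 2568953864625, 160567730679, 2289848099328, 159510766151,
    2289780990609, 143119426262, 2294075958049, 143387861862, 36636449907633, 2289864877046,
    586190446488576, 36637032934470, 2551635602581, 159607254227, 163902221615, 2620355079529,
    2569083907515, 41103262051837, 2289911033362, 36636496064085, 2552172473991, 36637569806016,
    41958937816893, 36637838241658, 36705215541161, 2294206001134, 586190447555584, 36637034001478,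
    159608321179, 2551636669661, 2620356146469, 163903288675, 2569084974527, 41103263118841,
    2294207067682, 36705216607845, 40826436957881, 36637839308542, 2552173541127, 36637570873152,
    36636497131421, 2289912100826, 9379047144815616, 586192527948870, 2553717062815, 40826170637529,
    2622436539691, 41925682265453, 40863789350325, 2622718606835, 36707579067954, 40826452704885,
    40864007454381, 36707297001194, 41925964332825, 36638577524574, 40834760572807, 586201117884352,
    36636904005632, 2289815658570, 159478325409, 9976553707, 163773292849, 10244989307,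
    2551638794641, 159610446299, 2289849213440, 159511880267, 2289782104737, 143120540394,
    2294077072177, 143388975994, 36636451021713, 2289865991130, 9379047413283840, 586192796417098,
    2553985531047, 40826439105773, 2622705007935, 40859443035509, 40864056769945, 40859421015507,
    586205681319442, 40859427307097, 587283718110901, 36707565469438, 41958938935085,
    36638845992806, 40835029041035, 586201386352576, 586190463347712, 36637049793610, 2551652461737,
    159624113379, 163919080759, 2620371938685, 2553719205279, 40826172779989, 2289927892514,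
    36636512923241, 2552189333131, 36637586665152, 41925696990997, 36637855100766, 36705232400317,
    2294222860278, 586190464414720, 36637050860618, 159625180335, 2551653528805, 2620373005625,
    163920147827, 2553736000919, 40826189575645, 2294223926834, 36705233467001, 40864006469277,
    36637856167638, 2552190400267, 36637587732288, 36636513990565, 2289928959982, 586190451843072,
    36637038288974, 2551640957105, 159612608767, 2620360433937, 163907576159, 2551654588833,
    159626240495, 36637575160320, 2552177828431, 36636501418673, 2289916388094, 36705220895505,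
    2294211355486, 36636515050401, 2289930019822, 587316713714688, 36707294999630, 2553801045175,
    2553721353465, 2622440830237, 2553715062099, 2554003420587, 40826456995301, 36638575523346,
    586183942305373, 40826168637093, 36638863881962, 2622434539279, 41958946338624, 586184021997497,
    36638661507062, 9379047158561792, 586192549035086, 2553730809019, 2553988758773, 2622708235543,
    2622457625945, 40859510226349, 2622450286051, 36638849220130, 40826184384109, 40835032268441,
    586192541695702, 40834781658933, 36638591270778, 40864003374991, 36638598610880,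
    586221765520384, 36638860766286, 2554005548221, 2553800027379, 2622519504155, 2622725025109,
    2553986674087, 40826440248809, 36638660488754, 586184020979325, 2554000305807, 40863998144192,
    40835049058089, 36638847135590, 586184221257621, 36638866010074, 38416577088309428224,
    2401036068019766272, 10460006628984834, 9379080381664258, 150065290300362754, 9379080650101762,
    167377698283853826, 150065287095917570, 2401036067990413312, 150065286101869570,
    167223976470784002, 150064754251541504, 10460075348471810, 150064754519979008,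
    167360384632109058, 2401036068007197696, 10460006631096384, 9379080383775808, 653750414362694,
    586192523906118, 9397066926673998, 587316683363406, 150065355809118282, 9379084738518090,
    653750445826129, 40859403314259, 653750450022487, 586183933979733, 653750451073119,
    9378942945883229, 10460007135475803, 653750455270489, 10461106143789120, 9379080652227648,
    653819133855818, 586192792357962, 9379080643842118, 586192540701766, 10461106142746702,
    9379080653282382, 653819165319265, 40863698297955, 653819169515627, 586184202431593,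
    653819170566247, 587283462403173, 10451502855927919, 653218928966765, 150065359023030336,
    9379084948259904, 9379547755104334, 586221735169102, 9379084938825802, 586192809153610,
    10742650337024070, 9379080443583558, 9396539691163761, 653772711322739, 653750499338367,
    9378944330034301, 671346963574907, 587283730855033, 10451571575421047, 653223223950453,
    10460006727614976, 653750550726149, 653750416509458, 40859405454871, 662259833049634,
    41391240058407, 9379479024114226, 653754748182071, 9379217818591744, 653750481528327,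
    10451498533726738, 653218664754709, 9397135634674210, 662258559039013, 10460006744406578,
    653750567517749, 653750420718272, 40859409663685, 40859401276118, 2553713086163,
    662259837260527, 586221737301738, 671415651621627, 587321043410686, 10451498600850129,
    9379080377558742, 9379217814416071, 586201113915072, 653750421779198, 40859410724601,
    10451568337451754, 653223021608685, 671346901746496, 41959189743429, 653750484699995,
    586205677326174, 41959181357926, 2622449358691, 671415650589567, 586217439207290,
    9397135629460321, 587320977368934, 653819134978938, 41925946748797, 9379218082870087,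
    586201130710848, 671346902809438, 41959190806361, 10460006728713152, 653750551824325,
    40859406552031, 586221740478426, 41959185568747, 36638858794990, 671415646411766,
    41963478441971, 653750568608753, 586221741533174, 9397135633673198, 653222959771625,
    671415614960602, 653218934290397, 653750505700295, 9379217819697088, 10461106256085504,
    653819287045641, 653819136051746, 40863700487723, 671415618114098, 41963481601595,
    9379475786177042, 653751509196315, 9379222113624576, 653819201070603, 10460006645901858,
    653819207364137, 10460006747615794, 653750570726969, 10451502826666514, 653218931162649,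
    10461106257150912, 653819288111049, 40863701552103, 36707293089774, 41963480568831,
    586218579056630, 9379475785145306, 653750449102803, 653218932220881, 587316688742362,
    10460006625995766, 653819271344125, 9379479054611438, 653223228241893, 671415688395723,
    9379222114697152, 653819141325504, 40863705761481, 40863696325354, 2553981603555,
    671415685255927, 586205425735422, 10460007181753055, 9379080646074070, 10451571632153313,
    9379084672607978, 9379222109465291, 586201382432448, 653218926998230, 40826183530205,
    653819140291326, 40863704727285, 671415622353728, 41963485841225, 653750498413423,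
    586221470011238, 41963476407162, 2622717876083, 9379475780983639, 586217236914014,
    10460009091228529, 9379222387353466, 671415621315422, 41963484802901, 671346962658123,
    586201399228224, 10732974594784102, 670810912784237, 167225144817418752, 10451571612255757,
    679920470264370, 42495030005311, 653754713707026, 40859676120607, 9379544505719330,
    653754810179119, 10461183431352832, 679920472368655, 10461174962006578, 653823568457277,
    9397066915328530, 653218933323293, 10451571546208802, 653223226195501, 10460006648070976,
    670810853033805, 653819217922935, 586205409005434, 586217441416030, 40859404556115,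
    671346931227499, 586221531914086, 9397066910098257, 587316682516318, 653750415616870,
    41925678428009, 671415682167631, 671343136438080, 9379479060970362, 653750471196533,
    10733042257331136, 670815141726157, 587320975395835, 36707561607158, 586217437238231,
    36638590474202, 671346927049710, 41959183589347, 653223227270113, 586217445631982,
    9397066914311130, 653218665967573, 671346895598582, 657652206778361, 9379478994926543,
    586217446686656, 10451571551486656, 653223231473357, 587320980654846, 40860794998515,
    653754780865243, 586205694252758, 671346932308711, 587316748607210, 10460076492710641,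
    9379291106895614, 10460007968271055, 653823964868288, 653223222047466, 40826452047589,
    9397135689382614, 653218726805209, 2401036067992764416, 150067485125379136, 10453697557170307,
    653356103896259, 10453701852139779, 653356372333891, 167259178257881475, 10453698647694787,
    150067485096026624, 10453697653646915, 10460008057416323, 9379217820888768, 10461175986533123,
    9379218089326400, 10460008088877955, 9379479143858112, 167223976473149504, 150064754247615488,
    653356097620167, 40834756791431, 671342648906063, 41958916248847, 10453767360895435,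
    653360460750219, 653218662867537, 586217170953746, 653218658675414, 40826166865557,
    671342608020318, 41958922549021, 10451498532895706, 653218663923609, 10460075350851648,
    150064754522358784, 653360392603851, 40835025243275, 653356366074183, 40834773587207,
    10461123619625423, 653824048799119, 653222957851233, 586221465937442, 653222953659114,
    40826435317417, 653754710668134, 41925695289125, 10451567252388846, 653222958907309,
    10461174863544384, 150064758818391040, 653823477336271, 40863968054415, 653360661057867,
    40835042039051, 10453698641451463, 653356165815687, 653823565423217, 587321253357106,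
    653823435401982, 40863973306045, 653823430161274, 41925963740985, 10461106211191798,
    653819242151861, 10742581234041344, 671411474335301, 653750503803539, 586217173094102,
    653823499375395, 586749007697766, 653754746346419, 9379479026474998, 150064754249768960,
    9379474759820358, 10453697588701331, 9378942943046869, 671411356905763, 9387982837331301,
    10460075930761651, 9396539423014389, 10451498536092352, 653218660828805, 586217168915031,
    36638573809170, 653823432283118, 40863970187179, 671412408638330, 41963276295999,
    10451498596917457, 653356099789975, 10451498529810502, 9379047141108736, 653754777825791,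
    9378944347108793, 10741482112514411, 671342641642797, 671411327566656, 41963217585925,
    653750419950554, 40859408895903, 40863969153639, 36707310081570, 653754717018878,
    40859672092347, 671411351691617, 41963210253607, 671342685694459, 587283714387389,
    653754709684294, 9379047157904384, 10453766278854879, 653360401071257, 10460075402314688,
    653754800916357, 586217174190942, 41960306757403, 40863964975850, 2553998595759,
    653754745346679, 587321246080562, 9396539422007793, 653819234870711, 671411355904367,
    653360669519145, 9397139893252315, 653823485801629, 10460024039929926, 150064754250873856,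
    10460075447419392, 653754846021193, 653819222297251, 586221468126954, 657685697401651,
    587321249240954, 653751508409235, 9379475787489242, 150064758544801792, 9379543479362634,
    10453766308243619, 9387982820617449, 10453770721702195, 9405643742918009, 10460007953742227,
    9378943209455065, 10460075448484800, 653754847086473, 41958913231718, 2622432890671,
    587321248207614, 40860811941559, 653751507376731, 9379290897341970, 9378943210512849,
    657685426890139, 10453697554180471, 671342640655677, 653754776842479, 653218661954725,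
    10461123551590474, 150064758545873920, 653754716029632, 40859678443145, 41958918490731,
    36638842326562, 657685693240310, 41105356658623, 671411326589790, 41963216609047,
    10451498583367905, 653360394839211, 10451567249369162, 9379047409626112, 653823497384407,
    586183951168925, 10453701855459711, 653356375653685, 10461174880453440, 670815417714441,
    653819138460654, 40863702896551, 587321244045947, 36707578598962, 653751503215318,
    40859469799071, 10453770574946673, 653360670631227, 653750497634783, 9378947503418773,
    653823429242954, 9379047426421760, 10460075915147495, 653823486917805, 10461174975889920,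
    653823582340685, 657685430078131, 587852797644542, 653754780029715, 586217443759966,
    653820227951523, 9379479088472046, 150072771880099840, 9405644750660686, 10460007989455027,
    9405643726204157, 671342637560083, 9378943211615581, 10461107465435555, 9378947504487917,
    671342607156032, 41958921684749, 657685424851958, 41105339928507, 40859674301023,
    586217172194834, 653820222724842, 40863764799143, 671342632329553, 41958915400991,
    653819217144295, 587283446066601, 9397139960459342, 9397067414729728, 10460024107137275,
    9396539486076085, 10460006716507072, 653750539618189, 41963208280954, 2622701408055,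
    40859670123222, 2553730274971, 653820226935407, 586221472423458, 9378947505562081,
    653750532285871, 671342636542299, 670811116514581, 653823496401143, 653222957003961,
    10460075352111182, 150064754516278272, 653823436636864, 40863974540941, 41963213539967,
    586218562637362, 653754712970202, 40859675383703, 671343689325414, 41958981492523,
    10451567302926577, 653751506429119, 10461106205091918, 9379548243160064, 671346961936875,
    586184219686309, 10733046552590679, 670815410453785]

/-- the code of generator number `k` (`1 ≤ k ≤ 10`, in the order of `gens`; else the identity) -/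
def gc (k : ℕ) : ℕ := Nat.land (Nat.shiftRight GT (Nat.mul 400 k)) (Nat.pred (Nat.shiftLeft 1 400))

theorem rl_gc {k a : ℕ} {h : UG.chk CM a a = true} (H : Nat.beq (gc k) a = true) :
    Rl (iv a h) (ap (gc k)) := by
  rw [Nat.eq_of_beq_eq_true H]; exact rl_iv a h

theorem rl_t0 : Rl t0 (ap (gc 1)) := rl_gc (by decide +kernel)
theorem rl_t0' : Rl t0' (ap (gc 2)) := rl_gc (by decide +kernel)
theorem rl_a1 : Rl a1 (ap (gc 3)) := rl_gc (by decide +kernel)
theorem rl_a2 : Rl a2 (ap (gc 4)) := rl_gc (by decide +kernel)
theorem rl_a1' : Rl a1' (ap (gc 5)) := rl_gc (by decide +kernel)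
theorem rl_a2' : Rl a2' (ap (gc 6)) := rl_gc (by decide +kernel)
theorem rl_b1 : Rl b1 (ap (gc 7)) := rl_gc (by decide +kernel)
theorem rl_b2 : Rl b2 (ap (gc 8)) := rl_gc (by decide +kernel)
theorem rl_b1' : Rl b1' (ap (gc 9)) := rl_gc (by decide +kernel)
theorem rl_b2' : Rl b2' (ap (gc 10)) := rl_gc (by decide +kernel)

theorem rl_gc_one {k : ℕ} (H : Nat.beq (gc k) CM.one = true) : Rl 1 (ap (gc k)) := by
  rw [Nat.eq_of_beq_eq_true H]
  exact rl_of_val (Units.val_one.trans CM.dec_one.symm)

/-- generator number `k` -/
noncomputable def gen (k : ℕ) : GM := (1 :: gens).getD k 1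

theorem gen_mem (k : ℕ) : gen k ∈ U := by
  unfold gen
  rw [List.getD_eq_getElem?_getD]
  cases h : (1 :: gens)[k]? with
  | none => exact U.one_mem
  | some g =>
    rcases List.mem_cons.mp (List.mem_of_getElem? h) with rfl | h'
    · exact U.one_mem
    · exact Subgroup.subset_closure h'

theorem rl_gen {k : ℕ} (hk : k < 16) : Rl (gen k) (ap (gc k)) := by
  interval_cases k
  exacts [rl_gc_one (by decide +kernel), rl_t0, rl_t0', rl_a1, rl_a2, rl_a1', rl_a2', rl_b1, rl_b2,
    rl_b1', rl_b2', rl_gc_one (by decide +kernel), rl_gc_one (by decide +kernel),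
    rl_gc_one (by decide +kernel), rl_gc_one (by decide +kernel), rl_gc_one (by decide +kernel)]

theorem exists_gen {g : GM} (hg : g ∈ gens) : ∃ k < 10, gen (k + 1) = g := by
  obtain ⟨k, hk, rfl⟩ := List.getElem_of_mem hg
  exact ⟨k, hk, by simp [gen, List.getElem?_eq_getElem hk]⟩

theorem gen_sq {k : ℕ} (hk : k < 16) : gen k * gen k = 1 :=
  ((rl_gen hk).mul (rl_gen hk)).eq rl_one (allN_spec (p := fun k =>
    eqB (fun u => ap (gc k) (ap (gc k) u)) fun u => u) (n := 16) (by decide +kernel) k hk)

theorem inv_of_sq {g : GM} (h : g * g = 1) : g⁻¹ = g := by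
  rw [← mul_one g⁻¹, ← h, inv_mul_cancel_left]

/-- Induction over `U`: left multiplication by the generators. -/
theorem U_ind {p : GM → Prop} (h1 : p 1) (hm : ∀ k < 10, ∀ g ∈ U, p g → p (gen (k + 1) * g)) :
    ∀ g ∈ U, p g := by
  intro g hg
  induction hg using Subgroup.closure_induction_left with
  | one => exact h1
  | mul_left x hx y hy ih =>
    obtain ⟨k, hk, rfl⟩ := exists_gen hx
    exact hm k hk y hy ih
  | inv_mul_cancel x hx y hy ih =>
    obtain ⟨k, hk, rfl⟩ := exists_gen hx
    rw [inv_of_sq (gen_sq (k := k + 1) (by omega))]
    exact hm k hk y hy ih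

/-- apply a word: digits in base 16, lowest digit first, at most `n` digits -/
noncomputable def apwF (n : ℕ) : ℕ → ℕ → ℕ :=
  Nat.rec (motive := fun _ => ℕ → ℕ → ℕ) (fun _ u => u)
    (fun _ ih w u => Bool.rec (motive := fun _ => ℕ)
      (frc (ap (gc (Nat.land w 15)) u) fun u' => frc (Nat.shiftRight w 4) fun w' => ih w' u')
      u (Nat.beq w 0)) n

theorem apwF_succ (n w u : ℕ) : apwF (n + 1) w u =
    if w = 0 then u else apwF n (Nat.shiftRight w 4) (ap (gc (Nat.land w 15)) u) := by
  have e1 : apwF (n + 1) w u = Bool.rec (motive := fun _ => ℕ)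
      (frc (ap (gc (Nat.land w 15)) u) fun u' => frc (Nat.shiftRight w 4) fun w' => apwF n w' u')
      u (Nat.beq w 0) := rfl
  rw [e1, frc_eq, frc_eq]
  cases h : Nat.beq w 0
  · rw [if_neg (Nat.ne_of_beq_eq_false h)]
  · rw [if_pos (Nat.eq_of_beq_eq_true h)]

/-- apply a word: digits in base 16, lowest digit first, at most 40 digits -/
noncomputable def apw (w u : ℕ) : ℕ := apwF 40 w u

theorem apwF_spec (n w : ℕ) : ∃ g ∈ U, Rl g (apwF n w) := by
  induction n generalizing w with
  | zero => exact ⟨1, U.one_mem, rl_one⟩
  | succ n ih =>
    by_cases h : w = 0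
    · exact ⟨1, U.one_mem, fun u => by rw [apwF_succ, if_pos h, one_smul]⟩
    · obtain ⟨g, hg, hr⟩ := ih (Nat.shiftRight w 4)
      refine ⟨g * gen (Nat.land w 15), U.mul_mem hg (gen_mem _), fun u => ?_⟩
      rw [apwF_succ, if_neg h]
      exact hr.mul (rl_gen (k := Nat.land w 15) (Nat.lt_succ_of_le Nat.and_le_right)) u

theorem apw_spec (w : ℕ) : ∃ g ∈ U, Rl g (apw w) := apwF_spec 40 w

/-- the element of the word `w` -/
noncomputable def wd (w : ℕ) : GM := (apw_spec w).choose

theorem wd_mem (w : ℕ) : wd w ∈ U := (apw_spec w).choose_spec.1
theorem rl_wd (w : ℕ) : Rl (wd w) (apw w) := (apw_spec w).choose_spec.2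

theorem apwF_lt (n w : ℕ) {u : ℕ} (hu : u < 1048576) : apwF n w u < 1048576 := by
  induction n generalizing w u with
  | zero => exact hu
  | succ n ih =>
    rw [apwF_succ]
    split_ifs
    exacts [hu, ih _ (ap_lt _ _)]

theorem apw_lt (w : ℕ) {u : ℕ} (hu : u < 1048576) : apw w u < 1048576 := apwF_lt 40 w hu

/-! ### invariance and equivariance -/

theorem qf_U {g : GM} (hg : g ∈ U) (v : M) : qf (g • v) = qf v := by
  revert v
  refine U_ind (p := fun g => ∀ v, qf (g • v) = qf v) (fun v => by rw [one_smul])
    (fun k hk g _ ih v => ?_) g hg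
  rw [mul_smul, (rl_gen (by omega)).qf_smul (allN_spec (p := fun k => qB (ap (gc (k + 1))))
    (n := 10) (by decide +kernel) k hk), ih]

theorem bf_U {g : GM} (hg : g ∈ U) (u v : M) : bf (g • u) (g • v) = bf u v :=
  bf_smul (qf_U hg) u v

theorem e0_mem : e 0 ∈ O := ⟨1, U.one_mem, one_smul _ _⟩

theorem O_smul {g : GM} (hg : g ∈ U) {x : M} (hx : x ∈ O) : g • x ∈ O := by
  obtain ⟨h, hh, rfl⟩ := hx
  exact ⟨g * h, U.mul_mem hg hh, mul_smul _ _ _⟩

theorem O_smul_iff {g : GM} (hg : g ∈ U) {x : M} : g • x ∈ O ↔ x ∈ O :=
  ⟨fun h => by simpa using O_smul (U.inv_mem hg) h, O_smul hg⟩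

theorem qf_O {x : M} (hx : x ∈ O) : qf x = 0 := by
  obtain ⟨h, hh, rfl⟩ := hx
  rw [qf_U hh, ← vd_shl, qf_vd, b2z_eq_zero]; decide +kernel

theorem e_ne_zero (i : Fin 20) : e i ≠ 0 := fun h => by
  have := congrFun h i
  simp [e] at this

theorem O_ne_zero {x : M} (hx : x ∈ O) : x ≠ 0 := by
  obtain ⟨h, -, rfl⟩ := hx
  intro h0
  apply e_ne_zero 0
  rw [← inv_smul_smul h (e 0), h0, smul_zero]

theorem t0_Tv : t0 ∈ Tv := ⟨1, U.one_mem, by rw [one_mul, inv_one, mul_one]⟩

theorem Tv_U {s : GM} (hs : s ∈ Tv) : s ∈ U := by
  obtain ⟨h, hh, rfl⟩ := hs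
  exact U.mul_mem (U.mul_mem hh t0_mem) (U.inv_mem hh)

theorem Tv_conj {g s : GM} (hg : g ∈ U) (hs : s ∈ Tv) : g * s * g⁻¹ ∈ Tv := by
  obtain ⟨h, hh, rfl⟩ := hs
  exact ⟨g * h, U.mul_mem hg hh, by group⟩

theorem t0_sq : t0 * t0 = 1 := gen_sq (k := 1) (by norm_num)

theorem Tv_sq {s : GM} (hs : s ∈ Tv) : s * s = 1 := by
  obtain ⟨h, -, rfl⟩ := hs
  rw [conj_mul, t0_sq, mul_one, mul_inv_cancel]

theorem R_le_U (x : M) : R x ≤ U := (Subgroup.closure_le _).mpr fun _ hs => Tv_U hs.1

theorem R_fix {x : M} {r : GM} (hr : r ∈ R x) : r • x = x :=
  (Subgroup.closure_le (MulAction.stabilizer GM x)).mpr (fun _ hs => hs.2) hr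

theorem mem_R {x : M} {s : GM} (hs : s ∈ Tv) (h : s • x = x) : s ∈ R x :=
  Subgroup.subset_closure ⟨hs, h⟩

/-- for any `g` that maps `Tv` into itself -/
theorem R_conj' {g : GM} (hg : ∀ s ∈ Tv, g * s * g⁻¹ ∈ Tv) {x : M} {r : GM} (hr : r ∈ R x) :
    g * r * g⁻¹ ∈ R (g • x) := by
  induction hr using Subgroup.closure_induction with
  | mem s hs =>
    refine mem_R (hg s hs.1) ?_
    rw [mul_smul, inv_smul_smul, mul_smul, hs.2]
  | one => rw [mul_one, mul_inv_cancel]; exact (R _).one_mem
  | mul a b _ _ ha hb => rw [← conj_mul]; exact (R _).mul_mem ha hb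
  | inv a _ ha => rw [← conj_inv]; exact (R _).inv_mem ha

theorem R_conj {g : GM} (hg : g ∈ U) {x : M} {r : GM} (hr : r ∈ R x) :
    g * r * g⁻¹ ∈ R (g • x) := R_conj' (fun _ hs => Tv_conj hg hs) hr

theorem R_conj_iff {g : GM} (hg : g ∈ U) {x : M} {r : GM} :
    g * r * g⁻¹ ∈ R (g • x) ↔ r ∈ R x :=
  ⟨fun h => by simpa [mul_assoc] using R_conj (U.inv_mem hg) h, R_conj hg⟩

theorem R_smul {g : GM} (hg : g ∈ U) (x : M) :
    R (g • x) = (R x).map (MulAut.conj g).toMonoidHom := by
  ext r
  refine ⟨fun h => ⟨g⁻¹ * r * g, ?_, by simp [mul_assoc]⟩, ?_⟩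
  · simpa using R_conj (U.inv_mem hg) h
  · rintro ⟨r, hr, rfl⟩; exact R_conj hg hr

theorem P_conj {g : GM} (hg : g ∈ U) {x : M} {r : GM} (hr : r ∈ P x) :
    g * r * g⁻¹ ∈ P (g • x) := by
  refine ⟨U.mul_mem (U.mul_mem hg hr.1) (U.inv_mem hg), ?_⟩
  show (g * r * g⁻¹) • g • x = _
  rw [mul_smul, inv_smul_smul, mul_smul, show r • x = x from hr.2]

theorem P_conj_iff {g : GM} (hg : g ∈ U) {x : M} {r : GM} :
    g * r * g⁻¹ ∈ P (g • x) ↔ r ∈ P x :=
  ⟨fun h => by simpa [mul_assoc] using P_conj (U.inv_mem hg) h, P_conj hg⟩

theorem P_smul {g : GM} (hg : g ∈ U) (x : M) :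
    P (g • x) = (P x).map (MulAut.conj g).toMonoidHom := by
  ext r
  refine ⟨fun h => ⟨g⁻¹ * r * g, ?_, by simp [mul_assoc]⟩, ?_⟩
  · simpa using P_conj (U.inv_mem hg) h
  · rintro ⟨r, hr, rfl⟩; exact P_conj hg hr

theorem R_le_P (x : M) : R x ≤ P x := fun _ hr => ⟨R_le_U x hr, R_fix hr⟩

theorem E_smul {g : GM} (hg : g ∈ U) {x v : M} (hv : v ∈ E x) : g • v ∈ E (g • x) := by
  intro r hr
  have h := hv (g⁻¹ * r * g⁻¹⁻¹) (by simpa using R_conj (U.inv_mem hg) hr)
  rw [inv_inv, mul_smul, mul_smul, inv_smul_eq_iff, inv_smul_eq_iff, smul_add] at h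
  exact h

theorem E_smul_iff {g : GM} (hg : g ∈ U) {x v : M} : g • v ∈ E (g • x) ↔ v ∈ E x :=
  ⟨fun h => by simpa using E_smul (U.inv_mem hg) h, E_smul hg⟩

theorem self_mem_E (x : M) : x ∈ E x := fun _ hr => Or.inl (R_fix hr)

theorem Fix_smul_iff {g s : GM} {v : M} : (g * s * g⁻¹) • g • v = g • v ↔ s • v = v := by
  rw [mul_smul, inv_smul_smul, mul_smul, smul_left_cancel_iff]

theorem Nt_smul {g : GM} (hg : g ∈ U) {s : GM} {v : M} (hv : v ∈ Nt s) :
    g • v ∈ Nt (g * s * g⁻¹) := by
  intro w hw
  rw [← smul_inv_smul g w] at hw ⊢
  rw [bf_U hg]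
  exact hv _ (Fix_smul_iff.mp hw)

theorem Nt_smul_iff {g : GM} (hg : g ∈ U) {s : GM} {v : M} :
    g • v ∈ Nt (g * s * g⁻¹) ↔ v ∈ Nt s :=
  ⟨fun h => by simpa [mul_assoc] using Nt_smul (U.inv_mem hg) h, Nt_smul hg⟩

theorem D2_smul_iff {g : GM} (hg : g ∈ U) {x y : M} : D2 (g • x) (g • y) ↔ D2 x y := by
  unfold D2; rw [E_smul_iff hg, bf_U hg]

theorem comm_mem_Nt {s : GM} (hs : s ∈ U) (m : M) : m + s • m ∈ Nt s := by
  intro w hw
  rw [bf_add_left, ← bf_U hs m w, hw]
  exact CharTwo.add_self_eq_zero _

/-! ### the list of points -/

/-- the point of an entry `n = point + 2 ^ 20 * word` -/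
def pt (n : ℕ) : ℕ := Nat.land n 1048575
/-- the word of an entry -/
def pw (n : ℕ) : ℕ := Nat.shiftRight n 20
/-- the word moves the point to `e 0` -/
noncomputable def okP (n : ℕ) : Bool := Nat.beq (apw (pw n) (pt n)) 1

theorem pt_lt (n : ℕ) : pt n < 1048576 := land_lt n

theorem vd_one : vd 1 = e 0 := vd_pow 0

theorem okP_smul {n : ℕ} (h : okP n = true) : wd (pw n) • vd (pt n) = e 0 := by
  rw [rl_wd, Nat.eq_of_beq_eq_true h, vd_one]

theorem okP_mem {n : ℕ} (h : okP n = true) : vd (pt n) ∈ O :=
  (O_smul_iff (wd_mem _)).mp (by rw [okP_smul h]; exact e0_mem)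

theorem PL_ok : ∀ n ∈ PL, okP n = true := allL_spec (by decide +kernel)

/-- the bit map of the values of `f` on a list -/
noncomputable def bmL (f : ℕ → ℕ) (L : List ℕ) : ℕ :=
  List.rec (motive := fun _ => ℕ) 0 (fun a _ acc => Nat.lor acc (Nat.shiftLeft 1 (f a))) L

theorem tb_bmL (f : ℕ → ℕ) (L : List ℕ) (u : ℕ) :
    tb (bmL f L) u = true ↔ ∃ n ∈ L, f n = u := by
  rw [tb_eq]
  induction L with
  | nil => simp [bmL]
  | cons a L ih =>
    have e1 : bmL f (a :: L) = bmL f L ||| 1 <<< f a := rfl
    rw [e1, Nat.testBit_or, Bool.or_eq_true, ih, Nat.one_shiftLeft, Nat.testBit_two_pow]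
    simp only [List.mem_cons, decide_eq_true_eq, exists_eq_or_imp]
    exact or_comm

/-- the bit map of the points; use as `frc bmO fun b => … tb b u …` -/
noncomputable def bmO : ℕ := bmL pt PL

theorem PL_closed : ∀ n ∈ PL, ∀ k < 10, tb bmO (ap (gc (k + 1)) (pt n)) = true := by
  have h : (frc bmO fun b => allL PL fun n => frc (pt n) fun u =>
      allN 10 fun k => tb b (ap (gc (k + 1)) u)) = true := by decide +kernel
  rw [frc_eq] at h
  intro n hn
  have := allL_spec h n hn
  rw [frc_eq] at this
  exact allN_spec this

theorem mem_O_iff {v : M} : v ∈ O ↔ ∃ n ∈ PL, vd (pt n) = v := by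
  refine ⟨?_, fun ⟨n, hn, h⟩ => h ▸ okP_mem (PL_ok n hn)⟩
  rintro ⟨g, hg, rfl⟩
  refine U_ind (p := fun g => ∃ n ∈ PL, vd (pt n) = g • e 0)
    ⟨1, by decide +kernel, by rw [one_smul]; exact vd_one⟩ (fun k hk g _ ⟨n, hn, h⟩ => ?_) g hg
  obtain ⟨m, hm, h'⟩ := (tb_bmL _ _ _).mp (PL_closed n hn k hk)
  exact ⟨m, hm, by rw [h', mul_smul, ← h, rl_gen (by omega)]⟩

theorem vd_mem_O {u : ℕ} (hu : u < 1048576) : vd u ∈ O ↔ tb bmO u = true := by
  rw [mem_O_iff, bmO, tb_bmL]
  exact exists_congr fun n => and_congr_right fun _ =>
    ⟨fun h => vd_inj (pt_lt n) hu h, fun h => by rw [h]⟩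

theorem vd_low {u : ℕ} (hu : u < 1048576) :
    (∀ i : Fin 20, 10 ≤ i.val → vd u i = 0) ↔ u < 1024 := by
  constructor
  · intro h
    refine Nat.lt_pow_two_of_testBit (n := 10) u fun p hp => ?_
    by_cases h20 : p < 20
    · exact b2z_eq_zero.mp (h ⟨p, h20⟩ hp)
    · refine Nat.testBit_lt_two_pow (hu.trans_le ?_)
      calc 1048576 = 2 ^ 20 := by norm_num
        _ ≤ 2 ^ p := Nat.pow_le_pow_right (by norm_num) (by omega)
  · intro h i hi
    refine b2z_eq_zero.mpr (Nat.testBit_lt_two_pow (h.trans_le ?_))
    calc 1024 = 2 ^ 10 := by norm_num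
      _ ≤ 2 ^ i.val := Nat.pow_le_pow_right (by norm_num) hi

/-- the description of `E (e 0)` (field `memE0` of `Facts1`) -/
def HE : Prop := ∀ v : M, v ∈ E (e 0) ↔ ∀ i : Fin 20, 10 ≤ i.val → v i = 0

theorem HE.vd_mem (hE : HE) {u : ℕ} (hu : u < 1048576) : vd u ∈ E (e 0) ↔ u < 1024 := by
  rw [hE, vd_low hu]

theorem HE.exists_code (hE : HE) {v : M} (hv : v ∈ E (e 0)) : ∃ u < 1024, vd u = v := by
  obtain ⟨u, hu, rfl⟩ := vd_surj v
  exact ⟨u, (hE.vd_mem hu).mp hv, rfl⟩

/-- `vd u ∈ E (point of n)` -/
noncomputable def inE (n u : ℕ) : Bool := Nat.blt (apw (pw n) u) 1024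

theorem HE.inE_iff (hE : HE) {n u : ℕ} (hn : okP n = true) (hu : u < 1048576) :
    vd u ∈ E (vd (pt n)) ↔ inE n u = true := by
  rw [← E_smul_iff (wd_mem (pw n)), okP_smul hn, rl_wd, hE.vd_mem (apw_lt _ hu), inE, Nat.blt_eq]

end H21.BM
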