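import Cfsg.Agent.H27.R7Spec
import Cfsg.Agent.H56.OrthOrd
import Cfsg.Agent.H82.HoltFinal

/-! Chapter R7, job `JobTop`: Holt's theorem. -/

set_option autoImplicit false

namespace H21.R7T

open Subgroup Cfsg H98 H1.Gold H56 H58 H12.OW Module QuadraticMap H27.R7

universe u

theorem deg {G : Type u} [Group G] [Finite G] {S : Subgroup G} (hS : IsSyl 2 S ⊤) (h : Nat.card S = 512)
    {n : ℕ} (h5 : 5 ≤ n) (e : G ≃* alternatingGroup (Fin n)) : n = 12 ∨ n = 13 := by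
  have : Fact (Nat.Prime 2) := ⟨Nat.prime_two⟩
  have : Nontrivial (Fin n) := Fin.nontrivial_iff_two_le.2 (by omega)
  have h1 : 2 * Nat.card G = n.factorial := by
    rw [Nat.card_congr e.toEquiv, two_mul_nat_card_alternatingGroup, Nat.card_perm, Nat.card_fin]
  have h2 : (Nat.card G).factorization 2 = 9 := by
    have := hS.card_eq
    rw [h, card_top] at this
    exact Nat.pow_right_injective le_rfl (this.symm.trans (by norm_num))
  have h3 := fun k => (Nat.prime_two.pow_dvd_iff_le_factorization (k := k) (Nat.card_pos (α := G)).ne')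
  by_contra hn
  rcases (by omega : n ≤ 11 ∨ 14 ≤ n) with k | k
  · have := (Nat.mul_dvd_mul_left 2 ((h3 9).2 h2.ge)).trans (h1 ▸ Nat.factorial_dvd_factorial k)
    revert this
    decide
  · have : 2 * 2 ^ 10 ∣ 2 * Nat.card G :=
      Dvd.dvd.trans (by decide) (h1 ▸ Nat.factorial_dvd_factorial k)
    have := (h3 10).1 (Nat.dvd_of_mul_dvd_mul_left two_pos this)
    omega

theorem perf_bot {G : Type u} [Group G] [Finite G] {M : Subgroup G} (h : ⁅M, M⁆ = M)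
    (hM : IsPGroup 2 M) : M = ⊥ := by
  have : Fact (Nat.Prime 2) := ⟨Nat.prime_two⟩
  have := hM.isNilpotent
  by_contra hne
  have : Nontrivial M := (nontrivial_iff_ne_bot M).2 hne
  refine (Group.IsSolvable.commutator_lt_top_of_nontrivial M).ne (map_injective M.subtype_injective ?_)
  rw [map_subtype_commutator, h, ← MonoidHom.range_eq_map, range_subtype]

theorem jobTop : JobTop.{u} := by
  intro hIn F _ _ V _ _ _ Q c ε fr G _ _ _ hG S M t h f3 Φ gl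
  have : Fact (Nat.Prime 2) := ⟨Nat.prime_two⟩
  have gs := H59.OW.gs fr.nd fr.two
  have qn : ∀ i, Q (ε i) ≠ 0 := fun i => fr.norm i ▸ fr.ne
  have sim : ∀ N : Subgroup (Om Q), N.Normal → N = ⊥ ∨ N = ⊤ := fun N hN => by
    have f0 : ∀ x, x ∈ Fx Q (∅ : Set V) ↔ x ∈ Om Q := fun x => by simp [mem_Fx]
    rcases gs.norm ∅ ⟨Set.finite_empty, by simp, by simp⟩ (by simp [fr.dim]) (N.map (Om Q).subtype)
      (fun x hx => (f0 x).2 (map_subtype_le N hx)) (by
        rintro g hg _ ⟨x, hx, rfl⟩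
        exact ⟨_, hN.conj_mem x hx ⟨g, (f0 g).1 hg⟩, rfl⟩) with k | k
    · refine .inr ((eq_top_iff' _).2 fun x => ?_)
      obtain ⟨y, hy, e⟩ := k.ge ((f0 x).2 x.2)
      exact (Subtype.ext e : y = x) ▸ hy
    · refine .inl ((eq_bot_iff_forall _).2 fun x hx => Subtype.ext ((k x ⟨x, hx, rfl⟩).resolve_right
        fun k1 => negOne_notMem_commutator_of_odd fr.nd fr.two (by rw [fr.dim]; decide) ?_))
      have : (x : O Q) = O.negOne Q := O.ext fun z => k1 z (by simp [Orth])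
      exact this ▸ x.2
  let ρ : Fin 7 → Fin 7 → Om Q := fun k l => ⟨refl Q (ε k) * refl Q (ε l),
    refl_mul_refl_mem_commutator fr.nd (qn k) (qn l) (by rw [fr.norm, fr.norm])⟩
  have val : ∀ k l, k ≠ l → Φ (ρ k l) = t k * t l := fun k l hkl => by
    obtain ⟨j, j1, j2, j3⟩ : ∃ j : Fin 7, j.1 ≤ 3 ∧ k ≠ j ∧ l ≠ j := by
      revert k l
      decide
    obtain ⟨φ, h1, h2⟩ := gl.ch j j1
    rw [h2, h1.val k l j2 j3 hkl]
    change (refl Q (ε k) * refl Q (ε l)) (ε j) = ε j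
    rw [O.mul_apply, refl_apply_of_orth (fr.orth l j j3), refl_apply_of_orth (fr.orth k j j2)]
  have e0 : t 0 = t 1 * t 2 * (t 3 * t 4) * (t 5 * t 6) := by
    have := h.prod
    rw [← mul_left_cancel_iff (a := t 0), h.sq, ← this]
    simp only [mul_assoc]
  have n0 : t 0 ≠ 1 := fun e => by
    obtain ⟨g, hg⟩ := h.tr (Equiv.swap 0 1 * Equiv.swap 2 3) (by decide)
    have := hg 0
    rw [e, mul_one, mul_inv_cancel] at this
    exact h.t1 (show t ((Equiv.swap 0 1 * Equiv.swap 2 3 : Equiv.Perm (Fin 7)) 0) ∈ M from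
      this ▸ one_mem M)
  have v0 : Φ (ρ 1 2 * ρ 3 4 * ρ 5 6) = t 0 := by
    rw [map_mul, map_mul, val 1 2 (by decide), val 3 4 (by decide), val 5 6 (by decide), ← e0]
  have inj : Function.Injective Φ := (MonoidHom.ker_eq_bot_iff Φ).1
    ((sim _ inferInstance).resolve_right fun e => n0 (v0 ▸ (e.ge (mem_top _) : Φ _ = 1)))
  let Y : Fin 7 → Subgroup G := fun j => ((Fx Q {ε j}).subgroupOf (Om Q)).map Φ
  have Yp : ∀ j, ⁅Y j, Y j⁆ = Y j := fun j => by
    have k := gs.perf {ε j} ⟨Set.finite_singleton _, by simpa using qn j, by simp⟩ (by simp [fr.dim])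
    have hl : Fx Q {ε j} ≤ Om Q := fun x hx => hx.1
    rw [← map_commutator]
    congr 1
    apply map_injective (Om Q).subtype_injective
    rw [map_commutator, map_subgroupOf_eq_of_le hl, k]
  have Yc : ∀ j : Fin 7, j.1 ≤ 3 → Y j ≤ cen1 (t j) := fun j hj => by
    obtain ⟨φ, h1, h2⟩ := gl.ch j hj
    rintro _ ⟨x, hx, rfl⟩
    rw [mem_centralizer_singleton_iff, h2 x (hx.2 _ rfl)]
    exact h1.cen x hx
  have Ym : ∀ j : Fin 7, j.1 ≤ 3 → ∀ X, ⁅X, X⁆ = X → X ≤ cen1 (t j) → X ≤ Φ.range :=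
    fun j hj X x1 x2 g hg => by
      obtain ⟨φ, h1, h2⟩ := gl.ch j hj
      obtain ⟨x, hx, e⟩ := h1.perf X x1 x2 g hg
      exact ⟨⟨x, hx.1⟩, (h2 ⟨x, hx.1⟩ (hx.2 _ rfl)).trans e⟩
  have hM : M ≤ Φ.range := Ym 0 (by decide) M h.perf h.Mc
  have m0 : t 0 ∈ Φ.range := ⟨_, v0⟩
  have m1 : t 1 ∈ Φ.range := by
    have : t 0 * (t 0 * t 1) ∈ Φ.range := mul_mem m0 ⟨_, val 0 1 (by decide)⟩
    rwa [← mul_assoc, h.sq, one_mul] at this
  have hS : S ≤ Φ.range := h.SM.trans (sup_le hM (zpowers_le.2 m1))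
  have hC : cen1 (t 0) ≤ nor Φ.range := fun g hg => by
    obtain ⟨m, hm, k⟩ := f3 g hg
    refine (mul_mem_cancel_left (le_normalizer (hM hm))).1 ?_
    refine mem_normalizer_of_cj_le (cj_le_iff.2 ?_)
    rintro _ ⟨x, rfl⟩
    obtain ⟨y, hy, e⟩ := gl.gen (((cj (m * g)⁻¹ Φ.range).comap Φ).map (Om Q).subtype)
      (fun j hj z hz => ⟨⟨z, hz.1⟩, cj_le_iff.1 (Ym j hj (cj (m * g) (Y j))
        (by rw [← cj_commutator, Yp]) (cj_le_of_le_of_mem (Yc j hj) (mem_centralizer_singleton_iff.2 (k j hj))))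
        ⟨⟨z, hz.1⟩, hz, rfl⟩, rfl⟩) x.2
    exact (Subtype.ext e : y = x) ▸ hy
  have o0 : orderOf (t 0) = 2 := orderOf_eq_prime (by rw [pow_two, h.sq]) n0
  have z2 : ∀ x : G, x * x = 1 → IsPGroup 2 (zpowers x) := fun x hx =>
    isPGroup_zpowers (k := 1) (by rw [pow_one, pow_two, hx])
  have s0 : t 0 ∈ S := h.syl.le_of_le_normalizer' (z2 _ (h.sq 0)) le_top (zpowers_le.2
    (centralizer_le_normalizer _ fun s hs => mem_centralizer_singleton_iff.1 (h.St hs)))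
    (mem_zpowers _)
  by_cases hP : nor Φ.range = ⊤
  · have := ((normalizer_eq_top_iff.1 hP).eq_bot_or_eq_top).resolve_left fun e => n0 (e.le m0)
    exact .inr (.inr ⟨(MulEquiv.ofBijective Φ ⟨inj, MonoidHom.range_eq_top.1 this⟩).symm⟩)
  have hf : ∀ g : G, g * t 0 * g⁻¹ ∈ nor Φ.range →
      ∃ x ∈ nor Φ.range, x * t 0 * x⁻¹ = g * t 0 * g⁻¹ := fun g hg => by
    have q2 : g * t 0 * g⁻¹ * (g * t 0 * g⁻¹) = 1 := by
      rw [conj_mul, h.sq, mul_one, mul_inv_cancel]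
    obtain ⟨p, hp, k⟩ := (h.syl.of_le (hS.trans le_normalizer) le_top).exists_cj_le (z2 _ q2)
      (zpowers_le.2 hg)
    obtain ⟨x, hx⟩ := hS (k (conj_mem_cj (mem_zpowers _)))
    have ic : IsConj (t 0) (Φ x) := isConj_iff.2 ⟨p * g, by rw [hx]; group⟩
    have x2 : x * x = 1 := inj (by rw [map_mul, hx, conj_mul, q2, mul_one, mul_inv_cancel, map_one])
    obtain ⟨y, hy, k⟩ := hIn F V Q c ε fr x x.2 (congrArg Subtype.val x2) fun e =>
      n0 (isConj_one_left.1 (by rwa [(Subtype.ext e : x = 1), map_one] at ic))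
    have ic' : ∀ w : Om Q, y * x * y⁻¹ = w → Φ ⟨y, hy⟩ * Φ x * (Φ ⟨y, hy⟩)⁻¹ = Φ w := fun w e => by
      rw [← map_inv, ← map_mul, ← map_mul]
      exact congrArg Φ (Subtype.ext e)
    rcases k with k | k | k
    · exact absurd (ic.trans (isConj_iff.2 ⟨_, (ic' (ρ 1 2) k).trans (val 1 2 (by decide))⟩)) h.nc2
    · refine absurd (ic.trans (isConj_iff.2 ⟨_, ic' (ρ 1 2 * ρ 3 4) k⟩)) fun k1 => h.nc3 (k1.trans ?_)
      obtain ⟨g, hg⟩ := h.tr (Equiv.swap 0 1 * Equiv.swap 2 5 * Equiv.swap 3 6 * Equiv.swap 0 4)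
        (by decide)
      have g1 : g * t 1 * g⁻¹ = t 0 := hg 1
      have g2 : g * t 2 * g⁻¹ = t 5 := hg 2
      have g3 : g * t 3 * g⁻¹ = t 6 := hg 3
      refine (isConj_iff.2 ⟨g, ?_⟩ : IsConj (t 1 * t 2 * t 3) _).symm
      rw [← conj_mul, ← conj_mul, g1, g2, g3, map_mul, val 1 2 (by decide), val 3 4 (by decide), e0,
        mul_assoc _ (t 5 * t 6), mul_assoc _ _ (t 6), h.com 5 6, mul_assoc (t 6), h.sq, mul_one, h.sq,
        mul_one]
    · have k1 := (ic' (ρ 1 2 * ρ 3 4 * ρ 5 6) k).trans v0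
      refine ⟨(Φ ⟨y, hy⟩ * p)⁻¹, inv_mem (mul_mem (le_normalizer ⟨_, rfl⟩) hp), ?_⟩
      rw [hx] at k1
      calc _ = (Φ ⟨y, hy⟩ * p)⁻¹ * (Φ ⟨y, hy⟩ * (p * (g * t 0 * g⁻¹) * p⁻¹) * (Φ ⟨y, hy⟩)⁻¹) *
            (Φ ⟨y, hy⟩ * p)⁻¹⁻¹ := by rw [k1]
        _ = _ := by group
  rcases H82.HT.holt hG _ hP (t 0) (le_normalizer m0) ⟨o0, h.syl.toSylowTop, s0, fun x hx =>
    mem_centralizer_singleton_iff.1 (h.St hx)⟩ hC hf with ⟨-, T, hT⟩ | ⟨n, h5, ⟨e⟩, -⟩
  · have gT : Φ.range ≤ nor T := le_normalizer.trans hT.le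
    have e : S = T := by
      have k := T.isPGroup'.to_sup_of_normal_left' h.syl.isPGroup (hS.trans gT)
      rw [← h.syl.eq_of_le k le_sup_right le_top, T.is_maximal' k le_sup_left]
    rcases sim (S.comap Φ) ⟨fun x hx g => by
      rw [mem_comap, map_mul, map_mul, map_inv]
      exact conj_mem_of_mem_normalizer (e ▸ gT ⟨g, rfl⟩ : Φ g ∈ nor S) hx⟩ with k | k
    · have : ρ 1 2 * ρ 3 4 * ρ 5 6 = 1 := k.le (show Φ _ ∈ S from v0 ▸ s0)
      exact absurd (by rw [← v0, this, map_one]) n0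
    · have := perf_bot h.perf (h.syl.isPGroup.to_le (hM.trans (by
        rintro _ ⟨x, rfl⟩
        exact k.ge (mem_top x))))
      refine absurd (this.le ?_) n0
      rw [e0]
      exact mul_mem (mul_mem (h.tt _ _ (by decide) (by decide)) (h.tt _ _ (by decide) (by decide)))
        (h.tt _ _ (by decide) (by decide))
  · rcases deg h.syl h.card h5 e with rfl | rfl
    exacts [.inl ⟨e⟩, .inr (.inl ⟨e⟩)]

end H21.R7T
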