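import Cfsg.Agent.H4.QeJ2
import Cfsg.Agent.H1.GBasic

/-! S3094, second Janko group: facts in the permutation model. -/

set_option autoImplicit false
set_option maxRecDepth 100000

namespace H21.JS

open Cfsg Subgroup H14 H98 H49 H71 H4 H4.M2 H4.QJ H1.Gold

theorem sq_of {H : Type*} [Group H] {x : H} {m k : ℕ} (hm : Odd m) (h1 : x ^ (2 * m) = 1)
    (h2 : x ^ 2 ^ k = 1) : x * x = 1 := by
  have e : orderOf (x ^ 2) ∣ 1 := by
    rw [← ((Nat.coprime_two_right.2 hm).pow_right k : m.Coprime (2 ^ k))]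
    exact Nat.dvd_gcd (orderOf_dvd_of_pow_eq_one (by rw [← pow_mul, h1]))
      (orderOf_dvd_of_pow_eq_one (by rw [← pow_mul, mul_comm, pow_mul, h2, one_pow]))
  rw [← pow_two]
  exact orderOf_eq_one_iff.1 (Nat.dvd_one.1 e)

theorem not_f1 : ¬ IsConj f1 (f1 * f1) := fun e => by
  obtain ⟨c, e⟩ := isConj_iff.1 e
  let P : Sylow 5 X := Sylow.ofCard P5 (by rw [card_P5, M2.card]; decide +kernel)
  have h1 : ∀ x ∈ P5, x ∈ centralizer (P : Set X) := fun x hx => cent_P5.ge hx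
  obtain ⟨n, hn, e'⟩ := P.conj_eq_normalizer_conj_of_mem_centralizer f1 c⁻¹ (h1 _ f1_mem)
    (by rw [inv_inv, e]; exact h1 _ (mul_mem f1_mem f1_mem))
  exact (by decide +kernel : ∀ n ∈ LN5, n⁻¹ * f1 * n ≠ f1 * f1) n (mem_N5.1 (norm_P5 ▸ hn))
    (by rw [← e', inv_inv, e])

/-- An automorphism fixing an element of order five is inner. -/
theorem inn5 {θ : MulAut X} {f : X} (o : orderOf f = 5) (h : θ f = f) : ∃ c, θ = MulAut.conj c := by
  obtain ⟨x, rfl | rfl⟩ := dec θ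
  · exact ⟨x, rfl⟩
  exfalso
  obtain ⟨d, hd⟩ := five_conj o
  have key : ∀ w ∈ zpowers (d * f * d⁻¹), IsConj (tau w) w := by
    rintro _ ⟨k, rfl⟩
    refine isConj_iff.2 ⟨d * x * (tau d)⁻¹, ?_⟩
    conv_rhs => rw [← h]
    simp only [conj_zpow, map_mul, map_inv, map_zpow, MulAut.mul_apply, MulAut.conj_apply]
    group
  rcases hd with e | e
  · have := key f1 (e ▸ mem_zpowers _)
    rw [tau_eq.2 (by decide +kernel : emb (wd gens [9, 8, 4, 2, 1] * (f1 * f1) *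
      (wd gens [9, 8, 4, 2, 1])⁻¹) * QJ.sig = QJ.sig * emb f1)] at this
    exact not_f1 ((isConj_iff.2 ⟨_, rfl⟩).trans this).symm
  · have := key f2 (e ▸ mem_zpowers _)
    rw [tau_eq.2 (by decide +kernel : emb (q * p * (f2 * f2) * (q * p)⁻¹) * QJ.sig = QJ.sig * emb f2)] at this
    exact not_f2 ((isConj_iff.2 ⟨_, rfl⟩).trans this).symm

theorem conj5 {H : Type} [Group H] [Finite H] {K : Subgroup H} {m : ℕ} (hK : Nat.card K = 5 ^ 1 * m)
    (hm : ¬ 5 ∣ m) {e f : H} (he : e ∈ K) (hf : f ∈ K) (oe : orderOf e = 5) (o : orderOf f = 5) :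
    ∃ d ∈ K, d * f * d⁻¹ ∈ zpowers e ∧ ∀ c, c * f = f * c → d * c * d⁻¹ * e = e * (d * c * d⁻¹) := by
  have h1 : Nat.card (zpowers e) = 5 ^ 1 := by rw [Nat.card_zpowers, oe, pow_one]
  obtain ⟨d, hd, h⟩ := exists_conj_mem' (zpowers_le.2 he) h1 hK hm (x := f) (k := 1)
    (by rw [pow_one, ← o, pow_orderOf_eq_one]) hf
  refine ⟨d, hd, h, fun c hc => (mem_cent_zpowers.2 (conj_comm hc) e ?_).symm⟩
  rw [(H4.eq_zpowers (r := 5) h1 h fun e => by simp [show f = 1 by simpa using e] at o).2]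
  exact mem_zpowers e

theorem z5 {c f : X} (cz : c * z = z * c) (fz : f * z = z * f) (o : orderOf f = 5)
    (cf : c * f = f * c) {k : ℕ} (h : c ^ 2 ^ k = 1) : c = 1 ∨ c = z := by
  obtain ⟨v, rfl⟩ := pull cz
  obtain ⟨w, rfl⟩ := pull fz
  obtain ⟨d, -, -, e⟩ := conj5 (K := ⊤) (m := 384) (card_top.trans X1.card) (by norm_num)
    (mem_top X1.f) (mem_top w) (orderOf_eq_prime (by decide +kernel) (by decide +kernel))
    ((orderOf_injective _ jm.inj w).symm.trans o)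
  obtain ⟨h1, h2⟩ := X1.all (P := fun v => v * X1.f = X1.f * v → v ^ (2 * 5) = 1 ∧
    (v * v = 1 → v = 1 ∨ v = X1.z)) (by decide +kernel) _
    (e v (jm.inj (by rw [map_mul, map_mul, cf])))
  rcases h2 (sq_of (k := k) (by decide) h1 (by
    rw [conj_pow, show v ^ 2 ^ k = 1 from jm.inj (by rw [map_pow, h, map_one])]; simp)) with e | e
  · exact .inl (by rw [conj_eq_one_iff.1 e, map_one])
  · rw [mul_inv_eq_iff_eq_mul, ← z_cent, mul_right_inj] at e
    exact .inr (e ▸ io_z)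

theorem all_a {P : X → Prop} [DecidablePred P]
    (hP : allProd (trs bL0) (fun x => decide (P x)) = true) {c : X} (hc : c * a = a * c) : P c := by
  have e0 : closure {s | s ∈ SB0} = closure {s | s ∈ [a, b, z, u]} := by
    unfold SB0 SB1 sB1; rw [UG.litL_eq]; exact closure_append_wd _ _
  exact forall_of_chain bL_ub hP (e0 ▸ cent_a hc :)

theorem a_b {c : X} (hc : c * a = a * c) : c * b = b * c :=
  all_a (P := fun c => c * b = b * c) (by decide +kernel) hc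

theorem a_sq {c : X} (hc : c * a = a * c) {k : ℕ} (h : c ^ 2 ^ k = 1) : c * c = 1 :=
  (cent_a_ord hc).elim (fun e => sq_of (m := 3) (by decide) e h) fun e => sq_of (m := 5) (by decide) e h

theorem conj_a {f : X} (fa : f * a = a * f) (o : orderOf f = 5) :
    ∃ d, d * a = a * d ∧ d * f * d⁻¹ ∈ zpowers (z * u) ∧
      ∀ c, c * f = f * c → d * c * d⁻¹ * (z * u) = z * u * (d * c * d⁻¹) := by
  obtain ⟨d, hd, h⟩ := conj5 (K := cen1 a) (m := 48) card_a (by norm_num) (e := z * u)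
    (mem_cen1.2 (by decide +kernel)) (mem_cen1.2 fa)
    (orderOf_eq_prime (by decide +kernel) (by decide +kernel)) o
  exact ⟨d, mem_cen1.1 hd, h⟩

theorem a5 {c f : X} (ca : c * a = a * c) (fa : f * a = a * f) (o : orderOf f = 5)
    (cf : c * f = f * c) {k : ℕ} (h : c ^ 2 ^ k = 1) : c = 1 ∨ c = a ∨ c = b ∨ a * c = b := by
  obtain ⟨d, hd, -, e⟩ := conj_a fa o
  have h1 : d * c * d⁻¹ * a = a * (d * c * d⁻¹) :=
    mem_cen1.1 (mul_mem (mul_mem (mem_cen1.2 hd) (mem_cen1.2 ca)) (inv_mem (mem_cen1.2 hd)))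
  have k1 : ∀ v, d * v = v * d → d * c * d⁻¹ = v → c = v := fun v h e => by
    rwa [mul_inv_eq_iff_eq_mul, ← h, mul_right_inj] at e
  rcases all_a (P := fun c => c * (z * u) = z * u * c → c * c = 1 → c = 1 ∨ c = a ∨ c = b ∨ c = a⁻¹ * b)
    (by decide +kernel) h1 (e c cf) (by rw [conj_mul, a_sq ca h]; simp) with e | e | e | e
  · exact .inl (k1 _ (by simp) e)
  · exact .inr (.inl (k1 _ hd e))
  · exact .inr (.inr (.inl (k1 _ (a_b hd) e)))
  · refine .inr (.inr (.inr ?_))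
    rw [k1 _ ((Commute.inv_right hd).mul_right (a_b hd)).eq e, mul_inv_cancel_left]

theorem mV {η : MulAut X} (h1 : η a = a) (h2 : η b = b) : ∃ c, c * a = a * c ∧ η = MulAut.conj c := by
  obtain ⟨x, rfl | rfl⟩ := dec η
  · exact ⟨x, mul_inv_eq_iff_eq_mul.1 h1, rfl⟩
  rw [MulAut.mul_apply, MulAut.conj_apply] at h1 h2
  rw [tau_eq.2 (by decide +kernel : emb (q * g * a * (q * g)⁻¹) * QJ.sig = QJ.sig * emb a)] at h1
  rw [tau_eq.2 (by decide +kernel : emb (q * g * (a * b) * (q * g)⁻¹) * QJ.sig = QJ.sig * emb b)] at h2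
  generalize q * g = k at h1 h2
  have h3 : x * k * a = a * (x * k) := mul_inv_eq_iff_eq_mul.1 (.trans (by group) h1)
  have h4 : x * k * (a * b) * (x * k)⁻¹ = b := .trans (by group) h2
  rw [((show Commute _ _ from h3).mul_right (a_b h3)).eq, mul_inv_cancel_right] at h4
  exact absurd h4 (by decide +kernel)

theorem mB {c e : X} (ca : c * a = a * c) (ea : e * a = a * e) (c5 : c ^ 5 = 1) (e5 : e ^ 5 = 1)
    (h1 : e * c * (e * c) = 1) (h2 : e * c ≠ 1) : IsConj z (e * c) := by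
  have key : ∀ {c}, c * a = a * c → c ^ 5 = 1 → ∀ i ∈ List.range 5, (z * u) ^ i * c * ((z * u) ^ i * c) = 1 →
      (z * u) ^ i * c = 1 ∨ (z * u) ^ i * c ∈ LZ := fun hc =>
    all_a (P := fun c => c ^ 5 = 1 → ∀ i ∈ List.range 5, (z * u) ^ i * c * ((z * u) ^ i * c) = 1 →
      (z * u) ^ i * c = 1 ∨ (z * u) ^ i * c ∈ LZ) (by decide +kernel) hc
  by_cases e1 : e = 1
  · exact LZ_iff.1 (by simpa [e1] using
      (key ca c5 0 (by simp) (by simpa [e1] using h1)).resolve_left (by simpa [e1] using h2))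
  obtain ⟨d, hd, h, -⟩ := conj_a ea (orderOf_eq_prime e5 e1)
  classical
  obtain ⟨i, hi, h⟩ := Finset.mem_image.1 (mem_zpowers_iff_mem_range_orderOf.1 h)
  rw [show orderOf (z * u) = 5 from orderOf_eq_prime (by decide +kernel) (by decide +kernel)] at hi
  have := key (c := d * c * d⁻¹) (mem_cen1.1 (mul_mem (mul_mem (mem_cen1.2 hd) (mem_cen1.2 ca))
    (inv_mem (mem_cen1.2 hd)))) (by rw [conj_pow, c5]; simp) i (by simpa using hi)
    (by rw [h, conj_mul, conj_mul, h1]; simp)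
  rw [h, conj_mul] at this
  exact (LZ_iff.1 (this.resolve_left (mt conj_eq_one_iff.1 h2))).trans (isConj_iff.2 ⟨_, rfl⟩).symm

theorem gz {B : Subgroup X} (h1 : cen1 z ≤ B) (h2 : (∀ s ∈ gens.tail, s ∈ B) → g ∈ B) : ⊤ ≤ B := by
  have h3 : ∀ s ∈ gens.tail, s ∈ B := fun s hs =>
    h1 (mem_cen1.2 ((by decide +kernel : ∀ s ∈ gens.tail, s * z = z * s) s hs))
  rw [← gens_top, closure_le]
  exact fun s hs => ((by decide +kernel : ∀ s ∈ gens, s = g ∨ s ∈ gens.tail) s hs).elim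
    (fun e => e ▸ h2 h3) (h3 s)

theorem gA {B : Subgroup X} (h1 : cen1 z ≤ B) (h2 : cen1 p ≤ B) : ⊤ ≤ B := gz h1 fun h => by
  simpa using mul_mem (h q (by decide +kernel))
    (h2 (mem_cen1.2 (by decide +kernel : q⁻¹ * g * p = p * (q⁻¹ * g))))

theorem gB {B : Subgroup X} (h1 : cen1 a ≤ B) (h2 : cen1 z ≤ B) : ⊤ ≤ B := gz h2 fun h => by
  rw [(by decide +kernel : g = wd (u :: gens.tail) [0, 7, 0, 7, 2, 0, 1, 2])]
  exact wd_mem (K := B.toSubmonoid)
    (List.forall_mem_cons.2 ⟨h1 (mem_cen1.2 (by decide +kernel)), h⟩) _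

theorem mA : ∃ f y c : X, f * z = z * f ∧ y * z = z * y ∧ c * z = z * c ∧ f ^ 5 = 1 ∧ y ^ 4 = 1 ∧
    y * y ≠ 1 ∧ y * y = f * (c * f * c⁻¹) ∧ y * y = p :=
  ⟨a * h, q * t * a, r * s * a, by decide +kernel⟩

theorem mS : ∃ f d : X, f * a = a * f ∧ u * a = a * u ∧ f ^ 5 = 1 ∧ z = f * (u * (f * f) * u⁻¹) ∧
    z ≠ 1 ∧ z * z = 1 ∧ b * z = z * b ∧ d * a * d⁻¹ = a * z ∧ b * a = a * b ∧ b ≠ 1 ∧ b ≠ a :=
  ⟨u * z * u, r * q, by decide +kernel⟩

theorem tau_z : tau z = z := tau_eq.2 (by decide +kernel)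

theorem mO : h * (h * z)⁻¹ = z ∧ z ≠ 1 ∧ z * z = 1 := by decide +kernel

end H21.JS
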