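import Cfsg.Agent.H63.A8Def
import Cfsg.Agent.H67.SAInd

/-! A8S (row S3152), slot HB: in the Higman-Sims configuration the centraliser of `W` does not
induce all translations of `t W`. -/

set_option autoImplicit false

namespace H21.A8HB

open H64.SG (O2 Syl Cz Cs Ns cjs Is2 Inv2 mem_Cz mem_Cs)
open H67.SA H63.A8 Subgroup
open H32.HS (U el A V)

universe u

/-! ### The model -/

/-- conjugation by `s = t c` -/
def sg (u : U) : U := tau (el 192 * u * (el 192)⁻¹)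

theorem m1 : ∀ s : U, tau s * s⁻¹ ∈ A := by decide +kernel
theorem m1' : ∀ s : U, s ∈ A → tau s ∈ A := by decide +kernel
theorem m2 : ∀ v : U, v ∈ V → ∃ w : U, w ∈ A ∧ tau w * w⁻¹ = v := by decide +kernel
theorem m3 : tau (el 192) = el 192 ∧ el 192 * el 192 = 1 := by decide +kernel
theorem m4 : ∀ u ∈ [el 22, el 3, el 22 * el 3], u ∈ A ∧ u ∉ V ∧ u * (sg u)⁻¹ ∈ V := by
  decide +kernel
theorem m5 : ∀ a : U, a ∈ A → sg a = a⁻¹ → ∀ b : U, b ∈ A → sg b = b⁻¹ →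
    ∃ μ ∈ [a, b, b * a], ∃ w ∈ [el 0, el 1, el 2, el 3, el 4, el 5, el 6, el 7, el 16, el 17,
      el 20, el 21], w ∈ A ∧ w * (sg w)⁻¹ * μ = 1 := by decide +kernel
theorem m6 : ∀ w : U, w ∈ A → tau w * w⁻¹ ∈ V := by decide +kernel
theorem m7 : ∀ u : U, (∀ w ∈ [el 1, el 4, el 16], u * w = w * u) → u ∈ A := by decide +kernel
theorem m8 : ∀ u : U, ¬ ∀ w ∈ [el 1, el 4, el 16], u * tau w = w * u := by decide +kernel
theorem m9 : ∀ w ∈ [el 1, el 4, el 16], w ∈ A := by decide +kernel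
theorem m10 : Nat.card {u : U // tau u * el 192 = el 192 * u} = 128 :=
  (H32.HS.card_eq _).trans (by decide +kernel)

/-! ### The group theory -/

section Core

variable {G : Type u} [Group G]

/-- `y t y⁻¹ = t δ(y)` -/
def dl (t y : G) : G := t⁻¹ * (y * t * y⁻¹)

theorem dl_mul (t a b : G) : dl t (a * b) = dl t a * (a * dl t b * a⁻¹) := by
  simp only [dl]; group

theorem dl_inv (t a : G) : dl t a⁻¹ = a⁻¹ * (dl t a)⁻¹ * a := by
  simp only [dl]; group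

/-- `N(W) ∩ N(W ⟨t⟩)` -/
def N2 (t : G) (W : Subgroup G) : Subgroup G where
  carrier := {y | y ∈ Ns W ∧ dl t y ∈ W}
  one_mem' := ⟨one_mem _, by simp [dl]⟩
  mul_mem' := fun {a b} ha hb => ⟨mul_mem ha.1 hb.1, by
    rw [dl_mul]; exact mul_mem ha.2 (H98.conj_mem_of_mem_normalizer ha.1 hb.2)⟩
  inv_mem' := fun {a} ha => ⟨inv_mem ha.1, by
    rw [dl_inv]
    simpa using H98.conj_mem_of_mem_normalizer (inv_mem ha.1) (inv_mem ha.2)⟩

/-- `C(W) ∩ N(W ⟨t⟩)` -/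
abbrev C2 (t : G) (W : Subgroup G) : Subgroup G := N2 t W ⊓ Cs W

theorem dl_mul2 {t : G} {W : Subgroup G} {a b : G} (ha : a ∈ C2 t W) (hb : b ∈ C2 t W) :
    dl t (a * b) = dl t a * dl t b := by
  rw [dl_mul, ← ha.2 _ hb.1.2, mul_inv_cancel_right]

/-- `δ` -/
def dH (t : G) (W : Subgroup G) : C2 t W →* G :=
  MonoidHom.mk' (fun y => dl t y) fun a b => dl_mul2 a.2 b.2

theorem conj_C2 {t : G} {W : Subgroup G} {g y : G} (hg : g ∈ N2 t W) (hy : y ∈ C2 t W) :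
    g * y * g⁻¹ ∈ C2 t W := by
  refine ⟨(N2 t W).mul_mem ((N2 t W).mul_mem hg hy.1) ((N2 t W).inv_mem hg), fun w hw => ?_⟩
  have h1 := hy.2 _ (H98.conj_mem_of_mem_normalizer (inv_mem hg.1) hw)
  rw [inv_inv] at h1
  calc w * (g * y * g⁻¹) = g * (g⁻¹ * w * g * y) * g⁻¹ := by group
    _ = g * (y * (g⁻¹ * w * g)) * g⁻¹ := by rw [h1]
    _ = g * y * g⁻¹ * w := by group

variable [Finite G]

theorem N2_le_Ns (t : G) (W : Subgroup G) : N2 t W ≤ Ns (C2 t W) := fun g hg =>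
  H98.mem_normalizer_of_cj_le (by rintro _ ⟨y, hy, rfl⟩; exact conj_C2 hg hy)

theorem exists_R {t : G} {W S : Subgroup G} (hW : IsPGroup 2 W) (hS : IsPGroup 2 S)
    (h : S ≤ N2 t W) (tw : TW t W) : ∃ R : Subgroup G, IsPGroup 2 R ∧ S ≤ R ∧ R ≤ N2 t W ∧
      ∀ w ∈ W, ∃ y ∈ R, y ∈ C2 t W ∧ dl t y = w := by
  obtain ⟨R, hR, h1⟩ := H98.exists_isSyl_le hS h
  refine ⟨R, hR.isPGroup, h1, hR.le, fun w hw => ?_⟩
  have h2 := (hR.inf_of_le_normalizer (N := C2 t W) inf_le_left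
    (hR.le.trans (N2_le_Ns t W))).subgroupOf_top.map (dH t W)
  have h3 := h2.eq_of_isPGroup (hW.to_le (by rintro _ ⟨y, -, rfl⟩; exact y.2.1.2))
  obtain ⟨y, hy, e⟩ := tw w hw
  have h4 : dl t y = w := by rw [dl, e, inv_mul_cancel_left]
  have h5 : y ∈ C2 t W := ⟨⟨H64.SG.Cs_le_Ns W hy, h4 ▸ hw⟩, hy⟩
  have h6 : w ∈ (⊤ : Subgroup (C2 t W)).map (dH t W) := ⟨⟨y, h5⟩, trivial, h4⟩
  rw [← h3] at h6
  obtain ⟨z, hz, e'⟩ := h6
  exact ⟨z, hz.1, z.2, e'⟩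

theorem core (φ : U →* G) (t : G) (inj : Function.Injective φ) (tt : t * t = 1)
    (ta : ∀ s, t * φ s * t⁻¹ = φ (tau s)) (nt : t ∉ φ.range)
    (K : ∀ y ∈ Cz t, y ∈ Cs (A.map φ) → Is2 y → y ∈ A.map φ) (tw : TW t (A.map φ))
    (sz : ∀ P ≤ Cz (t * φ (el 192)), IsPGroup 2 P → Nat.card P ≤ 256) : False := by
  have ti : t⁻¹ = t := inv_eq_of_mul_eq_one_right tt
  have ta' : ∀ s, t * φ s = φ (tau s) * t := fun s => by rw [← ta]; group
  have ta'' : ∀ s, φ s * t = t * φ (tau s) := fun s => by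
    rw [← ta, ← mul_assoc, ← mul_assoc, tt, one_mul, ti]
  have dφ : ∀ s, dl t (φ s) = φ (tau s * s⁻¹) := fun s => by
    rw [dl, ta'', map_mul, map_inv]; group
  have pU : IsPGroup 2 U := IsPGroup.of_card (n := 9) H32.HS.card
  have pS0 : IsPGroup 2 φ.range := pU.of_surjective _ φ.rangeRestrict_surjective
  have pW : IsPGroup 2 (A.map φ) := pS0.to_le (map_le_range _ _)
  have tN : t ∈ Ns φ.range := H98.mem_normalizer_of_cj_le (by
    rintro _ ⟨_, ⟨s, rfl⟩, rfl⟩; exact ⟨_, (ta s).symm⟩)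
  have pS : IsPGroup 2 ↥(φ.range ⊔ zpowers t) :=
    pS0.to_sup_of_normal_left' (H64.SG.is2_of_sq tt).zpowers (zpowers_le.2 tN)
  have φN : ∀ s, φ s ∈ N2 t (A.map φ) := fun s =>
    ⟨H98.mem_normalizer_of_cj_le (by
      rintro _ ⟨_, ⟨w, hw, rfl⟩, rfl⟩
      exact ⟨s * w * s⁻¹, (inferInstance : A.Normal).conj_mem w hw s, by simp⟩),
      dφ s ▸ mem_map_of_mem φ (m1 s)⟩
  have tN2 : t ∈ N2 t (A.map φ) :=
    ⟨H98.mem_normalizer_of_cj_le (by
      rintro _ ⟨_, ⟨w, hw, rfl⟩, rfl⟩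
      exact ⟨tau w, m1' w hw, (ta w).symm⟩), by simp [dl]⟩
  obtain ⟨R, pR, SR, RN, onto⟩ := exists_R pW pS
    (sup_le (by rintro _ ⟨s, rfl⟩; exact φN s) (zpowers_le.2 tN2)) tw
  have φR : ∀ s, φ s ∈ R := fun s => SR (mem_sup_left ⟨s, rfl⟩)
  have tR : t ∈ R := SR (mem_sup_right (mem_zpowers t))
  have WC : ∀ w ∈ A, φ w ∈ C2 t (A.map φ) := fun w hw => ⟨φN w, by
    rintro _ ⟨u, hu, rfl⟩
    rw [← map_mul, ← map_mul, H32.HS.A_comm u hu w hw]⟩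
  -- elements of `D` with `δ ∈ V` lie in `W`
  have K1 : ∀ y ∈ R, y ∈ C2 t (A.map φ) → ∀ v ∈ V, dl t y = φ v → y ∈ A.map φ := by
    intro y yR yC v hv e
    obtain ⟨w, hw, rfl⟩ := m2 v hv
    have h1 : (φ w)⁻¹ * y ∈ C2 t (A.map φ) := mul_mem (inv_mem (WC w hw)) yC
    have h2 : dl t ((φ w)⁻¹ * y) = 1 := by
      have := dl_mul2 (WC w hw) h1
      rw [mul_inv_cancel_left, e, dφ] at this
      exact (mul_eq_left.1 this.symm)
    have h3 : (φ w)⁻¹ * y ∈ Cz t := by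
      rw [mem_Cz]
      rw [dl, inv_mul_eq_one, eq_mul_inv_iff_mul_eq] at h2
      exact h2
    have h4 := K _ h3 h1.2 (H64.SG.isPGroup_iff_is2.1 pR _ (mul_mem (inv_mem (φR w)) yR))
    simpa using mul_mem (mem_map_of_mem φ hw) h4
  set s := t * φ (el 192) with hs
  have sR : s ∈ R := mul_mem tR (φR _)
  have tc : t * φ (el 192) = φ (el 192) * t := by rw [ta', m3.1]
  have ss : s * s = 1 := by
    calc s * s = t * (φ (el 192) * t) * φ (el 192) := by rw [hs]; group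
      _ = t * t * (φ (el 192) * φ (el 192)) := by rw [← tc]; group
      _ = 1 := by rw [tt, ← map_mul, m3.2, map_one, one_mul]
  have si : s⁻¹ = s := inv_eq_of_mul_eq_one_right ss
  have st : s * t = t * s := by rw [hs, mul_assoc, ← tc]
  have sφ : ∀ u, s * φ u * s⁻¹ = φ (sg u) := fun u => by
    rw [sg, ← ta, hs, map_mul, map_mul, map_inv]; group
  have ds : dl t s = 1 := by rw [dl, st]; group
  -- the map `m`
  have mm : ∀ y ∈ R, y ∈ C2 t (A.map φ) → ∀ u, dl t y = φ u → u * (sg u)⁻¹ ∈ V →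
      ∃ μ ∈ A, sg μ = μ⁻¹ ∧ y * s * y⁻¹ * s⁻¹ = φ μ := by
    intro y yR yC u e hu
    have h0 : s * y⁻¹ * s⁻¹ ∈ C2 t (A.map φ) := conj_C2 (RN sR) (inv_mem yC)
    have h1 : y * (s * y⁻¹ * s⁻¹) ∈ C2 t (A.map φ) := mul_mem yC h0
    have h2 : dl t y⁻¹ = (φ u)⁻¹ := by
      rw [← e]; exact map_inv (dH t (A.map φ)) ⟨y, yC⟩
    have h3 : dl t (s * y⁻¹ * s⁻¹) = (φ (sg u))⁻¹ := by
      have ds' : dl t s⁻¹ = 1 := by rw [si, ds]
      rw [dl_mul, dl_mul, ds', ds, h2, ← sφ]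
      group
    have h4 : dl t (y * (s * y⁻¹ * s⁻¹)) = φ (u * (sg u)⁻¹) := by
      rw [dl_mul2 yC h0, h3, e, map_mul, map_inv]
    obtain ⟨μ, hμ, e'⟩ := K1 _ (mul_mem yR (mul_mem (mul_mem sR (inv_mem yR)) (inv_mem sR))) h1 _ hu h4
    refine ⟨μ, hμ, inj ?_, by rw [e']; group⟩
    rw [← sφ, map_inv, e', si]
    calc s * (y * (s * y⁻¹ * s)) * s = s * y * s * y⁻¹ * (s * s) := by group
      _ = s * y * s⁻¹ * y⁻¹ := by rw [ss, si, mul_one]
      _ = s⁻¹ * y * s⁻¹ * y⁻¹ := by rw [si]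
      _ = _ := by group
  -- an element of `D ∩ C(s)` outside `S`
  have ex : ∃ v ∈ R, v ∈ C2 t (A.map φ) ∧ v ∈ Cz s ∧ ∀ u ∈ V, dl t v ≠ φ u := by
    have key : ∀ y ∈ R, y ∈ C2 t (A.map φ) → ∀ u, u ∉ V → dl t y = φ u → ∀ μ,
        y * s * y⁻¹ * s⁻¹ = φ μ → ∀ w ∈ A, w * (sg w)⁻¹ * μ = 1 →
        ∃ v ∈ R, v ∈ C2 t (A.map φ) ∧ v ∈ Cz s ∧ ∀ u ∈ V, dl t v ≠ φ u := by
      intro y yR yC u hu e μ e1 w hw e2
      refine ⟨y * φ w, mul_mem yR (φR w), mul_mem yC (WC w hw), ?_, fun u' hu' e3 => hu ?_⟩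
      · have h1 : φ w * s * (φ w)⁻¹ * s⁻¹ = φ (w * (sg w)⁻¹) := by
          rw [map_mul, map_inv, ← sφ]; group
        have h2 : w * (sg w)⁻¹ ∈ A := mul_mem hw (inv_mem (m1' _
          ((inferInstance : A.Normal).conj_mem w hw _)))
        have h3 := yC.2 _ (mem_map_of_mem φ h2)
        rw [mem_Cz, eq_comm, ← mul_inv_eq_one, mul_inv_rev]
        calc y * φ w * s * ((y * φ w)⁻¹ * s⁻¹)
            = y * (φ w * s * (φ w)⁻¹ * s⁻¹) * y⁻¹ * (y * s * y⁻¹ * s⁻¹) := by group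
          _ = φ (w * (sg w)⁻¹ * μ) := by
            rw [h1, e1, ← h3, mul_inv_cancel_right, ← map_mul]
          _ = 1 := by rw [e2, map_one]
      · rw [dl_mul2 yC (WC w hw), e, dφ, ← map_mul] at e3
        have h1 := mul_mem hu' (inv_mem (m6 w hw))
        rwa [← inj e3, mul_inv_cancel_right] at h1
    obtain ⟨a2, b2, c2⟩ := m4 (el 22) (by simp)
    obtain ⟨a3, b3, c3⟩ := m4 (el 3) (by simp)
    obtain ⟨-, b4, -⟩ := m4 (el 22 * el 3) (by simp)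
    obtain ⟨y2, r2, d2, e2⟩ := onto _ (mem_map_of_mem φ a2)
    obtain ⟨y3, r3, d3, e3⟩ := onto _ (mem_map_of_mem φ a3)
    obtain ⟨μ2, f2, g2, k2⟩ := mm y2 r2 d2 _ e2 c2
    obtain ⟨μ3, f3, g3, k3⟩ := mm y3 r3 d3 _ e3 c3
    obtain ⟨μ, hμ, w, -, hw, e⟩ := m5 μ2 f2 g2 μ3 f3 g3
    simp only [List.mem_cons, List.not_mem_nil, or_false] at hμ
    rcases hμ with rfl | rfl | rfl
    · exact key y2 r2 d2 _ b2 e2 _ k2 w hw e
    · exact key y3 r3 d3 _ b3 e3 _ k3 w hw e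
    · refine key (y2 * y3) (mul_mem r2 r3) (mul_mem d2 d3) _ b4
        (by rw [dl_mul2 d2 d3, e2, e3, map_mul]) _ ?_ w hw e
      have h3 := d2.2 _ (mem_map_of_mem φ f3)
      calc y2 * y3 * s * (y2 * y3)⁻¹ * s⁻¹
          = y2 * (y3 * s * y3⁻¹ * s⁻¹) * y2⁻¹ * (y2 * s * y2⁻¹ * s⁻¹) := by group
        _ = φ (μ3 * μ2) := by rw [k2, k3, ← h3, mul_inv_cancel_right, ← map_mul]
  obtain ⟨v, vR, vC, vs, vd⟩ := ex
  have v1 : ∀ u, v ≠ φ u := by
    rintro u rfl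
    refine vd _ (m6 u (m7 u fun w hw => inj ?_)) (dφ u)
    rw [map_mul, map_mul]
    exact (vC.2 _ (mem_map_of_mem φ (m9 w hw))).symm
  have v2 : ∀ u, v ≠ φ u * t := by
    rintro u rfl
    refine m8 u fun w hw => inj ?_
    have h1 := vC.2 _ (mem_map_of_mem φ (m9 w hw))
    rw [mul_assoc (φ u), ta', ← mul_assoc, ← mul_assoc, mul_left_inj] at h1
    rw [map_mul, map_mul, h1]
  have cs : ∀ u : U, tau u * el 192 = el 192 * u → φ u ∈ Cz s := fun u hu => by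
    rw [mem_Cz, hs, ← mul_assoc, ta'', mul_assoc, mul_assoc, ← map_mul, ← map_mul, hu]
  have tcs : t ∈ Cz s := mem_Cz.2 st
  let f : Option ({u : U // tau u * el 192 = el 192 * u} ⊕ {u : U // tau u * el 192 = el 192 * u}) →
      ↥(R ⊓ Cz s) := fun o => match o with
    | none => ⟨v, vR, vs⟩
    | some (Sum.inl u) => ⟨φ u, φR u, cs u u.2⟩
    | some (Sum.inr u) => ⟨φ u * t, mul_mem (φR u) tR, mul_mem (cs u u.2) tcs⟩
  have ne : ∀ a b : U, φ a ≠ φ b * t := fun a b h =>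
    nt ⟨b⁻¹ * a, by rw [map_mul, map_inv, h, inv_mul_cancel_left]⟩
  have fi : Function.Injective f := by
    rintro (_ | a | a) (_ | b | b) h <;> have h' := congrArg Subtype.val h
    · rfl
    · exact absurd h' (v1 _)
    · exact absurd h' (v2 _)
    · exact absurd h'.symm (v1 _)
    · rw [Subtype.ext (inj h')]
    · exact absurd h' (ne _ _)
    · exact absurd h'.symm (v2 _)
    · exact absurd h'.symm (ne _ _)
    · rw [Subtype.ext (inj (mul_right_cancel h'))]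
  have h1 := Nat.card_le_card_of_injective f fi
  have h2 := sz _ inf_le_right (pR.to_le (inf_le_left : R ⊓ Cz s ≤ R))
  rw [Finite.card_option, Nat.card_sum, m10] at h1
  omega

end Core

theorem jobHB (A' : J8FA) (C : J8FC) (AB : J8AB.{u}) : J8HB.{u} := by
  intro n F _ _ _ hp G _ _ e t w₁ w₂ w₃ φ c hc m tw
  have hn := hp.two_le
  have fa := A' n F hp
  have fc := C n F hp
  rw [← m.mA] at tw
  have VW : (Er n F).map e ≤ A.map φ := m.mV ▸ map_mono H32.HS.V_le_A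
  refine core φ t m.inj c.inv.1 m.ta m.nt (fun y yt yW y2 => ?_) tw (fun P hP pP => ?_)
  · obtain ⟨β, hβ⟩ := exists_ind hn c.ker (c.cz yt)
    have h1 : ∀ a ∈ Er n F, β a = a := hβ.fix_Pat c.ker (centralizer_le VW yW)
    obtain ⟨ζ, hζ, rfl⟩ := mem_cI.1 (fa.ctM 1 le_rfl (by omega) β (by rwa [Ml_one]))
    rw [Ml_one] at hζ
    have h2 := ind_conj_iff.1 hβ
    have h3 : e ζ ∈ A.map φ := VW (mem_map_of_mem e hζ)
    have pU : IsPGroup 2 U := IsPGroup.of_card (n := 9) H32.HS.card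
    have pW : IsPGroup 2 (A.map φ) := (pU.to_subgroup A).map φ
    have h4 : Is2 (y * (e ζ)⁻¹) := y2.mul (H64.SG.isPGroup_iff_is2.1 pW _ h3).inv
      (yW _ (inv_mem h3)).symm
    have h5 := mem_Cz.1 (mul_mem yt (inv_mem (c.mem_Cz ζ)))
    rcases c.eq_or h2 h4 h5 with h | h
    · rw [mul_inv_eq_one] at h; exact h ▸ h3
    · exfalso
      have h6 : t ∈ Cs (A.map φ) := by
        rw [← h]
        refine mul_mem yW (inv_mem ?_)
        obtain ⟨w, hw, e1⟩ := h3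
        rintro _ ⟨u, hu, rfl⟩
        rw [← e1, ← map_mul, ← map_mul, H32.HS.A_comm u hu w hw]
      refine m8 1 fun w hw => m.inj ?_
      rw [one_mul, mul_one, ← m.ta, ← h6 _ (mem_map_of_mem φ (m9 w hw)), mul_inv_cancel_right]
  · have n3 : n = 3 := hp.three
    have l0 : (0 : Fin (n + 1)) ≠ la n := by
      rw [Ne, Fin.ext_iff, Fin.val_zero, Fin.val_last]; omega
    have l1 : (1 : Fin (n + 1)) ≠ la n := by subst n3; decide
    obtain ⟨p, -, hp'⟩ := fc.trc (x 0 (la n) 1) (x_mem_Pat (S := fun _ b => b = la n) rfl 1)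
      (x 1 (la n) 1) (x_mem_Pat (S := fun _ b => b = la n) rfl 1)
      (by rw [Ne, x_eq_one l0]; exact one_ne_zero) (by rw [Ne, x_eq_one l1]; exact one_ne_zero)
    have h1 : w₃ * t * w₃⁻¹ = t * e (x 0 (la n) 1) := by
      have h2 : w₃ * t = t * w₃⁻¹ := by
        rw [← hc.t3, ← mul_assoc, ← mul_assoc, c.inv.1, one_mul, c.inv_eq]
      rw [h2, mul_assoc, ← mul_inv_rev, hc.s3, ← map_inv, x_inv]
    have h3 : e p * w₃ * t * (e p * w₃)⁻¹ = t * φ (el 192) := by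
      calc e p * w₃ * t * (e p * w₃)⁻¹ = e p * (w₃ * t * w₃⁻¹) * (e p)⁻¹ := by group
        _ = e p * t * (e p)⁻¹ * (e p * e (x 0 (la n) 1) * (e p)⁻¹) := by rw [h1]; group
        _ = _ := by rw [c.conj_t, m.ec, ← hp', map_mul, map_mul, map_inv]
    have h4 := ((AB n F hp G _ _).2 (c.cje (e p * w₃))).sz P (h3 ▸ hP) pP
    rw [hp.two, n3] at h4
    exact h4

end H21.A8HB
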