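import Cfsg.Agent.H21.BMBase

/-! BM stage 1, seat B2: `H46.BM.JobB2`. -/

set_option autoImplicit false

open H46.BM H73 H49
open scoped Matrix

namespace H21.BM

/-! ### additive maps on codes -/

/-- `f` computes an additive map -/
def Lin (f : ℕ → ℕ) : Prop := ∃ φ : M →+ M, ∀ u, φ (vd u) = vd (f u)

theorem lin_id : Lin fun u => u := ⟨AddMonoidHom.id M, fun _ => rfl⟩

theorem lin_ap (a : ℕ) : Lin (ap a) :=
  ⟨(dec2 20 a).mulVecLin.toAddMonoidHom, fun u => ap_spec a u⟩

theorem Rl.lin {g : GM} {f : ℕ → ℕ} (h : Rl g f) : Lin f :=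
  ⟨DistribSMul.toAddMonoidHom M g, h⟩

theorem vd_land (u m : ℕ) (i : Fin 20) : vd (Nat.land u m) i = vd u i * vd m i := by
  show b2z (Nat.testBit (u &&& m) i) = b2z _ * b2z _
  rw [Nat.testBit_and, b2z_and]

theorem lin_land (m : ℕ) : Lin fun u => Nat.land u m :=
  ⟨AddMonoidHom.mulRight (vd m), fun u => funext fun i => (vd_land u m i).symm⟩

theorem Lin.comp {f f' : ℕ → ℕ} (h : Lin f) (h' : Lin f') : Lin fun u => f (f' u) := by
  obtain ⟨φ, h⟩ := h
  obtain ⟨ψ, h'⟩ := h'
  exact ⟨φ.comp ψ, fun u => by rw [AddMonoidHom.comp_apply, h', h]⟩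

theorem Lin.xor {f f' : ℕ → ℕ} (h : Lin f) (h' : Lin f') : Lin fun u => Nat.xor (f u) (f' u) := by
  obtain ⟨φ, h⟩ := h
  obtain ⟨ψ, h'⟩ := h'
  exact ⟨φ + ψ, fun u => by rw [AddMonoidHom.add_apply, h', h, vd_xor]⟩

theorem Lin.ext {f f' : ℕ → ℕ} (h : Lin f) (h' : Lin f') (H : eqB f f' = true) (u : ℕ) :
    vd (f u) = vd (f' u) := by
  obtain ⟨φ, h⟩ := h
  obtain ⟨ψ, h'⟩ := h'
  rw [← h, ← h']
  refine M_ind (p := fun v => φ v = ψ v) (by rw [map_zero, map_zero]) (fun i => ?_)
    (fun u v hu hv => by rw [map_add, map_add, hu, hv]) _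
  rw [← vd_shl, h, h', Nat.eq_of_beq_eq_true (allN_spec H i i.2)]

/-- the certificate `1 = B P + (1 + s) Q + R F` -/
noncomputable def decB (fs F B : ℕ → ℕ) (cP cQ cR k : ℕ) : Bool :=
  eqB (fun u => u) fun u => Nat.xor (Nat.xor (B (Nat.land (ap cP u) k))
    (Nat.xor (ap cQ u) (fs (ap cQ u)))) (ap cR (F u))

theorem decomp {s : GM} {fs F B : ℕ → ℕ} (hs : Rl s fs) (hF : Lin F) (hB : Lin B)
    {cP cQ cR k : ℕ} (H : decB fs F B cP cQ cR k = true) {u : ℕ} (h0 : vd (F u) = 0) :
    ∃ c ≤ k, ∃ m : M, vd u = vd (B c) + (m + s • m) := by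
  have h := lin_id.ext (((hB.comp ((lin_land k).comp (lin_ap cP))).xor
    ((lin_ap cQ).xor (hs.lin.comp (lin_ap cQ)))).xor ((lin_ap cR).comp hF)) H u
  refine ⟨Nat.land (ap cP u) k, Nat.and_le_right, vd (ap cQ u), ?_⟩
  rw [h, vd_xor, vd_xor, vd_xor, ← ap_spec cR, h0, Matrix.mulVec_zero, add_zero, hs]

/-- entry `i` of a table of width `w` -/
def tab (w T i : ℕ) : ℕ := Nat.land (Nat.shiftRight T (Nat.mul w i)) (Nat.pred (Nat.shiftLeft 1 w))

theorem card_le_of_code {S : AddSubgroup M} {k : ℕ} (h : ∀ v ∈ S, ∃ c < k, vd c = v) :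
    Nat.card S ≤ k := by
  choose f h1 h2 using h
  have := Nat.card_le_card_of_injective (fun v : S => (⟨f v v.2, h1 v v.2⟩ : Fin k))
    fun a b hab => Subtype.ext (by rw [← h2 a a.2, ← h2 b b.2, show f a a.2 = f b b.2 from
      congrArg Fin.val hab])
  simpa using this

theorem le_card_of_code {S : AddSubgroup M} {k : ℕ} (f : Fin k → ℕ) (h1 : ∀ i, f i < 1048576)
    (h2 : ∀ i j, f i = f j → i = j) (h3 : ∀ i, vd (f i) ∈ S) : k ≤ Nat.card S := by
  have := Nat.card_le_card_of_injective (fun i => (⟨vd (f i), h3 i⟩ : S))
    fun a b hab => h2 a b (vd_inj (h1 a) (h1 b) (congrArg Subtype.val hab))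
  simpa using this

theorem card_E_inf {g : GM} (hg : g ∈ U) (x y : M) :
    Nat.card ↥(E (g • x) ⊓ E (g • y)) = Nat.card ↥(E x ⊓ E y) :=
  (Nat.card_congr (Equiv.subtypeEquiv (p := fun v => v ∈ E x ⊓ E y)
    (q := fun v => v ∈ E (g • x) ⊓ E (g • y)) (MulAction.toPerm g) fun _ =>
    and_congr (E_smul_iff hg).symm (E_smul_iff hg).symm)).symm

theorem card_R_inf {g : GM} (hg : g ∈ U) (x y : M) :
    Nat.card ↥(R (g • x) ⊓ R (g • y)) = Nat.card ↥(R x ⊓ R y) :=
  (Nat.card_congr ((MulAut.conj g).toEquiv.subtypeEquiv fun _ =>
    and_congr (R_conj_iff hg).symm (R_conj_iff hg).symm)).symm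

theorem add_eq_zero_iff {u v : M} : u + v = 0 ↔ u = v := by
  rw [add_eq_zero_iff_eq_neg, neg_eq]

theorem conj_comm_smul (g s : GM) (m : M) :
    g • m + (g * s * g⁻¹) • g • m = g • (m + s • m) := by
  rw [mul_smul, inv_smul_smul, mul_smul, smul_add]

/-! ### data -/

/-- entry of the point with code 2 -/
def p1 : ℕ :=
  0x21539700002

/-- entry of the point with code 3 -/
def p3 : ℕ :=
  159877431299

/-- entry of the point with code 64 -/
def p6 : ℕ :=
  8945401920

/-- entry of the point with code 512 -/
def p9 : ℕ :=
  34603520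

/-- entry of the point with code 1024 -/
def p10 : ℕ :=
  0x215231957300400

/-- entry of the point with code 524288 -/
def p19 : ℕ :=
  0x21523195273180000

/-- the coordinates that vanish on `Nt t0` -/
def m14 : ℕ :=
  1047472

/-- basis of `Nt t0` -/
def nB : ℕ :=
  0x2000000000000000000010000000000000008000040000200001

/-- coordinates on `Nt t0` -/
def nP : ℕ :=
  0x4000004000008000040000200001

/-- complement of `Nt t0` -/
def nR : ℕ :=
  0x8000040000200001000008000040000200001000008000000000200001000008000000000200001000000000000000000000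

/-- preimages under `1 + t0` -/
def nQ : ℕ :=
  0x40000040000080000400000000000000200000000000000000001000000000000000000000000000000000000000000000

/-- a point `x ∈ Nt t0` with `n ∈ E x` -/
def tN1 : ℕ :=
  0x25300041000000000025300041000000000215300040000000000215300040000000000025300041000000000025300041000000000215300040000000000215300040000000000025300041000000000025300041000000000215300040000000000215300040000000000025300041000000000025300041000000000215300040000000000215300040000000000025300041000000000025300041000000000215300040000000000215300040000000000025300041000000000025300041000000000215300040000000000215300040000000000025300041000000000025300041000000000215300040000000000215300040000000000025300041000000000025300041000000000215300040000000000215300040000000000000000001000000000000000001000000000000000001000000000000000001000000000000000001000000000000000001000000000000000001000000000000000001000000000000000001000000000000000001000000000000000001000000000000000001000000000000000001000000000000000001000000000000000001000000000000000001000000000000000001000000000000000001000000000000000001000000000000000001000000000000000001000000000000000001000000000000000001000000000000000001000000000000000001000000000000000001000000000000000001000000000000000001000000000000000001000000000000000001000000000000000001000000000000000001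

/-- a second such point -/
def tN2 : ℕ :=
  0x253900047000000000253900047000000002153900046000000002153900046000000000253900047000000000253900047000000000253a0004b000000000253a0004b000000000253a0004b000000000253a0004b000000000253900047000000000253900047000000002153900046000000002153900046000000000253900047000000000253900047000000002153900046000000002153900046000000000253900047000000000253900047000000000253a0004b000000000253a0004b000000000253900047000000000253900047000000000253900047000000000253900047000000000253a0004b000000000253a0004b000000000253900047000000000253900047000000002153900046000000002153900046000000002539a0004f000000002539a0004f000000000025300041000000000025300041000000000253a0004b000000000253a0004b000000000025300041000000000025300041000000000253900047000000000253900047000000000025300041000000000025300041000000000253900047000000000253900047000000000025300041000000000025300041000000000253900047000000000253900047000000000025300041000000000025300041000000000253900047000000000253900047000000000025300041000000000025300041000000000253a0004b000000000253a0004b000000000025300041000000000025300041000000002539700003000000002539700003000000000025300041000000000025300041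

/-- a singular vector of the third type -/
def vC : ℕ :=
  80

/-- words that move `e 19 + u` to a representative -/
def tT : ℕ :=
  0x2525962524000002195219524a000004524162a521000021596234152400000000000215690000231962a547310000003626a52562000002524a52731400000000000215a6000021595273163800000252596252360000021952196362000000462162952100000021952195240000034525a6256200000231562a523100000052395295260000021695213962000000000002156a000025963125473100000252539625230000021a524196240000006245962562000000235295231400000262a5296247000002a52362a523000000262a52962400000219521952640000025253956252000002195219523600021595273146a80000000000002156000000452962a62800000296412984150000037a5256295200002159527314a60000241a5298416a000004626962528a00002525396252a8000002315a629831000021595273146900000262a528316300000052846952620000025963128415000000462696252800000241a52984160000252a62a8417300000241a529841700000035257962520000021595273146000023196267953100000279521395260000036257a62962000023129527a641000025258a623623000000241a629831000021595273146a000003525796252a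00005216a62831630000219521952647000023196257a63100000262a528315300002525319627310000002319623841000002525396252a0000002a52362a52000000000000216a0000241539625741000002541295231900000219521952340000000452962a6200000231629a5231000000262a5249520000021952195245000002541295231a0000021a52414952000000000000216900002159527315480000003562a629620000025253962529000000000002169a00002159527314670000005259523526000002595213952600000262a524952a000000452962a629000000523952952400000025412952310000025259625234000021952195234a0000025253962528000000452962a62a0000002525396252000002a52362a52a00021595273154890000000000000216000003626a52562800002315a629831500002964129683190000029625247a620000006274962a5200000259631268310000025259625248000000296412984100000046269625270000215952731637000004529628956200002159527316360000241a6298315a0000021952195284000002525962523800000025963128410000241a62a5974100000262a528314600000052595235280000029641296831000005259524562800000241a62983150000025259625283000002419679524100002a63126a5841000004626962527900002319625741a600000452962a62a7000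0231962574196000002195219528300000252539625270000002319562741000000000002159a00002315a6246841000000262a529623000000523952952a0000025253962524000000496252a529000000452962a62400000241529562410000002525962523000002195219523a000000000000215a0000241a62a54741000023152a62a84100000219521952470000000496252a52000002195219524600000252596246290000002195214962000002623495296200000452962a624a000000000000215900002159527314570000000523952952000000235295231300000241525a624100000235295264130000002525962462000000496252a52a00000235295231390000002195219523000215952731457900000000000002150000241a6298316a000002a52362a527000003626a6256280000217952731a54000000452962a627000021595273153400000252a627a624000002159527314a0000005283a52a6200002315a6236731000052795231a5310000021952148a5200000452962a6273000002159527315400000262a5249528000000241a529841000005259524562700000241a62983160000003627a529620000231962389631000029641296a7410000002795213952000002523895295200000021595273140000241a62983169000005283a52a62a00002319625741a5000003627a529629000021595273154a0000021952195238000023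529523139700000002a63127410000025258a6241300000241a629684100000252596252470000025974162541000002525962831400000241a52968310000241a52968319000002527a52731400000262a52962730000021595273163000002525984521300000241a52984150000025258a52362000002319627a54100002319627a54190000025628a52314000003627a529625000002319627954100000262a528314a000021549625741300000262a5283149000002159527314500002159526a8314000000262a528314000005215a52841300000262a5268413000002319625741a00002527a5267413000002319625741900000219521952730000052595235237000000231962574100000045246a62520000045246a625290000003626a62362000003626a6236290000003626a62562000002a52362a52600000000000216a600002159527314a80000034525a5256200002195214962730000000462696252000000462696252900000046245a5262000002195219524800000000000215a50000025963128417000000525952346200000219521496270000005259524562000002195214962500000005259523520000002595213952000000000002159500000215952731470000045246a625230000235295264135000000462696252300000452962a62a60000005259523523000002195219523500002319625497410000000000000021000002525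9836252000002159526741800000252a62498410000215952456831000002179526a83100000252a625741300000621589626310000002527a527310000005216a6283100000252a625a831000002527a52731a0000215496238415000000262a52831900000215952745410000062168a5263100000025628a5231000002525962831a00000215952731680000052157a62417000002528956263100000252596252780000021595273158000002159526a8310000000262a5283100000262a52831a70000021595267413000000262a52831a00002159526741890000002525962831000021595273168a0000252539627315000000521796234100002179526a83160000021a52418a5200002179526a83150000025278962541000004626962528300002159526741680000025278962a62000002159528984100000262a52831690000215952731463000005216a6283160000025628a52315000005216a6283150000021895218a6200000252a62a8417000002154962384100002159526a8316000000262a5283160000219521952978000021595267419700002159526a8315000000262a5283150000025258a62362000000215952731800000262a528316a000021595267413500000262a52831a500002596312841530000025259628315000024a52968314100000252539627310000002396731241000000262a52a7410000002159526741000002179526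741a000002628a6258410000023529523189000002159526741600002159527315a7000002527a5273130000025258a525620000215952731683000002352952318a000002159527a6410000006216a62741000000252a625741000005217962a541000002362952831700000052157a6241000002158952196200000026257962410000021595267419000000262a529628000002179527a6410000052157a6241600000023529523180000025258a52841000021595267416a0000025259625274000021549625a83100000026267a5241000002159526741a00000252a62574190000002179526741000062158962631800000219521689520000052595235283000002159746254100002179526741a5000002195219528900000252596252890000021595267415000006216a627415000002195218a562000052157a62415a0000021958a62152000002195219528a0000215496273416000000262a528a520000021549627341000002195219529800002159524834160000052157a62415000002189521956200002159526a8317000000219521952800000025259625280000021595248341000003626a62836200006216a62741590000021895215a62000021597462541a0000026267a5241500002159526741a50000026267a5241700000217495627410000005215a52841000000262a526841000002352952317a0000021549625741000002562573962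1000002159527316a000005215a528415000000252895624100000252a62a841500002154962574190000006215896241000002527a526741000000252a62a841000002159524584100000621589624150000024629583521000000262a5296270000002159527316000000252596252700000215952731560000005216a845210000002195219527000005216a626841000000235295231700000025258a6241000021595245841a00000025259845210000021595273169000002352537952100002159526741640000021952195279000000217952731600000252a627a6250000021595267417000006216a62673100000219521a7a62000002159527315a00000262a5268416000000252a627a62000000215952731a00000621589624160000216795219623000002625796263100000217952731a50000052157a6263100000252a62574180000025259628462000000217952731a000021595267417a0000021679521962000005216a845216000002195219526700000219521952970000002159527315000002352952319700000002159527310000025258a624160000215952674173000000525984625200002159527316960000005259527352000002159527315300000252539745210000000217952731000002362952a7410000002352952641000002162531a62100000215a623196200000235263a62310000021596236312000002352952a64100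00002524a52731000002628a6279520000021952149623000002352634a5210000021596234152000002362952831900000021a5241962000000496252a52300000023629528310000000252596252000000219521952a0000000262a5296200000021952195260000002352952319000000021952195200000021952195290000000235295231000000000021539a0002159527316384000000000002153a000241a62a547413000000000002153900021595273145730021595273145739000000000000215300005215a5284158000021539735264100002159527315a80000215496257418000062158962631700002159527316a8000005215a52841800000215952731a8000062168a526318000021595273167300005216a628315800002159527a641700005216a62831680000215952731574000005216a62831800002153967346210000215952731679000002159527316700006216a62538410000215952674198000021595273157a00000215952731570000052157a6241800000021595273170005215a5284158300021539735264130005216a628315830002159526741984000215952731573a000021595273157300000000002153970000215231952731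

/-- coset (a) -/
def aB : ℕ :=
  0x80000400000000020000100000000000000080000400000000020000100000000000000000000

/-- coset (a) -/
def aP : ℕ :=
  0x800004000010000080000100000800002000010

/-- coset (a) -/
def aQ : ℕ :=
  0x40000040000080000400000000000000200000000000000000001000000000000000000000000000000000000000000000

/-- coset (a) -/
def aR : ℕ :=
  0x40000040000080000400000000000000200000000000000000001000000000000000000000000000000000000000000000

/-- coset (a): points -/
def tA : ℕ :=
  0x2153900046000000000000000000000000000000000000000000000253900047000000000000000000000000002153900046000000000253900047000000000000000000000000000000000000000000000253900047000000002153900046000000000000000000000000000253900047000000000000000000000000000000000000000000002153900046000000000000000000000000000253a0004b000000002153a0004a000000000000000000000000002153a0004a000000000000000000000000000000000000000000000253a0004b000000000000000000000000002153a0004a000000000253a0004b000000000000000000000000000253a0004b0000000000000000000000000000000000000000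00002153a0004a000000000000000000000000021539a0004e000000002539a0004f000000000000000000000000000000000000000000002539a0004f000000021539a0004e000000000000000000000000021539a0004e000000000000000000000000000000000000000000002539a0004f000000002539a0004f000000000000000000000000000000000000000000021539a0004e000000000025300041000000000000000000000000000000000000000000000215300040000000000025300041000000000000000000000000000000000000000000000215300040000000000025300041000000000000000000000000000000000000000000000215300040000000000025300041000000000000000000000000000000000000000000000215300040000000000000000000000000021539a0004e000000000000000000000000002539a0004f000000002539a0004f000000000000000000000000021539a0004e000000000000000000000000021539a0004e000000000000000000000000002539a0004f000000000000000000000000000000000000000000002539a0004f000000000000000000000000021539a0004e0000000021539000460000000000000000000000000002539000470000000000000000000000000000000000000000000021539000460000000000000000000000000002539000470000000002539000470000000000000000000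00000002153900046000000000000000000000000000000000000000000000253900047000000000000000000000000002153900046000000000253a0004b000000000000000000000000002153a0004a000000000000000000000000002153a0004a000000000000000000000000000253a0004b000000000000000000000000000000000000000000002153a0004a000000000000000000000000000253a0004b000000000000000000000000000253a0004b000000000000000000000000002153a0004a000000000000000000000000000025300041000000000000000000000000000215300040000000000000000000000000000025300041000000000000000000000000000215300040000000000000000000000000000025300041000000000000000000000000000215300040000000000000000000000000000025300041000000000000000000000000000215300040000000000000000000000000000000000000000000002153a0004a000000000253a0004b000000002153a0004a000000000253a0004b000000000000000000000000000000000000000000000253a0004b000000002153a0004a000000000000000000000000000000000000000000000000000000000000000000000000000000000253a0004b000000002153a0004a000000002539a0004f000000021539a0004e0000000000000000000000000000000000000000000000000000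00000000000000000000000000021539a0004e000000002539a0004f000000021539a0004e000000002539a0004f000000000000000000000000000000000000000000000000000000000000000000000000000000002539a0004f000000021539a0004e0000000021539000460000000002539000470000000000000000000000000000000000000000000002539000470000000021539000460000000000000000000000000000000000000000000000000000000000000000000000000000000021539000460000000002539000470000000000000000000000000000000000000000000002539000470000000021539000460000000000000000000000000000000000000000000000253000410000000002153000400000000000000000000000000000000000000000000000253000410000000002153000400000000000000000000000000000000000000000000000253000410000000002153000400000000000000000000000000000000000000000000000253000410000000002153000400000000025397000030000000025397000030000000025397000030000000025397000030000000000000000000000000000000000000000000000000000000000000000000000000000000000000000000000000000000000000000000000000000000000000000000000000000000215397000020000000215397000020000000215397000020000000215397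00002000000000000000000000000000000000000000000000000000000000000000000000000000000002539700003000000002539700003000000002539700003000000002539700003000000000000000000000000000000000000000000000000000000000000000000000000000000021539700002000000021539700002000000021539700002000000021539700002000000000000000000000000000000000000000000000000000000000000000000000000000000000000000000000000000000000000000000000000000000000000000000000000000000002539700003000000002539700003000000002539700003000000002539700003000000021539700002000000021539700002000000021539700002000000021539700002000000000000000001000000000000000001000000000000000001000000000000000001000000000000000001000000000000000001000000000000000001000000000000000001000000000000000001000000000000000001000000000000000001000000000000000001000000000000000001000000000000000001000000000000000001000000000000000001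

/-- coset (b) -/
def bB : ℕ :=
  0x8000040000800000000020000100002000000000000000000000000000000

/-- coset (b) -/
def bP : ℕ :=
  0x1000028000010000280

/-- coset (b) -/
def bQ : ℕ :=
  0x200000200000280001400008000040000000000000000200200000000000000000201000000000000000000000000000000

/-- coset (b) -/
def bR : ℕ :=
  0x200000200000280001400008000040000000000000000200200000000000000000201000000000000000000000000000000

/-- coset (b): summands -/
def tU : ℕ :=
  0x1400008000000001c0000000008000000001c000140000000000000000000000000000000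

/-- coset (c) -/
def cP : ℕ :=
  0x40200001004008000040000200001000008400040000240001

/-- coset (c) -/
def cQ : ℕ :=
  0x4000000000000000000000000000000000000000000000000000000000000000000000000000000000000000000000000000

/-- coset (c) -/
def cR : ℕ :=
  0x4000000000000280035400108001c44022800020402380014800000000000000000000000000000000000000000000000000

theorem vd_e1 : vd 2 = e 1 := vd_pow 1
theorem vd_e9 : vd 512 = e 9 := vd_pow 9
theorem vd_e10 : vd 1024 = e 10 := vd_pow 10
theorem vd_e19 : vd 524288 = e 19 := vd_pow 19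
theorem vd_e0_e10 : vd 1025 = e 0 + e 10 := by rw [← vd_one, ← vd_e10, ← vd_xor]; rfl
theorem vd_e0_e1 : vd 3 = e 0 + e 1 := by rw [← vd_one, ← vd_e1, ← vd_xor]; rfl

theorem ok1 : okP p1 = true := by decide +kernel
theorem ok3 : okP p3 = true := by decide +kernel
theorem ok6 : okP p6 = true := by decide +kernel
theorem ok9 : okP p9 = true := by decide +kernel
theorem ok10 : okP p10 = true := by decide +kernel
theorem ok19 : okP p19 = true := by decide +kernel
theorem pt1 : vd (pt p1) = e 1 := (congrArg vd (by decide +kernel)).trans vd_e1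
theorem pt3 : vd (pt p3) = e 0 + e 1 := (congrArg vd (by decide +kernel)).trans vd_e0_e1
theorem pt6 : vd (pt p6) = vd 64 := congrArg vd (by decide +kernel)
theorem pt9 : vd (pt p9) = e 9 := (congrArg vd (by decide +kernel)).trans vd_e9
theorem pt10 : vd (pt p10) = e 10 := (congrArg vd (by decide +kernel)).trans vd_e10
theorem pt19 : vd (pt p19) = e 19 := (congrArg vd (by decide +kernel)).trans vd_e19

theorem mem1 : e 1 ∈ O := pt1 ▸ okP_mem ok1
theorem mem9 : e 9 ∈ O := pt9 ▸ okP_mem ok9
theorem mem10 : e 10 ∈ O := pt10 ▸ okP_mem ok10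
theorem mem19 : e 19 ∈ O := pt19 ▸ okP_mem ok19

theorem Rl.app {g : GM} {f : ℕ → ℕ} (h : Rl g f) {u v : ℕ} (H : Nat.beq (f u) v = true) :
    g • vd u = vd v := by rw [h, Nat.eq_of_beq_eq_true H]

theorem act : t0 • e 0 = e 0 ∧ t0 • e 19 = e 19 + e 10 ∧ t0 • e 10 = e 10 ∧
    t0 • e 9 = e 9 + e 0 ∧ t0' • e 19 = e 19 ∧ t0' • e 0 = e 0 + e 9 ∧ t0' • e 9 = e 9 ∧
    t0' • e 10 = e 10 + e 19 := by
  rw [← vd_one, ← vd_e9, ← vd_e10, ← vd_e19]
  simp only [← vd_xor]
  exact ⟨rl_t0.app (by decide +kernel), rl_t0.app (by decide +kernel),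
    rl_t0.app (by decide +kernel), rl_t0.app (by decide +kernel), rl_t0'.app (by decide +kernel),
    rl_t0'.app (by decide +kernel), rl_t0'.app (by decide +kernel), rl_t0'.app (by decide +kernel)⟩

theorem bf_e (i j : Fin 20) : bf (e i) (e j) = if i.val + j.val = 19 then 1 else 0 := by
  revert i j; decide +kernel

theorem bf_e_right (v : M) (i : Fin 20) : bf v (e (Fin.rev i)) = v i := by
  simp [bf, e, Pi.single_apply]

theorem t0_ne_one : t0 ≠ 1 := fun h => by
  have h1 := act.2.1
  rw [h, one_smul, left_eq_add] at h1
  exact e_ne_zero _ h1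

theorem t0'_Tv : t0' ∈ Tv := by
  refine ⟨t0 * t0', U.mul_mem t0_mem t0'_mem, ?_⟩
  rw [mul_inv_eq_iff_eq_mul]
  exact ((rl_t0.mul rl_t0').mul rl_t0).eq (rl_t0'.mul (rl_t0.mul rl_t0')) (by decide +kernel)

/-! ### `Nt t0` -/

/-- the 64 elements of `Nt t0` -/
noncomputable def nt (c : ℕ) : ℕ := ap nB c

/-- `u = m + t0 m` -/
noncomputable def inN (u : ℕ) : Bool :=
  frc (ap nQ u) fun m => Nat.beq (Nat.xor m (ap (gc 1) m)) u

theorem inN_mem {u : ℕ} (h : inN u = true) : vd u ∈ Nt t0 := by
  rw [inN, frc_eq] at h
  rw [← Nat.eq_of_beq_eq_true h, vd_xor, ← rl_t0]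
  exact comm_mem_Nt t0_mem _

theorem Nt_code {v : M} (hv : v ∈ Nt t0) : ∃ c < 64, vd (nt c) = v := by
  obtain ⟨u, -, rfl⟩ := vd_surj v
  have h0 : vd (Nat.land u m14) = 0 := by
    funext i
    have h := allN_spec (n := 20) (p := fun i => !tb m14 i ||
      Nat.beq (ap (gc 1) (Nat.shiftLeft 1 (19 - i))) (Nat.shiftLeft 1 (19 - i)))
      (by decide +kernel) i i.2
    rw [vd_land]
    cases hb : tb m14 i
    · rw [tb_eq] at hb
      rw [show vd m14 i = 0 from b2z_eq_zero.mpr hb, mul_zero]; rfl
    · rw [hb, Bool.not_true, Bool.false_or, show 19 - i.val = (Fin.rev i).val by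
        rw [Fin.val_rev]; omega] at h
      have h1 := rl_t0.app h
      rw [vd_shl] at h1
      rw [← bf_e_right (vd u) i, hv _ h1, zero_mul]; rfl
  obtain ⟨c, hc, m, hm⟩ := decomp (k := 63) (cP := nP) (cQ := 0) (cR := nR) rl_one (lin_land m14)
    (lin_ap nB) (by decide +kernel) h0
  exact ⟨c, by omega, by rw [hm, one_smul, add_self, add_zero]; rfl⟩

theorem nt_lt (c : ℕ) : nt c < 1048576 := ap_lt _ _

theorem chkN : ∀ c < 64, (frc (nt c) fun u => frc (tab 72 tN1 c) fun a => frc (tab 72 tN2 c) fun b =>
    okP a && (okP b && (!Nat.beq (pt a) (pt b) && (inE a u && (inE b u && (inN (pt a) &&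
      (!qc u && frc (Nat.land u 78) fun v => inE p10 v &&
        (Nat.beq u v || (Nat.beq u (Nat.xor v 1) || (Nat.beq u (Nat.xor v 1024) ||
          Nat.beq u (Nat.xor v 1025))))))))))) = true :=
  allN_spec (by decide +kernel)

theorem Nt_two (hE : HE) {v : M} (hv : v ∈ Nt t0) : qf v = 0 ∧
    (∃ x ∈ O, ∃ y ∈ O, x ≠ y ∧ x ∈ Nt t0 ∧ v ∈ E x ∧ v ∈ E y) ∧
    ∃ w ∈ E (e 0) ⊓ E (e 10), v = w ∨ v = w + e 0 ∨ v = w + e 10 ∨ v = w + (e 0 + e 10) := by
  obtain ⟨c, hc, rfl⟩ := Nt_code hv
  have h := chkN c hc
  simp only [frc_eq, Bool.and_eq_true, Bool.or_eq_true, Bool.not_eq_true', Nat.beq_eq] at h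
  obtain ⟨h1, h2, h3, h4, h5, h6, h7, h8, h9⟩ := h
  have hl : Nat.land (nt c) 78 < 1024 := lt_of_le_of_lt Nat.and_le_right (by norm_num)
  refine ⟨by rw [qf_vd, h7]; rfl, ⟨_, okP_mem h1, _, okP_mem h2,
    fun h => Nat.ne_of_beq_eq_false h3 (vd_inj (pt_lt _) (pt_lt _) h), inN_mem h6,
    (hE.inE_iff h1 (nt_lt c)).mpr h4, (hE.inE_iff h2 (nt_lt c)).mpr h5⟩,
    vd (Nat.land (nt c) 78), ⟨(hE.vd_mem (by omega)).mpr hl,
      pt10 ▸ (hE.inE_iff ok10 (by omega)).mpr h8⟩, ?_⟩
  rw [← vd_e0_e10, ← vd_one, ← vd_e10]
  simp only [← vd_xor]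
  exact h9.imp (congrArg vd) (Or.imp (congrArg vd) (Or.imp (congrArg vd) (congrArg vd)))

theorem chkP : ∀ n ∈ PL, (frc (pt n) fun u => frc (ap (gc 1) u) fun u' =>
    (cond (Nat.beq u' u) (inN u) (tb bmO (Nat.xor u u'))) && ((!inE n 1025 || inN u) &&
      ((!inE n vC || Nat.beq u 1) && allN 64 fun c => frc (nt c) fun v =>
        Nat.beq u' u || (Nat.beq v 0 || (!tb bmO (Nat.xor u v) || tb bmO v))))) = true := by
  have h : (frc bmO fun b => allL PL fun n => frc (pt n) fun u => frc (ap (gc 1) u) fun u' =>
    (cond (Nat.beq u' u) (inN u) (tb b (Nat.xor u u'))) && ((!inE n 1025 || inN u) &&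
      ((!inE n vC || Nat.beq u 1) && allN 64 fun c => frc (nt c) fun v =>
        Nat.beq u' u || (Nat.beq v 0 || (!tb b (Nat.xor u v) || tb b v))))) = true := by
    decide +kernel
  rw [frc_eq] at h
  exact allL_spec h

theorem pts (hE : HE) {x : M} (hx : x ∈ O) : (t0 • x = x → x ∈ Nt t0) ∧
    (t0 • x ≠ x → x + t0 • x ∈ O) ∧ (e 0 + e 10 ∈ E x → x ∈ Nt t0) ∧ (vd vC ∈ E x → x = e 0) ∧
    ∀ v ∈ Nt t0, v ≠ 0 → v ∉ O → x + v ∈ O → t0 • x = x := by
  obtain ⟨n, hn, rfl⟩ := mem_O_iff.mp hx
  have ok := PL_ok n hn
  have h := chkP n hn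
  simp only [frc_eq, Bool.and_eq_true, Bool.or_eq_true, Bool.not_eq_true', Nat.beq_eq] at h
  obtain ⟨h1, h2, h3, h4⟩ := h
  rw [rl_t0]
  refine ⟨fun h => ?_, fun h => ?_, fun h => ?_, fun h => ?_, fun v hv h0 hO h => ?_⟩
  · rw [vd_inj (ap_lt _ _) (pt_lt n) h, Nat.beq_refl] at h1
    exact inN_mem h1
  · cases hb : Nat.beq (ap (gc 1) (pt n)) (pt n)
    · rw [hb] at h1
      rw [← vd_xor]
      exact (vd_mem_O (xor_lt (pt_lt n) (ap_lt _ _))).mpr h1
    · exact absurd (congrArg vd (Nat.eq_of_beq_eq_true hb)) h
  · rw [← vd_e0_e10, hE.inE_iff ok (by norm_num)] at h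
    exact inN_mem (h2.resolve_left (by rw [h]; decide))
  · rw [hE.inE_iff ok (by decide)] at h
    rw [h3.resolve_left (by rw [h]; decide), vd_one]
  · obtain ⟨c, hc, rfl⟩ := Nt_code hv
    have h5 := allN_spec h4 c hc
    simp only [Bool.or_eq_true, Bool.not_eq_true', Nat.beq_eq] at h5
    rw [← vd_xor, vd_mem_O (xor_lt (pt_lt n) (nt_lt c))] at h
    rw [vd_mem_O (nt_lt c)] at hO
    rcases h5 with h5 | h5 | h5 | h5
    · rw [h5]
    · exact absurd (by rw [h5, vd_zero]) h0
    · rw [h] at h5; exact absurd h5 (by decide)
    · exact absurd h5 hO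

/-! ### the pair `e 0`, `e 10` -/

theorem e_mem_E0 (hE : HE) (i : Fin 20) (hi : i.val < 10) : e i ∈ E (e 0) := by
  refine (hE _).mpr fun j hj => ?_
  have : j ≠ i := by rintro rfl; omega
  simp [e, this]

theorem notO_0_10 : e 0 + e 10 ∉ O := by
  rw [← vd_e0_e10, vd_mem_O (by norm_num)]; decide +kernel

theorem notO_0_19 : e 0 + e 19 ∉ O := fun h => by
  have := qf_O h
  rw [qf_add, qf_O e0_mem, qf_O mem19, bf_e] at this
  exact absurd this (by decide)

theorem ne_0_10 : e 0 + e 10 ≠ 0 := by
  rw [← vd_e0_e10, ← vd_zero]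
  exact fun h => absurd (vd_inj (by norm_num) (by norm_num) h) (by norm_num)

theorem D2_0_10 (hE : HE) : D2 (e 0) (e 10) :=
  ⟨fun h => absurd ((hE _).mp h 10 (by decide)) (by decide), by rw [bf_e]; decide⟩

theorem D2_red (h : Facts1) {x y : M} (hx : x ∈ O) (hy : y ∈ O) (hd : D2 x y) :
    ∃ g ∈ U, g • e 0 = x ∧ g • e 10 = y := by
  obtain ⟨g, hg, rfl, rfl | rfl | rfl | rfl⟩ := h.trans x hx y hy
  · exact absurd (self_mem_E _) hd.1
  · exact absurd (E_smul hg (e_mem_E0 h.memE0 9 (by decide))) hd.1
  · exact ⟨g, hg, rfl, rfl⟩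
  · have := hd.2
    rw [bf_U hg, bf_e] at this
    exact absurd this (by decide)

theorem two_case (h : Facts1) {x y z : M} (hx : x ∈ O) (hy : y ∈ O) (hb : bf x y = 1)
    (hz : y ∈ E z) {t : GM} (ht : t ∈ Tv) (h1 : t • x = x) (h2 : t • y = y + z) (h3 : t • z = z) :
    ∀ r ∈ R z ⊓ R x, r = 1 ∨ r = t := by
  intro r hr
  have key := (h.opp x hx y hy hb).2.1
  rcases hz r hr.1 with h4 | h4
  · exact Or.inl (key r hr.2 (by rw [h4, add_self]; exact (E x).zero_mem))
  · have h5 := key (t * r) ((R x).mul_mem (mem_R ht h1) hr.2) (by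
      rw [mul_smul, h4, smul_add, h2, h3, add_assoc y, add_self, add_zero, add_self]
      exact (E x).zero_mem)
    right
    rw [← one_mul r, ← Tv_sq ht, mul_assoc, h5, mul_one]

theorem d2b (h : Facts1) : D2 (e 10) (e 0) ∧ ∀ r ∈ R (e 10) ⊓ R (e 0), r = 1 ∨ r = t0 := by
  have hE : HE := h.memE0
  refine ⟨⟨?_, by rw [bf_e]; decide⟩, two_case h e0_mem mem19 (by rw [bf_e]; decide) ?_ t0_Tv
    act.1 act.2.1 act.2.2.1⟩
  · rw [← pt10, ← vd_one, hE.inE_iff ok10 (by norm_num)]; decide +kernel
  · rw [← pt10, ← vd_e19, hE.inE_iff ok10 (by norm_num)]; decide +kernel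

theorem d2a (h : Facts1) : D2 (e 9) (e 19) ∧ ∀ r ∈ R (e 9) ⊓ R (e 19), r = 1 ∨ r = t0' := by
  have hE : HE := h.memE0
  refine ⟨⟨?_, by rw [bf_e]; decide⟩, two_case h mem19 e0_mem (by rw [bf_e]; decide) ?_ t0'_Tv
    act.2.2.2.2.1 act.2.2.2.2.2.1 act.2.2.2.2.2.2.1⟩
  · rw [← pt9, ← vd_e19, hE.inE_iff ok9 (by norm_num)]; decide +kernel
  · rw [← pt9, ← vd_one, hE.inE_iff ok9 (by norm_num)]; decide +kernel

theorem memE_0_10 (hE : HE) {u : ℕ} (h1 : u < 1024) (h2 : inE p10 u = true) :
    vd u ∈ E (e 0) ⊓ E (e 10) :=
  ⟨(hE.vd_mem (by omega)).mpr h1, pt10 ▸ (hE.inE_iff ok10 (by omega)).mpr h2⟩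

theorem d2 (h : Facts1) : ∀ x ∈ O, ∀ y ∈ O, D2 x y → 16 ≤ Nat.card ↥(E x ⊓ E y) ∧
    ∃ a ∈ O, ∃ b ∈ O, a ∈ E x ⊓ E y ∧ b ∈ E x ⊓ E y ∧ a ∉ E b := by
  have hE : HE := h.memE0
  intro x hx y hy hd
  obtain ⟨g, hg, rfl, rfl⟩ := D2_red h hx hy hd
  have ha := memE_0_10 hE (u := 64) (by norm_num) (by decide +kernel)
  have hb := memE_0_10 hE (u := 2) (by norm_num) (by decide +kernel)
  refine ⟨?_, g • vd 64, O_smul hg (pt6 ▸ okP_mem ok6), g • vd 2, O_smul hg (vd_e1 ▸ mem1),
    ⟨E_smul hg ha.1, E_smul hg ha.2⟩, ⟨E_smul hg hb.1, E_smul hg hb.2⟩, ?_⟩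
  · rw [card_E_inf hg]
    exact le_card_of_code (fun i : Fin 16 => nt (2 * i)) (fun _ => nt_lt _) (by decide +kernel)
      fun i => memE_0_10 hE (by revert i; decide +kernel) (by revert i; decide +kernel)
  · rw [E_smul_iff hg, vd_e1, ← pt1, hE.inE_iff ok1 (by norm_num)]; decide +kernel

theorem tv (h : Facts1) : ∀ t ∈ Tv, ∀ y ∈ O,
    (t • y = y → y ∈ Nt t) ∧ (t • y ≠ y → y + t • y ∈ O) := by
  rintro _ ⟨g, hg, rfl⟩ y hy
  obtain ⟨y, rfl⟩ : ∃ z, g • z = y := ⟨g⁻¹ • y, smul_inv_smul _ _⟩
  have := pts h.memE0 ((O_smul_iff hg).mp hy)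
  rw [Ne, Fix_smul_iff, Nt_smul_iff hg, conj_comm_smul, O_smul_iff hg]
  exact ⟨this.1, this.2.1⟩

theorem line (h : Facts1) : ∀ x ∈ O, ∀ y ∈ O, x + y ∈ O → y ∈ E x := by
  intro x hx y hy hxy
  obtain ⟨g, hg, rfl, rfl | rfl | rfl | rfl⟩ := h.trans x hx y hy
  · exact self_mem_E _
  · exact E_smul hg (e_mem_E0 h.memE0 9 (by decide))
  · rw [← smul_add, O_smul_iff hg] at hxy; exact absurd hxy notO_0_10
  · rw [← smul_add, O_smul_iff hg] at hxy; exact absurd hxy notO_0_19

theorem ntE (h : Facts1) : ∀ t ∈ Tv, ∀ v ∈ Nt t, ∃ x ∈ O, x ∈ Nt t ∧ v ∈ E x := by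
  rintro _ ⟨g, hg, rfl⟩ v hv
  obtain ⟨v, rfl⟩ : ∃ z, g • z = v := ⟨g⁻¹ • v, smul_inv_smul _ _⟩
  obtain ⟨x, hx, -, -, -, h1, h2, -⟩ := (Nt_two h.memE0 ((Nt_smul_iff hg).mp hv)).2.1
  exact ⟨g • x, O_smul hg hx, Nt_smul hg h1, E_smul hg h2⟩

theorem fb1 (h : Facts1) : ∀ t' ∈ Tv, e 0 + e 10 ∈ Nt t' → t' = t0 := by
  rintro _ ⟨g, hg, rfl⟩ hv
  have hg' := U.inv_mem hg
  have h1 : g⁻¹ • (e 0 + e 10) ∈ Nt t0 := by rw [← Nt_smul_iff hg, smul_inv_smul]; exact hv
  have h2 : g⁻¹ • (e 0 + e 10) ≠ 0 := fun h0 =>
    ne_0_10 (by rw [← smul_inv_smul g (e 0 + e 10), h0, smul_zero])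
  have h3 : g⁻¹ • (e 0 + e 10) ∉ O := by rw [O_smul_iff hg']; exact notO_0_10
  have key : ∀ x ∈ O, x + (e 0 + e 10) ∈ O → g * t0 * g⁻¹ ∈ R x := fun x hx hx' => by
    refine mem_R (Tv_conj hg t0_Tv) ?_
    have := (pts h.memE0 (O_smul hg' hx)).2.2.2.2 _ h1 h2 h3
      (by rw [← smul_add]; exact O_smul hg' hx')
    rw [mul_smul, mul_smul, this, smul_inv_smul]
  refine ((d2b h).2 _ ⟨key _ mem10 ?_, key _ e0_mem ?_⟩).resolve_left fun h1 =>
    t0_ne_one (conj_eq_one_iff.mp h1)
  · rw [add_comm (e 0), ← add_assoc, add_self, zero_add]; exact e0_mem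
  · rw [← add_assoc, add_self, zero_add]; exact mem10

theorem fb5 (hE : HE) : ∀ v ∈ E (e 0) ⊓ E (e 10), v ≠ 0 → v ∉ O → v + (e 0 + e 10) ∈ O := by
  have hc : (frc bmO fun b => allN 1024 fun c =>
      Nat.beq c 0 || (tb b c || (tb b (Nat.xor c 1025) || !inE p10 c))) = true := by
    decide +kernel
  rw [frc_eq] at hc
  intro v hv h0 hO
  obtain ⟨c, hc1, rfl⟩ := hE.exists_code hv.1
  have h5 := allN_spec hc c hc1
  simp only [Bool.or_eq_true, Bool.not_eq_true', Nat.beq_eq] at h5
  have h2 := hv.2
  rw [← pt10] at h2
  rw [← vd_e0_e10, ← vd_xor, vd_mem_O (xor_lt (by omega) (by norm_num))]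
  rcases h5 with h5 | h5 | h5 | h5
  · exact absurd (by rw [h5, vd_zero]) h0
  · exact absurd ((vd_mem_O (by omega)).mpr h5) hO
  · exact h5
  · rw [(hE.inE_iff ok10 (by omega)).mp h2] at h5; exact absurd h5 (by decide)

theorem fb (h : Facts1) : ∀ x ∈ O, ∀ y ∈ O, D2 x y → ∃ t ∈ Tv,
    (∀ t' ∈ Tv, x + y ∈ Nt t' → t' = t) ∧
    (∀ n ∈ Nt t, ∃ v ∈ E x ⊓ E y, n = v ∨ n = v + x ∨ n = v + y ∨ n = v + (x + y)) ∧
    (∀ x' ∈ O, x + y ∈ E x' → x' ∈ Nt t) ∧ (∀ x' ∈ O, x' + (x + y) ∈ O → x' ∈ Nt t) ∧
    ∀ v ∈ E x ⊓ E y, v ≠ 0 → v ∉ O → v + (x + y) ∈ O := by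
  have hE : HE := h.memE0
  intro x hx y hy hd
  obtain ⟨g, hg, rfl, rfl⟩ := D2_red h hx hy hd
  have su : ∀ v : M, ∃ z, g • z = v := fun v => ⟨g⁻¹ • v, smul_inv_smul _ _⟩
  refine ⟨g * t0 * g⁻¹, Tv_conj hg t0_Tv, fun t' ht' hv => ?_, fun n hn => ?_, fun x' hx' hv => ?_,
    fun x' hx' hv => ?_, fun v hv h0 hO => ?_⟩
  · obtain ⟨t', rfl⟩ : ∃ s, g * s * g⁻¹ = t' := ⟨g⁻¹ * t' * g, by group⟩
    rw [← smul_add, Nt_smul_iff hg] at hv
    rw [fb1 h t' (by simpa [mul_assoc] using Tv_conj (U.inv_mem hg) ht') hv]
  · obtain ⟨n, rfl⟩ := su n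
    obtain ⟨w, hw, h1⟩ := (Nt_two hE ((Nt_smul_iff hg).mp hn)).2.2
    refine ⟨g • w, ⟨E_smul hg hw.1, E_smul hg hw.2⟩, ?_⟩
    simp only [← smul_add, smul_left_cancel_iff]
    exact h1
  · obtain ⟨x', rfl⟩ := su x'
    rw [← smul_add, E_smul_iff hg] at hv
    exact Nt_smul hg ((pts hE ((O_smul_iff hg).mp hx')).2.2.1 hv)
  · obtain ⟨x', rfl⟩ := su x'
    rw [← smul_add, ← smul_add, O_smul_iff hg] at hv
    have hp := pts hE ((O_smul_iff hg).mp hx')
    refine Nt_smul hg (hp.1 (hp.2.2.2.2 _ ?_ ne_0_10 notO_0_10 hv))
    rw [← vd_e0_e10]; exact inN_mem (by decide +kernel)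
  · obtain ⟨v, rfl⟩ := su v
    rw [← smul_add, ← smul_add, O_smul_iff hg]
    exact fb5 hE v ⟨(E_smul_iff hg).mp hv.1, (E_smul_iff hg).mp hv.2⟩
      (fun h1 => h0 (by rw [h1, smul_zero])) (fun h1 => hO (O_smul hg h1))

/-! ### singular vectors -/

theorem sing_rep (h : Facts1) {v : M} (h0 : v ≠ 0) (hq : qf v = 0) :
    ∃ g ∈ U, g • v = e 0 ∨ g • v = e 0 + e 10 ∨ g • v = vd vC := by
  have hE : HE := h.memE0
  obtain ⟨_, ⟨g, hg, rfl⟩, hx⟩ : ∃ x ∈ O, bf x v ≠ 0 := by
    by_contra hc
    push Not at hc
    let S : AddSubgroup M :=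
      { carrier := {u | bf u v = 0}
        zero_mem' := bf_zero_left v
        add_mem' := fun {a b} ha hb => by
          show bf (a + b) v = 0
          rw [bf_add_left, ha, hb, add_zero]
        neg_mem' := fun {a} ha => by rw [neg_eq]; exact ha }
    have hS : S = ⊤ := h.span S hc
    exact h0 (bf_nondeg fun w => by
      rw [bf_comm]; exact (show w ∈ S from hS ▸ AddSubgroup.mem_top w))
  obtain ⟨u, hu, hv⟩ := vd_surj (g⁻¹ • v)
  have h19 : vd u 19 = 1 := by
    rw [← smul_inv_smul g v, bf_U hg, ← hv, bf_comm] at hx
    have := bf_e_right (vd u) 19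
    rw [show Fin.rev (19 : Fin 20) = 0 from rfl] at this
    rw [← this]
    revert hx; generalize bf (vd u) (e 0) = a; revert a; decide
  have hu2 : 524288 ≤ u := Nat.ge_two_pow_of_testBit (i := 19) (b2z_eq_one.mp h19)
  have hc : (frc (bmL (fun n => Nat.shiftRight (pt n) 10) PL) fun b =>
      allN 512 fun A => tb b (512 + A)) = true := by decide +kernel
  rw [frc_eq] at hc
  obtain ⟨n, hn, hA⟩ := (tb_bmL _ _ _).mp (allN_spec hc (u / 1024 - 512) (by omega))
  have hA' : pt n / 1024 = u / 1024 := by
    have : Nat.shiftRight (pt n) 10 = pt n / 1024 := Nat.shiftRight_eq_div_pow (pt n) 10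
    omega
  have hw : Nat.xor u (pt n) < 1024 := by
    have h1 : (u ^^^ pt n) / 2 ^ 10 = 0 := by
      rw [Nat.xor_div_two_pow, show u / 2 ^ 10 = pt n / 2 ^ 10 from hA'.symm, Nat.xor_self]
    exact (Nat.div_eq_zero_iff_lt (by norm_num)).mp h1
  have hy := okP_mem (PL_ok n hn)
  have hwE := (hE.vd_mem (u := Nat.xor u (pt n)) (by omega)).mpr hw
  have hb : bf (e 0) (vd (pt n)) = 1 := by
    have h1 := (hE _).mp hwE 19 (by decide)
    rw [vd_xor, Pi.add_apply, h19] at h1
    have := bf_e_right (vd (pt n)) 19
    rw [show Fin.rev (19 : Fin 20) = 0 from rfl] at this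
    rw [bf_comm, this]
    revert h1; generalize vd (pt n) 19 = a; revert a; decide
  obtain ⟨r, hr, hr'⟩ := (h.opp _ e0_mem _ mem19 (by rw [bf_e]; decide)).2.2 _ hy hb
  have hrU := U.inv_mem (R_le_U _ hr)
  have h2 := E_smul hrU hwE
  rw [R_fix ((R _).inv_mem hr), vd_xor, ← hr', smul_add, inv_smul_smul] at h2
  obtain ⟨c, hc1, h3⟩ := hE.exists_code h2
  have h4 : r⁻¹ • g⁻¹ • v = vd (Nat.xor c 524288) := by
    rw [vd_xor, h3, vd_e19, add_assoc, add_self, add_zero, hv]
  have h5 : qc (Nat.xor c 524288) = false := by
    rw [← b2z_eq_zero, ← qf_vd, ← h4, qf_U hrU, qf_U (U.inv_mem hg), hq]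
  have h6 := allN_spec (n := 1024) (p := fun c => qc (Nat.xor c 524288) ||
    frc (apw (tab 64 tT (Nat.shiftRight c 1)) (Nat.xor c 524288)) fun z =>
      Nat.beq z 1 || (Nat.beq z 1025 || Nat.beq z vC)) (by decide +kernel) c hc1
  simp only [h5, frc_eq, Bool.false_or, Bool.or_eq_true, Nat.beq_eq] at h6
  refine ⟨wd (tab 64 tT (Nat.shiftRight c 1)) * (r⁻¹ * g⁻¹),
    U.mul_mem (wd_mem _) (U.mul_mem hrU (U.inv_mem hg)), ?_⟩
  rw [mul_smul, mul_smul, h4, rl_wd, ← vd_e0_e10, ← vd_one]
  exact h6.imp (congrArg vd) (Or.imp (congrArg vd) (congrArg vd))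

theorem types (h : Facts1) : ∀ v : M, v ≠ 0 → qf v = 0 → v ∉ O →
    (∃ x ∈ O, v ∈ E x ∧ (∀ y ∈ O, v ∈ E y → y = x) ∧ ∀ t ∈ Tv, v ∉ Nt t) ∨
      ∃ x ∈ O, ∃ y ∈ O, D2 x y ∧ v = x + y := by
  have hE : HE := h.memE0
  intro v h0 hq hO
  obtain ⟨g, hg, h1 | h1 | h1⟩ := sing_rep h h0 hq
  · exact absurd ((O_smul_iff hg).mp (h1 ▸ e0_mem)) hO
  · have hg' := U.inv_mem hg
    exact Or.inr ⟨_, O_smul hg' e0_mem, _, O_smul hg' mem10, (D2_smul_iff hg').mpr (D2_0_10 hE),
      by rw [← smul_add, ← h1, inv_smul_smul]⟩
  · have hg' := U.inv_mem hg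
    have uniq : ∀ y ∈ O, v ∈ E y → y = g⁻¹ • e 0 := fun y hy hv => by
      rw [← (pts hE (O_smul hg hy)).2.2.2.1 (h1 ▸ E_smul hg hv), inv_smul_smul]
    refine Or.inl ⟨_, O_smul hg' e0_mem, ?_, uniq, ?_⟩
    · rw [← E_smul_iff hg, smul_inv_smul, h1, hE.vd_mem (by decide)]; decide
    · rintro _ ⟨k, hk, rfl⟩ hv
      obtain ⟨w, rfl⟩ : ∃ z, k • z = v := ⟨k⁻¹ • v, smul_inv_smul _ _⟩
      obtain ⟨x, hx, y, hy, hne, -, h2, h3⟩ := (Nt_two hE ((Nt_smul_iff hk).mp hv)).2.1
      exact hne (smul_left_cancel k ((uniq _ (O_smul hk hx) (E_smul hk h2)).trans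
        (uniq _ (O_smul hk hy) (E_smul hk h3)).symm))

/-! ### the coset lemma -/

theorem vd_fix {s : GM} {fs : ℕ → ℕ} (hs : Rl s fs) {u : ℕ} (h : s • vd u = vd u) :
    vd (Nat.xor u (fs u)) = 0 := by
  rw [vd_xor, ← hs, h, add_self]

theorem cosA (hE : HE) (v : M) (hv : t0 • v = v) (hq : qf v = 0) :
    ∃ x ∈ O, x ∈ Nt t0 ∧ ∃ m, v + (m + t0 • m) ∈ E x := by
  obtain ⟨u, -, rfl⟩ := vd_surj v
  obtain ⟨c, hc, m, hm⟩ := decomp (k := 255) (cP := aP) (cQ := aQ) (cR := aR) rl_t0
    (lin_id.xor rl_t0.lin) (lin_ap aB) (by decide +kernel) (vd_fix rl_t0 hv)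
  have hz : vd u + (m + t0 • m) = vd (ap aB c) := by
    rw [hm, add_assoc, add_self, add_zero]
  have hn := comm_mem_Nt t0_mem m
  have h1 : qc (ap aB c) = false := by
    rw [← b2z_eq_zero, ← qf_vd, ← hz, qf_add, hq, (Nt_two hE hn).1, bf_comm, hn _ hv]; rfl
  have h2 := allN_spec (n := 256) (p := fun c => frc (ap aB c) fun z => qc z ||
    frc (tab 72 tA c) fun a => okP a && (inN (pt a) && inE a z)) (by decide +kernel) c (by omega)
  simp only [frc_eq, h1, Bool.false_or, Bool.and_eq_true] at h2
  exact ⟨_, okP_mem h2.1, inN_mem h2.2.1, m, hz ▸ (hE.inE_iff h2.1 (ap_lt _ _)).mpr h2.2.2⟩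

theorem a1_mem : a1 ∈ U := gen_mem 3
theorem b1_mem : b1 ∈ U := gen_mem 7
theorem a1_inv : a1⁻¹ = a1 := inv_of_sq (gen_sq (k := 3) (by norm_num))
theorem b1_inv : b1⁻¹ = b1 := inv_of_sq (gen_sq (k := 7) (by norm_num))

theorem t2_Tv : a1 * t0 * a1 ∈ Tv := by
  have := Tv_conj a1_mem t0_Tv
  rwa [a1_inv] at this

theorem t3_Tv : b1 * a1 * t0 * a1 * b1 ∈ Tv := by
  have := Tv_conj b1_mem t2_Tv
  rw [b1_inv] at this
  simpa only [mul_assoc] using this

/-- `a1 t0 a1` on codes -/
noncomputable def f2 (u : ℕ) : ℕ := ap (gc 3) (ap (gc 1) (ap (gc 3) u))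
/-- `b1 a1 t0 a1 b1` on codes -/
noncomputable def f3 (u : ℕ) : ℕ := ap (gc 7) (f2 (ap (gc 7) u))
/-- the involution of rank two on codes -/
noncomputable def s2 (u : ℕ) : ℕ := ap (gc 1) (f2 u)
/-- the involution of rank three on codes -/
noncomputable def s3 (u : ℕ) : ℕ := s2 (f3 u)

theorem rl_f2 : Rl (a1 * t0 * a1) f2 := (rl_a1.mul rl_t0).mul rl_a1
theorem rl_f3 : Rl (b1 * a1 * t0 * a1 * b1) f3 :=
  (((rl_b1.mul rl_a1).mul rl_t0).mul rl_a1).mul rl_b1
theorem rl_s2 : Rl (t0 * (a1 * t0 * a1)) s2 := rl_t0.mul rl_f2
theorem rl_s3 : Rl (t0 * (a1 * t0 * a1) * (b1 * a1 * t0 * a1 * b1)) s3 := rl_s2.mul rl_f3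

theorem s2_mem {u : ℕ} (h1 : Nat.beq (ap (gc 1) u) u = true) (h2 : Nat.beq (f2 u) u = true) :
    t0 * (a1 * t0 * a1) ∈ R (vd u) :=
  (R _).mul_mem (mem_R t0_Tv (rl_t0.app h1)) (mem_R t2_Tv (rl_f2.app h2))

theorem s2_mem0 : t0 * (a1 * t0 * a1) ∈ R (e 0) := by
  rw [← vd_one]; exact s2_mem (by decide +kernel) (by decide +kernel)

theorem s2_mem1 : t0 * (a1 * t0 * a1) ∈ R (e 1) := by
  rw [← vd_e1]; exact s2_mem (by decide +kernel) (by decide +kernel)

theorem s3_mem0 : t0 * (a1 * t0 * a1) * (b1 * a1 * t0 * a1 * b1) ∈ R (e 0) := by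
  refine (R _).mul_mem s2_mem0 (mem_R t3_Tv ?_)
  rw [← vd_one]; exact rl_f3.app (by decide +kernel)

theorem cardE01 (hE : HE) : Nat.card ↥(E (e 0) ⊓ E (e 1)) ≤ 64 := by
  refine card_le_of_code fun v hv => ?_
  obtain ⟨c, hc, rfl⟩ := hE.exists_code hv.1
  have h1 := allN_spec (n := 1024) (p := fun c => Nat.blt c 64 || !inE p1 c)
    (by decide +kernel) c hc
  have h2 := hv.2
  rw [← pt1] at h2
  rw [(hE.inE_iff ok1 (by omega)).mp h2, Bool.not_true, Bool.or_false, Nat.blt_eq] at h1
  exact ⟨c, h1, rfl⟩

theorem cardR01 (h : Facts1) : Nat.card ↥(R (e 0) ⊓ R (e 1)) ≤ 16 := by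
  have hE : HE := h.memE0
  have hi : ∀ r ∈ R (e 0) ⊓ R (e 1), ∀ i : Fin 20, 14 ≤ i.val → (r • e 19) i = e 19 i := by
    intro r hr i hi
    have hj : (Fin.rev i).val < 6 := by rw [Fin.val_rev]; omega
    have h1 := e_mem_E0 hE (Fin.rev i) (by omega) r hr.1
    have h2 : e (Fin.rev i) ∈ E (e 1) := by
      rw [← pt1, ← vd_shl, hE.inE_iff ok1 (allN_spec (n := 6)
        (p := fun j => decide (Nat.shiftLeft 1 j < 1048576)) (by decide +kernel) _ hj |> of_decide_eq_true)]
      exact allN_spec (n := 6) (p := fun j => inE p1 (Nat.shiftLeft 1 j)) (by decide +kernel) _ hj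
    have h3 : r • e (Fin.rev i) = e (Fin.rev i) := by
      rcases h1 with h1 | h1
      · exact h1
      · refine (h2 r hr.2).resolve_right fun h4 => ?_
        exact absurd (congrFun (add_left_cancel (h1.symm.trans h4)) 0) (by decide)
    rw [← bf_e_right (r • e 19), ← h3, bf_U (R_le_U _ hr.1), bf_e_right]
  let f : ↥(R (e 0) ⊓ R (e 1)) → Fin 4 → ZMod 2 := fun r j => (r.1 • e 19) ⟨10 + j.val, by omega⟩
  have hf : Function.Injective f := by
    intro r r' hrr
    have h1 : r.1 • e 19 + r'.1 • e 19 ∈ E (e 0) := by
      refine (hE _).mpr fun i h10 => ?_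
      rw [Pi.add_apply]
      by_cases h14 : 14 ≤ i.val
      · rw [hi _ r.2 i h14, hi _ r'.2 i h14]; exact CharTwo.add_self_eq_zero _
      · have := congrFun hrr ⟨i.val - 10, by omega⟩
        have e1 : (⟨10 + (i.val - 10), by omega⟩ : Fin 20) = i := Fin.ext (by simp only; omega)
        simp only [f, e1] at this
        rw [this]; exact CharTwo.add_self_eq_zero _
    have h2 := E_smul (U.inv_mem (R_le_U _ r'.2.1)) h1
    rw [R_fix ((R _).inv_mem r'.2.1), smul_add, inv_smul_smul, ← mul_smul] at h2
    have h3 := (h.opp _ e0_mem _ mem19 (by rw [bf_e]; decide)).2.1 _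
      ((R _).mul_mem ((R _).inv_mem r'.2.1) r.2.1) h2
    exact Subtype.ext (inv_mul_eq_one.mp h3).symm
  have := Nat.card_le_card_of_injective f hf
  simpa using this

theorem cosB (hE : HE) (v : M) (hv : (t0 * (a1 * t0 * a1)) • v = v) : ∃ m,
    v + (m + (t0 * (a1 * t0 * a1)) • m) ∈ E (e 0) ∨ v + (m + (t0 * (a1 * t0 * a1)) • m) ∈ E (e 1) ∨
    v + (m + (t0 * (a1 * t0 * a1)) • m) ∈ E (e 0 + e 1) ∨
    ∃ u ∈ E (e 0), ∃ u' ∈ E (e 1), (t0 * (a1 * t0 * a1)) • u = u ∧
      (t0 * (a1 * t0 * a1)) • u' = u' ∧ bf u u' = 1 ∧
      v + (m + (t0 * (a1 * t0 * a1)) • m) = u + u' := by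
  obtain ⟨u, -, rfl⟩ := vd_surj v
  obtain ⟨c, hc, m, hm⟩ := decomp (k := 15) (cP := bP) (cQ := bQ) (cR := bR) rl_s2
    (lin_id.xor rl_s2.lin) (lin_ap bB) (by decide +kernel) (vd_fix rl_s2 hv)
  have hz : vd u + (m + (t0 * (a1 * t0 * a1)) • m) = vd (ap bB c) := by
    rw [hm, add_assoc, add_self, add_zero]
  refine ⟨m, ?_⟩
  rw [hz]
  have h2 := allN_spec (n := 16) (p := fun c => frc (ap bB c) fun z => Nat.blt z 1024 ||
    (inE p1 z || (inE p3 z || frc (tab 20 tU c) fun w => Nat.blt w 1024 && (inE p1 (Nat.xor z w) &&
      (Nat.beq (s2 w) w && (Nat.beq (s2 (Nat.xor z w)) (Nat.xor z w) && bc w (Nat.xor z w)))))))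
    (by decide +kernel) c (by omega)
  simp only [frc_eq, Bool.or_eq_true, Bool.and_eq_true, Nat.blt_eq] at h2
  rcases h2 with h2 | h2 | h2 | ⟨h2, h3, h4, h5, h6⟩
  · exact Or.inl ((hE.vd_mem (ap_lt _ _)).mpr h2)
  · exact Or.inr (Or.inl (pt1 ▸ (hE.inE_iff ok1 (ap_lt _ _)).mpr h2))
  · exact Or.inr (Or.inr (Or.inl (pt3 ▸ (hE.inE_iff ok3 (ap_lt _ _)).mpr h2)))
  · refine Or.inr (Or.inr (Or.inr ⟨_, (hE.vd_mem (by omega)).mpr h2, _,
      pt1 ▸ (hE.inE_iff ok1 (xor_lt (ap_lt _ _) (by omega))).mpr h3, rl_s2.app h4, rl_s2.app h5,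
      by rw [bf_vd, h6]; rfl, ?_⟩))
    rw [vd_xor, add_comm (vd (ap bB c)), ← add_assoc, add_self, zero_add]

theorem cosC (hE : HE) {s : GM} (hs : Rl s s3) (H : decB s3
    (fun u => Nat.land (Nat.xor u (s3 u)) 1048574) (fun u => u) cP cQ cR 1023 = true) (v : M)
    (hv : s • v = v ∨ s • v = v + e 0) : ∃ m, v + (m + s • m) ∈ E (e 0) := by
  obtain ⟨u, -, rfl⟩ := vd_surj v
  have h0 : vd (Nat.land (Nat.xor u (s3 u)) 1048574) = 0 := by
    funext i
    rw [vd_land, vd_xor, ← hs]
    rcases hv with hv | hv <;> rw [hv]
    · rw [add_self, Pi.zero_apply, zero_mul]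
    · rw [← add_assoc, add_self, zero_add]
      revert i; decide +kernel
  obtain ⟨c, hc, m, hm⟩ := decomp hs ((lin_land 1048574).comp (lin_id.xor hs.lin)) lin_id H h0
  refine ⟨m, ?_⟩
  rw [hm, add_assoc, add_self, add_zero]
  exact (hE.vd_mem (by omega)).mpr (by omega)

theorem coset (h : Facts1) : ∀ s ∈ U, s * s = 1 → s ≠ 1 →
    (s ∈ Tv ∧ ∀ v, s • v = v → qf v = 0 → ∃ x ∈ O, x ∈ Nt s ∧ ∃ m, v + (m + s • m) ∈ E x) ∨
    (∃ x ∈ O, ∃ y ∈ O, y ∈ E x ∧ y ≠ x ∧ s ∈ R x ⊓ R y ∧ Nat.card ↥(E x ⊓ E y) ≤ 64 ∧
      Nat.card ↥(R x ⊓ R y) ≤ 16 ∧ ∀ v, s • v = v → ∃ m, v + (m + s • m) ∈ E x ∨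
        v + (m + s • m) ∈ E y ∨ v + (m + s • m) ∈ E (x + y) ∨
        ∃ u ∈ E x, ∃ u' ∈ E y, s • u = u ∧ s • u' = u' ∧ bf u u' = 1 ∧ v + (m + s • m) = u + u') ∨
    ∃ x ∈ O, s ∈ R x ∧ ∀ v : M, s • v = v ∨ s • v = v + x → ∃ m, v + (m + s • m) ∈ E x := by
  have hE : HE := h.memE0
  intro s hs h2 h1
  obtain ⟨g, hg, hc⟩ := h.invol s hs h2 h1
  have su : ∀ v : M, ∃ z, g • z = v := fun v => ⟨g⁻¹ • v, smul_inv_smul _ _⟩
  rcases hc with rfl | rfl | rfl
  · refine Or.inl ⟨Tv_conj hg t0_Tv, fun v hv hq => ?_⟩
    obtain ⟨v, rfl⟩ := su v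
    obtain ⟨x, hx, h3, m, h4⟩ := cosA hE v (Fix_smul_iff.mp hv) (by rw [← qf_U hg, hq])
    exact ⟨g • x, O_smul hg hx, Nt_smul hg h3, g • m, by
      rw [conj_comm_smul, ← smul_add]; exact E_smul hg h4⟩
  · refine Or.inr (Or.inl ⟨_, O_smul hg e0_mem, _, O_smul hg mem1,
      E_smul hg (e_mem_E0 hE 1 (by decide)), fun h3 => absurd (smul_left_cancel g h3) (by decide),
      ⟨R_conj hg s2_mem0, R_conj hg s2_mem1⟩,
      (card_E_inf hg _ _).trans_le (cardE01 hE), (card_R_inf hg _ _).trans_le (cardR01 h),
      fun v hv => ?_⟩)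
    obtain ⟨v, rfl⟩ := su v
    obtain ⟨m, hm⟩ := cosB hE v (Fix_smul_iff.mp hv)
    refine ⟨g • m, ?_⟩
    rw [conj_comm_smul, ← smul_add, ← smul_add]
    refine hm.imp (E_smul hg) (Or.imp (E_smul hg) (Or.imp (E_smul hg) ?_))
    rintro ⟨u, hu, u', hu', h3, h4, h5, h6⟩
    exact ⟨g • u, E_smul hg hu, g • u', E_smul hg hu', Fix_smul_iff.mpr h3, Fix_smul_iff.mpr h4,
      by rw [bf_U hg, h5], by rw [h6, smul_add]⟩
  · refine Or.inr (Or.inr ⟨_, O_smul hg e0_mem, R_conj hg s3_mem0, fun v hv => ?_⟩)
    obtain ⟨v, rfl⟩ := su v
    rw [Fix_smul_iff, ← smul_add, mul_smul (g * _), inv_smul_smul, mul_smul g,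
      smul_left_cancel_iff] at hv
    obtain ⟨m, hm⟩ := cosC hE rl_s3 (by decide +kernel) v hv
    exact ⟨g • m, by rw [conj_comm_smul, ← smul_add]; exact E_smul hg hm⟩

theorem jobB2 : JobB2 := fun h =>
  { d2 := d2 h, tv := tv h, line := line h, types := types h, fb := fb h, ntE := ntE h,
    coset := coset h, mem9 := mem9, mem10 := mem10, mem19 := mem19, act := act, d2a := d2a h,
    d2b := d2b h }

end H21.BM
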