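import Cfsg.Agent.H46.BWSpec
import Cfsg.Agent.H87.Simple
import Cfsg.Agent.H41.AlxA

/-! Tower BW, job `JobC`: the degrees `64`, `65`. -/

set_option autoImplicit false

namespace H21.BWC

open Cfsg Subgroup H46.BW

universe u

variable {G : Type u} [Group G] [Finite G]

theorem ex_cen {r : ℕ} (hr : r.Prime) {g : G} (h : r ∣ cc g) : ∃ u, orderOf u = r ∧ g * u = u * g := by
  have := Fact.mk hr
  obtain ⟨u, hu⟩ := exists_prime_orderOf_dvd_card' r h
  exact ⟨u, (orderOf_coe u).trans hu, (mem_centralizer_singleton_iff.1 u.2).symm⟩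

omit [Finite G] in
theorem dvd_cc {g u : G} (h : g * u = u * g) : orderOf u ∣ cc g :=
  orderOf_dvd_natCard _ (mem_centralizer_singleton_iff.2 h.symm)

omit [Finite G] in
theorem ord_mul {g u : G} (h : g * u = u * g) (k : (orderOf g).Coprime (orderOf u)) :
    orderOf (g * u) = orderOf g * orderOf u :=
  Commute.orderOf_mul_eq_mul_orderOf_of_coprime h k

theorem mod3 {c e : G → ℤ} {x : ℕ} (T : T3 c e x) {g : G} (h : 3 ∣ cc g) : (3 : ℤ) ∣ 1 - c g := by
  by_cases k : 3 ∣ orderOf g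
  · simp [(T.sing g k).1]
  · obtain ⟨u, hu, hc⟩ := ex_cen Nat.prime_three h
    have := T.cong 3 g u Nat.prime_three ⟨1, by simpa using hu⟩ hc
    rwa [(T.sing _ (by
      rw [ord_mul hc (hu ▸ ((Nat.Prime.coprime_iff_not_dvd Nat.prime_three).2 k).symm), hu]
      exact dvd_mul_left _ _)).1] at this

theorem sub {r k : ℕ} (hr : r.Prime) (H : Subgroup G) (h : r ^ k ∣ Nat.card H) :
    ∃ T ≤ H, Nat.card T = r ^ k ∧ ∀ t ∈ T, El r t := by
  have := Fact.mk hr
  obtain ⟨T, hT⟩ := Sylow.exists_subgroup_card_pow_prime r h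
  have e : Nat.card (T.map H.subtype) = r ^ k := by rw [card_map_of_injective H.subtype_injective, hT]
  refine ⟨_, map_subtype_le T, e, fun t ht => ?_⟩
  obtain ⟨j, -, hj⟩ := (Nat.dvd_prime_pow hr).1 (e ▸ orderOf_dvd_natCard _ ht)
  exact ⟨j, hj⟩

theorem can {r k n m : ℕ} {y : ℤ} (hr : 0 < r) (hm : r.Coprime m)
    (h : ((r : ℤ) ^ k * r ^ n) ∣ ((r ^ n * m : ℕ) : ℤ) * y) : (r : ℤ) ^ k ∣ y := by
  rw [mul_comm] at h
  push_cast at h
  rw [mul_assoc] at h
  exact (Nat.isCoprime_iff_coprime.2 hm).pow_left.dvd_of_dvd_mul_left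
    (Int.dvd_of_mul_dvd_mul_left (by positivity) h)

theorem cop {d a b : ℕ} (h : d.Coprime 26) (k : d ∣ 2 ^ a * 3 * 5 * 13 ^ b) : d ∣ 15 := by
  have h2 : d.Coprime (2 ^ a) := (h.coprime_dvd_right (by norm_num)).pow_right _
  have h3 : d.Coprime (13 ^ b) := (h.coprime_dvd_right (by norm_num)).pow_right _
  have := h3.dvd_of_dvd_mul_right k
  rw [mul_assoc] at this
  exact h2.dvd_of_dvd_mul_left this

theorem sm0 : ∀ s < 64, s % 3 = 1 → s = 1 ∨ s = 4 ∨ ∃ d < 64, d ∣ s * (s + 1) ∧ Nat.gcd d 26 = 1 ∧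
    ¬ d ∣ 15 := by decide +kernel

theorem sm {a b n : ℕ} {y : ℤ} (hn : n ∣ 2 ^ a * 3 * 5 * 13 ^ b) (hy : |y| < (64 : ℕ))
    (h : ∃ s : ℕ, s % 3 = 1 ∧ (s = 1 ∨ s * (s + 1) ∣ n) ∧ (y = s ∨ y = -s - 1)) :
    y = 1 ∨ y = -2 ∨ y = 4 ∨ y = -5 := by
  obtain ⟨s, h1, h2, h3⟩ := h
  rw [abs_lt] at hy
  have : s = 1 ∨ s = 4 := by
    rcases sm0 s (by omega) h1 with k | k | ⟨d, -, k1, k2, k3⟩
    · exact .inl k
    · exact .inr k
    · exact .inl (h2.resolve_right fun k => k3 (cop k2 (k1.trans (k.trans hn))))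
  omega

theorem syl {p : ℕ} (hp : p.Prime) {w : G} (hw : orderOf w = p) (h : ¬ p * p ∣ Nat.card G) :
    ∃ P : Sylow p G, (P : Subgroup G) = zpowers w ∧ ∃ n, n % p = 1 ∧
      n * Nat.card (normalizer (zpowers w : Set G)) = Nat.card G := by
  have := Fact.mk hp
  have e : Nat.card (zpowers w) = p := by rw [Nat.card_zpowers, hw]
  have hP : IsPGroup p (zpowers w) := IsPGroup.of_card (n := 1) (by rw [e, pow_one])
  have hi : ¬ p ∣ (zpowers w).index := fun k => h (by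
    rw [← (zpowers w).card_mul_index, e]; exact Nat.mul_dvd_mul_left _ k)
  refine ⟨hP.toSylow hi, rfl, _, ?_, H87.card_sylow_mul_card_normalizer (hP.toSylow hi)⟩
  exact Eq.trans (card_sylow_modEq_one p G) (Nat.mod_eq_of_lt hp.one_lt)

theorem aut [IsSimpleGroup G] (hG : ¬ IsMulCommutative G) {p : ℕ} (hp : p.Prime) {w : G}
    (hw : orderOf w = p) (h : ¬ p * p ∣ Nat.card G) : ∃ n k, n % p = 1 ∧ k ∣ p - 1 ∧ k ≠ 1 ∧
      n * (k * cc w) = Nat.card G ∧ k * cc w = Nat.card (normalizer (zpowers w : Set G)) := by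
  have := Fact.mk hp
  obtain ⟨P, hP, n, h1, h2⟩ := syl hp hw h
  have e : centralizer (zpowers w : Set G) = centralizer {w} := by
    rw [zpowers_eq_closure, centralizer_closure]
  have k := H87.relIndex_mul_card_centralizer (zpowers w)
  have k1 := H87.relIndex_centralizer_dvd_card_mulAut (zpowers w)
  rw [IsCyclic.card_mulAut, Nat.card_zpowers, hw, Nat.totient_prime hp] at k1
  refine ⟨n, _, h1, k1, fun k2 => H87.not_normalizer_le_centralizer hG
    (hw ▸ orderOf_dvd_natCard w) P (hP ▸ relIndex_eq_one.1 k2), ?_, ?_⟩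
  · rw [← h2, ← k, cc, ← e]
  · rw [← k, cc, ← e]

section Main

variable {a b : ℕ} {c e : G → ℤ}

omit [Finite G] in
theorem not3 {r : ℕ} (hr : r.Prime) (h3 : r ≠ 3) {g : G} (h : El r g) : ¬ 3 ∣ orderOf g := by
  obtain ⟨k, hk⟩ := h
  rw [hk]
  exact fun h => h3 ((Nat.prime_dvd_prime_iff_eq Nat.prime_three hr).1
    (Nat.prime_three.dvd_of_dvd_pow h)).symm

theorem two (hN : Nat.card G = 2 ^ a * 3 * 5 * 13 ^ b) (ha : 8 ≤ a) (T : T3 c e 64) :
    a ≤ 9 ∧ ∀ g, orderOf g = 2 → c g = 0 ∨ c g = 4 ∨ c g = -2 := by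
  obtain ⟨n, rfl⟩ : ∃ n, a = n + 1 := ⟨a - 1, by omega⟩
  have := Fintype.ofFinite G
  obtain ⟨z, hz, m, hm⟩ := H41.Alx.central (G := G) (n := n) Nat.prime_two
    (hN ▸ ⟨3 * 5 * 13 ^ b, by ring⟩)
  have hN' : Nat.card G = 2 ^ (n + 1) * (15 * 13 ^ b) := by rw [hN]; ring
  have co : Nat.Coprime 2 (15 * 13 ^ b) :=
    Nat.Coprime.mul_right (by norm_num) (Nat.Coprime.pow_right _ (by norm_num))
  have z1 : z ≠ 1 := by rintro rfl; simp at hz
  have ez : El 2 z := ⟨1, by simpa using hz⟩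
  have z3 := not3 Nat.prime_two (by norm_num) ez
  have cz : c z = 0 := by
    have h := (T.om z).1
    rw [cc, hm, hN'] at h
    have h1 := can (k := 6) two_pos co (Dvd.dvd.trans ⟨m, by push_cast; ring⟩ h)
    have h2 := abs_lt.1 (T.lt z z1)
    omega
  obtain ⟨ε, η, h1, h2, h3, -, h4⟩ := T.blk 2 Nat.prime_two (by norm_num)
  have hη : η = 1 := by
    have := (h4 z ez z1).1 fun k => by
      have := mod3 T k
      rw [cz] at this
      omega
    rw [T.reg z z3, cz] at this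
    omega
  have hε : ε = 0 := h1.resolve_right fun k => by
    have h := h3 k z
    rw [cc, hm, hN', cz] at h
    have h1 := can (k := 7) two_pos co (Dvd.dvd.trans ⟨m, by push_cast; ring⟩ h)
    omega
  subst hη hε
  have key : ∀ g, El 2 g → g ≠ 1 → (¬ 3 ∣ cc g → c g = 0) ∧ (3 ∣ cc g → c g = 4 ∨ c g = -2) := by
    refine fun g eg g1 => ⟨fun k => ?_, fun k => ?_⟩
    · have := (h4 g eg g1).1 k
      rw [T.reg g (not3 Nat.prime_two (by norm_num) eg)] at this
      omega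
    · have k1 := sm (hN ▸ card_subgroup_dvd_card _) (T.lt g g1) ((h4 g eg g1).2 k (by norm_num))
      have k2 := T.cong 2 1 g Nat.prime_two eg (by simp)
      rw [one_mul, T.one] at k2
      omega
  refine ⟨by_contra fun k => ?_, fun g hg => ?_⟩
  · have := Fact.mk Nat.prime_three
    obtain ⟨u, hu⟩ := exists_prime_orderOf_dvd_card' (G := G) 3 (hN ▸ ⟨2 ^ (n + 1) * 5 * 13 ^ b, by ring⟩)
    have h := T.pair u z z hu z3 z3
    rw [cc, hm, hN', cz, mul_assoc ((_ : ℕ) : ℤ) (cc u : ℤ)] at h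
    obtain ⟨j, rfl⟩ : ∃ j, n = j + 9 := ⟨n - 9, by omega⟩
    have h1 := can (k := 16) two_pos co (Dvd.dvd.trans ⟨195 * m ^ 2 * 2 ^ j, by push_cast; ring⟩ h)
    obtain ⟨S, s1, s2, s3⟩ := sub (k := 4) Nat.prime_two (centralizer {u}) (by rw [cc] at h1; omega)
    have := T.roots S [4, -2] fun g hg g1 => by
      simpa using (key g (s3 g hg) g1).2 (hu ▸ dvd_cc (mem_centralizer_singleton_iff.1 (s1 hg)))
    rw [s2] at this
    revert this
    decide
  · have := key g ⟨1, by simpa using hg⟩ (by rintro rfl; simp at hg)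
    tauto

theorem thirteen (hN : Nat.card G = 2 ^ a * 3 * 5 * 13 ^ b) (T : T3 c e 64) : b = 1 := by
  have p13 : Nat.Prime 13 := by norm_num
  have hN' : Nat.card G = 13 ^ b * (2 ^ a * 15) := by rw [hN]; ring
  have co : Nat.Coprime 13 (2 ^ a * 15) :=
    Nat.Coprime.mul_right (Nat.Coprime.pow_right _ (by norm_num)) (by norm_num)
  obtain _ | _ | n := b
  · have := T.dvd
    rw [hN', pow_zero, one_mul] at this
    exact absurd (Dvd.dvd.trans (by norm_num) this) (p13.coprime_iff_not_dvd.1 co)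
  · rfl
  exfalso
  have := Fintype.ofFinite G
  obtain ⟨w, hw, m, hm⟩ := H41.Alx.central (G := G) (n := n + 1) p13 (hN' ▸ dvd_mul_right _ _)
  obtain ⟨ε, η, h1, h2, -, h3, h4⟩ := T.blk 13 p13 (by norm_num)
  have hη : η = 0 := h2.resolve_right fun k => by
    have h := h3 k w
    rw [cc, hm, hN', T.reg w (by rw [hw]; norm_num)] at h
    have h1 := can (k := 2) p13.pos co (Dvd.dvd.trans ⟨5 * m, by push_cast; ring⟩ h)
    have h2 := abs_lt.1 (T.lt w (by rintro rfl; simp at hw))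
    omega
  subst hη
  obtain ⟨S, -, s2, s3⟩ := sub (G := G) (k := 2) p13 ⊤ (by
    rw [card_top, hN']; exact ⟨13 ^ n * (2 ^ a * 15), by ring⟩)
  have k13 : ∀ g ∈ S, (13 : ℤ) ∣ c g - 64 := fun g hg => by
    simpa [T.one] using T.cong 13 1 g p13 (s3 g hg) (by simp)
  rcases h1 with rfl | rfl
  · have := T.roots S [25] fun g hg g1 => by
      have k1 := mod3 T (g := g) (by_contra fun k => by simpa using (h4 g (s3 g hg) g1).1 k)
      have k2 := T.low 13 g p13 (s3 g hg) g1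
      have k3 := abs_lt.1 (T.lt g g1)
      have k4 := k13 g hg
      rw [List.mem_singleton]
      omega
    rw [s2] at this
    revert this
    decide
  · have := T.roots S [-1] fun g hg g1 => by
      have k4 := k13 g hg
      rw [List.mem_singleton]
      by_cases k : 3 ∣ cc g
      · have := sm (hN ▸ card_subgroup_dvd_card _) (T.lt g g1) ((h4 g (s3 g hg) g1).2 k (by norm_num))
        omega
      · have := (h4 g (s3 g hg) g1).1 k
        omega
    rw [s2] at this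
    revert this
    decide

end Main

theorem dv {d : ℕ} (h : d ∣ 2 ^ 9 * 3 * 5 * 13) (h3 : ¬ 3 ∣ d) :
    ∃ i ≤ 9, ∃ y ∈ [1, 5, 13, 65], d = 2 ^ i * y := by
  have h1 : d ∣ 2 ^ 9 * 65 := ((Nat.prime_three.coprime_iff_not_dvd).2 h3).symm.dvd_of_dvd_mul_left
    (by rwa [show 3 * (2 ^ 9 * 65) = 2 ^ 9 * 3 * 5 * 13 by norm_num])
  obtain ⟨x, y, hx, hy, rfl⟩ := (Nat.dvd_mul).1 h1
  obtain ⟨i, hi, rfl⟩ := (Nat.dvd_prime_pow Nat.prime_two).1 hx
  refine ⟨i, hi, y, ?_, rfl⟩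
  have := Nat.le_of_dvd (by norm_num) hy
  clear h h1 h3
  revert hy
  revert y
  decide +kernel

theorem ar1 {d : ℕ} (h : d ∣ 2 ^ 9 * 3 * 5 * 13) (h2 : ¬ 2 ∣ d) (h3 : ¬ 3 ∣ d) (h4 : 13 ∣ d) :
    d = 13 ∨ d = 65 := by
  obtain ⟨i, hi, y, hy, rfl⟩ := dv h h3
  clear h h3
  revert i y
  decide +kernel

theorem ar2 {d k : ℕ} (h : d ∣ 2 ^ 9 * 3 * 5 * 13) (h3 : ¬ 3 ∣ d) (hk : k ∈ [65, 130]) (h1 : k ∣ d)
    (h2 : d / k % 13 = 1) : d = k := by
  obtain ⟨i, hi, y, hy, rfl⟩ := dv h h3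
  clear h h3
  revert i y k
  decide +kernel

theorem jobC : JobC.{u} := by
  intro G _ _ _ a b c e hN ha T
  obtain ⟨ha', inv⟩ := two hN ha T
  obtain rfl := thirteen hN T
  have p13 : Nat.Prime 13 := by norm_num
  have hd : Nat.card G ∣ 2 ^ 9 * 3 * 5 * 13 := by
    rw [hN]; interval_cases a <;> norm_num
  have nd : ∀ n, ¬ n ∣ 2 ^ 9 * 3 * 5 * 13 → ¬ n ∣ Nat.card G := fun n h k => h (k.trans hd)
  have hG : ¬ IsMulCommutative G := H87.nonabelian_of_card_not_prime (by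
    rw [hN]; interval_cases a <;> norm_num)
  have n3 : ∀ r : ℕ, r = 5 ∨ r = 13 → ∀ w : G, r ∣ orderOf w → ¬ 3 ∣ orderOf w ∧ c w = -1 := by
    intro r hr w hw
    have h := (T.def0 r w (by rcases hr with rfl | rfl <;> norm_num) hw).2
      (nd _ (by rcases hr with rfl | rfl <;> norm_num))
    have k : ¬ 3 ∣ orderOf w := fun k => by
      have := (T.sing w k).2
      omega
    have := T.reg w k
    exact ⟨k, by omega⟩
  have n3' : ∀ r : ℕ, r = 5 ∨ r = 13 → ∀ w : G, orderOf w = r → ¬ 3 ∣ cc w := fun r hr w hw k => by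
    obtain ⟨u, hu, hc⟩ := ex_cen Nat.prime_three k
    have := ord_mul hc (by rw [hw, hu]; rcases hr with rfl | rfl <;> norm_num)
    rw [hw, hu] at this
    exact (n3 r hr _ (this ▸ dvd_mul_right _ _)).1 (this ▸ dvd_mul_left _ _)
  have := Fact.mk p13
  obtain ⟨w, hw⟩ := exists_prime_orderOf_dvd_card' (G := G) 13 (hN ▸ dvd_mul_left _ _)
  have c1 : cc w = 13 ∨ cc w = 65 := by
    refine ar1 ((card_subgroup_dvd_card _).trans hd) (fun k => ?_)
      (n3' _ (.inr rfl) w hw) (hw ▸ dvd_cc rfl)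
    obtain ⟨t, ht, hc⟩ := ex_cen Nat.prime_two k
    have h1 := T.cong 13 t w p13 ⟨1, by simpa using hw⟩ hc.symm
    rw [(n3 13 (.inr rfl) _ (by
      rw [ord_mul hc.symm (by rw [ht, hw]; norm_num), hw]; exact dvd_mul_left _ _)).2] at h1
    have := inv t ht
    omega
  obtain ⟨n, k, h1, h2, h3, h4, h5⟩ := aut hG p13 hw (nd _ (by norm_num))
  have hk : k ≤ 12 := Nat.le_of_dvd (by norm_num) h2
  obtain ⟨c2, rfl, rfl⟩ : cc w = 65 ∧ k = 2 ∧ a = 9 := by
    rw [hN] at h4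
    rcases c1 with c1 | c1 <;> rw [c1] at h4 <;> interval_cases a <;> interval_cases k <;> omega
  obtain ⟨g, hg, hc⟩ := ex_cen Nat.prime_five (g := w) (by rw [c2]; norm_num)
  obtain ⟨n', k', g1, g2, g3, g4, -⟩ := aut hG Nat.prime_five hg (nd _ (by norm_num))
  have hk' : k' ≤ 4 := Nat.le_of_dvd (by norm_num) g2
  have c3 : cc g = 65 ∨ cc g = 130 := by
    let K := centralizer ({g} : Set G)
    let w' : K := ⟨w, mem_centralizer_singleton_iff.2 hc⟩
    let g' : K := ⟨g, mem_centralizer_singleton_iff.2 rfl⟩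
    have o1 : orderOf w' = 13 := (orderOf_coe w').symm.trans hw
    have o2 : orderOf g' = 5 := (orderOf_coe g').symm.trans hg
    obtain ⟨-, -, j, j1, j2⟩ := syl p13 o1 fun h =>
      nd _ (by norm_num) (h.trans (card_subgroup_dvd_card _))
    have d1 : 13 ∣ Nat.card (normalizer (zpowers w' : Set K)) :=
      o1 ▸ orderOf_dvd_natCard _ (le_normalizer (mem_zpowers w'))
    have d2 : 5 ∣ Nat.card (normalizer (zpowers w' : Set K)) :=
      o2 ▸ orderOf_dvd_natCard _ (centralizer_le_normalizer _ (by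
        rw [zpowers_eq_closure, centralizer_closure]
        exact mem_centralizer_singleton_iff.2 (Subtype.ext hc.symm)))
    have d3 : Nat.card (normalizer (zpowers w' : Set K)) ∣ 130 := by
      have := card_dvd_of_le (le_normalizer_map (H := zpowers w') K.subtype)
      rwa [card_map_of_injective K.subtype_injective, MonoidHom.map_zpowers, coe_subtype, ← h5,
        c2] at this
    generalize Nat.card (normalizer (zpowers w' : Set K)) = y at j2 d1 d2 d3
    have y1 := Nat.le_of_dvd (by norm_num) d3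
    have y2 : y = 65 ∨ y = 130 := by
      obtain ⟨i, rfl⟩ := Nat.Coprime.mul_dvd_of_dvd_of_dvd (by norm_num) d1 d2
      obtain rfl | rfl | rfl : i = 0 ∨ i = 1 ∨ i = 2 := by omega
      all_goals simp at d3 ⊢
    have := ar2 (k := y) ((card_subgroup_dvd_card K).trans hd)
      (n3' _ (.inl rfl) g hg) (by simpa using y2) (j2 ▸ dvd_mul_left _ _)
      (by rw [← j2, Nat.mul_div_cancel _ (by omega), j1])
    change Nat.card K = _ ∨ Nat.card K = _
    omega
  rw [hN] at g4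
  rcases c3 with c3 | c3 <;> rw [c3] at g4 <;> interval_cases k' <;> omega

end H21.BWC
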