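/- The central extension attached to a bimultiplicative map; commutator pairings. -/
import Cfsg.Agent.H21.CentralExt

namespace H21

open Subgroup Cfsg
open scoped commutatorElement

universe u v w

/-- `G × T` with the multiplication twisted by a bimultiplicative map `β` -/
@[ext]
structure BiExt {G : Type u} {T : Type v} [Group G] [CommGroup T] (β : G →* G →* T) where
  /-- the component in `G` -/
  fst : G
  /-- the central component -/
  snd : T

section

variable {G : Type u} {T : Type v} [Group G] [CommGroup T] (β : G →* G →* T)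

instance biExtMul : Mul (BiExt β) := ⟨fun a b => ⟨a.1 * b.1, a.2 * b.2 * β a.1 b.1⟩⟩
instance biExtOne : One (BiExt β) := ⟨⟨1, 1⟩⟩
instance biExtInv : Inv (BiExt β) := ⟨fun a => ⟨a.1⁻¹, a.2⁻¹ * β a.1 a.1⟩⟩

variable {β}
@[simp] theorem biExt_mul_fst (a b : BiExt β) : (a * b).fst = a.fst * b.fst := rfl
@[simp] theorem biExt_mul_snd (a b : BiExt β) : (a * b).snd = a.snd * b.snd * β a.1 b.1 := rfl
@[simp] theorem biExt_one_fst : (1 : BiExt β).fst = 1 := rfl
@[simp] theorem biExt_one_snd : (1 : BiExt β).snd = 1 := rfl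
@[simp] theorem biExt_inv_fst (a : BiExt β) : a⁻¹.fst = a.fst⁻¹ := rfl
@[simp] theorem biExt_inv_snd (a : BiExt β) : a⁻¹.snd = a.snd⁻¹ * β a.1 a.1 := rfl
variable (β)

instance biExtGroup : Group (BiExt β) := Group.ofLeftAxioms
  (fun a b c => by
    ext
    · simp [mul_assoc]
    · simp only [biExt_mul_snd, biExt_mul_fst, map_mul, MonoidHom.mul_apply]
      apply Additive.ofMul.injective
      simp only [ofMul_mul]
      abel)
  (fun a => by ext <;> simp)
  (fun a => by ext <;> simp [mul_comm])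

/-- `BiExt β` is `G × T` as a set -/
def biExtEquiv : BiExt β ≃ G × T where
  toFun a := (a.1, a.2)
  invFun p := ⟨p.1, p.2⟩
  left_inv _ := rfl
  right_inv _ := rfl

instance biExtFinite [Finite G] [Finite T] : Finite (BiExt β) :=
  Finite.of_equiv _ (biExtEquiv β).symm

/-- the projection to `G` -/
def biExtProj : BiExt β →* G where
  toFun a := a.1
  map_one' := rfl
  map_mul' _ _ := rfl

/-- the inclusion of `T` -/
def biExtInr : T →* BiExt β where
  toFun t := ⟨1, t⟩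
  map_one' := rfl
  map_mul' s t := by ext <;> simp

theorem biExtInr_injective : Function.Injective (biExtInr β) :=
  fun _ _ h => congrArg BiExt.snd h

theorem biExt_mem_center {a : BiExt β} (h1 : a.1 ∈ center G) (h2 : ∀ g, β a.1 g = β g a.1) :
    a ∈ center (BiExt β) := by
  rw [mem_center_iff]
  intro b
  ext
  · simpa using mem_center_iff.mp h1 b.1
  · simp [h2, mul_comm]

theorem isCentralExt_biExtProj : IsCentralExt (biExtProj β) := by
  refine ⟨fun g => ⟨⟨g, 1⟩, rfl⟩, fun a ha => ?_⟩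
  have h : a.1 = 1 := ha
  exact biExt_mem_center β (by rw [h]; exact one_mem _) (fun g => by simp [h])

theorem biExtProj_ker : (biExtProj β).ker = (biExtInr β).range := by
  ext a
  constructor
  · intro ha
    exact ⟨a.2, BiExt.ext (Eq.symm ha) rfl⟩
  · rintro ⟨t, rfl⟩
    rfl

theorem biExt_commutator (a b : BiExt β) :
    ⁅a, b⁆ = ⟨⁅a.1, b.1⁆, β a.1 b.1 * (β b.1 a.1)⁻¹⟩ := by
  ext
  · simp [commutatorElement_def]
  · simp only [commutatorElement_def, biExt_mul_snd, biExt_mul_fst, biExt_inv_snd, biExt_inv_fst,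
      map_mul, map_inv, MonoidHom.mul_apply, MonoidHom.inv_apply, mul_inv_rev, inv_inv]
    apply Additive.ofMul.injective
    simp only [ofMul_mul, ofMul_inv]
    abel

/-- a homomorphism `ι : H → G` on whose image `β` is trivial lifts to `BiExt β` -/
def biExtSection {H : Type*} [Group H] (ι : H →* G) (h : ∀ x y, β (ι x) (ι y) = 1) :
    H →* BiExt β where
  toFun x := ⟨ι x, 1⟩
  map_one' := by ext <;> simp
  map_mul' x y := by ext <;> simp [h]

end

section pairing

variable {Γ Q Q₁ Q₂ : Type*} [Group Γ] [Group Q] [Group Q₁] [Group Q₂]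

/-- The commutator pairing `Q₁ × Q₂ → ker σ` of two commuting homomorphisms into `Q`, for a central
extension `σ` of `Q`. -/
theorem exists_commutator_pairing (σ : Γ →* Q) (hσ : IsCentralExt σ)
    (ι₁ : Q₁ →* Q) (ι₂ : Q₂ →* Q) (hc : ∀ x y, Commute (ι₁ x) (ι₂ y)) :
    ∃ c : Q₁ → Q₂ → σ.ker, (∀ x x' y, c (x * x') y = c x y * c x' y) ∧
      (∀ x y y', c x (y * y') = c x y * c x y') ∧
      ∀ x y a b, σ a = ι₁ x → σ b = ι₂ y → (c x y : Γ) = ⁅a, b⁆ := by
  let s : Q → Γ := Function.surjInv hσ.1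
  have hs : ∀ q, σ (s q) = q := Function.surjInv_eq hσ.1
  have hk : ∀ x y, ⁅s (ι₁ x), s (ι₂ y)⁆ ∈ σ.ker := fun x y => by
    rw [MonoidHom.mem_ker, map_commutatorElement, hs, hs]
    exact (hc x y).commutator_eq
  have key : ∀ x y a b, σ a = ι₁ x → σ b = ι₂ y → ⁅s (ι₁ x), s (ι₂ y)⁆ = ⁅a, b⁆ :=
    fun x y a b ha hb => commutatorElement_eq_of_map_eq σ hσ.2 (by rw [hs, ha]) (by rw [hs, hb])
  refine ⟨fun x y => ⟨_, hk x y⟩, fun x x' y => Subtype.ext ?_, fun x y y' => Subtype.ext ?_, key⟩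
  · change ⁅s (ι₁ (x * x')), s (ι₂ y)⁆ = ⁅s (ι₁ x), s (ι₂ y)⁆ * ⁅s (ι₁ x'), s (ι₂ y)⁆
    rw [key (x * x') y (s (ι₁ x) * s (ι₁ x')) (s (ι₂ y)) (by simp [hs]) (hs _),
      commutatorElement_mul_left_eq_conj_mul, mem_center_iff.mp (hσ.2 (hk x' y)) (s (ι₁ x)),
      mul_inv_cancel_right, mem_center_iff.mp (hσ.2 (hk x' y))]
  · change ⁅s (ι₁ x), s (ι₂ (y * y'))⁆ = ⁅s (ι₁ x), s (ι₂ y)⁆ * ⁅s (ι₁ x), s (ι₂ y')⁆
    rw [key x (y * y') (s (ι₁ x)) (s (ι₂ y) * s (ι₂ y')) (hs _) (by simp [hs]),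
      commutatorElement_mul_right_eq_mul_conj, mul_assoc ⁅s (ι₁ x), s (ι₂ y)⁆,
      mem_center_iff.mp (hσ.2 (hk x y')) (s (ι₂ y)), ← mul_assoc, mul_inv_cancel_right]

end pairing

end H21
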