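import Cfsg.Agent.H20.DGSpec

/-! Slot F1 of tower DG (S3579). -/

set_option autoImplicit false

namespace H21.DgF1

open Subgroup MulAction Cfsg H98 H20.DG

universe u v

theorem card_rel {G : Type u} [Group G] (H K : Subgroup G) :
    Nat.card (K ⊓ H : Subgroup G) * H.relIndex K = Nat.card K := by
  have h := (H.subgroupOf K).card_mul_index
  have e : Nat.card (H.subgroupOf K) = Nat.card (K ⊓ H : Subgroup G) := by
    rw [← inf_subgroupOf_left]
    exact Nat.card_congr (subgroupOfEquivOfLe inf_le_left).toEquiv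
  rw [← e]
  exact h

theorem card_norm {G : Type u} [Group G] [Finite G] (A : Subgroup G) {p : ℕ} (hp : p.Prime)
    (hA : Nat.card A = p) :
    Nat.card (normalizer (A : Set G)) ≤ Nat.card (Cn A) * (p - 1) := by
  have : Fact p.Prime := ⟨hp⟩
  have : IsCyclic A := isCyclic_of_prime_card hA
  have h1 := (A.normalizerMonoidHom.ker).card_mul_index
  have h2 : A.normalizerMonoidHom.ker.index ≤ p - 1 := by
    rw [Subgroup.index_ker]
    have := Subgroup.card_le_card_group A.normalizerMonoidHom.range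
    rw [IsCyclic.card_mulAut, hA, Nat.totient_prime hp] at this
    exact this
  have h3 : Nat.card A.normalizerMonoidHom.ker = Nat.card (Cn A) := by
    rw [normalizerMonoidHom_ker]
    exact Nat.card_congr (subgroupOfEquivOfLe (centralizer_le_normalizer _)).toEquiv
  rw [← h1, h3]
  exact Nat.mul_le_mul_left _ h2

theorem count {G : Type u} {Ω : Type v} [Group G] [Finite G] [Finite Ω] [MulAction G Ω]
    (N : Subgroup G) (O : Set Ω)
    (n2 : ∀ a b c d : Ω, a ∉ O → b ∉ O → c ∉ O → d ∉ O → a ≠ b → c ≠ d →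
      ∃ g ∈ N, g • a = c ∧ g • b = d) {a b : Ω} (ha : a ∉ O) (hb : b ∉ O) (hab : a ≠ b) :
    Nat.card (N ⊓ stabilizer G a ⊓ stabilizer G b : Subgroup G) * (Oᶜ.ncard - 1) * Oᶜ.ncard ≤
      Nat.card N := by
  have h1 : Oᶜ.ncard ≤ (stabilizer G a).relIndex N := by
    rw [← ncard_Ob]
    refine Set.ncard_le_ncard (fun c hc => ?_) (Set.toFinite _)
    by_cases e : c = b
    · obtain ⟨g, hg, e1, -⟩ := n2 a b c a ha hb hc ha hab (by rw [e]; exact hab.symm)
      exact ⟨g, hg, e1⟩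
    · obtain ⟨g, hg, e1, -⟩ := n2 a b c b ha hb hc hb hab e
      exact ⟨g, hg, e1⟩
  have h2 : Oᶜ.ncard - 1 ≤ (stabilizer G b).relIndex (N ⊓ stabilizer G a) := by
    rw [← ncard_Ob, ← Set.ncard_sdiff_singleton_of_mem (s := Oᶜ) (a := a) ha]
    refine Set.ncard_le_ncard (fun d hd => ?_) (Set.toFinite _)
    obtain ⟨g, hg, e1, e2⟩ := n2 a b a d ha hb ha hd.1 hab (fun e => hd.2 e.symm)
    exact ⟨g, ⟨hg, e1⟩, e2⟩
  rw [← card_rel (stabilizer G a) N, ← card_rel (stabilizer G b) (N ⊓ stabilizer G a)]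
  exact Nat.mul_le_mul (Nat.mul_le_mul_left _ h2) h1

theorem jobF1 : JobF1.{u, v} := by
  intro hF0 G Ω _ _ _ _ p q P A L O hy h t2
  obtain ⟨hL, n2⟩ := hF0 G Ω p q P A L O hy h t2
  have p3 := hy.three
  have hC : Nat.card (Cn A) = p ^ 2 := by
    rw [h.cardC, hL, Subgroup.card_bot, mul_one]
  have hN := card_norm A hy.pp h.cardA
  rw [hC] at hN
  have hsum : O.ncard + Oᶜ.ncard = 2 * p * q := by
    rw [Set.ncard_add_ncard_compl, hy.card]
  have hpos : 0 < Oᶜ.ncard := (Set.ncard_pos (Set.toFinite _)).2 h.ne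
  have hdv : p ∣ Oᶜ.ncard := by
    have h1 : p ∣ O.ncard + Oᶜ.ncard := by
      rw [hsum]
      exact ⟨2 * q, by ring⟩
    have h2 : p ∣ O.ncard := by
      rw [h.cardO]
      exact dvd_pow_self p two_ne_zero
    exact (Nat.dvd_add_right h2).1 h1
  have hle : ∀ {a b : Ω}, a ∉ O → b ∉ O →
      A ≤ normalizer (A : Set G) ⊓ stabilizer G a ⊓ stabilizer G b := fun ha hb =>
    le_inf (le_inf le_normalizer ((h.fix _).2 ha)) ((h.fix _).2 hb)
  have hD : Oᶜ.ncard = p := by
    obtain ⟨m, hm⟩ := hdv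
    have hp : p ≤ Oᶜ.ncard := Nat.le_of_dvd hpos ⟨m, hm⟩
    obtain ⟨a, ha, b, hb, hab⟩ := (Set.one_lt_ncard (s := Oᶜ) (Set.toFinite _)).1 (by omega)
    have h1 := (count _ O n2 ha hb hab).trans hN
    have h2 := Subgroup.card_le_of_le (hle ha hb)
    rw [h.cardA] at h2
    by_contra c
    have hm2 : 2 ≤ m := by
      rcases m with _ | _ | m
      · omega
      · omega
      · omega
    have h3 : 2 * p ≤ Oᶜ.ncard := by
      rw [hm, mul_comm 2 p]
      exact Nat.mul_le_mul_left _ hm2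
    have h4 : p * p * (2 * p) ≤
        Nat.card (normalizer (A : Set G) ⊓ stabilizer G a ⊓ stabilizer G b : Subgroup G) *
          (Oᶜ.ncard - 1) * Oᶜ.ncard :=
      Nat.mul_le_mul (Nat.mul_le_mul h2 (by omega)) h3
    have h5 : p ^ 2 * (p - 1) < p * p * (2 * p) := by
      rw [pow_two]
      exact Nat.mul_lt_mul_of_pos_left (by omega) (Nat.mul_pos (by omega) (by omega))
    omega
  refine ⟨t2, h.cardA, h.cardO, hD, h.fix, h.sylA, n2, fun a b ha hb hab g hg ea eb => ?_⟩
  have h1 := (count _ O n2 ha hb hab).trans hN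
  rw [hD] at h1
  have h2 : Nat.card (normalizer (A : Set G) ⊓ stabilizer G a ⊓ stabilizer G b : Subgroup G) ≤
      Nat.card A := by
    rw [h.cardA]
    have e : p ^ 2 * (p - 1) = p * (p - 1) * p := by ring
    rw [e] at h1
    exact Nat.le_of_mul_le_mul_right (Nat.le_of_mul_le_mul_right h1 (by omega)) (by omega)
  rw [Subgroup.eq_of_le_of_card_ge (hle ha hb) h2]
  exact ⟨⟨hg, ea⟩, eb⟩

end H21.DgF1
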