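import Cfsg.Agent.H21.E6SA
import Cfsg.Agent.H39.E6Spec
import Cfsg.Agent.H78.F22K
import Cfsg.Agent.H1.CoprimeGen

/-! PS3B, chapter E6, job S: the extraspecial group `2^{1+20}`. -/

set_option autoImplicit false
set_option linter.unusedSectionVars false
set_option maxRecDepth 100000
set_option synthInstance.maxSize 2048

namespace H21.E6S

open Cfsg Subgroup H98 H42.L3 H39.F22 H39.E6
open H56.L3 (Ce Nz)
open H78.F22 (m_mul m_inv m_pow m_conj mQ m3 Ce_symm CeN neg_ne QB Qle cubeQ)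
open H28.PS (SL3 Zt)

universe u

/-- `A = ± 1` -/
abbrev pm (A : SL3) : Prop := A = 1 ∨ A = -1

theorem s_sq : ∀ A : SL3, A ^ 4 = 1 → pm (A * A) := by decide +kernel

theorem s_cm : ∀ A : SL3, A ^ 4 = 1 → ∀ B : SL3, B ^ 4 = 1 → pm (A * B * A⁻¹ * B⁻¹) := by
  decide +kernel

theorem s_zc : ∀ A : SL3, A ^ 4 = 1 → (∀ B : SL3, B ^ 4 = 1 → B * A = A * B) → pm A := by
  decide +kernel

theorem s_fp : ∀ T : SL3, T ^ 3 = 1 → T ^ 4 ≠ 1 → ∀ A : SL3, A ^ 4 = 1 →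
    (pm (T * A * T⁻¹ * A⁻¹) → pm A) ∧ ∃ B : SL3, B ^ 4 = 1 ∧ pm (A * (T * B * T⁻¹ * B⁻¹)⁻¹) := by
  decide +kernel

theorem s_irr : ∀ T : SL3, T ^ 3 = 1 → T ^ 4 ≠ 1 → ∀ A : SL3, A ^ 4 = 1 → ¬ pm A → ∀ B : SL3,
    B ^ 4 = 1 → pm B ∨ pm (B * A⁻¹) ∨ pm (B * (T * A * T⁻¹)⁻¹) ∨
      pm (B * (T * (T * A * T⁻¹) * T⁻¹)⁻¹) := by
  decide +kernel

theorem s_pow : ∀ T : SL3, T ^ 3 = 1 → T ^ 4 ≠ 1 → ∀ n : ZMod 3, n ≠ 0 → (T ^ n.val) ^ 4 ≠ 1 := by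
  decide +kernel

/-- the vector of `z` -/
def e1 : V5 := ![0, 1, 0, 0, 0]
/-- the vector of `c 1` -/
def e3 : V5 := ![0, 0, 0, 1, 0]
/-- the vector of `c 2` -/
def e4 : V5 := ![0, 0, 0, 0, 1]
/-- the reflecting vectors -/
def u0 : V5 := ![1, 1, 0, 0, 0]
def u1 (a : ZMod 3) : V5 := ![0, a, 0, 1, 0]
def u2 (a : ZMod 3) : V5 := ![0, a, 0, 0, 1]

/-- the ten points -/
def pt : Option (ZMod 3 × ZMod 3) → V5
  | none => e1
  | some p => rf (u1 p.1) (rf (u2 p.2) (rf u0 e1))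

theorem v_u : (q5 u0 = 1 ∧ u0 2 = 0) ∧ (∀ a, q5 (u1 a) = 1 ∧ u1 a 2 = 0) ∧
    (∀ a, q5 (u2 a) = 1 ∧ u2 a 2 = 0) ∧ rf u0 e3 = e3 ∧
    (∀ a, rf (u1 a) e1 = e1 ∧ rf (u1 a) e4 = e4 ∧ rf (u2 a) e1 = e1) := by decide +kernel

theorem v_ne : ∀ i j, i ≠ j → ∀ n : ZMod 3, pt i ≠ n • pt j := by decide +kernel

theorem v_all : ∀ v : V5, v 2 = 0 → q5 v = 0 → ∃ i, ∃ n : ZMod 3, v = n • pt i := by decide +kernel

theorem v_z : ∀ v : V5, v 2 = 0 → q5 v = 0 → v 0 = 0 → v = v 1 • e1 := by decide +kernel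

theorem v_c : ∀ a b : ZMod 3, b ≠ 0 → rf (u1 (-(a * b))) ![0, a, 0, b, 0] = (-b) • e3 ∧
    e3 = (-b) • (-b) • e3 := by decide +kernel

theorem v_d : ∀ a : ZMod 3, (a, (0 : ZMod 3)) ≠ 0 → e1 = a • (![0, a, 0, 0, 0] : V5) := by decide +kernel

theorem mem_of_cube {G : Type*} [Group G] {X : Subgroup G} {p : G} (h : (orderOf p).Coprime 3)
    (e : p ^ 3 ∈ X) : p ∈ X :=
  zpowers_le.2 e (mem_zpowers_pow_iff.2 h.symm)

variable {G : Type u} [Group G] [Finite G] {E : Dat G}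

/-- `K ∩ N(I)` -/
abbrev NN (E : Dat G) : Subgroup G := E.K ⊓ nr E.I

theorem φ1 : E.φ e1 = E.z := by simp [Dat.φ, el, e1, ZMod.val_one]

theorem φ3 : E.φ e3 = E.c 1 := by simp [Dat.φ, el, e3, ZMod.val_one]

theorem φ4 : E.φ e4 = E.c 2 := by simp [Dat.φ, el, e4, ZMod.val_one]

theorem RSg {g : G} (hg : g ∈ NN E) : cj g (E.R 0) ≤ E.Sg := fun _ hs => subset_closure ⟨g, hg, hs⟩

theorem R0Sg : E.R 0 ≤ E.Sg := cj_one (E.R 0) ▸ RSg (one_mem _)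

theorem nI : NN E ≤ nr E.Sg := fun g hg => mem_normalizer_of_cj_le (cj_le_iff.2 ((closure_le _).2
  fun s ⟨k, hk, hs⟩ => mem_cj.2 (by
    rw [inv_inv]
    exact RSg (mul_mem hg hk) (cj_cj g k _ ▸ conj_mem_cj hs))))

theorem YN : E.Y ⊓ nr E.I ≤ NN E := inf_le_inf_right _ inf_le_right

theorem IN : E.I ≤ NN E := le_inf inf_le_right le_normalizer

section

variable (nj : NJ E)
include nj

theorem φ0 : E.φ 0 = 1 := mul_eq_left.1 ((nj.add 0 0).symm.trans (by rw [add_zero]))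

theorem φ_nsmul (n : ℕ) (v : V5) : E.φ (n • v) = E.φ v ^ n := by
  induction n with
  | zero => rw [zero_smul, pow_zero, φ0 nj]
  | succ n ih => rw [succ_nsmul, nj.add, ih, pow_succ]

theorem φ_smul (n : ZMod 3) (v : V5) : E.φ (n • v) = E.φ v ^ n.val := by
  rw [← φ_nsmul nj, ← Nat.cast_smul_eq_nsmul (ZMod 3), ZMod.natCast_zmod_val]

theorem φ_inj {u v : V5} (e : E.φ u = E.φ v) : u = v := by
  refine sub_eq_zero.1 (nj.inj _ ?_)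
  have := nj.add (u - v) v
  rw [sub_add_cancel, e] at this
  exact mul_eq_right.1 this.symm

theorem φ_zp {u v : V5} : E.φ u ∈ zpowers (E.φ v) ↔ ∃ n : ZMod 3, u = n • v := by
  refine ⟨fun h => ?_, fun ⟨n, e⟩ => by rw [e, φ_smul nj]; exact pow_mem (mem_zpowers _) _⟩
  obtain ⟨n, e⟩ := (Submonoid.mem_powers_iff _ _).1 (mem_powers_iff_mem_zpowers.2 h)
  exact ⟨n, by rw [Nat.cast_smul_eq_nsmul]; exact φ_inj nj (by rw [φ_nsmul nj, e])⟩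

theorem φI {v : V5} (h : v 2 = 0) : E.φ v ∈ E.I := (nj.memI _).2 ⟨v, h, rfl⟩

theorem zI : E.z ∈ E.I := φ1 (E := E) ▸ φI nj rfl

theorem Ic {a b : G} (ha : a ∈ E.I) (hb : b ∈ E.I) : a ∈ Ce b := by
  obtain ⟨v, -, rfl⟩ := (nj.memI a).1 ha
  obtain ⟨w, -, rfl⟩ := (nj.memI b).1 hb
  rw [mem_Ce, ← nj.add, ← nj.add, add_comm]

theorem exz {g : G} (hg : g ∈ NN E) : ∃ v, v 2 = 0 ∧ q5 v = 0 ∧ E.φ v = g * E.z * g⁻¹ := by
  obtain ⟨v, h1, h2⟩ := (nj.memI _).1 (conj_mem_of_mem_normalizer hg.2 (zI nj))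
  exact ⟨v, h1, ((nj.zset v).1 ⟨g, .inl h2.symm⟩).2, h2⟩

end

variable (e0 : E0 E) (nj : NJ E) (rf : RF E)
include e0 nj rf

omit nj in
theorem r_ne : E.r 0 ≠ 1 := fun c => neg_ne (by rw [← e0.hj.rm 0, c, mQ e0.h3 (one_mem _)])

omit nj in
theorem mz {p : G} (hp : p ∈ E.R 0) : p ∈ zpowers (E.r 0) ↔ pm (E.D.m 0 p) := by
  have h := e0.h3
  have H := e0.hj
  rw [H78.mem_zpowers_invol (H.rsq 0)]
  refine ⟨fun e => e.imp (fun e => by rw [e, mQ h (one_mem _)]) fun e => by rw [e, H.rm],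
    fun e => e.imp (rf.Rinj 0 p hp) fun e => mul_inv_eq_one.1 (rf.Rinj 0 _
      (mul_mem hp (inv_mem (rf.rR 0))) ?_)⟩
  rw [m_mul h (rf.RB 0 hp) (inv_mem (H.rB 0)), m_inv h (H.rB 0), e, H.rm, mul_inv_cancel]

omit nj in
theorem m4 {p : G} (hp : p ∈ E.R 0) : E.D.m 0 p ^ 4 = 1 := by
  rw [← m_pow e0.h3 (rf.RB 0 hp), ((rf.memR 0 p).1 hp).2.2, mQ e0.h3 (one_mem _)]

omit nj in
theorem qf0 : QF (E.r 0) (E.R 0) := by
  have h := e0.h3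
  have B := @rf.RB 0
  refine ⟨rf.rR 0, rf.Rr 0 0, rf.cardR 0, fun a ha => ?_, fun a ha b hb => ?_, fun a ha e => ?_⟩
  · rw [mz e0 rf (mul_mem ha ha), m_mul h (B ha) (B ha)]
    exact s_sq _ (m4 e0 rf ha)
  · rw [mz e0 rf (mul_mem (mul_mem (mul_mem ha hb) (inv_mem ha)) (inv_mem hb)),
      m_mul h (B (mul_mem (mul_mem ha hb) (inv_mem ha))) (B (inv_mem hb)), m_conj h (B ha) (B hb),
      m_inv h (B hb)]
    exact s_cm _ (m4 e0 rf ha) _ (m4 e0 rf hb)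
  · refine (mz e0 rf ha).2 (s_zc _ (m4 e0 rf ha) fun A a4 => ?_)
    obtain ⟨b, hb, rfl⟩ := rf.Ronto 0 A a4
    rw [← m_mul h (B hb) (B ha), e b hb, m_mul h (B ha) (B hb)]

omit e0 in
theorem InR {a : G} (ha : a ∈ E.I) : a ∈ nr (E.R 0) := rf.nR 0 ⟨CeN (Ic nj ha (zI nj)), ha.2⟩

omit e0 in
theorem InR' {a g : G} (ha : a ∈ E.I) (hg : g ∈ NN E) : a ∈ nr (cj g (E.R 0)) := by
  rw [show nr (cj g (E.R 0)) = cj g (nr (E.R 0)) from (cj_normalizer _ _).symm, mem_cj]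
  exact InR nj rf (conj_mem_of_mem_normalizer' hg.2 ha)

theorem fp0 {v : V5} (h2 : v 2 = 0) (h0 : v 0 ≠ 0) : FP (E.r 0) (E.R 0) (E.φ v) := by
  have h := e0.h3
  have H := e0.hj
  have B := @rf.RB 0
  have q : E.z ^ (v 1).val * (E.c 0 ^ (v 2).val * E.c 1 ^ (v 3).val * E.c 2 ^ (v 4).val) ∈ E.D.QQ :=
    mul_mem (pow_mem (Qle 0 (h.sd 0).zmem) _) (mul_mem (mul_mem (pow_mem (Qle 0 (H.cQ 0)) _)
      (pow_mem (Qle 1 (H.cQ 1)) _)) (pow_mem (Qle 2 (H.cQ 2)) _))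
  have e : E.φ v = E.t ^ (v 0).val *
    (E.z ^ (v 1).val * (E.c 0 ^ (v 2).val * E.c 1 ^ (v 3).val * E.c 2 ^ (v 4).val)) := mul_assoc _ _ _
  have vB : E.φ v ∈ E.D.B := e ▸ mul_mem (pow_mem H.tB _) (QB h q)
  have t4 : E.D.m 0 (E.φ v) ^ 4 ≠ 1 := by
    rw [e, m_mul h (pow_mem H.tB _) (QB h q), mQ h q, mul_one, m_pow h H.tB]
    exact s_pow _ (m3 h H.tB H.t3 0) (H.tm 0) _ h0
  have t3 : E.D.m 0 (E.φ v) ^ 3 = 1 := m3 h vB (by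
    rw [← φ_nsmul nj, ← Nat.cast_smul_eq_nsmul (ZMod 3), ZMod.natCast_self, zero_smul, φ0 nj]) 0
  have n : ∀ {b : G}, b ∈ E.R 0 → E.φ v * b * (E.φ v)⁻¹ ∈ E.R 0 := fun hb =>
    conj_mem_of_mem_normalizer (InR nj rf (φI nj h2)) hb
  have c : ∀ {b : G}, b ∈ E.R 0 → E.D.m 0 (E.φ v * b * (E.φ v)⁻¹ * b⁻¹) =
      E.D.m 0 (E.φ v) * E.D.m 0 b * (E.D.m 0 (E.φ v))⁻¹ * (E.D.m 0 b)⁻¹ := fun hb => by
    rw [m_mul h (B (n hb)) (B (inv_mem hb)), m_conj h vB (B hb), m_inv h (B hb)]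
  have d : ∀ {a b : G}, a ∈ E.R 0 → b ∈ E.R 0 → pm (E.D.m 0 a * (E.D.m 0 b)⁻¹) →
      a * b⁻¹ ∈ zpowers (E.r 0) := fun ha hb e => by
    rwa [mz e0 rf (mul_mem ha (inv_mem hb)), m_mul h (B ha) (B (inv_mem hb)), m_inv h (B hb)]
  refine ⟨fun b hb => ?_, fun p hp => ?_, fun X h1 h3 p hp h4 h5 a ha => ?_⟩
  · rw [mz e0 rf (mul_mem (n hb) (inv_mem hb)), mz e0 rf hb, c hb]
    exact (s_fp _ t3 t4 _ (m4 e0 rf hb)).1
  · obtain ⟨A, a4, e⟩ := (s_fp _ t3 t4 _ (m4 e0 rf hp)).2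
    obtain ⟨b, hb, rfl⟩ := rf.Ronto 0 A a4
    exact ⟨b, hb, d hp (mul_mem (n hb) (inv_mem hb)) (by rwa [c hb])⟩
  · have z := zpowers_le.2 h1
    have k : ∀ {b : G}, b ∈ E.R 0 → b ∈ X → pm (E.D.m 0 a * (E.D.m 0 b)⁻¹) → a ∈ X := fun hb hX e =>
      (mul_mem_cancel_right (inv_mem hX)).1 (z (d ha hb e))
    have n' : ∀ {b : G}, b ∈ X → E.φ v * b * (E.φ v)⁻¹ ∈ X := fun hb =>
      conj_mem_of_mem_normalizer h3 hb
    rcases s_irr _ t3 t4 _ (m4 e0 rf hp) (mt (mz e0 rf hp).2 h5) _ (m4 e0 rf ha) with e | e | e | e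
    · exact z ((mz e0 rf ha).2 e)
    · exact k hp h4 e
    · exact k (n hp) (n' h4) (by rwa [m_conj h vB (B hp)])
    · exact k (n (n hp)) (n' (n' h4)) (by rwa [m_conj h vB (B (n hp)), m_conj h vB (B hp)])

theorem fpN {g k : G} (hg : g ∈ NN E) (hk : k ∈ NN E)
    (n : g * E.z * g⁻¹ ∉ zpowers (k * E.z * k⁻¹)) : FP (E.r 0) (cj k (E.R 0)) (g * E.z * g⁻¹) := by
  obtain ⟨v, h2, hq, e⟩ := exz nj (mul_mem (inv_mem hk) hg)
  have e' : g * E.z * g⁻¹ = k * E.φ v * k⁻¹ := by rw [e]; group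
  rw [e']
  refine (fp0 e0 nj rf h2 fun h0 => n ?_).conj hk.1
  rw [e', ← H78.F22.cj_zp, conj_mem_cj_iff, ← φ1, φ_zp nj]
  exact ⟨_, v_z v h2 hq h0⟩

omit e0 nj in
theorem same {g k : G} (hg : g ∈ NN E) (hk : k ∈ NN E)
    (n : g * E.z * g⁻¹ ∈ zpowers (k * E.z * k⁻¹)) : cj g (E.R 0) = cj k (E.R 0) := by
  have : k⁻¹ * g ∈ nr (E.R 0) := rf.nR 0 ⟨mem_Nz.2 (by
    rw [← H78.F22.cj_zp, mem_cj] at n
    rwa [show k⁻¹ * g * E.z * (k⁻¹ * g)⁻¹ = k⁻¹ * (g * E.z * g⁻¹) * k by group]),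
    (mul_mem (inv_mem hk) hg).1⟩
  conv_rhs => rw [← cj_eq_self this, cj_cj, mul_inv_cancel_left]

omit nj in
theorem Rc {j : Fin 3} (hj : j ≠ 0) {y : G} (hy : y ∈ E.Q j) : E.R 0 ≤ Ce y := fun p hp =>
  mem_Ce.2 (((rf.memR 0 p).1 hp).2.1 j hj y hy).symm

variable (yf : YF E)
include yf

omit nj rf in
theorem inv_bk {Θ : Subgroup G} (h : Inv E.K E.z (E.c 2) Θ) (hc : Θ ≤ Ce (E.c 1)) :
    Inv (E.Y ⊓ Ce (E.r 2)) E.z (E.c 1) (cj E.π⁻¹ Θ) := by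
  have H := e0.hj
  have bk : ∀ {g x y : G}, E.π * x * E.π⁻¹ = y → g ∈ Ce y → E.π⁻¹ * g * E.π⁻¹⁻¹ ∈ Ce x := fun e a => by
    have := conj_mem_Ce a E.π⁻¹
    rwa [← e, show ∀ x, E.π⁻¹ * (E.π * x * E.π⁻¹) * E.π⁻¹⁻¹ = x from fun x => by group] at this
  have nb : ∀ {x y : G}, E.π * x * E.π⁻¹ = y → y ∈ nr Θ → x ∈ nr (cj E.π⁻¹ Θ) := fun e a => by
    rwa [show nr (cj E.π⁻¹ Θ) = cj E.π⁻¹ (nr Θ) from (cj_normalizer _ _).symm, mem_cj, inv_inv, e]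
  refine ⟨fun x hx => ?_, by rw [card_cj]; exact h.2.1, nb (mem_Ce'.1 H.πz) h.2.2.1, nb (e0.πc 1) h.2.2.2⟩
  have o : (orderOf x).Coprime 3 := Nat.Coprime.coprime_dvd_left
    (Subgroup.orderOf_dvd_natCard _ hx) (by rw [card_cj]; exact h.2.1)
  obtain ⟨y, hy, rfl⟩ := exc hx
  have c0 := bk (e0.πc 0) (hc hy)
  refine mem_inf.2 ⟨mem_inf.2 ⟨c0, ?_⟩, bk (H.πr 2) (h.1 hy)⟩
  obtain ⟨k, hk⟩ := yf.cc _ c0
  refine mem_of_cube o ?_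
  have := pow_mem hk 3
  rwa [((show Commute _ _ from mem_Ce.1 c0).pow_right k).mul_pow, ← pow_mul, mul_comm k, pow_mul,
    (e0.h3.sd 0).cube _ (H.cQ 0), one_pow, mul_one] at this

omit nj rf in
theorem com' {Θ Θ' : Subgroup G} (h : Inv E.K E.z (E.c 2) Θ) (hc : Θ ≤ Ce (E.c 1))
    (h' : Inv E.K E.z (E.c 2) Θ') (hc' : Θ' ≤ Ce (E.c 1)) {a b : G} (ha : a ∈ Θ) (hb : b ∈ Θ') :
    a * b * a⁻¹ * b⁻¹ ∈ zpowers (E.r 0) := by
  have := conj_mem_cj (g := E.π) (yf.hr.com _ _ (inv_bk e0 yf h hc) (inv_bk e0 yf h' hc') _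
    (conj_mem_cj ha) _ (conj_mem_cj hb))
  rw [H78.F22.cj_zp, e0.hj.πr] at this
  simpa [mul_assoc] using this

omit nj in
theorem le' {Θ : Subgroup G} (h : Inv E.K E.z (E.c 2) Θ) (hc : Θ ≤ Ce (E.c 1)) : Θ ≤ E.Sg := by
  refine cj_le_cj_iff.1 (yf.hr.le _ (cj E.π⁻¹ E.Sg) (inv_bk e0 yf h hc)
    (cj_le_iff.1 ((rf.πR 2).le.trans R0Sg)) fun y hy => ?_)
  rw [show nr (cj E.π⁻¹ E.Sg) = cj E.π⁻¹ (nr E.Sg) from (cj_normalizer _ _).symm, mem_cj, inv_inv]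
  have k : E.π * y * E.π⁻¹ ∈ E.K := by
    have := conj_mem_Ce hy.1.2 E.π
    rwa [e0.hj.πr] at this
  exact nI ⟨k, zpowers_le.1 (le_normalizer_inf (zpowers_le.2
    (mul_mem (mul_mem rf.πJ (rf.nI hy.2)) (inv_mem rf.πJ))) (le_normalizer_of_le (zpowers_le.2 k)))⟩

theorem U0 {Θ : Subgroup G} (h : Inv E.K E.z (E.c 1) Θ) (h2 : E.c 2 ∈ nr Θ) : Θ ≤ E.Sg := by
  have h3 := e0.h3
  have H := e0.hj
  let ψ : Multiplicative (ZMod 3 × ZMod 3) →* G :=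
    MonoidHom.mk' (fun c => E.φ ![0, c.toAdd.1, 0, c.toAdd.2, 0]) fun a b => by
      rw [← nj.add]
      congr 1
      ext i
      fin_cases i <;> simp
  have ψe : ∀ c, ψ c = E.z ^ c.toAdd.1.val * E.c 1 ^ c.toAdd.2.val := fun c => by
    simp [ψ, Dat.φ, el]
  have o : ∀ x ∈ Θ, (orderOf x).Coprime 3 := fun x hx =>
    Nat.Coprime.coprime_dvd_left (Subgroup.orderOf_dvd_natCard _ hx) h.2.1
  refine H1.le_of_noncyclic_fixed (A := Multiplicative (ZMod 3 × ZMod 3)) ?_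
    (MulAut.conj.comp ψ) Θ (fun a x hx => ?_) ?_ _ fun a ha x hx e => ?_
  · intro c
    obtain ⟨g, hg⟩ := c.exists_monoid_generator
    have h1 : orderOf g = 9 := by
      rw [orderOf_eq_card_of_forall_mem_powers hg]; simp
    have h2 : ∀ g : Multiplicative (ZMod 3 × ZMod 3), g ^ 3 = 1 := by decide
    have := orderOf_dvd_of_pow_eq_one (h2 g)
    rw [h1] at this
    omega
  · exact conj_mem_of_mem_normalizer (ψe a ▸ mul_mem (pow_mem h.2.2.1 _) (pow_mem h.2.2.2 _)) hx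
  · rw [show Nat.card (Multiplicative (ZMod 3 × ZMod 3)) = 3 ^ 2 by simp]
    exact (h.2.1.symm).pow_left 2
  have e' : x ∈ Ce (E.φ ![0, a.toAdd.1, 0, a.toAdd.2, 0]) := Ce_symm (mem_Ce'.2 e)
  by_cases b0 : a.toAdd.2 = 0
  · have xz : x ∈ Ce E.z := by
      rw [b0] at e'
      refine Ce_symm (zpowers_le.2 (Ce_symm e') ?_)
      rw [← φ1, φ_zp nj]
      exact ⟨_, v_d _ fun c => ha (show a.toAdd = 0 from Prod.ext (congrArg Prod.fst c :) b0)⟩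
    refine R0Sg (rf.R3 0 x ⟨xz, h.1 hx⟩ (fun j hj => ?_) (o x hx))
    have n : E.c j ∈ nr Θ := by
      rcases H78.F22.f3 j with rfl | rfl | rfl
      exacts [absurd rfl hj, h.2.2.2, h2]
    have q := Qle j (H.cQ j)
    have h4 : x * E.c j * x⁻¹ * (E.c j)⁻¹ ∈ Θ := by
      have := mul_mem hx (conj_mem_of_mem_normalizer n (inv_mem hx))
      rwa [← mul_assoc, ← mul_assoc] at this
    have h5 := cubeQ h3 (mul_mem (conj_mem_of_mem_normalizer (H78.F22.HQ h3 xz) q) (inv_mem q))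
    have h6 : x * E.c j * x⁻¹ * (E.c j)⁻¹ ∈ (⊥ : Subgroup G) := mem_of_cube (o _ h4) (h5 ▸ one_mem _)
    exact mem_Ce'.2 (mul_inv_eq_one.1 h6)
  · obtain ⟨n, hn, ac⟩ := nj.reflY _ (v_u.2.1 (-(a.toAdd.1 * a.toAdd.2))).1 (v_u.2.1 _).2
    have n1 : n * E.z * n⁻¹ = E.z := by rw [← φ1, ac, (v_u.2.2.2.2 _).1]
    have n2 : n * E.c 2 * n⁻¹ = E.c 2 := by rw [← φ4, ac, (v_u.2.2.2.2 _).2.1]
    have aI := φI nj (v := ![0, a.toAdd.1, 0, a.toAdd.2, 0]) rfl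
    have nb : ∀ {y : G}, n * y * n⁻¹ = y → y ∈ nr Θ → y ∈ E.I →
        y ∈ nr (cj n (Θ ⊓ Ce (E.φ ![0, a.toAdd.1, 0, a.toAdd.2, 0]))) := fun {y} e a b => by
      rw [show ∀ X, nr (cj n X) = cj n (nr X) from fun X => (cj_normalizer _ _).symm, ← e,
        conj_mem_cj_iff]
      exact zpowers_le.1 (le_normalizer_inf (zpowers_le.2 a)
        (le_normalizer_of_le (zpowers_le.2 (Ic nj b aI))))
    have := le' e0 rf yf (Θ := cj n (Θ ⊓ Ce (E.φ ![0, a.toAdd.1, 0, a.toAdd.2, 0])))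
      ⟨cj_le_of_le_of_mem (inf_le_left.trans h.1) hn.1.2, by
        rw [card_cj]; exact Nat.Coprime.coprime_dvd_left (card_dvd_of_le inf_le_left) h.2.1,
        nb n1 h.2.2.1 (zI nj), nb n2 h2 (φ4 (E := E) ▸ φI nj rfl)⟩ fun y hy => by
        obtain ⟨w, hw, rfl⟩ := exc hy
        have := conj_mem_Ce hw.2 n
        rw [ac, (v_c _ _ b0).1] at this
        refine Ce_symm (zpowers_le.2 (Ce_symm this) ?_)
        rw [← φ3, φ_zp nj]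
        exact ⟨_, (v_c a.toAdd.1 _ b0).2⟩
    exact (mem_normalizer_iff.1 (nI (YN hn)) x).2 (this (conj_mem_cj ⟨hx, e'⟩))

theorem main : SF E := by
  have h3 := e0.h3
  have H := e0.hj
  obtain ⟨ρ, hρ, aρ⟩ := nj.reflY _ v_u.1.1 v_u.1.2
  choose σ hσ aσ using fun a => nj.reflY _ (v_u.2.1 a).1 (v_u.2.1 a).2
  choose τ hτ aτ using fun a => nj.reflY _ (v_u.2.2.1 a).1 (v_u.2.2.1 a).2
  let g : Option (ZMod 3 × ZMod 3) → G := fun i => i.elim 1 fun p => σ p.1 * τ p.2 * ρ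
  have gN : ∀ i, g i ∈ NN E := fun i => by
    rcases i with _ | p
    exacts [one_mem _, YN (mul_mem (mul_mem (hσ _) (hτ _)) hρ)]
  have gz : ∀ i, g i * E.z * (g i)⁻¹ = E.φ (pt i) := fun i => by
    rcases i with _ | p
    · exact (by simp [g] : _ = E.z).trans φ1.symm
    · rw [pt, ← aσ, ← aτ, ← aρ, φ1]
      show σ p.1 * τ p.2 * ρ * E.z * (σ p.1 * τ p.2 * ρ)⁻¹ = _
      group
  have gne : ∀ i j, i ≠ j → g i * E.z * (g i)⁻¹ ∉ zpowers (g j * E.z * (g j)⁻¹) := fun i j e c => by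
    rw [gz, gz, φ_zp nj] at c
    obtain ⟨n, c⟩ := c
    exact v_ne i j e n c
  have gall : ∀ k ∈ NN E, ∃ i, k * E.z * k⁻¹ ∈ zpowers (g i * E.z * (g i)⁻¹) := fun k hk => by
    obtain ⟨v, h1, h2, e⟩ := exz nj hk
    obtain ⟨i, c⟩ := v_all v h1 h2
    exact ⟨i, by rwa [gz, ← e, φ_zp nj]⟩
  have qf : ∀ {k : G}, k ∈ NN E → QF (E.r 0) (cj k (E.R 0)) := fun hk => (qf0 e0 rf).conj hk.1
  have zR : E.R 0 ≤ Ce E.z := Rc e0 rf (j := 1) (by decide) (h3.sd 1).zmem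
  have inv : ∀ {k : G}, k ∈ NN E → Inv E.K E.z (E.c 2) (cj k (E.R 0)) := fun hk =>
    ⟨(qf hk).cr, by rw [(qf hk).card]; decide, InR' nj rf (zI nj) hk,
      InR' nj rf (φ4 (E := E) ▸ φI nj rfl) hk⟩
  have ρn : (1 : G) * E.z * 1⁻¹ ∉ zpowers (ρ * E.z * ρ⁻¹) := by
    rw [one_mul, inv_one, mul_one, ← φ1, aρ, φ_zp nj]
    decide +kernel
  have fz : FP (E.r 0) (cj ρ (E.R 0)) E.z := by
    simpa using fpN e0 nj rf (one_mem _) (YN hρ) ρn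
  have c0 : E.R 0 ≤ cn (cj ρ (E.R 0)) := fun a ha =>
    fz.cen (qf (YN hρ)) (zI nj).2 (InR' nj rf (zI nj) (YN hρ)) (rf.Rr 0 0 ha) (zR ha) fun b hb =>
      com' e0 yf (cj_one (E.R 0) ▸ inv (one_mem _)) (Rc e0 rf (by decide) (H.cQ 1)) (inv (YN hρ))
        (fun y hy => by
          obtain ⟨w, hw, rfl⟩ := exc hy
          have := conj_mem_Ce (Rc e0 rf (by decide) (H.cQ 1) hw) ρ
          rwa [← φ3, aρ, v_u.2.2.2.1, φ3] at this) ha hb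
  have comm : ∀ k ∈ NN E, ∀ k' ∈ NN E, k * E.z * k⁻¹ ∉ zpowers (k' * E.z * k'⁻¹) →
      cj k (E.R 0) ≤ cn (cj k' (E.R 0)) := fun k hk k' hk' n => by
    have hl := mul_mem (inv_mem hk') hk
    obtain ⟨i, hi⟩ := gall _ hl
    rw [show cn (cj k' (E.R 0)) = cj k' (cn (E.R 0)) from (cj_centralizer _ _).symm, le_cj_iff, cj_cj,
      same rf hl (gN i) hi]
    rcases i with _ | p
    · refine absurd ?_ n
      rw [← H78.F22.cj_zp, mem_cj]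
      simpa [g, mul_assoc] using hi
    · have w : σ p.1 * τ p.2 ∈ nr (E.R 0) := rf.nR 0 ⟨CeN (mul_mem
        (mem_Ce'.2 (show _ * E.z * _ = E.z by rw [← φ1, aσ, (v_u.2.2.2.2 _).1])) (mem_Ce'.2
          (show _ * E.z * _ = E.z by rw [← φ1, aτ, (v_u.2.2.2.2 _).2.2]))),
        (mul_mem (hσ _) (hτ _)).1.2⟩
      show cj (σ p.1 * τ p.2 * ρ) _ ≤ _
      rw [← cj_cj]
      exact cj_le_of_le (le_centralizer_iff.1 c0) (normalizer_le_normalizer_centralizer _ w)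
  have cp : CP (E.r 0) fun i => cj (g i) (E.R 0) :=
    ⟨H.rsq 0, r_ne e0 rf, fun i => qf (gN i), fun i j e => comm _ (gN i) _ (gN j) (gne i j e)⟩
  have rm : E.r 0 ∈ E.Sg := R0Sg (rf.rR 0)
  have eS : E.Sg = S (E.r 0) (fun i => cj (g i) (E.R 0)) Finset.univ := by
    refine le_antisymm ((closure_le _).2 fun s ⟨k, hk, hs⟩ => ?_) (CP.S_le rm fun i _ => RSg (gN i))
    obtain ⟨i, hi⟩ := gall k hk
    exact CP.RS (Finset.mem_univ i) (same rf hk (gN i) hi ▸ hs)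
  have le : E.Sg ≤ E.K := eS ▸ cp.SC
  have card : Nat.card E.Sg = 2 ^ 21 := by rw [eS, cp.card]; simp
  have gI : ∀ i, g i * E.z * (g i)⁻¹ ∈ E.I := fun i => conj_mem_of_mem_normalizer (gN i).2 (zI nj)
  refine ⟨le, rm, card, eS ▸ cp.xs (Finset.mem_univ none), fun s hs => cp.sq (eS ▸ hs),
    fun s hs s' hs' => cp.cm (eS ▸ hs) (eS ▸ hs'), fun s hs => cp.zc (eS ▸ hs.1) (eS ▸ hs.2), comm,
    fun Θ => U0 e0 nj rf yf, nI, fun k hk => mem_normalizer_of_cj_le ?_, fun B h1 h2 h4 => ?_, ?_⟩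
  · have n : ∀ {y : G}, y ∈ E.D.QQ → y ∈ E.K → y ∈ nr (cj k E.Sg) := fun a b => by
      rw [show nr (cj k E.Sg) = cj k (nr E.Sg) from (cj_normalizer _ _).symm, mem_cj]
      have := mem_sup_left (T := zpowers E.t) ((H78.F22.Q12 h3 (H78.F22.jty h3 H)).2
        ⟨conj_mem_of_mem_normalizer' (H78.F22.NQ h3 hk.2) a, mul_mem (mul_mem (inv_mem hk.1) b) hk.1⟩)
      exact nI ⟨(rf.SY this).2, rf.SI this⟩
    exact U0 e0 nj rf yf ⟨cj_le_of_le_of_mem le hk.1, by rw [card_cj, card]; decide,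
      n (Qle 0 (h3.sd 0).zmem) (zI nj).2, n (Qle 1 (H.cQ 1)) (φ3 (E := E) ▸ φI nj rfl).2⟩
      (n (Qle 2 (H.cQ 2)) (φ4 (E := E) ▸ φI nj rfl).2)
  · by_cases c : B ≤ zpowers (E.r 0)
    · exact .inl c
    obtain ⟨x, hx, n⟩ := SetLike.not_le_iff_exists.1 c
    obtain ⟨i, a, a1, a2, a3⟩ := (cp.min (V := fun i => g i * E.z * (g i)⁻¹) (fun i => (gI i).2)
      (fun i j => InR' nj rf (gI i) (gN j))
      (fun i => H78.F22.conj_cn (fun _ e => mem_Ce.1 (zR e)) _)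
      (fun i j e => fpN e0 nj rf (gN i) (gN j) (gne i j e)) (fun i => h4 (IN (gI i)))
      (eS ▸ h1 hx) hx).resolve_left n
    obtain ⟨j, hj⟩ := exists_ne i
    have := (fpN e0 nj rf (gN j) (gN i) (gne j i hj)).irr B h2 (h4 (IN (gI j))) a a1 a2 a3
    refine .inr ((closure_le _).2 fun s ⟨k, hk, hs⟩ => ?_)
    have e := cj_le_of_le this (h4 (mul_mem hk (inv_mem (gN i))))
    rw [cj_cj, inv_mul_cancel_right] at e
    exact e hs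
  · obtain ⟨a, ha, n⟩ := cp.exn none
    have ha' : a ∈ E.R 0 := cj_one (E.R 0) ▸ ha
    exact ⟨_, RSg (YN hρ) (conj_mem_cj ha'), fun c =>
      n ((zconj (YN hρ).1).1 (fz.fp _ (conj_mem_cj ha') c))⟩

omit e0 nj rf yf

theorem jobS : JobS.{u} := fun _ _ _ _ e0 nj rf yf => main e0 nj rf yf

end H21.E6S
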