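import Cfsg.Agent.H78.F22Kit
import Cfsg.Agent.H78.XS
import Cfsg.Agent.H12.Basic

/-! PS3B, chapter E6, job S: central products of quaternion groups. -/

set_option autoImplicit false
set_option linter.unusedSectionVars false

namespace H21.E6S

open Cfsg Subgroup H98 H42.L3 H56.L3

variable {G : Type*} [Group G] {r g v : G} {R : Subgroup G}

/-- one quaternion factor with centre `⟨r⟩` -/
structure QF (r : G) (R : Subgroup G) : Prop where
  rR : r ∈ R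
  cr : R ≤ Ce r
  card : Nat.card R = 8
  sq : ∀ a ∈ R, a * a ∈ zpowers r
  cm : ∀ a ∈ R, ∀ b ∈ R, a * b * a⁻¹ * b⁻¹ ∈ zpowers r
  zc : ∀ a ∈ R, a ∈ cn R → a ∈ zpowers r

/-- `v` acts irreducibly and without fixed points on `R / ⟨r⟩` -/
structure FP (r : G) (R : Subgroup G) (v : G) : Prop where
  fp : ∀ b ∈ R, v * b * v⁻¹ * b⁻¹ ∈ zpowers r → b ∈ zpowers r
  onto : ∀ p ∈ R, ∃ b ∈ R, p * (v * b * v⁻¹ * b⁻¹)⁻¹ ∈ zpowers r
  irr : ∀ B : Subgroup G, r ∈ B → v ∈ nr B → ∀ p ∈ R, p ∈ B → p ∉ zpowers r → R ≤ B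

theorem zcj (hg : g ∈ Ce r) : cj g (zpowers r) = zpowers r := by
  rw [H78.F22.cj_zp, mem_Ce'.1 hg]

theorem zconj (hg : g ∈ Ce r) {x : G} : g * x * g⁻¹ ∈ zpowers r ↔ x ∈ zpowers r := by
  conv_lhs => rw [← zcj hg]
  exact conj_mem_cj_iff

theorem exc {x : G} (hx : x ∈ cj g R) : ∃ y ∈ R, x = g * y * g⁻¹ :=
  ⟨g⁻¹ * x * g, mem_cj.1 hx, by group⟩

theorem QF.conj (h : QF r R) (hg : g ∈ Ce r) : QF r (cj g R) := by
  refine ⟨mem_Ce'.1 hg ▸ conj_mem_cj h.rR, fun x hx => ?_, (card_cj _ _).trans h.card,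
    fun x hx => ?_, fun x hx y hy => ?_, fun x hx e => ?_⟩
  · obtain ⟨a, ha, rfl⟩ := exc hx
    exact mul_mem (mul_mem hg (h.cr ha)) (inv_mem hg)
  · obtain ⟨a, ha, rfl⟩ := exc hx
    rw [show g * a * g⁻¹ * (g * a * g⁻¹) = g * (a * a) * g⁻¹ by group, zconj hg]
    exact h.sq a ha
  · obtain ⟨a, ha, rfl⟩ := exc hx
    obtain ⟨b, hb, rfl⟩ := exc hy
    rw [show g * a * g⁻¹ * (g * b * g⁻¹) * (g * a * g⁻¹)⁻¹ * (g * b * g⁻¹)⁻¹ =
      g * (a * b * a⁻¹ * b⁻¹) * g⁻¹ by group, zconj hg]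
    exact h.cm a ha b hb
  · obtain ⟨a, ha, rfl⟩ := exc hx
    rw [zconj hg]
    refine h.zc a ha ?_
    rwa [show cn (cj g R) = cj g (cn R) from (cj_centralizer g R).symm, conj_mem_cj_iff] at e

theorem FP.conj (h : FP r R v) (hg : g ∈ Ce r) : FP r (cj g R) (g * v * g⁻¹) := by
  have e : ∀ b : G, g * v * g⁻¹ * (g * b * g⁻¹) * (g * v * g⁻¹)⁻¹ * (g * b * g⁻¹)⁻¹ =
    g * (v * b * v⁻¹ * b⁻¹) * g⁻¹ := fun b => by group
  refine ⟨fun x hx => ?_, fun x hx => ?_, fun B h1 h2 x hx h3 h4 => ?_⟩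
  · obtain ⟨a, ha, rfl⟩ := exc hx
    rw [e, zconj hg, zconj hg]
    exact h.fp a ha
  · obtain ⟨a, ha, rfl⟩ := exc hx
    obtain ⟨b, hb, e1⟩ := h.onto a ha
    refine ⟨_, conj_mem_cj hb, ?_⟩
    rw [e, show g * a * g⁻¹ * (g * (v * b * v⁻¹ * b⁻¹) * g⁻¹)⁻¹ =
      g * (a * (v * b * v⁻¹ * b⁻¹)⁻¹) * g⁻¹ by group, zconj hg]
    exact e1
  · obtain ⟨a, ha, rfl⟩ := exc hx
    rw [zconj hg] at h4
    refine cj_le_iff.2 (h.irr _ (mem_cj.2 ?_) ?_ a ha (mem_cj.2 (by rwa [inv_inv])) h4)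
    · rwa [inv_inv, mem_Ce'.1 hg]
    · rw [show nr (cj g⁻¹ B) = cj g⁻¹ (nr B) from (cj_normalizer _ _).symm, mem_cj]
      rwa [inv_inv]

theorem zcomm {x y : G} (hx : x ∈ zpowers r) (hy : y ∈ Ce r) : x * y = y * x :=
  (H7.PS.comm_of_mem hy hx).symm

/-- If `[R, R'] ≤ ⟨r⟩` and `v` centralizes `R` and has no fixed points on `R' / ⟨r⟩`, then `R`
centralizes `R'`. -/
theorem FP.cen {R' : Subgroup G} (h : FP r R' v) (q : QF r R') (hv : v ∈ Ce r) (hn : v ∈ nr R')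
    {a : G} (ha : a ∈ Ce r) (hc : a ∈ Ce v) (e : ∀ b ∈ R', a * b * a⁻¹ * b⁻¹ ∈ zpowers r) :
    a ∈ cn R' := fun p hp => by
  obtain ⟨b, hb, e1⟩ := h.onto p hp
  have h1 := e b hb
  have h2 : a * (v * b * v⁻¹) * a⁻¹ = (a * b * a⁻¹ * b⁻¹) * (v * b * v⁻¹) := by
    have c := mem_Ce.1 hc
    calc a * (v * b * v⁻¹) * a⁻¹ = (a * v) * b * (a * v)⁻¹ := by group
      _ = v * (a * b * a⁻¹ * b⁻¹) * b * v⁻¹ := by rw [c]; group
      _ = _ := by rw [← zcomm h1 hv]; group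
  have h3 : a * (v * b * v⁻¹ * b⁻¹) * a⁻¹ = v * b * v⁻¹ * b⁻¹ := by
    have c := zcomm h1 (q.cr (conj_mem_of_mem_normalizer hn hb))
    calc a * (v * b * v⁻¹ * b⁻¹) * a⁻¹ = a * (v * b * v⁻¹) * a⁻¹ * (a * b⁻¹ * a⁻¹) := by group
      _ = _ := by
        rw [h2, c]
        have c' := zcomm h1 (q.cr hb)
        calc _ = v * b * v⁻¹ * (a * b * a⁻¹ * b⁻¹ * b) * b⁻¹ * (a * b⁻¹ * a⁻¹) := by group
          _ = v * b * v⁻¹ * b⁻¹ * (b * (a * b * a⁻¹ * b⁻¹ * b) * b⁻¹ * (b⁻¹ * b)) * (a * b⁻¹ * a⁻¹) := by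
            group
          _ = _ := by
            rw [show b * (a * b * a⁻¹ * b⁻¹ * b) * b⁻¹ * (b⁻¹ * b) = b * (a * b * a⁻¹ * b⁻¹) by group,
              ← c']
            group
  have h4 : a ∈ Ce p := by
    have := mul_mem (zpowers_le.2 (H78.F22.Ce_symm ha) e1) (H78.F22.Ce_symm (mem_Ce'.2 h3))
    rw [inv_mul_cancel_right] at this
    exact H78.F22.Ce_symm this
  exact (mem_Ce.1 h4).symm

variable {ι : Type*} [DecidableEq ι]

/-- a central product -/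
structure CP (r : G) (R : ι → Subgroup G) : Prop where
  r2 : r * r = 1
  r1 : r ≠ 1
  qf : ∀ i, QF r (R i)
  com : ∀ i j, i ≠ j → R i ≤ cn (R j)

/-- the partial products -/
def S (r : G) (R : ι → Subgroup G) (T : Finset ι) : Subgroup G := zpowers r ⊔ T.sup R

namespace CP

variable {R : ι → Subgroup G} {T : Finset ι} {i : ι} {x y : G}

theorem zS : zpowers r ≤ S r R T := le_sup_left

theorem RS (hi : i ∈ T) : R i ≤ S r R T := le_sup_of_le_right (Finset.le_sup hi)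

theorem S_le {X : Subgroup G} (h1 : r ∈ X) (h2 : ∀ i ∈ T, R i ≤ X) : S r R T ≤ X :=
  sup_le (zpowers_le.2 h1) (Finset.sup_le h2)

theorem S_empty : S r R ∅ = zpowers r := by simp [S]

theorem S_insert : S r R (insert i T) = R i ⊔ S r R T := by
  rw [S, S, Finset.sup_insert, sup_left_comm]

theorem S_nr (h1 : v ∈ Ce r) (h2 : ∀ i, v ∈ nr (R i)) (hx : x ∈ S r R T) : v * x * v⁻¹ ∈ S r R T :=
  cj_le_iff.2 (S_le (mem_cj.2 (by rw [inv_inv, mem_Ce'.1 h1]; exact zS (mem_zpowers r)))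
    fun i hi => cj_le_iff.1 ((cj_eq_self (h2 i)).le.trans (RS hi))) (conj_mem_cj hx)

variable (h : CP r R)
include h

theorem SC : S r R T ≤ Ce r := S_le (mem_Ce.2 rfl) fun i _ => (h.qf i).cr

theorem Scn (hi : i ∉ T) : S r R T ≤ cn (R i) :=
  S_le (fun _ ha => mem_Ce.1 ((h.qf i).cr ha)) fun j hj => h.com j i fun e => hi (e ▸ hj)

theorem dec (hi : i ∉ T) (hx : x ∈ S r R (insert i T)) : ∃ a ∈ R i, ∃ s ∈ S r R T, x = a * s := by
  rwa [S_insert, mem_sup_left_norm (le_normalizer_of_le_centralizer (le_centralizer_iff.1 (h.Scn hi)))]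
    at hx

theorem inf_le (hi : i ∉ T) (hx : x ∈ R i) (hy : x ∈ S r R T) : x ∈ zpowers r :=
  (h.qf i).zc x hx (h.Scn hi hy)

theorem card_z : Nat.card (zpowers r) = 2 := by
  rw [Nat.card_zpowers, orderOf_eq_prime ((pow_two r).trans h.r2) h.r1]

theorem card : Nat.card (S r R T) = 2 ^ (2 * T.card + 1) := by
  induction T using Finset.induction_on with
  | empty => rw [S_empty, h.card_z]; rfl
  | insert i T hi ih =>
    have h1 := H12.card_sup_mul_card_inf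
      (le_normalizer_of_le_centralizer (le_centralizer_iff.1 (h.Scn hi)))
    have h2 : R i ⊓ S r R T = zpowers r := le_antisymm (fun _ e => h.inf_le hi e.1 e.2)
      (le_inf (zpowers_le.2 (h.qf i).rR) zS)
    rw [h2, h.card_z, ih, (h.qf i).card, ← S_insert] at h1
    rw [Finset.card_insert_of_notMem hi]
    have : 2 ^ (2 * (T.card + 1) + 1) * 2 = 8 * 2 ^ (2 * T.card + 1) := by ring
    omega

theorem sq (hx : x ∈ S r R T) : x * x ∈ zpowers r := by
  induction T using Finset.induction_on generalizing x with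
  | empty => rw [S_empty] at hx; exact mul_mem hx hx
  | insert i T hi ih =>
    obtain ⟨a, ha, s, hs, rfl⟩ := h.dec hi hx
    have c := h.Scn hi hs a ha
    rw [show a * s * (a * s) = a * (s * a) * s by group, ← c, show a * (a * s) * s = a * a * (s * s) by group]
    exact mul_mem ((h.qf i).sq a ha) (ih hs)

theorem cm (hx : x ∈ S r R T) (hy : y ∈ S r R T) : x * y * x⁻¹ * y⁻¹ ∈ zpowers r := by
  induction T using Finset.induction_on generalizing x y with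
  | empty => rw [S_empty] at hx hy; exact mul_mem (mul_mem (mul_mem hx hy) (inv_mem hx)) (inv_mem hy)
  | insert i T hi ih =>
    obtain ⟨a, ha, s, hs, rfl⟩ := h.dec hi hx
    obtain ⟨b, hb, t, ht, rfl⟩ := h.dec hi hy
    have c : ∀ {a s : G}, a ∈ R i → s ∈ S r R T → s * a = a * s := fun ha hs => (h.Scn hi hs _ ha).symm
    have e : a * s * (b * t) * (a * s)⁻¹ * (b * t)⁻¹ = a * b * a⁻¹ * b⁻¹ * (s * t * s⁻¹ * t⁻¹) := by
      calc _ = a * (s * b) * (t * s⁻¹ * a⁻¹) * (t⁻¹ * b⁻¹) := by group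
        _ = a * b * (s * a⁻¹) * (t * s⁻¹ * b⁻¹) * t⁻¹ := by
          rw [c hb hs, c (inv_mem ha) (mul_mem ht (inv_mem hs)), c (inv_mem hb) (inv_mem ht)]; group
        _ = a * b * a⁻¹ * (s * b⁻¹) * (t * s⁻¹) * t⁻¹ := by
          rw [c (inv_mem ha) hs, c (inv_mem hb) (mul_mem ht (inv_mem hs))]; group
        _ = _ := by rw [c (inv_mem hb) hs]; group
    rw [e]
    exact mul_mem ((h.qf i).cm a ha b hb) (ih hs ht)

theorem zc (hx : x ∈ S r R T) (hc : x ∈ cn (S r R T)) : x ∈ zpowers r := by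
  induction T using Finset.induction_on generalizing x with
  | empty => rwa [S_empty] at hx
  | insert i T hi ih =>
    obtain ⟨a, ha, s, hs, rfl⟩ := h.dec hi hx
    rw [S_insert] at hc
    have h1 : a ∈ zpowers r := (h.qf i).zc a ha ((mul_mem_cancel_right (h.Scn hi hs)).1
      (centralizer_anti le_sup_left hc))
    exact mul_mem h1 (ih hs ((mul_mem_cancel_left (le_centralizer_iff.1 (h.Scn hi) ha)).1
      (centralizer_anti le_sup_right hc)))

variable {V : ι → G} (V1 : ∀ i, V i ∈ Ce r) (V2 : ∀ i j, V i ∈ nr (R j)) (V3 : ∀ i, V i ∈ cn (R i))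
  (V4 : ∀ i j, i ≠ j → FP r (R j) (V i))
include V1 V2 V3 V4

omit V3 in
theorem fix (hi : i ∉ T) (hx : x ∈ S r R T) (e : V i * x * (V i)⁻¹ * x⁻¹ ∈ zpowers r) :
    x ∈ zpowers r := by
  induction T using Finset.induction_on generalizing x with
  | empty => rwa [S_empty] at hx
  | insert j T hj ih =>
    obtain ⟨b, hb, s, hs, rfl⟩ := h.dec hj hx
    have h1 := mul_mem (S_nr (V1 i) (V2 i) hs) (inv_mem hs)
    have h2 := mul_mem (conj_mem_of_mem_normalizer (V2 i j) hb) (inv_mem hb)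
    have h3 : V i * (b * s) * (V i)⁻¹ * (b * s)⁻¹ =
        V i * b * (V i)⁻¹ * b⁻¹ * (V i * s * (V i)⁻¹ * s⁻¹) := by
      rw [mul_assoc _ b⁻¹, h.Scn hj h1 _ (inv_mem hb)]; group
    rw [h3] at e
    have h4 := h.inf_le hj h2 ((mul_mem_cancel_right h1).1 (zS e))
    rw [Finset.mem_insert, not_or] at hi
    exact mul_mem ((V4 i j hi.1).fp b hb h4) (ih hi.2 hs ((mul_mem_cancel_left h4).1 e))

theorem min {B : Subgroup G} (hB : ∀ i, V i ∈ nr B) (hx : x ∈ S r R T) (hy : x ∈ B) :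
    x ∈ zpowers r ∨ ∃ i, ∃ a ∈ R i, a ∈ B ∧ a ∉ zpowers r := by
  induction T using Finset.induction_on generalizing x with
  | empty => rw [S_empty] at hx; exact .inl hx
  | insert i T hi ih =>
    obtain ⟨a, ha, s, hs, rfl⟩ := h.dec hi hx
    have h1 := mul_mem (S_nr (V1 i) (V2 i) hs) (inv_mem hs)
    have h3 : V i * (a * s) * (V i)⁻¹ * (a * s)⁻¹ = V i * s * (V i)⁻¹ * s⁻¹ := by
      calc _ = V i * a * (V i)⁻¹ * (V i * s * (V i)⁻¹ * s⁻¹) * a⁻¹ := by group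
        _ = _ := by rw [← V3 i a ha, mul_inv_cancel_right, h.Scn hi h1 a ha, mul_inv_cancel_right]
    rcases ih h1 (h3 ▸ mul_mem (conj_mem_of_mem_normalizer (hB i) hy) (inv_mem hy)) with e | e
    · have h4 := h.fix V1 V2 V4 hi hs e
      by_cases c : a * s ∈ zpowers r
      exacts [.inl c, .inr ⟨i, _, mul_mem ha (zpowers_le.2 (h.qf i).rR h4), hy, c⟩]
    · exact .inr e

omit V1 V2 V3 V4

theorem exn (i : ι) : ∃ a ∈ R i, a ∉ zpowers r := by
  by_contra c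
  push Not at c
  have := card_dvd_of_le (show R i ≤ zpowers r from c)
  rw [h.card_z, (h.qf i).card] at this
  omega

theorem xs [Finite G] (hi : i ∈ T) : IsExtraspecial 2 (S r R T) := by
  have m : ∀ {x : G}, x ∈ zpowers r → x = 1 ∨ x = r := fun e => (H78.mem_zpowers_invol h.r2 _).1 e
  refine H78.XS.isExtraspecial (z := r) ⟨zS (mem_zpowers r), h.r1, h.r2,
    fun x hx => (mem_Ce.1 (h.SC hx)).symm, fun x hx e => m (h.zc hx fun y hy => (e y hy).symm),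
    fun x hx => m (h.sq hx), fun x hx y hy => (m (h.cm hx hy)).imp (fun e => ?_) fun e => ?_, ?_⟩
  · rwa [mul_inv_eq_one, mul_inv_eq_iff_eq_mul] at e
  · rw [mul_inv_eq_iff_eq_mul, mul_inv_eq_iff_eq_mul] at e
    rw [e, mul_assoc, mem_Ce.1 (h.SC (mul_mem hy hx))]
  · obtain ⟨a, ha, n⟩ := h.exn i
    by_contra c
    push Not at c
    exact n (h.zc (RS hi ha) fun y hy => (c a (RS hi ha) y hy).symm)

end CP

end H21.E6S
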