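import Cfsg.Agent.H39.F22Spec
import Cfsg.Agent.H84.PSB0
import Cfsg.Agent.H42.L3T

/-! PS3B, chapter F22 (blueprints/PS3B.md): coordinates on `Q`, the permutation of the factors,
conjugate data, consequences of `Nine`. -/

set_option autoImplicit false
set_option linter.unusedSectionVars false
set_option maxRecDepth 100000
set_option synthInstance.maxSize 2048

open Cfsg Subgroup H98 H42.L3 H56.L3 H7.PS H39.F22
open H28.PS (SL3 Zt)
open H84.PS (sl_one sl_pow adj lne mov)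
open scoped Matrix

namespace H21.F22

abbrev W2 := Fin 2 → ZMod 3

abbrev V6 := Fin 3 → W2

/-- the form on one factor -/
def om2 (u v : W2) : ZMod 3 := u 0 * v 1 - u 1 * v 0

/-- the form on `Q / ⟨z⟩` -/
def om (u v : V6) : ZMod 3 := om2 (u 0) (v 0) + om2 (u 1) (v 1) + om2 (u 2) (v 2)

theorem om_single (u : V6) (i : Fin 3) (v : W2) : om u (Pi.single i v) = om2 (u i) v := by
  fin_cases i <;> simp [om, om2]

theorem om2_nd : ∀ u : W2, u ≠ 0 → ∃ v, om2 u v ≠ 0 := by decide +kernel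

theorem others : ∀ k : Fin 3, ∃ i j, i ≠ j ∧ i ≠ k ∧ j ≠ k := by decide

theorem third : ∀ i j k n : Fin 3, i ≠ j → i ≠ k → j ≠ k → n = i ∨ n = j ∨ n = k := by decide

/-- groups of order dividing nine -/
theorem comm9 {Γ : Type*} [Group Γ] [Finite Γ] (h : Nat.card Γ ∣ 9) (a b : Γ) : a * b = b * a := by
  rcases (Nat.dvd_prime_pow Nat.prime_three (m := 2)).1 h with ⟨k, hk, e⟩
  by_cases k2 : k = 2
  · exact (IsPGroup.isMulCommutative_of_card_eq_prime_sq (p := 3) (k2 ▸ e)).is_comm.comm a b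
  · have : IsCyclic Γ := isCyclic_of_card_dvd_prime (p := 3) (by
      rw [e]; exact (pow_dvd_pow 3 (by omega : k ≤ 1)).trans (by simp))
    exact IsCyclic.isMulCommutative.is_comm.comm a b

theorem zp_add' {Γ : Type*} [Group Γ] {a : Γ} (h : a ^ 3 = 1) (k l : ZMod 3) :
    zp a (k + l) = zp a k * zp a l := by
  rw [zp, zp, zp, ← pow_add, ZMod.val_add, eq_comm]
  exact pow_eq_pow_mod _ h

theorem zp_sub' {Γ : Type*} [Group Γ] {a : Γ} (h : a ^ 3 = 1) (k l : ZMod 3) :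
    zp a (k - l) = zp a k * (zp a l)⁻¹ := by
  rw [eq_mul_inv_iff_mul_eq, ← zp_add' h, sub_add_cancel]

theorem rel9 {Γ : Type*} [Group Γ] [Finite Γ] (h : Nat.card Γ ∣ 9) {a b c : Γ} (ha : a ^ 3 = 1)
    (hb : b ^ 3 = 1) (hc : c ^ 3 = 1) :
    ∃ i j k : ZMod 3, ¬ (i = 0 ∧ j = 0 ∧ k = 0) ∧ zp a i * zp b j * zp c k = 1 := by
  let _ : CommGroup Γ := { (inferInstance : Group Γ) with mul_comm := comm9 h }
  have : ¬ Function.Injective fun p : ZMod 3 × ZMod 3 × ZMod 3 =>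
      zp a p.1 * zp b p.2.1 * zp c p.2.2 := fun e => by
    have h1 := Nat.card_le_card_of_injective _ e
    have h2 := Nat.le_of_dvd (by decide) h
    simp at h1
    omega
  simp only [Function.Injective, not_forall] at this
  obtain ⟨p, q, e, n⟩ := this
  refine ⟨p.1 - q.1, p.2.1 - q.2.1, p.2.2 - q.2.2, fun k => n (Prod.ext (sub_eq_zero.1 k.1)
    (Prod.ext (sub_eq_zero.1 k.2.1) (sub_eq_zero.1 k.2.2))), ?_⟩
  rw [zp_sub' ha, zp_sub' hb, zp_sub' hc, mul_mul_mul_comm (zp a _), mul_mul_mul_comm _ _ (zp c _), e,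
    ← mul_inv, ← mul_inv, mul_inv_cancel]

variable {G : Type*} [Group G] {D : D3 G} {a b c g x y q : G} {i j k : Fin 3}

open Classical in
/-- the coordinates of an element of `Q` -/
noncomputable def L (D : D3 G) (x : G) : V6 := fun i =>
  if h : ∃ a ∈ D.Q i, a⁻¹ * x ∈ cn (D.Q i) then D.l i h.choose else 0

open Classical in
/-- the permutation of the factors -/
noncomputable def sg (D : D3 G) (g : G) : Equiv.Perm (Fin 3) :=
  if h : ∃ σ : Equiv.Perm (Fin 3), ∀ i, cj g (D.Q i) = D.Q (σ i) then h.choose else 1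

/-- the conjugate data -/
def cjD (g : G) (D : D3 G) : D3 G :=
  ⟨g * D.z * g⁻¹, fun i => cj g (D.Q i), fun i x => D.l i (g⁻¹ * x * g), fun i x => D.m i (g⁻¹ * x * g)⟩

theorem cjD_z : (cjD g D).z = g * D.z * g⁻¹ := rfl

theorem cjD_QQ : (cjD g D).QQ = cj g D.QQ := by simp only [cjD, D3.QQ, cj_sup]

theorem cjD_B : (cjD g D).B = cj g D.B := by
  simp only [cjD, D3.B, cj_inf, cj_Ce, cj_normalizer]

theorem cj_zp (g x : G) : cj g (zpowers x) = zpowers (g * x * g⁻¹) := MonoidHom.map_zpowers _ _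

theorem Q_le (i : Fin 3) : D.Q i ≤ D.QQ := by
  fin_cases i
  exacts [le_sup_left.trans le_sup_left, le_sup_right.trans le_sup_left, le_sup_right]

theorem QQ_le {X : Subgroup G} (e : ∀ i, D.Q i ≤ X) : D.QQ ≤ X := sup_le (sup_le (e 0) (e 1)) (e 2)

theorem Bz (hg : g ∈ D.B) : g ∈ Ce D.z := hg.1.1.1

theorem Bi (hg : g ∈ D.B) (i : Fin 3) : g ∈ Ce D.z ⊓ nr (D.Q i) := by
  fin_cases i
  exacts [hg.1.1, ⟨hg.1.1.1, hg.1.2⟩, ⟨hg.1.1.1, hg.2⟩]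

theorem mem_B (hg : g ∈ Ce D.z) (e : ∀ i, g ∈ nr (D.Q i)) : g ∈ D.B := ⟨⟨⟨hg, e 0⟩, e 1⟩, e 2⟩

section H3

variable (h : H3 D)
include h

theorem co (i : Fin 3) : Co D.z (D.Q i) (D.l i) (D.m i) :=
  ⟨h.ord, (h.sd i).zmem, (h.sd i).l_mul, (h.sd i).l_ker, (h.sd i).l_surj, (h.sd i).comm,
    (h.sd i).act, (h.sd i).m_mul⟩

theorem zcn (hx : x ∈ zpowers D.z) (i : Fin 3) : x ∈ cn (D.Q i) := fun _ ha =>
  comm_of_mem ((co h i).le_Ce ha) hx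

theorem zQ : zpowers D.z ≤ D.QQ := (co h 0).zle.trans (Q_le 0)

theorem zmem : D.z ∈ D.QQ := zQ h (mem_zpowers _)

theorem cnQ (e : ∀ i, x ∈ cn (D.Q i)) : x ∈ zpowers D.z :=
  h.cen (le_centralizer_iff.1 (QQ_le fun i => le_centralizer_iff.1 (zpowers_le.2 (e i)))
    (mem_zpowers x))

theorem infQ (hi : x ∈ D.Q i) (hj : x ∈ D.Q j) (n : i ≠ j) : x ∈ zpowers D.z :=
  (co h i).center hi (h.QQ j i n.symm hj)

theorem QB : D.QQ ≤ D.B := QQ_le fun i _ ha => mem_B ((co h i).le_Ce ha) fun j => by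
  by_cases e : i = j
  · exact le_normalizer (e ▸ ha)
  · exact centralizer_le_normalizer _ (h.QQ i j e ha)

theorem Qz (hx : x ∈ D.QQ) : x ∈ Ce D.z := Bz (QB h hx)

theorem memQ (hx : x ∈ D.QQ) : ∃ a ∈ D.Q 0, ∃ b ∈ D.Q 1, ∃ c ∈ D.Q 2, x = a * b * c := by
  obtain ⟨u, hu, c, hc, rfl⟩ := (mem_sup_left_norm (sup_le
    ((h.QQ 0 2 (by decide)).trans (centralizer_le_normalizer _))
    ((h.QQ 1 2 (by decide)).trans (centralizer_le_normalizer _)))).1 hx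
  obtain ⟨a, ha, b, hb, rfl⟩ := (mem_sup_left_norm
    ((h.QQ 0 1 (by decide)).trans (centralizer_le_normalizer _))).1 hu
  exact ⟨a, ha, b, hb, c, hc, rfl⟩

theorem QQc (ha : a ∈ D.Q i) (hb : b ∈ D.Q j) (n : i ≠ j) : a * b = b * a := (h.QQ i j n ha b hb).symm

theorem cubeQ (hx : x ∈ D.QQ) : x ^ 3 = 1 := by
  obtain ⟨a, ha, b, hb, c, hc, rfl⟩ := memQ h hx
  have h1 : Commute a b := QQc h ha hb (by decide)
  have h2 : Commute (a * b) c := Commute.mul_left (QQc h ha hc (by decide)) (QQc h hb hc (by decide))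
  rw [h2.mul_pow, h1.mul_pow, (h.sd 0).cube a ha, (h.sd 1).cube b hb, (h.sd 2).cube c hc]
  simp

theorem pQ {X : Subgroup G} (e : X ≤ D.QQ) : IsPGroup 3 X :=
  isPGroup_iff_forall.2 fun _ hx => ⟨1, cubeQ h (e hx)⟩

theorem exQ (hx : x ∈ D.QQ) (i : Fin 3) : ∃ a ∈ D.Q i, a⁻¹ * x ∈ cn (D.Q i) := by
  obtain ⟨a, ha, c, hc, rfl⟩ := (mem_sup_right_norm (centralizer_le_normalizer _)).1
    (QQ_le (X := D.Q i ⊔ cn (D.Q i)) (fun j => by
      by_cases e : j = i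
      · exact e ▸ le_sup_left
      · exact (h.QQ j i e).trans le_sup_right) hx)
  exact ⟨a, ha, by rwa [inv_mul_cancel_left]⟩

theorem L_eq (ha : a ∈ D.Q i) (e : a⁻¹ * x ∈ cn (D.Q i)) : L D x i = D.l i a := by
  have ex : ∃ a ∈ D.Q i, a⁻¹ * x ∈ cn (D.Q i) := ⟨a, ha, e⟩
  have h1 := mul_mem (inv_mem ex.choose_spec.1) ha
  have h2 := ((co h i).l_ker _ h1).2 ((co h i).center h1 (by
    simpa [mul_assoc] using mul_mem ex.choose_spec.2 (inv_mem e)))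
  rw [(co h i).l_mul _ (inv_mem ex.choose_spec.1) _ ha, (co h i).l_inv ex.choose_spec.1,
    neg_add_eq_zero] at h2
  rw [L, dif_pos ex, h2]

theorem L_self (ha : a ∈ D.Q i) : L D a i = D.l i a := L_eq h ha (by rw [inv_mul_cancel]; exact one_mem _)

theorem L_cn (e : x ∈ cn (D.Q i)) : L D x i = 0 :=
  (L_eq h (one_mem _) (by simpa using e)).trans (co h i).l_one

theorem L_ne (ha : a ∈ D.Q i) (n : i ≠ j) : L D a j = 0 := L_cn h (h.QQ i j n ha)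

theorem L_single (ha : a ∈ D.Q i) : L D a = Pi.single i (D.l i a) := funext fun j => by
  by_cases e : j = i
  · rw [e, L_self h ha, Pi.single_eq_same]
  · rw [L_ne h ha (Ne.symm e), Pi.single_eq_of_ne e]

theorem cn_of_L (hx : x ∈ D.QQ) (e : L D x i = 0) : x ∈ cn (D.Q i) := by
  obtain ⟨a, ha, h1⟩ := exQ h hx i
  rw [L_eq h ha h1] at e
  exact (Subgroup.mul_mem_cancel_left _ (inv_mem (zcn h (((co h i).l_ker a ha).1 e) i))).1 h1

theorem L_mul (hx : x ∈ D.QQ) (hy : y ∈ D.QQ) : L D (x * y) = L D x + L D y := funext fun i => by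
  obtain ⟨a, ha, h1⟩ := exQ h hx i
  obtain ⟨b, hb, h2⟩ := exQ h hy i
  rw [Pi.add_apply, L_eq h ha h1, L_eq h hb h2, ← (co h i).l_mul a ha b hb]
  refine L_eq h (mul_mem ha hb) ?_
  have := mul_mem h1 h2
  rwa [← mul_assoc, ← h1 _ (inv_mem hb), ← mul_assoc, ← mul_inv_rev, mul_assoc] at this

theorem L_z (hx : x ∈ zpowers D.z) : L D x = 0 := funext fun i => L_cn h (zcn h hx i)

theorem L_zz (n : ZMod 3) : L D (zp D.z n) = 0 := L_z h (zp_mem n)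

theorem L_one : L D 1 = 0 := L_z h (one_mem _)

theorem L_ker (hx : x ∈ D.QQ) (e : L D x = 0) : x ∈ zpowers D.z :=
  cnQ h fun i => cn_of_L h hx (congrFun e i)

theorem L_inv (hx : x ∈ D.QQ) : L D x⁻¹ = -L D x := by
  rw [eq_neg_iff_add_eq_zero, ← L_mul h (inv_mem hx) hx, inv_mul_cancel, L_one h]

theorem L_pow (hx : x ∈ D.QQ) (n : ℕ) : L D (x ^ n) = (n : ZMod 3) • L D x := by
  induction n with
  | zero => simp [L_one h]
  | succ n ih => rw [pow_succ, L_mul h (pow_mem hx n) hx, ih, Nat.cast_succ, add_smul, one_smul]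

theorem L_zp (hx : x ∈ D.QQ) (n : ZMod 3) : L D (zp x n) = n • L D x := by
  rw [zp, L_pow h hx, ZMod.natCast_zmod_val]

theorem L_surj (v : V6) : ∃ x ∈ D.QQ, L D x = v := by
  choose a ha e using fun i => (co h i).l_surj (v i)
  refine ⟨a 0 * a 1 * a 2, mul_mem (mul_mem (Q_le 0 (ha 0)) (Q_le 1 (ha 1))) (Q_le 2 (ha 2)), ?_⟩
  rw [L_mul h (mul_mem (Q_le 0 (ha 0)) (Q_le 1 (ha 1))) (Q_le 2 (ha 2)),
    L_mul h (Q_le 0 (ha 0)) (Q_le 1 (ha 1)), L_single h (ha 0), L_single h (ha 1), L_single h (ha 2),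
    e, e, e]
  ext i : 1
  fin_cases i <;> simp

theorem eq_zp (hx : x ∈ D.QQ) (hy : y ∈ D.QQ) (e : L D x = L D y) : ∃ n, x = zp D.z n * y := by
  obtain ⟨n, hn⟩ := exists_zp h.ord (L_ker h (mul_mem hx (inv_mem hy)) (by
    rw [L_mul h hx (inv_mem hy), L_inv h hy, e, add_neg_cancel]))
  exact ⟨n, by rw [← hn, inv_mul_cancel_right]⟩

theorem memQi (hx : x ∈ D.QQ) (e : ∀ j, j ≠ i → L D x j = 0) : x ∈ D.Q i := by
  obtain ⟨a, ha, h1⟩ := (co h i).l_surj (L D x i)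
  obtain ⟨n, rfl⟩ := eq_zp h hx (Q_le i ha) (funext fun j => by
    by_cases k : j = i
    · rw [k, L_self h ha, h1]
    · rw [e j k, L_ne h ha (Ne.symm k)])
  exact mul_mem ((co h i).zp_mem n) ha

theorem conj1 (hx : x ∈ D.QQ) (hb : b ∈ D.Q i) :
    x * b * x⁻¹ = zp D.z (om2 (L D x i) (D.l i b)) * b := by
  obtain ⟨a, ha, h1⟩ := exQ h hx i
  rw [L_eq h ha h1, om2, ← (co h i).conj_eq ha hb]
  calc _ = a * (a⁻¹ * x * b) * x⁻¹ := by group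
    _ = _ := by rw [← h1 b hb]; group

theorem conjQ (hx : x ∈ D.QQ) (hy : y ∈ D.QQ) :
    x * y * x⁻¹ = zp D.z (om (L D x) (L D y)) * y := by
  obtain ⟨a, ha, b, hb, c, hc, rfl⟩ := memQ h hy
  have e : om (L D x) (L D (a * b * c)) =
      om2 (L D x 0) (D.l 0 a) + om2 (L D x 1) (D.l 1 b) + om2 (L D x 2) (D.l 2 c) := by
    rw [L_mul h (mul_mem (Q_le 0 ha) (Q_le 1 hb)) (Q_le 2 hc), L_mul h (Q_le 0 ha) (Q_le 1 hb),
      L_single h ha, L_single h hb, L_single h hc]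
    simp [om]
  rw [e, ← conj_mul, ← conj_mul, conj1 h hx ha, conj1 h hx hb, conj1 h hx hc, zp_add h.ord,
    zp_add h.ord, mul_assoc (zp _ _) a, ← mul_assoc a, zp_comm ((co h 0).le_Ce ha), mul_assoc _ a,
    ← mul_assoc (zp _ _), mul_assoc _ (a * b), ← mul_assoc (a * b),
    zp_comm (mul_mem ((co h 0).le_Ce ha) ((co h 1).le_Ce hb))]
  simp only [mul_assoc]

theorem comm_iff (hx : x ∈ D.QQ) (hy : y ∈ D.QQ) : x ∈ Ce y ↔ om (L D x) (L D y) = 0 := by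
  rw [mem_Ce', conjQ h hx hy, mul_eq_right]
  exact ⟨zp_eq_one h.ord, fun e => e ▸ zp_zero⟩

theorem comz (hx : x ∈ D.QQ) (hy : y ∈ D.QQ) : x * y * x⁻¹ * y⁻¹ ∈ zpowers D.z := by
  rw [conjQ h hx hy, mul_inv_cancel_right]
  exact zp_mem _

theorem mQ (hx : x ∈ D.QQ) (i : Fin 3) : D.m i x = 1 := by
  obtain ⟨a, ha, h1⟩ := exQ h hx i
  rw [← mul_inv_cancel_left a x, (co h i).m_mul _ ((co h i).le_CN ha) _ ((co h i).cn_le h1),
    (co h i).m_mem ha, (co h i).m_cn h1, one_mul]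

theorem m_mul (ha : a ∈ D.B) (hb : b ∈ D.B) (i : Fin 3) : D.m i (a * b) = D.m i a * D.m i b :=
  (co h i).m_mul _ (Bi ha i) _ (Bi hb i)

theorem m_inv (ha : a ∈ D.B) (i : Fin 3) : D.m i a⁻¹ = (D.m i a)⁻¹ := (co h i).m_inv (Bi ha i)

theorem m_pow (ha : a ∈ D.B) (i : Fin 3) (n : ℕ) : D.m i (a ^ n) = D.m i a ^ n :=
  (co h i).m_pow (Bi ha i) n

theorem m_cj (ha : a ∈ D.B) (hb : b ∈ D.B) (i : Fin 3) :
    D.m i (a * b * a⁻¹) = D.m i a * D.m i b * (D.m i a)⁻¹ := by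
  rw [m_mul h (mul_mem ha hb) (inv_mem ha), m_mul h ha hb, m_inv h ha]

theorem m_com (ha : a ∈ D.B) (hb : b ∈ D.B) (i : Fin 3) :
    D.m i (a * b * a⁻¹ * b⁻¹) = D.m i a * D.m i b * (D.m i a)⁻¹ * (D.m i b)⁻¹ := by
  rw [m_mul h (mul_mem (mul_mem ha hb) (inv_mem ha)) (inv_mem hb), m_cj h ha hb, m_inv h hb]

theorem m_cube (ha : a ∈ D.B) (e : a ^ 3 = 1) (i : Fin 3) : D.m i a ^ 3 = 1 := by
  rw [← m_pow h ha, e, (co h i).m_one]

variable [Finite G]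

omit h in
theorem Nz_of (hg : g ∈ Ce x) : g ∈ Nz x := mem_Nz.2 ((mem_Ce'.1 hg).symm ▸ mem_zpowers _)

theorem sg_spec (hg : g ∈ Ce D.z) (i : Fin 3) : cj g (D.Q i) = D.Q (sg D g i) := by
  have ex := h.perm g (Nz_of hg)
  rw [sg, dif_pos ex]
  exact ex.choose_spec i

theorem Q_inj (e : D.Q i = D.Q j) : i = j := by_contra fun n =>
  (co h j).not_le_cn (e.ge.trans (h.QQ i j n))

theorem sg_mul (ha : a ∈ Ce D.z) (hb : b ∈ Ce D.z) : sg D (a * b) = sg D a * sg D b :=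
  Equiv.ext fun i => Q_inj h (by
    rw [← sg_spec h (mul_mem ha hb), ← cj_cj, sg_spec h hb, sg_spec h ha, Equiv.Perm.mul_apply])

/-- `sg` as a homomorphism -/
noncomputable def sh : Ce D.z →* Equiv.Perm (Fin 3) :=
  MonoidHom.mk' (fun g => sg D g) fun a b => sg_mul h a.2 b.2

theorem sg_pow (ha : a ∈ Ce D.z) (n : ℕ) : sg D (a ^ n) = sg D a ^ n := map_pow (sh h) ⟨a, ha⟩ n

theorem sg_inv (ha : a ∈ Ce D.z) : sg D a⁻¹ = (sg D a)⁻¹ := map_inv (sh h) ⟨a, ha⟩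

theorem sg_one : sg D 1 = 1 := map_one (sh h)

theorem B_iff (hg : g ∈ Ce D.z) : g ∈ D.B ↔ sg D g = 1 :=
  ⟨fun e => Equiv.ext fun i => Q_inj h ((sg_spec h hg i).symm.trans (cj_eq_self (Bi e i).2)),
    fun e => mem_B hg fun i => cj_eq_self_iff.1 (by rw [sg_spec h hg, e]; rfl)⟩

theorem sg_cube (hg : g ∈ Ce D.z) (e : g ^ 3 = 1) : sg D g ^ 3 = 1 := by
  rw [← sg_pow h hg, e, sg_one h]

theorem sg_mem (hg : g ∈ Ce D.z) (ha : a ∈ D.Q i) : g * a * g⁻¹ ∈ D.Q (sg D g i) :=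
  sg_spec h hg i ▸ conj_mem_cj ha

theorem sg_cn (hg : g ∈ Ce D.z) (ha : a ∈ cn (D.Q i)) : g * a * g⁻¹ ∈ cn (D.Q (sg D g i)) := by
  rw [← sg_spec h hg, cn, ← cj_centralizer]
  exact conj_mem_cj ha

theorem sg_fix (hg : g ∈ Ce D.z) (hc : c ∈ D.Q i) (n : c ∉ zpowers D.z) (e : g ∈ Ce c) :
    sg D g i = i := by_contra fun k => n (infQ h (mem_Ce'.1 e ▸ sg_mem h hg hc) hc k)

theorem nrQ (hg : g ∈ Ce D.z) : g ∈ nr D.QQ := mem_normalizer_of_cj_le (cj_le_iff.2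
  (QQ_le fun i => cj_le_iff.1 ((sg_spec h hg i).le.trans (Q_le _))))

theorem cjQ (hg : g ∈ Ce D.z) (hx : x ∈ D.QQ) : g * x * g⁻¹ ∈ D.QQ :=
  conj_mem_of_mem_normalizer (nrQ h hg) hx

theorem cjB (hg : g ∈ Ce D.z) (ha : a ∈ D.B) : g * a * g⁻¹ ∈ D.B := by
  rw [B_iff h (mul_mem (mul_mem hg (Bz ha)) (inv_mem hg)), sg_mul h (mul_mem hg (Bz ha)) (inv_mem hg),
    sg_mul h hg (Bz ha), (B_iff h (Bz ha)).1 ha, mul_one, sg_inv h hg, mul_inv_cancel]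

theorem nrB (hg : g ∈ Ce D.z) : g ∈ nr D.B := mem_normalizer_of_cj_le (by
  rintro _ ⟨a, ha, rfl⟩
  exact cjB h hg ha)

theorem act (hg : g ∈ D.B) (hx : x ∈ D.QQ) (i : Fin 3) :
    L D (g * x * g⁻¹) i = (D.m i g).1 *ᵥ L D x i := by
  obtain ⟨a, ha, h1⟩ := exQ h hx i
  rw [L_eq h ha h1, ← (co h i).act g (Bi hg i) a ha]
  refine L_eq h ((co h i).conj_mem (Bi hg i) ha) ?_
  rw [conj_inv, conj_mul]
  exact conj_mem_of_mem_normalizer (normalizer_le_normalizer_centralizer _ (Bi hg i).2) h1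

theorem fixL (hg : g ∈ D.B) (hx : x ∈ D.QQ) (e : g ∈ Ce x) (i : Fin 3) :
    (D.m i g).1 *ᵥ L D x i = L D x i := by rw [← act h hg hx, mem_Ce'.1 e]

theorem conj_of_fix (hg : g ∈ D.B) (hx : x ∈ D.QQ) (e : ∀ i, (D.m i g).1 *ᵥ L D x i = L D x i) :
    ∃ n, g * x * g⁻¹ = zp D.z n * x :=
  eq_zp h (cjQ h (Bz hg) hx) hx (funext fun i => (act h hg hx i).trans (e i))

theorem mconj (hg : g ∈ Ce D.z) (ha : a ∈ D.B) (e : D.m i a = 1) :
    D.m (sg D g i) (g * a * g⁻¹) = 1 := by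
  refine (co h _).m_eq_one_of (Bi (cjB h hg ha) _) fun b hb => ?_
  obtain ⟨q, hq, rfl⟩ := (sg_spec h hg i).ge hb
  obtain ⟨n, hn⟩ := (co h i).conj_of_m (Bi ha i) hq (by simp [e])
  have : g * a * g⁻¹ * (MulAut.conj g).toMonoidHom q * (g * a * g⁻¹)⁻¹ =
      zp D.z n * (MulAut.conj g).toMonoidHom q := by
    calc _ = g * (a * q * a⁻¹) * g⁻¹ := by simp [mul_assoc]
      _ = _ := by rw [hn, ← conj_mul, zp_conj hg]; rfl
  rw [this, (co h _).l_mul _ ((co h _).zp_mem n) _ hb, (co h _).l_zp, zero_add]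

/-- an element outside `B` of order three permutes the factors cyclically -/
theorem cycz (hg : g ∈ Ce D.z) (n : g ∉ D.B) (e : g ^ 3 = 1) (hx : g ∈ Ce x) (hi : x ∈ cn (D.Q i)) :
    x ∈ zpowers D.z := by
  have h1 := mem_Ce'.1 hx ▸ sg_cn h hg hi
  have h2 := mem_Ce'.1 hx ▸ sg_cn h hg h1
  refine cnQ h fun j => ?_
  rcases (by decide : ∀ σ : Equiv.Perm (Fin 3), σ ≠ 1 → σ ^ 3 = 1 → ∀ i j, j = i ∨ j = σ i ∨ j = σ (σ i))
    _ (mt (B_iff h hg).2 n) (sg_cube h hg e) i j with rfl | rfl | rfl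
  exacts [hi, h1, h2]

/-- two elements of `C_Q(y)` that do not commute -/
theorem nab (hy : y ∈ D.B) (e : D.m k y = 1) (hc : c ∈ D.Q j) (n : j ≠ k) {s : ZMod 3}
    (e' : y * c * y⁻¹ = zp D.z s * c) (hs : s ≠ 0) :
    ∃ a ∈ D.QQ ⊓ Ce y, ∃ b ∈ D.QQ ⊓ Ce y, a * b ≠ b * a := by
  by_contra! ab
  refine (co h k).not_le_cn fun p hp q hq => ?_
  obtain ⟨i, hi⟩ := (co h k).conj_of_m (Bi hy k) hp (by simp [e])
  obtain ⟨i', hi'⟩ := (co h k).conj_of_m (Bi hy k) hq (by simp [e])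
  obtain ⟨m, hm⟩ := adj h.ord ((co h j).le_Ce hc) e' hs hi
  obtain ⟨m', hm'⟩ := adj h.ord ((co h j).le_Ce hc) e' hs hi'
  have := ab _ ⟨mul_mem (Q_le j (pow_mem hc m')) (Q_le k hq), hm'⟩ _
    ⟨mul_mem (Q_le j (pow_mem hc m)) (Q_le k hp), hm⟩
  rwa [mul_assoc, mul_assoc, ← mul_assoc q, ← mul_assoc p, ← QQc h (pow_mem hc m) hq n,
    ← QQc h (pow_mem hc m') hp n, ← mul_assoc, ← mul_assoc, ← mul_assoc, ← mul_assoc, pow_mul_comm,
    mul_assoc, mul_assoc _ p, mul_right_inj] at this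

/-! ### Transport -/

theorem H3_cj (g : G) : H3 (cjD g D) := by
  have un : ∀ a : G, g⁻¹ * (MulAut.conj g).toMonoidHom a * g = a := fun a => by simp [mul_assoc]
  have cN : ∀ i, Ce (g * D.z * g⁻¹) ⊓ nr (cj g (D.Q i)) = cj g (Ce D.z ⊓ nr (D.Q i)) := fun i => by
    simp only [cj_inf, cj_Ce, cj_normalizer]
  have zz : ∀ a : G, (MulAut.conj g).toMonoidHom a ∈ zpowers (g * D.z * g⁻¹) ↔ a ∈ zpowers D.z :=
    fun a => by rw [← cj_zp]; exact conj_mem_cj_iff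
  have pp : ∀ p : G, (cjD g D).P ((MulAut.conj g).toMonoidHom p) ↔ D.P p := fun p => by
    simp only [D3.P, cjD_B]
    simp only [cjD, un]
    exact and_congr_left' conj_mem_cj_iff
  refine ⟨((MulAut.conj g).orderOf_eq D.z).trans h.ord, fun i => ⟨conj_mem_cj (h.sd i).zmem, ?_, ?_, ?_,
    fun v => ?_, ?_, ?_, ?_⟩, fun i j n => (cj_mono g (h.QQ i j n)).trans (cj_centralizer _ _).le,
    ?_, ?_, fun a ha => ?_, fun i => ?_, ?_⟩
  · rintro _ ⟨a, ha, rfl⟩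
    rw [← map_pow, (h.sd i).cube a ha, map_one]
  · rintro _ ⟨a, ha, rfl⟩ _ ⟨b, hb, rfl⟩
    simp only [cjD, ← map_mul, un]
    exact (h.sd i).l_mul a ha b hb
  · rintro _ ⟨a, ha, rfl⟩
    simp only [cjD, un, zz]
    exact (h.sd i).l_ker a ha
  · obtain ⟨a, ha, e⟩ := (h.sd i).l_surj v
    exact ⟨_, ⟨a, ha, rfl⟩, (congrArg (D.l i) (un a)).trans e⟩
  · rintro _ ⟨a, ha, rfl⟩ _ ⟨b, hb, rfl⟩
    simp only [cjD, un]
    rw [← map_mul, (h.sd i).comm a ha b hb, map_mul, map_mul, map_pow]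
    rfl
  · simp only [cjD, cN]
    rintro _ ⟨a, ha, rfl⟩ _ ⟨b, hb, rfl⟩
    simp only [← map_mul, ← map_inv, un]
    exact (h.sd i).act a ha b hb
  · simp only [cjD, cN]
    rintro _ ⟨a, ha, rfl⟩ _ ⟨b, hb, rfl⟩
    simp only [← map_mul, un]
    exact (h.sd i).m_mul a ha b hb
  · rw [cjD_B, cjD_QQ]
    rintro _ ⟨a, ha, rfl⟩ e
    simp only [cjD, un] at e
    exact ⟨a, h.ker a ha e, rfl⟩
  · rw [cjD_QQ, cjD_z, ← cj_zp, cn, ← cj_centralizer]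
    exact cj_mono g h.cen
  · obtain ⟨σ, e⟩ := h.perm (g⁻¹ * a * g) (mem_cj.1 (by
      rw [Nz, cj_normalizer, cj_zp]; exact ha))
    exact ⟨σ, fun i => by simp only [cjD, ← e, cj_cj]; congr 1; group⟩
  · obtain ⟨r, hr, e1, e2⟩ := h.neg i
    refine ⟨(MulAut.conj g).toMonoidHom r, cjD_B.ge ⟨r, hr, rfl⟩, ?_⟩
    simp only [cjD, un]
    exact ⟨e1, e2⟩
  · rw [cjD_B]
    rintro _ ⟨a, ha, rfl⟩ e
    refine (pp a).2 (h.faith a ha fun p hp i => ?_)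
    simpa only [cjD, un] using e _ ((pp p).2 hp) i

omit h in
theorem Nine_cj (n : Nine D) (g : G) : Nine (cjD g D) := fun T hT hp => by
  have := n (cj g⁻¹ T) (le_cj_iff.1 (hT.trans (cj_Ce g D.z).ge)) (isPGroup_cj _ hp)
  rw [cjD_QQ, ← cj_cj_inv g T]
  exact (relIndex_map_map_of_injective _ _ (MulAut.conj g).injective).dvd.trans this

/-! ### `Nine` -/

variable (n : Nine D) {T : Subgroup G} (hT : T ≤ Ce D.z) (hp : IsPGroup 3 T)
include n hT hp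

theorem comN (ha : a ∈ T) (hb : b ∈ T) : a * b * a⁻¹ * b⁻¹ ∈ D.QQ := by
  have : (D.QQ.subgroupOf T).Normal := normal_subgroupOf_of_le_normalizer fun _ k => nrQ h (hT k)
  have e := comm9 (Γ := T ⧸ D.QQ.subgroupOf T) (n T hT hp) (⟨a, ha⟩ : T) (⟨b, hb⟩ : T)
  rw [← mul_inv_eq_one, mul_inv_rev, ← mul_assoc] at e
  exact (QuotientGroup.eq_one_iff (N := D.QQ.subgroupOf T)
    ((⟨a, ha⟩ : T) * (⟨b, hb⟩ : T) * (⟨a, ha⟩ : T)⁻¹ * (⟨b, hb⟩ : T)⁻¹)).1 e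

theorem relN (ha : a ∈ T) (hb : b ∈ T) (hc : c ∈ T) (a3 : a ^ 3 = 1) (b3 : b ^ 3 = 1)
    (c3 : c ^ 3 = 1) :
    ∃ i j k : ZMod 3, ¬ (i = 0 ∧ j = 0 ∧ k = 0) ∧ zp a i * zp b j * zp c k ∈ D.QQ := by
  have : (D.QQ.subgroupOf T).Normal := normal_subgroupOf_of_le_normalizer fun _ k => nrQ h (hT k)
  have cu : ∀ a : T, (a : G) ^ 3 = 1 → (a : T ⧸ D.QQ.subgroupOf T) ^ 3 = 1 := fun a e => by
    rw [← QuotientGroup.mk_pow, show a ^ 3 = 1 from Subtype.ext e, QuotientGroup.mk_one]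
  obtain ⟨i, j, k, h1, h2⟩ := rel9 (Γ := T ⧸ D.QQ.subgroupOf T) (n T hT hp) (cu ⟨a, ha⟩ a3)
    (cu ⟨b, hb⟩ b3) (cu ⟨c, hc⟩ c3)
  exact ⟨i, j, k, h1, (QuotientGroup.eq_one_iff (N := D.QQ.subgroupOf T)
    ((⟨a, ha⟩ : T) ^ i.val * (⟨b, hb⟩ : T) ^ j.val * (⟨c, hc⟩ : T) ^ k.val)).1 h2⟩

end H3

/-- a pair of commuting conjugates -/
structure Pr (D E : D3 G) : Prop where
  h : H3 D
  h' : H3 E
  n : Nine D
  n' : Nine E
  cj : IsConj D.z E.z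
  ce : E.z ∈ Ce D.z
  ne : E.z ∉ zpowers D.z

variable [Finite G] {E : D3 G}

theorem Pr.mk' (h : H3 D) (n : Nine D) (e : g * D.z * g⁻¹ ∈ Ce D.z) (e' : g * D.z * g⁻¹ ∉ zpowers D.z) :
    Pr D (cjD g D) := ⟨h, H3_cj h g, n, Nine_cj n g, isConj_iff.2 ⟨g, rfl⟩, e, e'⟩

theorem of_ne_one {z : G} (ho : orderOf z = 3) (hx : x ∈ zpowers z) (n : x ≠ 1) {X : Subgroup G}
    (e : x ∈ X) : z ∈ X := by
  rcases mem_cases ho hx with rfl | rfl | rfl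
  exacts [absurd rfl n, e, inv_mem_iff.1 e]

namespace Pr

variable (p : Pr D E)
include p

theorem symm : Pr E D := ⟨p.h', p.h, p.n', p.n, p.cj.symm, mem_Ce.2 (mem_Ce.1 p.ce).symm, fun e =>
  p.ne (of_ne_one p.h'.ord e (fun k => by simpa [k] using p.h.ord) (mem_zpowers _))⟩

theorem cube : E.z ^ 3 = 1 := z_cube p.h'.ord

theorem zz (hx : x ∈ zpowers D.z) (hy : x ∈ zpowers E.z) : x = 1 :=
  by_contra fun n => p.ne (of_ne_one p.h'.ord hy n hx)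

theorem zmem_of (ha : a ∈ D.QQ ⊓ Ce E.z) (hb : b ∈ D.QQ ⊓ Ce E.z) (n : a * b ≠ b * a) :
    D.z ∈ E.QQ := of_ne_one p.h.ord (comz p.h ha.1 hb.1)
  (fun e => n (mul_inv_eq_iff_eq_mul.1 (mul_inv_eq_one.1 e)))
  (comN p.h' p.n' inf_le_right (pQ p.h inf_le_left) ha hb)

end Pr

end H21.F22
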