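import Cfsg.Agent.H21.F22B
import Cfsg.Agent.H39.E6Spec0

/-! PS3B, job F22-V (blueprints/PS3B.md): conjugates of `z` in `Q`. -/

set_option autoImplicit false
set_option linter.unusedSectionVars false
set_option maxRecDepth 100000
set_option synthInstance.maxSize 2048

open Cfsg Subgroup H98 H42.L3 H56.L3 H7.PS H39.F22
open H28.PS (SL3 Zt)
open H84.PS (lne)
open scoped Matrix

namespace H21.F22

universe u

/-- the form as a bilinear map -/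
def Bf : LinearMap.BilinForm (ZMod 3) V6 := LinearMap.mk₂ (ZMod 3) om
  (fun _ _ _ => by simp only [om, om2, Pi.add_apply]; ring)
  (fun _ _ _ => by simp only [om, om2, Pi.smul_apply, smul_eq_mul]; ring)
  (fun _ _ _ => by simp only [om, om2, Pi.add_apply]; ring)
  (fun _ _ _ => by simp only [om, om2, Pi.smul_apply, smul_eq_mul]; ring)

theorem om_nd {u : V6} (h : ∀ v, om u v = 0) : u = 0 := funext fun i => by_contra fun n => by
  obtain ⟨v, hv⟩ := om2_nd _ n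
  exact hv ((om_single u i v).symm.trans (h _))

theorem card_orth (W : Submodule (ZMod 3) V6) : Nat.card W * Nat.card (Bf.orthogonal W) = 729 := by
  have := LinearMap.BilinForm.finrank_add_finrank_orthogonal' (B := Bf) W
  rw [show LinearMap.ker Bf = ⊥ from LinearMap.ker_eq_bot'.2 fun u e =>
    om_nd fun v => LinearMap.congr_fun e v, inf_bot_eq, finrank_bot] at this
  rw [Module.natCard_eq_pow_finrank (K := ZMod 3), Module.natCard_eq_pow_finrank (K := ZMod 3)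
    (V := Bf.orthogonal W), ← pow_add, this]
  simp [Module.finrank_pi_fintype]

/-- the homomorphism `SL₂(3) → ℤ/3` -/
def chi (A : SL3) : ZMod 3 :=
  A.1 0 1 * A.1 1 1 * (1 - A.1 1 0 * A.1 1 0) + A.1 1 0 * (A.1 0 0 + A.1 1 1)

theorem chi_mul : ∀ A B : SL3, chi (A * B) = chi A + chi B := by decide +kernel

theorem chi_zero : ∀ A : SL3, chi A = 0 ↔ A ^ 4 = 1 := by decide +kernel

theorem chi_one : chi 1 = 0 := by decide +kernel

theorem chi_inv (A : SL3) : chi A⁻¹ = -chi A := by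
  rw [eq_neg_iff_add_eq_zero, ← chi_mul, inv_mul_cancel, chi_one]

theorem chi_pow (A : SL3) (n : ℕ) : chi (A ^ n) = n * chi A := by
  induction n with
  | zero => simp [chi_one]
  | succ n ih => rw [pow_succ, chi_mul, ih, Nat.cast_succ, add_one_mul]

theorem sl_a : ∀ A : SL3, ∀ v : W2, v ≠ 0 → A.1 *ᵥ v = v → ∀ w : W2, A.1 *ᵥ w ≠ w →
    ∀ B : SL3, B.1 *ᵥ v = v → B.1 *ᵥ w = w → B = 1 := by decide +kernel

theorem sl_b : ∀ A B : SL3, ¬ (A * B = B * A ∨ A * B = -(B * A)) →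
    A ≠ 1 ∧ (A * B * A⁻¹ * B⁻¹) ^ 6 = -1 := by decide +kernel

theorem sl_c : ∀ A : SL3, A ^ 3 = 1 → ∀ R : SL3, R * A * R⁻¹ = A⁻¹ → A = 1 := by decide +kernel

theorem sl_d : ∀ M : SL3, M ^ 4 = 1 → M * M ≠ 1 → ∀ C : SL3, C ^ 4 ≠ 1 → ∀ A : SL3, A ^ 4 = 1 →
    ∃ a < 4, ∃ b < 2, A = M ^ a * (C * M * C⁻¹) ^ b := by decide +kernel

/-- the quaternion subgroup -/
def Q8s : Subgroup SL3 where
  carrier := {A | A ^ 4 = 1}
  mul_mem' {A B} a b := (chi_zero _).1 (by rw [chi_mul, (chi_zero A).2 a, (chi_zero B).2 b, add_zero])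
  one_mem' := one_pow 4
  inv_mem' {A} a := show A⁻¹ ^ 4 = 1 by rw [inv_pow, a, inv_one]

theorem card_Q8s : Nat.card Q8s = 8 := by
  rw [show Nat.card Q8s = Nat.card {A : SL3 // A ^ 4 = 1} from rfl, Nat.card_eq_fintype_card]
  decide +kernel

variable {G : Type*} [Group G] [Finite G] {D E : D3 G} {a b d f g r w x y : G} {i j k : Fin 3}
  {X : Subgroup G}

theorem exists_three (g : G) : ∃ e k : ℕ, ¬ 3 ∣ k ∧ (g ^ k) ^ 3 ^ e = 1 := by
  obtain ⟨e, k, h1, h2⟩ := Nat.exists_eq_pow_mul_and_not_dvd (orderOf_pos g).ne' 3 (by decide)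
  exact ⟨e, k, h1, by rw [← pow_mul, mul_comm, ← h2, pow_orderOf_eq_one]⟩

theorem card_ker_mul {Γ : Type*} [Group Γ] (φ : X →* Γ) :
    Nat.card X = Nat.card φ.ker * Nat.card φ.range := by
  rw [← index_ker, card_mul_index]

theorem card_sub (X Y : Subgroup G) : Nat.card (Y.subgroupOf X) = Nat.card ↥(X ⊓ Y) := by
  rw [← inf_subgroupOf_left, Nat.card_congr (subgroupOfEquivOfLe inf_le_left).toEquiv]

/-- no `3`-cycles -/
def Dg (D : D3 G) : Prop := ∀ w ∈ Ce D.z, w * w ∈ D.B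

theorem Dg.cj (h : Dg D) (g : G) : Dg (cjD g D) := fun w hw => by
  rw [cjD_B, mem_cj]
  simpa [mul_assoc] using h _ (mem_cj.1 ((cj_Ce g D.z).ge hw))

theorem Dg.three (h : Dg D) (hw : w ∈ Ce D.z) (e : w ^ 3 = 1) : w ∈ D.B := by
  have := mul_mem (h w hw) (h w hw)
  rwa [mul_assoc, ← pow_three, e, mul_one] at this

section H3

variable (h : H3 D)
include h

/-- the coordinates as a homomorphism -/
noncomputable def Lh (hX : X ≤ D.QQ) : X →* Multiplicative V6 :=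
  MonoidHom.mk' (fun x => .ofAdd (L D x)) fun a b =>
    congrArg Multiplicative.ofAdd (L_mul h (hX a.2) (hX b.2))

theorem ker_Lh (hX : X ≤ D.QQ) : (Lh h hX).ker = (zpowers D.z).subgroupOf X :=
  Subgroup.ext fun x => ⟨fun e => L_ker h (hX x.2) e, fun e => L_z h e⟩

theorem card_z : Nat.card (zpowers D.z) = 3 := by rw [Nat.card_zpowers, h.ord]

theorem cardQ : Nat.card D.QQ = 2187 := by
  rw [card_ker_mul (Lh h le_rfl), ker_Lh, card_sub, inf_eq_right.2 (zQ h), card_z h,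
    MonoidHom.range_eq_top.2 fun v => (L_surj h v.toAdd).elim fun x e => ⟨⟨x, e.1⟩, e.2⟩]
  simp

/-- the image in `Q / ⟨z⟩` -/
def img (hX : X ≤ D.QQ) : Submodule (ZMod 3) V6 where
  carrier := {v | ∃ x ∈ X, L D x = v}
  add_mem' := by
    rintro _ _ ⟨a, ha, rfl⟩ ⟨b, hb, rfl⟩
    exact ⟨_, mul_mem ha hb, L_mul h (hX ha) (hX hb)⟩
  zero_mem' := ⟨1, one_mem _, L_one h⟩
  smul_mem' := by
    rintro c _ ⟨a, ha, rfl⟩
    exact ⟨_, pow_mem ha _, L_zp h (hX ha) c⟩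

theorem card_img (hX : X ≤ D.QQ) : Nat.card X ≤ 3 * Nat.card (img h hX) := by
  rw [card_ker_mul (Lh h hX), ker_Lh, card_sub]
  refine Nat.mul_le_mul ((card_le_of_le inf_le_right).trans (card_z h).le)
    (Nat.card_le_card_of_injective (fun v => ⟨v.1.toAdd, ?_⟩) fun u v e =>
      Subtype.ext (congrArg (fun x : img h hX => x.1) e))
  obtain ⟨x, e⟩ := v.2
  exact ⟨x, x.2, e⟩

theorem iso (hX : X ≤ D.QQ) : Nat.card X * Nat.card ↥(D.QQ ⊓ cn X) ≤ 6561 := by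
  have h1 : img h (inf_le_left : D.QQ ⊓ cn X ≤ _) ≤ Bf.orthogonal (img h hX) := by
    rintro _ ⟨c, hc, rfl⟩ _ ⟨x, hx, rfl⟩
    exact (comm_iff h (hX hx) hc.1).1 (mem_Ce.2 (hc.2 x hx))
  calc _ ≤ 3 * Nat.card (img h hX) * (3 * Nat.card (Bf.orthogonal (img h hX))) :=
        Nat.mul_le_mul (card_img h hX) ((card_img h inf_le_left).trans (Nat.mul_le_mul_left _
          (Nat.card_le_card_of_injective _ (Submodule.inclusion_injective h1))))
    _ = _ := by rw [mul_mul_mul_comm, card_orth]; rfl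

theorem idx3 (hX : X ≤ D.QQ) (hf : f ∈ D.QQ) :
    ∃ n, n ≤ 3 ∧ (¬ X ≤ Ce f → n = 3) ∧ Nat.card X = Nat.card ↥(X ⊓ Ce f) * n := by
  let φ : X →* Multiplicative (ZMod 3) := MonoidHom.mk' (fun x => .ofAdd (om (L D x) (L D f)))
    fun a b => congrArg Multiplicative.ofAdd (by
      rw [coe_mul, L_mul h (hX a.2) (hX b.2)]; exact Bf.add_left _ _ _)
  have e : φ.ker = (Ce f).subgroupOf X := Subgroup.ext fun x => (comm_iff h (hX x.2) hf).symm
  have h1 : Nat.card φ.range ∣ 3 := by simpa using card_subgroup_dvd_card φ.range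
  refine ⟨_, Nat.le_of_dvd three_pos h1, fun n => ((Nat.dvd_prime Nat.prime_three).1 h1).resolve_left
    fun k => n ?_, by rw [card_ker_mul φ, e, card_sub]⟩
  rw [card_eq_one, MonoidHom.range_eq_bot_iff, ← MonoidHom.ker_eq_top_iff, e] at k
  exact subgroupOf_eq_top.1 k

theorem cardU (hy : y ∈ D.QQ) (n : y ∉ zpowers D.z) : Nat.card ↥(D.QQ ⊓ Ce y) = 729 := by
  obtain ⟨m, -, h1, h2⟩ := idx3 h le_rfl hy
  rw [h1 fun e => n (h.cen fun q hq => mem_Ce.1 (e hq)), cardQ h] at h2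
  omega

theorem P_iff (hg : g ∈ D.B) : D.P g ↔ ∀ i, chi (D.m i g) = 0 := by simp only [D3.P, hg, chi_zero, true_and]

theorem of_three (hg : g ∈ D.B) (e : g ^ 3 = 1) (e' : D.m i g ^ 4 = 1) : D.m i g = 1 := by
  rwa [pow_succ, m_cube h hg e, one_mul] at e'

theorem W3_of (hw : w ∈ Ce D.z) (n : w ∉ D.B) (e : w ^ 3 = 1) (hy : y ∈ D.QQ) (e' : w ∈ Ce y) :
    y ∈ zpowers D.z ∨ D.W3 y := by
  refine or_iff_not_imp_left.2 fun ny => ?_
  have k : ∀ i, L D y i ≠ 0 := fun i e'' => ny (cycz h hw n e e' (cn_of_L h hy e''))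
  obtain ⟨a, ha, b, hb, c, hc, rfl⟩ := memQ h hy
  rw [L_mul h (mul_mem (Q_le 0 ha) (Q_le 1 hb)) (Q_le 2 hc), L_mul h (Q_le 0 ha) (Q_le 1 hb),
    L_single h ha, L_single h hb, L_single h hc] at k
  refine ⟨![a, b, c], fun i => ?_, rfl⟩
  fin_cases i
  · exact ⟨ha, mt ((co h 0).l_ker a ha).2 (by simpa using k 0)⟩
  · exact ⟨hb, mt ((co h 1).l_ker b hb).2 (by simpa using k 1)⟩
  · exact ⟨hc, mt ((co h 2).l_ker c hc).2 (by simpa using k 2)⟩

end H3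

namespace Pr

variable (p : Pr D E) (yQ : E.z ∈ D.QQ)
include p yQ

theorem sym : D.z ∈ E.QQ := by
  have h := p.h
  obtain ⟨j, hj⟩ := Function.ne_iff.1 (mt (L_ker h yQ) p.ne)
  obtain ⟨v, hv⟩ := om2_nd _ hj
  obtain ⟨c, hc, rfl⟩ := (co h j).l_surj v
  obtain ⟨k, -, -, n, -⟩ := others j
  obtain ⟨a, ha, b, hb, e⟩ := nab h (QB h yQ) (mQ h yQ k) hc n.symm (conj1 h yQ hc) hv
  exact p.zmem_of ha hb e

omit yQ in
theorem abF : D.QQ ⊓ E.QQ ≤ cn (D.QQ ⊓ E.QQ) := fun _ ha _ hb =>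
  mul_inv_eq_iff_eq_mul.1 (mul_inv_eq_one.1 (p.zz (comz p.h hb.1 ha.1) (comz p.h' hb.2 ha.2)))

theorem cardF : Nat.card ↥(D.QQ ⊓ E.QQ) = 81 := by
  have h1 := (Nat.mul_le_mul_left _ (card_le_of_le (le_inf inf_le_left p.abF))).trans
    (iso p.h inf_le_left)
  have h2 := Nat.le_of_dvd (by decide) (p.n' _ inf_le_right (pQ p.h (X := D.QQ ⊓ Ce E.z) inf_le_left))
  have h3 := relIndex_mul_card (inf_le_right : E.QQ ⊓ (D.QQ ⊓ Ce E.z) ≤ _)
  rw [inf_relIndex_right, cardU p.h yQ p.ne, show E.QQ ⊓ (D.QQ ⊓ Ce E.z) = D.QQ ⊓ E.QQ from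
    le_antisymm (fun x hx => ⟨hx.2.1, hx.1⟩) fun x hx => ⟨hx.2, hx.1, Qz p.h' hx.2⟩] at h3
  nlinarith

theorem cardU' : Nat.card ↥(E.QQ ⊓ Ce D.z) = 729 := cardU p.h' (p.sym yQ) p.symm.ne

theorem noDg (h1 : Dg D) (h2 : Dg E) : False := by
  have h := p.h
  have UB : E.QQ ⊓ Ce D.z ≤ D.B := fun u hu => h1.three hu.2 (cubeQ p.h' hu.1)
  obtain ⟨u, hu, nu⟩ := SetLike.not_le_iff_exists.1 fun e : E.QQ ⊓ Ce D.z ≤ cn (D.QQ ⊓ E.QQ) => by
    have := (Nat.mul_le_mul_left _ (card_le_of_le (le_inf inf_le_left e))).trans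
      (iso p.h' inf_le_right)
    rw [p.cardF yQ, p.cardU' yQ] at this
    omega
  obtain ⟨f, hf, nf⟩ : ∃ f ∈ D.QQ ⊓ E.QQ, f * u ≠ u * f := by
    by_contra! k
    exact nu k
  obtain ⟨v, hv, nv⟩ := SetLike.not_le_iff_exists.1 fun e : E.QQ ⊓ Ce D.z ⊓ Ce f ≤ D.QQ => by
    obtain ⟨n, k1, -, k2⟩ := idx3 p.h' (inf_le_left : E.QQ ⊓ Ce D.z ≤ _) hf.2
    have := card_le_of_le (le_inf e (inf_le_left.trans inf_le_left))
    rw [p.cardF yQ] at this
    rw [p.cardU' yQ] at k2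
    nlinarith
  have vB := UB hv.1
  have triv : ∀ i, L D E.z i ≠ 0 → D.m i v = 1 := fun i n => by
    refine sl_a _ _ n (fixL h (UB hu) yQ (Qz p.h' hu.1) i) _ (fun e => nf ?_) _
      (fixL h vB yQ (Qz p.h' hv.1.1) i) (fixL h vB hf.1 hv.2 i)
    have k := conjQ p.h' hu.1 hf.2
    rw [← act h (UB hu) hf.1, k, L_mul h (x := zp _ _) (pow_mem yQ _) hf.1, Pi.add_apply, add_eq_right,
      L_zp h yQ, Pi.smul_apply, smul_eq_zero, or_iff_left n] at e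
    rw [e, zp_zero, one_mul] at k
    exact (mul_inv_eq_iff_eq_mul.1 k).symm
  obtain ⟨q, hq, k, nk⟩ : ∃ q, D.P q ∧ ∃ k, ¬ (D.m k v * D.m k q = D.m k q * D.m k v ∨
      D.m k v * D.m k q = -(D.m k q * D.m k v)) := by
    by_contra e
    exact nv (h.ker v vB fun i => of_three h vB (cubeQ p.h' hv.1.1)
      ((h.faith v vB fun q hq i => by_contra fun t => e ⟨q, hq, i, t⟩).2 i))
  have tB := mul_mem (cjB h (Bz vB) hq.1) (inv_mem hq.1)
  obtain ⟨n, hn⟩ := conj_of_fix h tB yQ fun i => by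
    by_cases e : L D E.z i = 0
    · rw [e, Matrix.mulVec_zero]
    · simp [m_com h vB hq.1, triv i e]
  have t3 := mem_Ce.2 ((co h 0).cube_comm (Bz tB) hn)
  have rB := h2 _ t3
  have rm : D.m k ((v * q * v⁻¹ * q⁻¹) ^ 6) = -1 := by rw [m_pow h tB, m_com h vB hq.1, (sl_b _ _ nk).2]
  have rD := pow_mem tB 6
  rw [← pow_add] at rB
  generalize (v * q * v⁻¹ * q⁻¹) ^ 6 = r at rm rD rB
  have yk := cn_of_L h yQ (by_contra fun e => (sl_b _ _ nk).1 (triv k e))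
  have le : D.Q k ≤ D.QQ ⊓ E.QQ := fun a ha => ⟨Q_le k ha, by
    have a3 := (h.sd k).cube a ha
    have aB := h2.three (mem_Ce.2 (yk a ha)) a3
    obtain ⟨s, hs⟩ := (co h k).eq_zp ((co h k).conj_mem (Bi rD k) ha) (inv_mem ha) (by
      rw [(co h k).act r (Bi rD k) a ha, rm, (co h k).l_inv ha]; simp [Matrix.neg_mulVec])
    have zs : zp D.z s ∈ E.QQ := pow_mem (p.sym yQ) _
    refine p.h'.ker a aB fun i => sl_c _ (m_cube p.h' aB a3 i) (E.m i r) ?_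
    rw [← m_cj p.h' rB aB, hs, m_mul p.h' (QB p.h' zs) (inv_mem aB), mQ p.h' zs, one_mul,
      m_inv p.h' aB]⟩
  exact (co h k).not_le_cn (le.trans (p.abF.trans (centralizer_anti le)))

theorem syl : IsSyl 3 (D.QQ ⊔ E.QQ ⊓ Ce D.z) (Ce D.z) := by
  have h := p.h
  refine ⟨sup_le (fun _ => Qz h) inf_le_right, IsPGroup.to_sup_of_normal_left' (pQ h le_rfl)
    (pQ p.h' inf_le_left) fun _ k => nrQ h k.2, fun T hT h1 h2 => ?_⟩
  refine (eq_of_le_of_card_ge h1 ?_).symm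
  have h3 := relIndex_mul_card (inf_le_right : D.QQ ⊓ (E.QQ ⊓ Ce D.z) ≤ _)
  rw [inf_relIndex_right, p.cardU' yQ, show D.QQ ⊓ (E.QQ ⊓ Ce D.z) = D.QQ ⊓ E.QQ from
    le_antisymm (fun x hx => ⟨hx.1, hx.2.1⟩) fun x hx => ⟨hx.1, hx.2, Qz h hx.1⟩, p.cardF yQ] at h3
  rw [← relIndex_mul_card (le_sup_left.trans h1), ← relIndex_mul_card (le_sup_left (a := D.QQ))]
  refine Nat.mul_le_mul_right _ ((Nat.le_of_dvd (by decide) (p.n T h2 hT)).trans (le_trans ?_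
    (relIndex_le_of_le_right le_sup_right index_ne_zero_of_finite)))
  omega

theorem exw (n : ¬ Dg D) : ∃ w ∈ E.QQ ⊓ Ce D.z, w ∉ D.B ∧ ∀ i, sg D w i = i + 1 := by
  have h := p.h
  obtain ⟨w, hw, nw⟩ := SetLike.not_le_iff_exists.1 fun e : E.QQ ⊓ Ce D.z ≤ D.B => n fun g hg => by
    obtain ⟨m, k, h1, h2⟩ := exists_three g
    obtain ⟨a, ha, h3⟩ := (p.syl yQ).exists_cj_le (isPGroup_zpowers h2) (zpowers_le.2 (pow_mem hg k))
    have h4 := (B_iff h (pow_mem hg k)).1 (by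
      simpa [mul_assoc] using cjB h (inv_mem ha) (sup_le (QB h) e (h3 (conj_mem_cj (mem_zpowers _)))))
    rw [B_iff h (mul_mem hg hg), sg_mul h hg hg]
    rw [sg_pow h hg] at h4
    refine ((by decide : ∀ σ : Equiv.Perm (Fin 3), σ * σ = 1 ∨ σ ^ 3 = 1 ∧ σ ≠ 1) _).resolve_right
      fun e' => h1 (orderOf_eq_prime e'.1 e'.2 ▸ orderOf_dvd_of_pow_eq_one h4)
  rcases (by decide : ∀ σ : Equiv.Perm (Fin 3), σ ≠ 1 → σ ^ 3 = 1 → (∀ i, σ i = i + 1) ∨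
    ∀ i, σ⁻¹ i = i + 1) _ (mt (B_iff h hw.2).2 nw) (sg_cube h hw.2 (cubeQ p.h' hw.1)) with e | e
  · exact ⟨w, hw, nw, e⟩
  · exact ⟨w⁻¹, inv_mem hw, mt inv_mem_iff.1 nw, sg_inv h hw.2 ▸ e⟩

theorem base (n : ¬ Dg D) :
    ∃ d ∈ D.B, (∀ i, D.m i d ^ 4 ≠ 1) ∧ ∀ g ∈ D.B, D.P g ∨ D.P (g * d) ∨ D.P (g * d⁻¹) := by
  have h := p.h
  obtain ⟨w, hw, nw, ew⟩ := p.exw yQ n
  obtain ⟨d, hd, nd⟩ := SetLike.not_le_iff_exists.1 fun e : E.QQ ⊓ Ce D.z ⊓ D.B ≤ D.QQ => by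
    let φ := (sh h).comp (inclusion (inf_le_right : E.QQ ⊓ Ce D.z ≤ _))
    have h1 := card_ker_mul φ
    have h2 : Nat.card φ.range ∣ 6 := by
      simpa [Fintype.card_perm, Nat.factorial] using card_subgroup_dvd_card φ.range
    rw [show φ.ker = D.B.subgroupOf _ from Subgroup.ext fun x => (B_iff h x.2.2).symm, card_sub,
      p.cardU' yQ] at h1
    have h3 := card_le_of_le (le_inf e (inf_le_left.trans inf_le_left))
    have h4 := Nat.le_of_dvd (by decide) h2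
    rw [p.cardF yQ] at h3
    nlinarith
  have d3 := cubeQ p.h' hd.1.1
  have st : ∀ i, D.m i d = 1 → D.m (i + 1) d = 1 := fun i e => by
    have k := mconj h hw.2 hd.2 e
    have zs : ∀ s, zp E.z s ∈ D.QQ := fun s => pow_mem yQ _
    rwa [ew, conjQ p.h' hw.1 hd.1.1, m_mul h (QB h (zs _)) hd.2, mQ h (zs _), one_mul] at k
  have dn : ∀ i, D.m i d ^ 4 ≠ 1 := fun i e => nd (h.ker d hd.2 fun j => by
    have h1 := of_three h hd.2 d3 e
    rcases (by decide : ∀ i j : Fin 3, j = i ∨ j = i + 1 ∨ j = i + 1 + 1) i j with rfl | rfl | rfl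
    exacts [h1, st _ h1, st _ (st _ h1)])
  refine ⟨d, hd.2, dn, fun g hg => ?_⟩
  obtain ⟨m, k, h1, h2⟩ := exists_three g
  obtain ⟨a, ha, h3⟩ := ((p.syl yQ).inf_of_le_normalizer (fun _ => Bz) ((p.syl yQ).le.trans
    fun _ => nrB h)).exists_cj_le (isPGroup_zpowers h2) (zpowers_le.2 (pow_mem hg k))
  obtain ⟨h4, h5⟩ := h3 (conj_mem_cj (mem_zpowers _))
  obtain ⟨q, hq, u, hu, e⟩ := (mem_sup_right_norm fun _ k => nrQ h (mem_inf.1 k).2).1 h4
  have uB : u ∈ D.B := (Subgroup.mul_mem_cancel_left _ (QB h hq)).1 (e ▸ h5)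
  obtain ⟨α, β, γ, h6, h7⟩ := relN h p.n inf_le_right (pQ p.h' inf_le_left) hw hd.1 hu
    (cubeQ p.h' hw.1) d3 (cubeQ p.h' hu.1)
  have b1 : zp d β ∈ D.B := pow_mem hd.2 _
  have b2 : zp u γ ∈ D.B := pow_mem uB _
  obtain rfl : α = 0 := by_contra fun a0 => nw (of_ne_one (x := zp w α)
    (orderOf_eq_prime (cubeQ p.h' hw.1) fun e => nw (e ▸ one_mem _)) (zp_mem α)
    (fun e => a0 (zp_eq_one (orderOf_eq_prime (cubeQ p.h' hw.1) fun e => nw (e ▸ one_mem _)) e))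
    ((Subgroup.mul_mem_cancel_right _ b1).1 ((Subgroup.mul_mem_cancel_right _ b2).1 (QB h h7))))
  rw [zp_zero, one_mul] at h7
  have h8 : ∀ i, β * chi (D.m i d) + γ * (k * chi (D.m i g)) = 0 := fun i => by
    have e1 := congrArg (fun x => chi (D.m i x)) e
    have e2 := congrArg chi (mQ h h7 i)
    simp only [m_cj h ha (pow_mem hg k), m_mul h (QB h hq) uB, mQ h hq, one_mul, chi_mul, chi_inv,
      m_pow h hg, chi_pow] at e1
    rw [m_mul h b1 b2, zp, zp, m_pow h hd.2, m_pow h uB, chi_mul, chi_pow, chi_pow, chi_one,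
      ZMod.natCast_zmod_val, ZMod.natCast_zmod_val, ← e1] at e2
    linear_combination e2
  have k0 : (k : ZMod 3) ≠ 0 := mt (ZMod.natCast_eq_zero_iff k 3).1 h1
  simp only [P_iff h hg, P_iff h (mul_mem hg hd.2), P_iff h (mul_mem hg (inv_mem hd.2)),
    m_mul h hg hd.2, m_mul h hg (inv_mem hd.2), m_inv h hd.2, chi_mul, chi_inv]
  rcases (by decide : ∀ β γ k x : ZMod 3, ¬ (β = 0 ∧ γ = 0) → k ≠ 0 → x ≠ 0 → ∀ y, β * x + γ * (k * y) = 0 →
    (∀ a b : ZMod 3, β * a + γ * (k * b) = 0 → b = 0) ∨ (∀ a b : ZMod 3, β * a + γ * (k * b) = 0 → b + a = 0) ∨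
      ∀ a b : ZMod 3, β * a + γ * (k * b) = 0 → b + -a = 0) β γ k _ (fun e => h6 ⟨rfl, e⟩) k0
    (mt (chi_zero _).1 (dn 0)) _ (h8 0) with e | e | e
  exacts [.inl fun i => e _ _ (h8 i), .inr (.inl fun i => e _ _ (h8 i)), .inr (.inr fun i => e _ _ (h8 i))]

end Pr

theorem jobV0 : JobV0.{u} := fun _ _ _ D h n ex => by
  have pr : ∀ g, g * D.z * g⁻¹ ∈ D.QQ → g * D.z * g⁻¹ ∉ zpowers D.z → Pr D (cjD g D) :=
    fun g h1 h2 => Pr.mk' h n (Qz h h1) h2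
  have zt : ∀ y ∈ D.QQ, Zt D.z y → y ∉ zpowers D.z → ∃ g, g * D.z * g⁻¹ ∈ D.QQ ∧
      g * D.z * g⁻¹ ∉ zpowers D.z ∧ Ce (g * D.z * g⁻¹) ≤ Ce y := fun y hy ⟨g, hg⟩ ny =>
    ⟨g, hg.elim (· ▸ hy) (· ▸ inv_mem hy), hg.elim (· ▸ ny) (· ▸ mt inv_mem_iff.1 ny),
      hg.elim (· ▸ le_rfl) fun e => e ▸ fun _ k => mem_Ce.2 (Commute.inv_right_iff.1 (mem_Ce.1 k))⟩
  obtain ⟨y, hy, y1, y2⟩ := id ex
  obtain ⟨g, g1, g2, -⟩ := zt y hy y1 y2
  have nD : ¬ Dg D := fun e => (pr g g1 g2).noDg g1 e (e.cj g)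
  refine ⟨ex, fun g hg => ?_, fun y hy y1 => or_iff_not_imp_left.2 fun y2 => ?_, fun g h1 h2 => ?_,
    (pr g g1 g2).base g1 nD⟩
  · by_cases e : g * D.z * g⁻¹ ∈ zpowers D.z
    · exact zQ h (conj_mem_of_mem_normalizer' (mem_Nz.2 e) (mem_zpowers _))
    · exact mem_cj.1 (cjD_QQ.le ((pr g hg e).sym hg))
  · obtain ⟨g, g1, g2, g3⟩ := zt y hy y1 y2
    obtain ⟨w, hw, nw, -⟩ := (pr g g1 g2).exw g1 nD
    exact (W3_of h hw.2 nw (cubeQ (pr g g1 g2).h' hw.1) hy (g3 (Qz (pr g g1 g2).h' hw.1))).resolve_left y2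
  · obtain ⟨w, hw, -, e⟩ := (pr g h1 h2).exw h1 nD
    rw [← cjD_QQ]
    exact ⟨(pr g h1 h2).cardF h1, (pr g h1 h2).cardU' h1, w, hw, fun i => e i ▸ sg_spec h hw.2 i⟩

section Count

variable (h : H3 D)
include h

/-- the image of `P` -/
def AA : Subgroup (Fin 3 → SL3) where
  carrier := {A | ∃ p, D.P p ∧ ∀ i, D.m i p = A i}
  mul_mem' := by
    rintro _ _ ⟨a, ha, e⟩ ⟨b, hb, e'⟩
    exact ⟨a * b, ⟨mul_mem ha.1 hb.1, fun i => m_mul h ha.1 hb.1 i ▸ Q8s.mul_mem (ha.2 i) (hb.2 i)⟩,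
      fun i => by rw [m_mul h ha.1 hb.1, e, e', Pi.mul_apply]⟩
  one_mem' := ⟨1, ⟨one_mem _, fun i => by rw [(co h i).m_one, one_pow]⟩, fun i => (co h i).m_one⟩
  inv_mem' := by
    rintro _ ⟨a, ha, e⟩
    exact ⟨a⁻¹, ⟨inv_mem ha.1, fun i => m_inv h ha.1 i ▸ Q8s.inv_mem (ha.2 i)⟩,
      fun i => by rw [m_inv h ha.1, e, Pi.inv_apply]⟩

theorem AA_mem {A : Fin 3 → SL3} (e : A ∈ AA h) (i : Fin 3) : A i ∈ Q8s :=
  e.elim fun _ k => k.2 i ▸ k.1.2 i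

variable (c : C128 D) (v : HV0 D)
include c v

theorem inj {p : G} (hp : D.P p) (n : i ≠ j) (e1 : D.m i p = 1) (e2 : D.m j p = 1) (k : Fin 3) :
    D.m k p = 1 ∨ D.m k p = -1 := by
  refine sl_sq _ (by_contra fun nk => ?_)
  obtain ⟨d, hd, dn, -⟩ := v.base
  obtain ⟨y, hy, ⟨g, hg⟩, ny⟩ := v.ex
  obtain ⟨-, -, w, ⟨-, hw⟩, ew⟩ := v.pair g (hg.elim (· ▸ hy) (· ▸ inv_mem hy))
    (hg.elim (· ▸ ny) (· ▸ mt inv_mem_iff.1 ny))
  have sw : ∀ i, sg D w i = i + 1 := fun i => Q_inj h ((sg_spec h hw i).symm.trans (ew i))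
  let Gen := fun k => ∃ p, D.P p ∧ (∀ n, n ≠ k → D.m n p = 1) ∧ D.m k p * D.m k p ≠ 1
  have st : ∀ k, Gen k → Gen (k + 1) := fun k ⟨p, hp, h1, h2⟩ => by
    have pB := cjB h hw hp.1
    refine ⟨w * p * w⁻¹, ⟨pB, fun n => ?_⟩, fun n e => ?_, fun e => h2 ?_⟩
    · have := mconj h hw (pow_mem hp.1 4) ((m_pow h hp.1 (n - 1) 4).trans (hp.2 _))
      rwa [sw, sub_add_cancel, ← conj_pow, m_pow h pB] at this
    · simpa [sw] using mconj h hw hp.1 (h1 (n - 1) fun e' => e (by rw [← e', sub_add_cancel]))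
    · have := mconj h (inv_mem hw) (mul_mem pB pB) ((m_mul h pB pB _).trans e)
      rw [sg_inv h hw, ← sw, Equiv.Perm.inv_def, Equiv.symm_apply_apply, conj_mul] at this
      simpa [mul_assoc, m_mul h hp.1 hp.1] using this
  have g0 : Gen k := ⟨p, hp, fun m e => by
    rcases third i j k m n (by rintro rfl; simp [e1] at nk) (by rintro rfl; simp [e2] at nk) with
      rfl | rfl | rfl
    exacts [e1, e2, absurd rfl e], nk⟩
  have all : ∀ m, ∀ A ∈ Q8s, Pi.mulSingle m A ∈ AA h := fun m A hA => by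
    obtain ⟨q, hq, h1, h2⟩ : Gen m := by
      rcases (by decide : ∀ i j : Fin 3, j = i ∨ j = i + 1 ∨ j = i + 1 + 1) k m with rfl | rfl | rfl
      exacts [g0, st _ g0, st _ (st _ g0)]
    obtain ⟨a, -, b, -, rfl⟩ := sl_d _ (hq.2 m) h2 _ (dn m) A hA
    have k1 : ∀ q, D.P q → (∀ n, n ≠ m → D.m n q = 1) → Pi.mulSingle m (D.m m q) ∈ AA h :=
      fun q hq e => ⟨q, hq, fun n => by
        by_cases e' : n = m
        · rw [e', Pi.mulSingle_eq_same]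
        · rw [e n e', Pi.mulSingle_eq_of_ne e']⟩
    rw [Pi.mulSingle_mul, Pi.mulSingle_pow, Pi.mulSingle_pow, ← m_cj h hd hq.1]
    refine mul_mem (pow_mem (k1 q hq h1) _) (pow_mem (k1 _ ⟨cjB h (Bz hd) hq.1, fun n => ?_⟩
      fun n e => by simp [m_cj h hd hq.1, h1 n e]) _)
    rw [m_cj h hd hq.1, conj_pow, hq.2, mul_one, mul_inv_cancel]
  have := Nat.card_le_card_of_injective (fun A : Fin 3 → Q8s => (⟨fun i => A i, by
    convert mul_mem (mul_mem (all 0 _ (A 0).2) (all 1 _ (A 1).2)) (all 2 _ (A 2).2) using 1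
    funext n
    fin_cases n <;> simp⟩ : AA h)) fun A B e => funext fun i =>
      Subtype.ext (congrFun (congrArg Subtype.val e) i)
  rw [Nat.card_fun, card_Q8s, show Nat.card (AA h) = 128 from c] at this
  simp at this

theorem onto (n : i ≠ j) {A A' : SL3} (h1 : A ^ 4 = 1) (h2 : A' ^ 4 = 1) :
    ∃ p, D.P p ∧ D.m i p = A ∧ D.m j p = A' := by
  let φ : AA h →* SL3 × SL3 := ((Pi.evalMonoidHom _ i).prod (Pi.evalMonoidHom _ j)).comp (AA h).subtype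
  obtain ⟨k, ik, jk⟩ := (by decide : ∀ i j : Fin 3, ∃ k, i ≠ k ∧ j ≠ k) i j
  have h3 := Nat.card_le_card_of_injective (fun A : φ.ker => decide (A.1.1 k = 1)) fun A B e => by
    have k1 : ∀ A : φ.ker, A.1.1 i = 1 ∧ A.1.1 j = 1 ∧ (A.1.1 k = 1 ∨ A.1.1 k = -1) := fun A => by
      obtain ⟨p, hp, e⟩ := A.1.2
      have a1 : A.1.1 i = 1 := congrArg Prod.fst A.2
      have a2 : A.1.1 j = 1 := congrArg Prod.snd A.2
      exact ⟨a1, a2, e k ▸ inj h c v hp n ((e i).trans a1) ((e j).trans a2) k⟩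
    refine Subtype.ext (Subtype.ext (funext fun m => ?_))
    rcases third i j k m n ik jk with rfl | rfl | rfl
    · rw [(k1 A).1, (k1 B).1]
    · rw [(k1 A).2.1, (k1 B).2.1]
    · have e' := decide_eq_decide.1 e
      by_cases k2 : A.1.1 m = 1
      · rw [k2, e'.1 k2]
      · rw [(k1 A).2.2.resolve_left k2, (k1 B).2.2.resolve_left (mt e'.2 k2)]
  have h4 := φ.ker.card_mul_index
  rw [index_ker, show Nat.card (AA h) = 128 from c] at h4
  obtain ⟨⟨B, p, hp, e⟩, e'⟩ := (eq_of_le_of_card_ge (H := φ.range) (K := Q8s.prod Q8s) (by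
    rintro _ ⟨B, rfl⟩
    exact ⟨AA_mem h B.2 i, AA_mem h B.2 j⟩) (by
    rw [Nat.card_congr (prodEquiv _ _).toEquiv, Nat.card_prod, card_Q8s]
    rw [Nat.card_eq_fintype_card (α := Bool), Fintype.card_bool] at h3
    nlinarith)).ge (show (A, A') ∈ Q8s.prod Q8s from ⟨h1, h2⟩)
  exact ⟨p, hp, (e i).trans (congrArg Prod.fst e'), (e j).trans (congrArg Prod.snd e')⟩

end Count

theorem jobV : JobV.{u} := fun G _ _ D h c n ex =>
  have v := jobV0 G D h n ex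
  ⟨v.ex, v.sym, v.wt, v.pair, fun _ _ n _ _ => onto h c v n,
    fun _ hp _ _ k n e1 e2 => inj h c v hp n e1 e2 k, v.base⟩

end H21.F22
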