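import Cfsg.Agent.H21.F22B

/-! PS3B, job F22-W (blueprints/PS3B.md): `⟨z⟩` is not weakly closed in `Q`. -/

set_option autoImplicit false
set_option linter.unusedSectionVars false
set_option maxRecDepth 100000
set_option synthInstance.maxSize 2048

open Cfsg Subgroup H98 H42.L3 H56.L3 H7.PS H39.F22
open H28.PS (SL3 Zt)
open H84.PS (sl_one adj lne zfus fixv cov fix_of_comm)
open scoped Matrix

namespace H21.F22

universe u

theorem sl_im : ∀ A : SL3, A ^ 3 = 1 → A ≠ 1 → ∀ v : W2, A.1 *ᵥ v = v →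
    (∃ u : W2, v = u - A.1 *ᵥ u) ∧ (v ≠ 0 → ∀ w : W2, om2 w v = 0 → ∃ u : W2, w = u - A.1 *ᵥ u) := by
  decide +kernel

theorem sl_fix : ∀ A : SL3, A * A = 1 → ∀ v : W2, v ≠ 0 → A.1 *ᵥ v = v → A = 1 := by decide +kernel

variable {G : Type*} [Group G] [Finite G] {D E : D3 G} {a b c e g r x y : G} {i j k : Fin 3}
  {s : ZMod 3}

/-- `⟨z⟩` is weakly closed in `Q` -/
def WC (D : D3 G) : Prop := ∀ y ∈ D.QQ, IsConj D.z y → y ∈ zpowers D.z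

theorem WC_cj (w : WC D) (g : G) : WC (cjD g D) := fun y hy e => by
  rw [cjD_QQ, mem_cj] at hy
  rw [cjD_z, ← cj_zp, mem_cj]
  exact w _ hy (((isConj_iff.2 ⟨g, rfl⟩ : IsConj D.z _).trans e).trans (isConj_iff.2 ⟨g⁻¹, by simp⟩))

/-- the vectors `[V, y]` -/
def Im (D : D3 G) (y : G) (v : V6) : Prop := ∀ i, ∃ u : W2, v i = u - (D.m i y).1 *ᵥ u

theorem Im.lin {u v : V6} (hu : Im D y u) (hv : Im D y v) (α β : ZMod 3) : Im D y (α • u + β • v) :=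
  fun i => by
    obtain ⟨p, hp⟩ := hu i
    obtain ⟨q, hq⟩ := hv i
    exact ⟨α • p + β • q, by
      simp only [Pi.add_apply, Pi.smul_apply, hp, hq, Matrix.mulVec_add, Matrix.mulVec_smul]; module⟩

theorem Im_single {v : W2} (h : ∃ u : W2, v = u - (D.m i y).1 *ᵥ u) : Im D y (Pi.single i v) :=
  fun j => by
    by_cases e : j = i
    · rwa [e, Pi.single_eq_same]
    · exact ⟨0, by simp [Pi.single_eq_of_ne e]⟩

/-- a sign pattern with `-1` at place `i` -/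
def Sg (D : D3 G) (i : Fin 3) (r : G) : Prop := r ∈ D.B ∧ D.m i r = -1 ∧ ∀ j, j ≠ i → D.m j r = 1

theorem Sg.cen (h : Sg D i r) (j : Fin 3) (A : SL3) : D.m j r * A = A * D.m j r := by
  by_cases e : j = i
  · rw [e, h.2.1]; simp
  · rw [h.2.2 j e]; simp

/-- the norm of an element for the action of `y` -/
def Nm (y u : G) : G := u * (y * u * y⁻¹) * (y * (y * u * y⁻¹) * y⁻¹)

section

variable (h : H3 D)
include h

theorem cov3 (hy : y ∈ D.B) (hx : x ∈ D.QQ) (e : Im D y (L D x)) :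
    ∃ q ∈ D.QQ, ∃ n, q * y * q⁻¹ = zp D.z n * (x * y) := by
  choose u hu using e
  obtain ⟨q, hq, rfl⟩ := L_surj h u
  have h1 := cjQ h (Bz hy) (inv_mem hq)
  obtain ⟨n, hn⟩ := eq_zp h (mul_mem hq h1) hx (funext fun i => by
    rw [L_mul h hq h1, Pi.add_apply, act h hy (inv_mem hq), L_inv h hq, hu, Pi.neg_apply,
      Matrix.mulVec_neg, sub_eq_add_neg])
  exact ⟨q, hq, n, by rw [← mul_assoc, ← hn]; group⟩

theorem fus (hy : y ∈ D.B) (hb : b ∈ Ce D.z) (e : y * b * y⁻¹ = zp D.z s * b) (hs : s ≠ 0)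
    (hx : x ∈ D.QQ) (im : Im D y (L D x)) : IsConj y (x * y) := by
  obtain ⟨q, hq, n, hn⟩ := cov3 h hy hx im
  refine (zfus h.ord (inv_mem hb) (H84.PS.flip hb e) hs (-n)).trans (isConj_iff.2 ⟨q, ?_⟩)
  rw [← conj_mul, zp_conj (Qz h hq), hn, zp_neg h.ord, inv_mul_cancel_left]

theorem Sg.com (hr : Sg D i r) (ha : a ∈ D.B) : r * a * r⁻¹ * a⁻¹ ∈ D.QQ :=
  h.ker _ (mul_mem (cjB h (Bz hr.1) ha) (inv_mem ha)) fun j => by
    rw [m_com h hr.1 ha, hr.cen, mul_inv_cancel_right, mul_inv_cancel]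

theorem inv_comm (hr : r ∈ D.B) (r2 : r * r = 1) (hx : x ∈ D.QQ)
    (e : ∀ i, (D.m i r).1 *ᵥ L D x i = L D x i) : r ∈ Ce x := by
  obtain ⟨n, hn⟩ := conj_of_fix h hr hx e
  have := (co h 0).cube_comm (Bz hr) hn
  rwa [pow_three', r2, one_mul, ← mem_Ce] at this

variable (hy : y ∈ Ce D.z) (nB : y ∉ D.B) (y3 : y ^ 3 = 1)
include hy nB y3

theorem cyc_ne (i : Fin 3) : i ≠ sg D y i ∧ i ≠ sg D y (sg D y i) ∧ sg D y i ≠ sg D y (sg D y i) :=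
  (by decide : ∀ σ : Equiv.Perm (Fin 3), σ ≠ 1 → σ ^ 3 = 1 → ∀ i, i ≠ σ i ∧ i ≠ σ (σ i) ∧ σ i ≠ σ (σ i))
    _ (mt (B_iff h hy).2 nB) (sg_cube h hy y3) i

theorem Nm_mul (ha : a ∈ D.Q 0) (hb : b ∈ D.Q 0) : Nm y (a * b) = Nm y a * Nm y b := by
  obtain ⟨n1, n2, n3⟩ := cyc_ne h hy nB y3 0
  have a1 := sg_mem h hy ha
  have b1 := sg_mem h hy hb
  have h1 := QQc h hb a1 n1
  have h2 := QQc h (mul_mem hb (one_mem _)) (sg_mem h hy a1) n2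
  have h3 := QQc h b1 (sg_mem h hy a1) n3
  rw [mul_one] at h2
  rw [Nm, Nm, Nm, ← @conj_mul _ _ a y b, ← @conj_mul _ _ (y * a * y⁻¹) y]
  generalize y * (y * a * y⁻¹) * y⁻¹ = a2 at h2 h3
  generalize y * (y * b * y⁻¹) * y⁻¹ = b2
  generalize y * a * y⁻¹ = u at h1
  generalize y * b * y⁻¹ = v at h3
  calc _ = a * (b * u) * (v * a2) * b2 := by group
    _ = a * u * (b * a2) * v * b2 := by rw [h1, h3]; group
    _ = _ := by rw [h2]; group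

/-- the norm as a homomorphism -/
def Nh : D.Q 0 →* G := MonoidHom.mk' (fun u => Nm y u) fun a b => Nm_mul h hy nB y3 a.2 b.2

theorem Nm_spec (ha : a ∈ D.Q 0) :
    Nm y a ∈ D.QQ ⊓ Ce y ∧ IsConj y (Nm y a * y) ∧ L D (Nm y a) 0 = D.l 0 a := by
  obtain ⟨n1, n2, n3⟩ := cyc_ne h hy nB y3 0
  have a1 := sg_mem h hy ha
  have a2 := sg_mem h hy a1
  have h1 := QQc h ha a1 n1
  have h2 := QQc h ha a2 n2
  have h3 := QQc h a1 a2 n3
  have h4 := (h.sd _).cube _ a1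
  have h5 : y * (y * (y * a * y⁻¹) * y⁻¹) * y⁻¹ = a := by
    calc _ = y ^ 3 * a * (y ^ 3)⁻¹ := by simp only [pow_three]; group
      _ = _ := by rw [y3]; group
  refine ⟨⟨mul_mem (mul_mem (Q_le _ ha) (Q_le _ a1)) (Q_le _ a2), mem_Ce.2 (mul_inv_eq_iff_eq_mul.1 ?_).symm⟩,
    isConj_iff.2 ⟨a * (y * a * y⁻¹)⁻¹, ?_⟩, ?_⟩
  · rw [Nm, ← conj_mul, ← conj_mul, h5, mul_assoc _ _ a, ← h2, ← mul_assoc _ a, ← h1]
  · have : ∀ a1 a2 : G, a1 * a2 = a2 * a1 → a1 ^ 3 = 1 → a1⁻¹ * a2 * a1⁻¹ = a1 * a2 := fun a1 a2 e1 e2 => by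
      calc _ = a1⁻¹ * (a2 * a1) * (a1 ^ 3)⁻¹ * a1 := by simp only [pow_three]; group
        _ = a2 * a1 := by rw [← e1, e2, inv_mul_cancel_left, inv_one, mul_one, e1]
        _ = _ := e1.symm
    rw [Nm, mul_assoc a (y * a * y⁻¹), ← this _ _ h3 h4]
    group
  · rw [Nm, L_mul h (mul_mem (Q_le _ ha) (Q_le _ a1)) (Q_le _ a2), L_mul h (Q_le _ ha) (Q_le _ a1),
      Pi.add_apply, Pi.add_apply, L_self h ha, L_ne h a1 n1.symm, L_ne h a2 n2.symm, add_zero, add_zero]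

theorem cyc_dec (hx : x ∈ D.QQ ⊓ Ce y) : ∃ n, ∃ u ∈ D.Q 0, x = zp D.z n * Nm y u := by
  obtain ⟨u, hu, e⟩ := (co h 0).l_surj (L D x 0)
  obtain ⟨h1, -, h2⟩ := Nm_spec h hy nB y3 hu
  have h3 := mul_mem hx (inv_mem h1)
  obtain ⟨n, hn⟩ := exists_zp h.ord (cycz h hy nB y3 (mem_Ce.2 (mem_Ce.1 h3.2).symm)
    (cn_of_L h (i := 0) h3.1 (by
      rw [L_mul h hx.1 (inv_mem h1.1), L_inv h h1.1, Pi.add_apply, Pi.neg_apply, h2, e, add_neg_cancel])))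
  exact ⟨n, u, hu, by rw [← hn, inv_mul_cancel_right]⟩

theorem Nm_zp (ha : a ∈ D.Q 0) (hb : b ∈ D.Q 0) (α β : ZMod 3) :
    Nm y (zp a α * zp b β) = zp (Nm y a) α * zp (Nm y b) β :=
  (Nm_mul h hy nB y3 (pow_mem ha _) (pow_mem hb _)).trans (congrArg₂ _
    (map_pow (Nh h hy nB y3) ⟨a, ha⟩ _) (map_pow (Nh h hy nB y3) ⟨b, hb⟩ _))

end

variable (p : Pr D E) (w : WC D) (w' : WC E)

include p w' in
theorem zQ' (hx : x ∈ zpowers D.z) (e : x ∈ E.QQ) : x = 1 :=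
  by_contra fun n => p.symm.ne (w' _ (of_ne_one p.h.ord hx n e) p.cj.symm)

include p w' in
theorem ab (ha : a ∈ D.QQ ⊓ Ce E.z) (hb : b ∈ D.QQ ⊓ Ce E.z) : a * b = b * a :=
  by_contra fun n => p.symm.ne (w' _ (p.zmem_of ha hb n) p.cj.symm)

include p w w'

theorem fusQ (hx : x ∈ D.QQ) (hx' : x ∈ E.QQ) (e : IsConj E.z (x * E.z)) : x = 1 :=
  zQ' p.symm w ((Subgroup.mul_mem_cancel_right _ (mem_zpowers _)).1
    (w' _ (mul_mem hx' (zmem p.h')) e)) hx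

theorem cyc_rel (nB : E.z ∉ D.B) (ha : a ∈ D.QQ ⊓ E.QQ) (hb : b ∈ D.QQ ⊓ E.QQ) :
    ∃ α β : ZMod 3, ¬ (α = 0 ∧ β = 0) ∧ zp a α * zp b β = 1 := by
  have h := p.h
  obtain ⟨n, u, hu, e⟩ := cyc_dec h p.ce nB p.cube ⟨ha.1, Qz p.h' ha.2⟩
  obtain ⟨n', u', hu', e'⟩ := cyc_dec h p.ce nB p.cube ⟨hb.1, Qz p.h' hb.2⟩
  obtain ⟨α, β, h1, h2⟩ := (by decide : ∀ n n' : ZMod 3, ∃ α β : ZMod 3, ¬ (α = 0 ∧ β = 0) ∧
    α * n + β * n' = 0) n n'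
  have k : ∀ (n α : ZMod 3) (x : G), x ∈ Ce D.z → zp (zp D.z n * x) α = zp D.z (α * n) * zp x α :=
    fun n α x hx => by
      rw [zp, (show Commute (zp D.z n) x from (zp_comm hx n).symm).mul_pow, zp, ← pow_mul,
        ← zp_natCast h.ord, Nat.cast_mul, ZMod.natCast_zmod_val, ZMod.natCast_zmod_val, mul_comm n]
      rfl
  have N1 := (Nm_spec h p.ce nB p.cube hu).1.1
  have N2 := (Nm_spec h p.ce nB p.cube hu').1.1
  have h3 : zp a α * zp b β = Nm E.z (zp u α * zp u' β) := by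
    rw [Nm_zp h p.ce nB p.cube hu hu', e, e', k _ _ _ (Qz h N1), k _ _ _ (Qz h N2), mul_assoc,
      ← mul_assoc (zp (Nm _ u) α), zp_comm (g := zp (Nm _ u) α) (Qz h (pow_mem N1 _)), mul_assoc, ← mul_assoc,
      ← zp_add h.ord, h2, zp_zero, one_mul]
  refine ⟨α, β, h1, fusQ p w w' (mul_mem (pow_mem ha.1 _) (pow_mem hb.1 _))
    (mul_mem (pow_mem ha.2 _) (pow_mem hb.2 _)) ?_⟩
  exact h3 ▸ (Nm_spec h p.ce nB p.cube (mul_mem (pow_mem hu _) (pow_mem hu' _))).2.1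

theorem cyc_pair (nB : E.z ∉ D.B) : ∃ y ∈ E.B, IsConj E.z y ∧ y ∉ zpowers E.z := by
  have h := p.h
  obtain ⟨a, ha, b, hb, e1, e2⟩ := (co h 0).basis
  have N1 := (Nm_spec h p.ce nB p.cube ha).1
  have N2 := (Nm_spec h p.ce nB p.cube hb).1
  obtain ⟨α, β, h1, h2⟩ := (by decide : ∀ σ : Equiv.Perm (Fin 3), σ ^ 3 = 1 → ∀ τ : Equiv.Perm (Fin 3),
    τ ^ 3 = 1 → ∃ α β : ZMod 3, ¬ (α = 0 ∧ β = 0) ∧ σ ^ α.val * τ ^ β.val = 1) _
    (sg_cube p.h' N1.2 (cubeQ h N1.1)) _ (sg_cube p.h' N2.2 (cubeQ h N2.1))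
  have hu : zp a α * zp b β ∈ D.Q 0 := mul_mem (pow_mem ha _) (pow_mem hb _)
  obtain ⟨k1, k2, k3⟩ := Nm_spec h p.ce nB p.cube hu
  refine ⟨_, mul_mem ((B_iff p.h' k1.2).2 ?_) (QB p.h' (zmem p.h')), k2, fun e => h1 ?_⟩
  · rw [Nm_zp h p.ce nB p.cube ha hb, zp, zp, sg_mul p.h' (pow_mem N1.2 _) (pow_mem N2.2 _), sg_pow p.h' N1.2,
      sg_pow p.h' N2.2, h2]
  · rw [zQ' p.symm w ((Subgroup.mul_mem_cancel_right _ (mem_zpowers _)).1 e) k1.1, L_one h, zp, zp,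
      (co h 0).l_mul _ (pow_mem ha _) _ (pow_mem hb _), (co h 0).l_pow ha, (co h 0).l_pow hb, e1, e2,
      ZMod.natCast_zmod_val, ZMod.natCast_zmod_val] at k3
    exact ⟨by simpa using (congrFun k3 0).symm, by simpa using (congrFun k3 1).symm⟩

variable (yB : E.z ∈ D.B)
include yB

theorem small (hb : b ∈ Ce D.z) (e : E.z * b * E.z⁻¹ = zp D.z s * b) (hs : s ≠ 0) {e1 e2 : G}
    (h1 : e1 ∈ D.QQ ⊓ Ce E.z) (h2 : e2 ∈ D.QQ ⊓ Ce E.z) (i1 : Im D E.z (L D e1))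
    (i2 : Im D E.z (L D e2)) (a1 : L D e1 i ≠ 0) (a2 : L D e2 i = 0)
    (a4 : L D e2 j ≠ 0) : False := by
  have h := p.h
  obtain ⟨α, β, γ, n, hx⟩ := relN p.h' p.n' inf_le_right (pQ h inf_le_left) h1 h2
    (⟨zmem h, p.symm.ce⟩ : D.z ∈ D.QQ ⊓ Ce E.z) (cubeQ h h1.1) (cubeQ h h2.1) (z_cube h.ord)
  have q1 : zp e1 α ∈ D.QQ := pow_mem h1.1 _
  have q2 : zp e2 β ∈ D.QQ := pow_mem h2.1 _
  have q3 := zQ h (zp_mem γ)
  have eL : L D (zp e1 α * zp e2 β * zp D.z γ) = α • L D e1 + β • L D e2 := by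
    rw [L_mul h (mul_mem q1 q2) q3, L_mul h q1 q2, L_zz h, add_zero, L_zp h h1.1, L_zp h h2.1]
  have xQ := mul_mem (mul_mem q1 q2) q3
  have x1 := fusQ p w w' xQ hx (fus h yB hb e hs xQ (eL ▸ i1.lin i2 α β))
  rw [x1, L_one h] at eL
  obtain rfl : α = 0 := by simpa [a1, a2] using (congrFun eL i).symm
  obtain rfl : β = 0 := by simpa [a4] using (congrFun eL j).symm
  exact n ⟨rfl, rfl, zp_eq_one h.ord (by simpa [zp_zero] using x1)⟩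

theorem wne (k : Fin 3) : D.m k E.z ≠ 1 := fun e => by
  have h := p.h
  have fx : ∀ j, j ≠ k → ∀ c ∈ D.Q j, (D.m j E.z).1 *ᵥ D.l j c = D.l j c → c ∈ Ce E.z :=
    fun j n c hc f => by
      obtain ⟨s, hs⟩ := (co h j).conj_of_m (Bi yB j) hc f
      by_cases s0 : s = 0
      · rw [s0, zp_zero, one_mul] at hs
        exact mem_Ce.2 (mul_inv_eq_iff_eq_mul.1 hs).symm
      · obtain ⟨a, ha, b, hb, n'⟩ := nab h yB e hc n hs s0
        exact absurd (ab p w' ha hb) n'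
  have nle : ∀ j, ¬ D.Q j ≤ Ce E.z := fun j k =>
    (co h j).not_le_cn fun a ha b hb => ab p w' ⟨Q_le j hb, k hb⟩ ⟨Q_le j ha, k ha⟩
  have ex : ∀ j, j ≠ k → ∃ c ∈ D.QQ ⊓ Ce E.z, Im D E.z (L D c) ∧ L D c j ≠ 0 ∧
      ∀ i, j ≠ i → L D c i = 0 := fun j n => by
    obtain ⟨c, hc, nc, f⟩ := fixv (co h j) (m_cube h yB p.cube j)
    refine ⟨c, ⟨Q_le j hc, fx j n c hc f⟩, L_single h hc ▸ Im_single (sl_im _ (m_cube h yB p.cube j)
      (fun e' => nle j fun c hc => fx j n c hc (by simp [e'])) _ f).1, ?_, fun i => L_ne h hc⟩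
    exact L_self h hc ▸ lne (co h j) hc nc
  obtain ⟨i, j, ij, ik, jk⟩ := others k
  obtain ⟨c, hc, c1, c2, -⟩ := ex i ik
  obtain ⟨d, hd, d1, d2, d3⟩ := ex j jk
  obtain ⟨b, hb, nb⟩ := SetLike.not_le_iff_exists.1 (nle k)
  obtain ⟨s, hs⟩ := (co h k).conj_of_m (Bi yB k) hb (by simp [e])
  exact small p w w' yB ((co h k).le_Ce hb) hs (fun s0 => nb (by
    rw [s0, zp_zero, one_mul] at hs
    exact mem_Ce.2 (mul_inv_eq_iff_eq_mul.1 hs).symm)) hc hd c1 d1 c2 (d3 i ij.symm) d2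

theorem fixC (ha : a ∈ D.Q k) (f : (D.m k E.z).1 *ᵥ D.l k a = D.l k a) : a ∈ Ce E.z := by
  have h := p.h
  obtain ⟨s, hs⟩ := (co h k).conj_of_m (Bi yB k) ha f
  by_cases s0 : s = 0
  · rw [s0, zp_zero, one_mul] at hs
    exact mem_Ce.2 (mul_inv_eq_iff_eq_mul.1 hs).symm
  have im : ∀ j, ∀ c ∈ D.Q j, (D.m j E.z).1 *ᵥ D.l j c = D.l j c → Im D E.z (L D c) := fun j c hc f =>
    L_single h hc ▸ Im_single (sl_im _ (m_cube h yB p.cube j) (wne p w w' yB j) _ f).1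
  have ex : ∀ j, j ≠ k → ∃ c ∈ D.QQ ⊓ Ce E.z, Im D E.z (L D c) ∧ L D c j ≠ 0 ∧
      ∀ i, j ≠ i → k ≠ i → L D c i = 0 := fun j n => by
    obtain ⟨c, hc, nc, f'⟩ := fixv (co h j) (m_cube h yB p.cube j)
    obtain ⟨t, ht⟩ := (co h j).conj_of_m (Bi yB j) hc f'
    obtain ⟨m, hm⟩ := adj h.ord ((co h k).le_Ce ha) hs s0 ht
    have eL : L D (a ^ m * c) = (m : ZMod 3) • L D a + (1 : ZMod 3) • L D c := by
      rw [L_mul h (Q_le k (pow_mem ha m)) (Q_le j hc), L_pow h (Q_le k ha), one_smul]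
    refine ⟨_, ⟨mul_mem (Q_le k (pow_mem ha m)) (Q_le j hc), hm⟩, eL ▸ (im k a ha f).lin (im j c hc f') _ _,
      ?_, fun i h1 h2 => by simp [eL, L_ne h ha h2, L_ne h hc h1]⟩
    simpa [eL, L_ne h ha n.symm, L_self h hc] using lne (co h j) hc nc
  obtain ⟨i, j, ij, ik, jk⟩ := others k
  obtain ⟨c, hc, c1, c2, -⟩ := ex i ik
  obtain ⟨d, hd, d1, d2, d3⟩ := ex j jk
  exact (small p w w' yB ((co h k).le_Ce ha) hs s0 hc hd c1 d1 c2 (d3 i ij.symm ik.symm) d2).elim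

theorem exC (k : Fin 3) : ∃ c ∈ D.Q k, c ∉ zpowers D.z ∧ c ∈ Ce E.z := by
  obtain ⟨c, hc, nc, f⟩ := fixv (co p.h k) (m_cube p.h yB p.cube k)
  exact ⟨c, hc, nc, fixC p w w' yB hc f⟩

theorem rr (i : Fin 3) : ∃ r, Sg D i r ∧ r ∈ Ce E.z ∧ r * r = 1 := by
  have h := p.h
  obtain ⟨r, hr⟩ : ∃ r, Sg D i r := h.neg i
  have hx := hr.com h yB
  obtain ⟨q, hq, n, hn⟩ := cov3 h yB hx fun j => by
    obtain ⟨c, hc, nc, e⟩ := exC p w w' yB j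
    have f := fix_of_comm (co h j) (Bi yB j) hc (mem_Ce.1 e)
    refine (sl_im _ (m_cube h yB p.cube j) (wne p w w' yB j) _ f).2 (lne (co h j) hc nc) _ ?_
    have h1 := fixC p w w' yB ((co h j).conj_mem (Bi (inv_mem hr.1) j) hc) (by
      rw [(co h j).act _ (Bi (inv_mem hr.1) j) c hc, Matrix.mulVec_mulVec, m_inv h hr.1,
        ← Matrix.SpecialLinearGroup.coe_mul, ((show Commute _ _ from hr.cen j _).inv_left).eq.symm,
        Matrix.SpecialLinearGroup.coe_mul, ← Matrix.mulVec_mulVec, f])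
    have h2 : c ∈ Ce (r * E.z * r⁻¹) := by simpa [mul_assoc] using conj_mem_Ce h1 r
    rw [← om_single, ← L_single h hc, ← comm_iff h hx (Q_le j hc)]
    exact mul_mem (mem_Ce.2 (mem_Ce.1 h2).symm) (inv_mem (mem_Ce.2 (mem_Ce.1 e).symm))
  have tB := mul_mem (inv_mem (QB h hq)) hr.1
  have tm : ∀ j, D.m j (q⁻¹ * r) = D.m j r := fun j => by
    rw [m_mul h (inv_mem (QB h hq)) hr.1, mQ h (inv_mem hq), one_mul]
  have e : q⁻¹ * r * E.z * (q⁻¹ * r)⁻¹ = zp D.z (-n) * E.z := by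
    calc _ = q⁻¹ * (r * E.z * r⁻¹ * E.z⁻¹ * E.z) * q := by group
      _ = q⁻¹ * (zp D.z (-n) * (q * E.z * q⁻¹)) * q := by rw [hn, zp_neg h.ord, inv_mul_cancel_left]
      _ = _ := by rw [← mul_assoc q⁻¹, zp_comm (Qz h (inv_mem hq))]; group
  generalize q⁻¹ * r = t at tB tm e
  refine ⟨t ^ 3, ⟨pow_mem tB 3, by rw [m_pow h tB, tm, hr.2.1]; decide, fun j k => by
    rw [m_pow h tB, tm, hr.2.2 j k, one_pow]⟩, mem_Ce.2 ((co h 0).cube_comm (Bz tB) e), ?_⟩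
  rw [← (Commute.refl t).mul_pow]
  refine cubeQ h (h.ker _ (mul_mem tB tB) fun j => ?_)
  rw [m_mul h tB tB, tm]
  by_cases k : j = i
  · rw [k, hr.2.1]; simp
  · rw [hr.2.2 j k, one_mul]

theorem comp (hx : x ∈ D.QQ ⊓ E.QQ) (n : L D x i ≠ 0) :
    ∃ c ∈ D.Q i, c ∈ E.QQ ∧ c ∉ zpowers D.z := by
  have h := p.h
  obtain ⟨r, hr, r1, -⟩ := rr p w w' yB i
  have h1 := cjQ h (Bz hr.1) hx.1
  have eL : ∀ j, L D (r * x * r⁻¹ * x⁻¹) j = (D.m j r).1 *ᵥ L D x j - L D x j := fun j => by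
    rw [L_mul h h1 (inv_mem hx.1), L_inv h hx.1, Pi.add_apply, act h hr.1 hx.1, sub_eq_add_neg]; rfl
  refine ⟨_, memQi h (mul_mem h1 (inv_mem hx.1)) fun j k => by simp [eL, hr.2.2 j k],
    mul_mem (cjQ p.h' r1 hx.2) (inv_mem hx.2), fun e => n ?_⟩
  have := (eL i).symm.trans (congrFun (L_z h e) i)
  rw [hr.2.1] at this
  exact (by decide +kernel : ∀ v : W2, (-1 : SL3).1 *ᵥ v - v = 0 → v = 0) _ this

theorem not3 (H : ∀ i, ∃ c ∈ D.Q i, c ∈ E.QQ ∧ c ∉ zpowers D.z) : False := by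
  have h := p.h
  choose c hc hc' nc using H
  choose q hq n e using fun i => cov (co h i) (Bi yB i) (m_cube h yB p.cube i) (wne p w w' yB i) (hc i)
    (fix_of_comm (co h i) (Bi yB i) (hc i) (mem_Ce.1 (Qz p.h' (hc' i))))
  obtain ⟨a, a1, a2, a3⟩ := (by decide : ∀ n : Fin 3 → ZMod 3, ∃ a : Fin 3 → ZMod 3,
    (∀ i, a i = 0 ∨ a i = 1) ∧ a ≠ 0 ∧ a 0 * n 0 + a 1 * n 1 + a 2 * n 2 = 0) n
  have key : ∀ i, ∃ u ∈ D.Q i, ∃ x ∈ D.Q i, x ∈ E.QQ ∧ D.l i x = a i • D.l i (c i) ∧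
      u * E.z * u⁻¹ = zp D.z (a i * n i) * x * E.z := fun i => by
    rcases a1 i with k | k <;> rw [k]
    · exact ⟨1, one_mem _, 1, one_mem _, one_mem _, by simp [(co h i).l_one], by simp [zp_zero]⟩
    · exact ⟨q i, hq i, c i, hc i, hc' i, by simp, by rw [one_mul, e]⟩
  choose u hu x hx hx' l e using key
  have cj2 : ∀ {u u' x x' : G} {n n'}, u * E.z * u⁻¹ = zp D.z n * x * E.z →
      u' * E.z * u'⁻¹ = zp D.z n' * x' * E.z → u' ∈ Ce x → u' ∈ Ce D.z → x ∈ Ce D.z →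
      u' * u * E.z * (u' * u)⁻¹ = zp D.z (n + n') * (x * x') * E.z := fun {u u' x x' n n'} e1 e2 k1 k2 k3 => by
    calc _ = u' * (u * E.z * u⁻¹) * u'⁻¹ := by group
      _ = _ := by
        rw [e1, ← conj_mul, ← conj_mul, zp_conj k2, mem_Ce'.1 k1, e2, zp_add h.ord, ← mul_assoc,
          ← mul_assoc, mul_assoc _ x, zp_comm k3]
        group
  have z0 := fun i => (co h i).le_Ce (hx i)
  have e2 := cj2 (cj2 (e 0) (e 1) (mem_Ce.2 (QQc h (hu 1) (hx 0) (by decide))) ((co h 1).le_Ce (hu 1))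
    (z0 0)) (e 2) (mem_Ce.2 (Commute.mul_right (QQc h (hu 2) (hx 0) (by decide))
      (QQc h (hu 2) (hx 1) (by decide)))) ((co h 2).le_Ce (hu 2)) (mul_mem (z0 0) (z0 1))
  rw [a3, zp_zero, one_mul] at e2
  have q0 := fun i => Q_le i (hx i)
  have x1 := congrArg (L D) (fusQ p w w' (mul_mem (mul_mem (q0 0) (q0 1)) (q0 2))
    (mul_mem (mul_mem (hx' 0) (hx' 1)) (hx' 2)) (isConj_iff.2 ⟨_, e2⟩))
  rw [L_mul h (mul_mem (q0 0) (q0 1)) (q0 2), L_mul h (q0 0) (q0 1), L_single h (hx 0),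
    L_single h (hx 1), L_single h (hx 2), L_one h, l, l, l] at x1
  refine a2 (funext fun i => ?_)
  have := congrFun x1 i
  have k := lne (co h i) (hc i) (nc i)
  fin_cases i <;> simpa using (smul_eq_zero.1 (by simpa using this)).resolve_right k

theorem one (n : j ≠ k) : (∃ c ∈ D.Q j, c ∈ E.QQ ∧ c ∉ zpowers D.z) ∨
    ∃ c ∈ D.Q k, c ∈ E.QQ ∧ c ∉ zpowers D.z := by
  have h := p.h
  obtain ⟨c, hc, nc, c1⟩ := exC p w w' yB j
  obtain ⟨d, hd, nd, d1⟩ := exC p w w' yB k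
  obtain ⟨α, β, γ, h1, hx⟩ := relN p.h' p.n' inf_le_right (pQ h inf_le_left)
    (⟨Q_le j hc, c1⟩ : c ∈ D.QQ ⊓ Ce E.z) ⟨Q_le k hd, d1⟩ ⟨zmem h, p.symm.ce⟩
    (cubeQ h (Q_le j hc)) (cubeQ h (Q_le k hd)) (z_cube h.ord)
  have q1 : zp c α ∈ D.QQ := pow_mem (Q_le j hc) _
  have q2 : zp d β ∈ D.QQ := pow_mem (Q_le k hd) _
  have q3 := zQ h (zp_mem γ)
  have eL : L D (zp c α * zp d β * zp D.z γ) = α • L D c + β • L D d := by
    rw [L_mul h (mul_mem q1 q2) q3, L_mul h q1 q2, L_zz h, add_zero, L_zp h (Q_le j hc),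
      L_zp h (Q_le k hd)]
  have xQ := mul_mem (mul_mem q1 q2) q3
  by_cases a0 : α = 0
  · by_cases b0 : β = 0
    · rw [a0, b0, zp_zero, zp_zero, one_mul, one_mul] at hx
      exact absurd ⟨a0, b0, zp_eq_one h.ord (zQ' p w' (zp_mem γ) hx)⟩ h1
    · refine .inr (comp p w w' yB ⟨xQ, hx⟩ ?_)
      rw [eL]
      simpa [a0, b0, L_self h hd] using lne (co h k) hd nd
  · refine .inl (comp p w w' yB ⟨xQ, hx⟩ ?_)
    simpa [eL, a0, L_self h hc, L_ne h hd n.symm] using lne (co h j) hc nc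

theorem diagF : False := by
  have h := p.h
  obtain ⟨k, hk⟩ := not_forall.1 (not3 p w w' yB)
  obtain ⟨i, j, ij, ik, jk⟩ := others k
  obtain ⟨c, hc, c1, nc⟩ := (one p w w' yB ik).resolve_right hk
  obtain ⟨d, hd, d1, nd⟩ := (one p w w' yB jk).resolve_right hk
  obtain ⟨r, hr, r1, r2⟩ := rr p w w' yB k
  have rF : ∀ f ∈ D.QQ ⊓ E.QQ, r ∈ Ce f := fun f hf => inv_comm h hr.1 r2 hf.1 fun n => by
    by_cases e : n = k
    · rw [e, by_contra fun e' => hk (comp p w w' yB hf e'), Matrix.mulVec_zero]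
    · simp [hr.2.2 n e]
  have rE : ∀ e ∈ E.QQ ⊓ Ce D.z, r ∈ Ce e := fun e he => by
    have eB : e ∈ D.B := (B_iff h he.2).2 ((by decide : ∀ σ : Equiv.Perm (Fin 3), ∀ i j, i ≠ j →
      σ i = i → σ j = j → σ = 1) _ i j ij
      (sg_fix h he.2 hc nc (mem_Ce.2 (ab p.symm w he ⟨c1, (co h i).le_Ce hc⟩)))
      (sg_fix h he.2 hd nd (mem_Ce.2 (ab p.symm w he ⟨d1, (co h j).le_Ce hd⟩))))
    have f1 := hr.com h eB
    have f2 := mem_Ce'.1 (rF _ ⟨f1, E.QQ.mul_mem (cjQ p.h' r1 he.1) (E.QQ.inv_mem he.1)⟩)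
    have f3 := cubeQ h f1
    have f4 : r * e * r⁻¹ * e⁻¹ * (r * e * r⁻¹ * e⁻¹) = 1 := by
      nth_rewrite 1 [← f2]
      calc _ = r * r * e * (r * r)⁻¹ * e⁻¹ := by group
        _ = _ := by rw [r2]; group
    rw [pow_three', f4, one_mul] at f3
    exact mem_Ce'.2 (mul_inv_eq_one.1 f3)
  by_cases zB : D.z ∈ E.B
  · choose c' h1 h2 h3 using exC p.symm w' w zB
    have h4 := fun n => rE _ ⟨Q_le n (h1 n), h3 n⟩
    have rB := (B_iff p.h' r1).2 (Equiv.ext fun n => sg_fix p.h' r1 (h1 n) (h2 n) (h4 n))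
    have h5 := cubeQ p.h' (p.h'.ker r rB fun n => sl_fix _
      (by rw [← m_mul p.h' rB rB, r2, (co p.h' n).m_one]) _ (lne (co p.h' n) (h1 n) (h2 n))
      (fix_of_comm (co p.h' n) (Bi rB n) (h1 n) (mem_Ce.1 (h4 n)).symm))
    rw [pow_three', r2, one_mul] at h5
    exact absurd ((co h k).m_one.symm.trans (h5 ▸ hr.2.1)) (by decide)
  · obtain ⟨α, β, h1, h2⟩ := cyc_rel p.symm w' w zB ⟨c1, Q_le i hc⟩ ⟨d1, Q_le j hd⟩
    have h3 := congrArg (L D) h2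
    rw [zp, zp, L_mul h (pow_mem (Q_le i hc) _) (pow_mem (Q_le j hd) _), L_pow h (Q_le i hc),
      L_pow h (Q_le j hd), L_one h, ZMod.natCast_zmod_val, ZMod.natCast_zmod_val] at h3
    exact h1 ⟨by simpa [L_self h hc, L_ne h hd ij.symm, lne (co h i) hc nc] using congrFun h3 i,
      by simpa [L_self h hd, L_ne h hc ij, lne (co h j) hd nd] using congrFun h3 j⟩

omit p w w' yB in
theorem jobW : JobW.{u} := fun _ _ _ D h n ⟨y, hy, ⟨g, hg⟩, ny⟩ => by_contra fun k => by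
  have w : WC D := fun x hx e => by_contra fun e' =>
    k ⟨x, hx, (isConj_iff.1 e).imp fun _ => .inl, e'⟩
  have p := Pr.mk' (g := g) h n (hg.elim (· ▸ hy) (· ▸ inv_mem hy))
    (hg.elim (· ▸ ny) (· ▸ mt inv_mem_iff.1 ny))
  by_cases yB : (cjD g D).z ∈ D.B
  · exact diagF p w (WC_cj w g) yB
  · obtain ⟨x, h1, h2, h3⟩ := cyc_pair p w (WC_cj w g) yB
    obtain ⟨a, rfl⟩ := isConj_iff.1 h2
    exact diagF (Pr.mk' p.h' p.n' (Bz h1) h3) (WC_cj w g) (WC_cj (WC_cj w g) a) h1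

end H21.F22
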