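import Cfsg.Agent.H87.F3Spec

/-! FUS3, job `JobF1`: an essential subgroup has index `p` in its normalizer; geometry of
transvections. -/

set_option autoImplicit false
set_option linter.unusedSectionVars false

namespace H21.F3
open Cfsg H92 H93 Subgroup H92.Es H92.P5 H87.F3
open scoped commutatorElement

universe u

variable {Ω : Type u} [Group Ω] {A B C E H K L N P S X : Subgroup Ω} {a c g t x y : Ω} {p : ℕ}
  [hp : Fact p.Prime] [Finite Ω]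

theorem nm_phi (h : g ∈ Nm E) : g ∈ Nm (H9.phi E) :=
  mem_Nm_of_conj fun _ hy => H9.conj_mem_phi h hy

theorem el_phi (hE : IsPGroup p E) : El p E (H9.phi E) :=
  ⟨H9.phi_le E, fun _ hg => tv_of_com (nm_phi (le_Nm E hg)) fun _ hx =>
    H9.commutator_mem_phi hE hg hx, fun _ hy => H9.pow_mem_phi hE hy⟩

theorem pMod_phi (hE : IsPGroup p E) : PMod p (Tv E (H9.phi E)) (Ct E) := fun g hg => by
  obtain ⟨n, hn⟩ := exists_pow_mem_coprime (p := p) g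
  refine ⟨n, ?_⟩
  have h := pow_mem hg (p ^ n)
  generalize g ^ p ^ n = k at h hn
  have m : k ∈ Nm E := Nm_of_Tv h (H9.phi_le E) le_rfl
  let α := E.normalizerMonoidHom ⟨k, m⟩
  have e : α = 1 := H8.aut_eq_one_of_trivial_mod_frattini hE
    (Nat.Coprime.coprime_dvd_left (orderOf_map_dvd _ _) (by rwa [← orderOf_coe]))
    fun x => (H9.mem_phi (x⁻¹ * α x).2).1 (h.2 x x.2)
  exact mem_Ct.2 fun x hx =>
    congrArg Subtype.val (show α ⟨x, hx⟩ = ⟨x, hx⟩ from DFunLike.congr_fun e ⟨x, hx⟩)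

theorem PMod.tv2 (hB : IsPGroup p B) (h1 : PMod p K (Tv A B)) (h2 : PMod p K (Tv B C)) :
    PMod p K (Tv A C) := fun g hg => by
  obtain ⟨n, hn⟩ := h1 g hg
  obtain ⟨m, hm⟩ := h2 _ (pow_mem hg (p ^ n))
  obtain ⟨k, hk⟩ := pMod_Tv hB _ ⟨pow_mem hn (p ^ m), hm⟩
  exact ⟨n + m + k, by rwa [pow_add, pow_add, pow_mul, pow_mul]⟩

theorem pMod3 {D : Subgroup Ω} (hB : IsPGroup p B) (hC : IsPGroup p C) :
    PMod p (Tv A B ⊓ Tv B C ⊓ Tv C D) (Tv A D) :=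
  PMod.tv2 hC ((pMod_Tv hB).mono inf_le_left le_rfl) (PMod.of_le inf_le_right)

/-- a `p`-group acts trivially on a section of order at most `p` -/
theorem tv_small (hS : IsPGroup p S) (hA : A ≤ S) (hB : B ≤ A) (n1 : S ≤ Nm A) (n2 : S ≤ Nm B)
    (h : Nat.card A ≤ p * Nat.card B) : S ≤ Tv A B := fun s hs => by
  rcases hB.eq_or_lt with rfl | l
  · exact mem_Tv_self (n1 hs)
  · exact (sp_of_le (hS.to_le hA) l h).tv hS hA hs (n1 hs) (n2 hs)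

theorem tv_pow_p (h1 : t ∈ Tv A P) (h2 : t ∈ Tv P B) (h : ∀ y ∈ P, y ^ p ∈ B) : t ^ p ∈ Tv A B :=
  ⟨pow_mem h2.1 _, fun x hx => by
    simpa [mul_assoc] using mul_mem (h _ (h1.2 x hx)) (tv_pow h1 h2 hx p)⟩

/-- Geometry of a transvection `t` with centre `P / B` and axis `H / B`. -/
theorem gt (sH : Sp p A H) (sP : Sp p P B) (lB : B ≤ H) (lP : P ≤ A) (t1 : t ∈ Tv A P)
    (t2 : t ∈ Tv P B) (ne : ∀ y ∈ A, y ∉ H → ⁅t, y⁆ ∉ B) (nA : L ≤ Nm A) (nB : L ≤ Nm B)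
    (nB' : A ≤ Nm B) (ht : t ∈ L) (hX : ∀ e ∈ L, cj e P ≤ H → e ∈ X) (ha : a ∈ L) (ha' : a ∉ X)
    (hc : c ∈ L) (hc' : c ∉ X) : ∃ i : ℕ, a⁻¹ * (t ^ i * c) ∈ X := by
  obtain ⟨y, hy, hy'⟩ := SetLike.not_le_iff_exists.1 fun e => hc' (hX c hc e)
  have yA : y ∈ A := cj_eq_of_Nm (nA hc) ▸ cj_mono c lP hy
  have sa : Sp p A (cj a H) := by simpa only [cj_eq_of_Nm (nA ha)] using sH.cj a
  have sc : Sp p (cj c P) B := by simpa only [cj_eq_of_Nm (nB hc)] using sP.cj c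
  have lB' : B ≤ cj a H := cj_eq_of_Nm (nB ha) ▸ cj_mono a lB
  have m := t1.2 y yA
  have m1 : y⁻¹ * (t * y * t⁻¹) ∉ B := fun e => ne y yA hy' (by
    simpa [commutatorElement_def, mul_assoc] using conj_mem_of_Nm (nB' yA) e)
  have m2 : y⁻¹ * (t * y * t⁻¹) ∉ cj a H := fun e => ha' (inv_mem_iff.1 (hX _ (inv_mem ha)
    (le_cj_iff_cj_le.1 (sP.le_of lB' m m1 e))))
  obtain ⟨k, hk⟩ := sa.dec (lP m) m2 (inv_mem yA)
  obtain ⟨n, hn⟩ := mem_powers_iff_mem_zpowers.2 (zpow_mem (mem_zpowers (y⁻¹ * (t * y * t⁻¹))) k)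
  have h1 : t ^ n * y * (t ^ n)⁻¹ ∈ cj a H := by
    have := mul_mem (inv_mem hk) (lB' (tv_pow t1 t2 yA n))
    rw [← hn] at this
    simpa [mul_assoc] using this
  refine ⟨n, hX _ (mul_mem (inv_mem ha) (mul_mem (pow_mem ht n) hc)) ?_⟩
  rw [cj_mul, ← le_cj_iff_cj_le, cj_mul, cj_le_iff_le_cj]
  exact sc.le_of (cj_le_iff_le_cj.1 ((cj_eq_of_Nm (nB (pow_mem ht n))).le.trans lB')) hy
    (fun e => hy' (lB e)) (mem_cj_inv.2 h1)

/-- the axis of a transvection -/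
theorem axis (hA : IsPGroup p A) (sP : Sp p P B) (lP : P ≤ A) (tA : A ≤ Tv A B) (t1 : t ∈ Tv A P)
    (t2 : t ∈ Tv P B) (n : t ∉ Tv A B) : Sp p A (A ⊓ Cm t B) ∧ P ≤ A ⊓ Cm t B ∧
      t ∈ Tv (A ⊓ Cm t B) B ∧ ∀ y ∈ A, y ∉ A ⊓ Cm t B → ⁅t, y⁆ ∉ B :=
  ⟨sp_of_le hA (inf_lt_left.2 fun e => n (tv_of_cm t2.1 e)) (card_le_cm sP
      (tA.trans (Tv_anti lP B)) fun _ hg => com_symm (com_of_tv t1 hg)),
    fun y hy => ⟨lP hy, (tA (lP hy)).1, com_symm (com_of_tv t2 hy)⟩, tv_of_cm t2.1 inf_le_right,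
    fun y hy e r => e ⟨hy, (tA hy).1, com_symm r⟩⟩

/-- a transvection and a conjugate whose centre lies on the axis stabilize a common flag -/
theorem flag {e : Ω} (lH : H ≤ A) (lB : B ≤ P) (t1 : t ∈ Tv A P) (lP : P ≤ H) (t2 : t ∈ Tv H B)
    (nA : e ∈ Nm A) (nB : e ∈ Nm B) (h : cj e P ≤ H) :
    t ∈ Tv A H ⊓ Tv H (cj e P) ⊓ Tv (cj e P) B ∧
      e * t * e⁻¹ ∈ Tv A H ⊓ Tv H (cj e P) ⊓ Tv (cj e P) B := by
  have lB' : B ≤ cj e P := cj_eq_of_Nm nB ▸ cj_mono e lB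
  have c1 : e * t * e⁻¹ ∈ Tv A (cj e P) := by simpa only [cj_eq_of_Nm nA] using conj_mem_Tv e t1
  have c2 : e * t * e⁻¹ ∈ Tv (cj e P) B := by
    simpa only [cj_eq_of_Nm nB] using conj_mem_Tv e (Tv_anti lP B t2)
  exact ⟨⟨⟨mem_Tv_mono t1 lP lH, mem_Tv_mono t2 lB' h⟩, Tv_anti h B t2⟩,
    ⟨mem_Tv_mono c1 h lH, Tv_anti lH _ c1⟩, c2⟩

theorem le_of_card {i : ℕ} (h : Nat.card A ≤ p ^ (i + 1) * Nat.card B) (s : Sp p P B) :
    Nat.card A ≤ p ^ i * Nat.card P := by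
  rwa [s.card, ← mul_assoc, ← pow_succ]

theorem jobF1 : JobF1.{u} := by
  intro Ω _ _ p hp S F E hF sr hE
  obtain ⟨x, hx, hx'⟩ := exists_Nm hF hE
  have lS := hE.1.1
  have pE := hF.pgl lS
  set N := S ⊓ Nm E
  have pN : IsPGroup p N := hF.pgl inf_le_left
  have lE : E ≤ N := le_inf lS (le_Nm E)
  have el := el_phi pE
  have nE : N ≤ Nm E := inf_le_right
  have nΦ : Nm E ≤ Nm (H9.phi E) := fun _ => nm_phi
  have pm := pMod_phi pE
  have cd := sr E _ lS el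
  generalize H9.phi E = Φ at *
  have A := Aut_le_Nm F E
  have k0 : N ⊓ Tv E Φ ≤ E := fun g hg =>
    mem_of_normal hF hE pm (fun _ h => mem_Nm_Tv (A h) (nΦ (A h))) hg.1 hg.2
  have lt : E < N := lt_of_le_of_ne lE fun e => hx' (e ▸ hx)
  have big : ¬ Nat.card E ≤ p * Nat.card Φ := fun h =>
    hx' (k0 ⟨hx, tv_small pN lE el.le nE (nE.trans nΦ) h hx⟩)
  obtain ⟨P, sP, lP, tP, nP⟩ := exists_step pN lE el.le nE (nE.trans nΦ) fun e =>
    big ((card_le_of_le e).trans (Nat.le_mul_of_pos_left _ hp.out.pos))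
  have nl : ¬ E ≤ P := fun e => big (sP.card ▸ card_le_of_le e)
  obtain ⟨H, sH, lH, tH, nH⟩ := exists_step pN lE lP nE nP nl
  have cd := le_of_card (le_of_card cd sP) sH
  rw [pow_one] at cd
  rcases lH.eq_or_lt with rfl | l
  · exact sp_of_le pN lt ((card_le_tv sP sH ((le_Nm _).trans nΦ) tP tH).trans
      (Nat.mul_le_mul_left _ (card_le_of_le k0)))
  have c1 := card_le_tv sH (sp_of_le pE l cd) (lE.trans nP) tH (tv_small pN lE lH nE nH cd)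
  by_cases e : N ⊓ Tv E P ≤ E
  · exact sp_of_le pN lt (c1.trans (Nat.mul_le_mul_left _ (card_le_of_le e)))
  obtain ⟨t, ⟨ht, t1⟩, ht'⟩ := SetLike.not_le_iff_exists.1 e
  obtain ⟨a1, a2, a3, a4⟩ := axis pE sP lP el.ab t1 (tP ht) fun e => ht' (k0 ⟨ht, e⟩)
  generalize E ⊓ Cm t Φ = K at a1 a2 a3 a4
  have s := sp_sup pN lE ht ht' ht.2
    (k0 ⟨pow_mem ht p, tv_pow_p t1 (tP ht) fun y hy => el.pw y (lP hy)⟩)
  refine (le_antisymm (sup_le lE (zpowers_le.2 ht)) fun u hu => by_contra fun hu' => ?_) ▸ s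
  obtain ⟨a, ha, ha'⟩ := exists_notXE hF hE
  have lX : N ≤ XE F E := fun s hs => (M.of_mem F le_rfl hs.1).mem_XE (ess_lt hF hE) hs.2
  have lA : N ≤ Aut F E := lX.trans (XE_le_Aut F E)
  obtain ⟨i, hi⟩ := gt (X := XE F E) a1 sP (sP.le.trans a2) lP t1 (tP ht) a4 A (A.trans nΦ)
    ((le_Nm E).trans nΦ) (lA ht) (fun e he h => by
      obtain ⟨f1, f2⟩ := flag a1.le sP.le t1 a2 a3 (A he) (nΦ (A he)) h
      exact mem_XE hF hE.2.1 ((pMod3 (pE.to_le a1.le) (pE.to_le (h.trans a1.le))).trans pm) he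
        ht ht' f1 ht ht' f2) ha ha' (mul_mem (lA hu) ha)
    fun e => ha' ((mul_mem_cancel_left (lX hu)).1 e)
  have hv : t ^ i * u ∈ N := mul_mem (pow_mem ht i) hu
  have hv' : t ^ i * u ∉ E := fun e => hu' ((mul_mem_cancel_left
    (mem_sup_right (pow_mem (mem_zpowers t) i))).1 (mem_sup_left e))
  rw [← mul_assoc (t ^ i)] at hi
  generalize t ^ i * u = v at *
  obtain ⟨b, hb, e'⟩ := ((hF.pp_of_fn hE.2.1).mono_right (sup_le lX (Ct_le_XE F E))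
    (XE_le_Aut F E)).exists_cj_le (cj_zpowers a⁻¹ v ▸ isPGroup_cj a⁻¹ (pN.to_le (zpowers_le.2 hv)))
    (zpowers_le.2 (by simpa [mul_assoc] using hi))
  have := mem_XE_of_conj hF hE.2.1 (mul_mem (XE_le_Aut F E hb) (inv_mem ha)) hv hv' (by
    convert e' (conj_mem_cj b (mem_zpowers _)) using 1; group)
  exact ha' (inv_mem_iff.1 ((mul_mem_cancel_left hb).1 this))

end H21.F3
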