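import Cfsg.Agent.H87.F3L
import Cfsg.Agent.H21.F3F1

/-! FUS3, job `JobSC`: classification of the sections. -/

set_option autoImplicit false
set_option linter.unusedSectionVars false

namespace H21.F3
open Cfsg H92 H93 Subgroup H92.Es H92.P5 H87.F3
open scoped commutatorElement

universe u

variable {Ω : Type u} [Group Ω] {A A₁ A₂ B E L N P U : Subgroup Ω} {x τ : Ω} {p : ℕ}
  [hp : Fact p.Prime] [Finite Ω]

/-- the hypotheses of `JobSC` -/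
structure SC (p : ℕ) (E N L A B : Subgroup Ω) : Prop where
  h : Loc p E N L
  s : Sec p E L A B
  n : ¬ PMod p L (Tv A B)

namespace SC
variable (d : SC p E N L A B)
include d

theorem nJ : L ≤ Nm (Tv A B) := fun _ hg => mem_Nm_Tv (d.s.nA hg) (d.s.nB hg)

theorem hC : L ⊓ Ct E ≤ Tv A B := d.h.ct_le d.s.le d.s.lE

theorem xJ (hx : x ∈ N) (hx' : x ∉ E) : x ∉ Tv A B := fun e =>
  d.n (d.h.pl d.nJ d.hC hx hx' e).2

theorem ab : A ≤ Tv A B := d.s.lE.trans d.s.tv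

theorem pA : IsPGroup p A := d.h.pgE.to_le d.s.lE

theorem nm (h1 : B ≤ U) (h2 : U ≤ A) : A ≤ Nm U := fun _ hg => Nm_of_Tv (d.ab hg) h1 h2

theorem two (s0 : Sp p A P) (s1 : Sp p P B) (t1 : N ≤ Tv A P) (t2 : N ≤ Tv P B) :
    Qd p E N L A B A P P B where
  s0 := s0
  s1 := s1
  sH := s0
  sB := s1
  lA := le_rfl
  lB := le_rfl
  lP := le_rfl
  cB := Nat.le_mul_of_pos_left _ hp.out.pos
  nP := s1.not_le
  nH := s0.not_le
  tA := fun _ hg => mem_Tv_self (d.s.nA hg)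
  tB := fun _ hg => mem_Tv_self (d.s.nB hg)
  t1 := t1
  t2 := t2
  ne := fun _ hx hx' _ hy hy' e =>
    d.xJ hx hx' (s0.tv_of (t2 hx) (d.nm le_rfl d.s.le) hy hy' e)
  ex := by
    by_contra! r
    have nP : L ≤ Nm P := fun a ha => mem_Nm_of_le (r a ha)
    exact d.n (PMod.tv2 s1.pg (PMod.of_le (d.h.small' s0 d.s.lE d.s.nA nP))
      (PMod.of_le (d.h.small' s1 (s0.le.trans d.s.lE) nP d.s.nB)))

theorem quad (cd : Nat.card A ≤ p ^ 3 * Nat.card B) (sP : Sp p P B) (lP : P ≤ A) (nP : N ≤ Nm P)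
    (hx : x ∈ N) (hx' : x ∉ E) (t : x ∈ Tv A P) : ∃ A₀ H B₀, Qd p E N L A B A₀ P H B₀ := by
  have h := d.h
  have s := d.s
  have t1 : N ≤ Tv A P := h.sp.le_of (fun g hg => mem_Tv_mono (s.tv hg) sP.le lP) hx hx' t
  obtain ⟨sH, lH, t2, -⟩ := axis d.pA sP lP d.ab t (sP.tv h.pg (lP.trans (s.lE.trans h.sp.le)) hx
    (nP hx) (s.nB (h.le hx))) (d.xJ hx hx')
  generalize A ⊓ Cm x B = H at sH lH t2
  have lB := sP.le.trans lH
  have t2' : N ≤ Tv H B := h.sp.le_of (s.tv.trans (Tv_anti sH.le B)) hx hx' t2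
  have ne : ∀ z ∈ N, z ∉ E → ∀ y ∈ A, y ∉ H → ⁅z, y⁆ ∉ B := fun z hz hz' y hy hy' e =>
    d.xJ hz hz' (sH.tv_of (t2' hz) (d.nm le_rfl s.le) hy hy' e)
  have nJ' : L ≤ Nm (L ⊓ Tv A B) := fun _ hg => mem_Nm_inf (le_Nm L hg) (d.nJ hg)
  have cR : ∀ a ∈ L, ∀ K, L ⊓ Tv A B ≤ K → a * x * a⁻¹ ∈ K → cj a (N ⊔ (L ⊓ Tv A B)) ≤ K :=
    fun a ha K l m => by
      rw [cj_sup, cj_eq_of_Nm (nJ' ha), h.sp.sup hx hx', cj_sup, cj_eq_of_Nm (h.nm ha), cj_zpowers]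
      exact sup_le (sup_le ((le_inf h.lE s.tv).trans l) (zpowers_le.2 m)) l
  have hX : ∀ e ∈ L, cj e P ≤ H → e ∈ Nm (N ⊔ (L ⊓ Tv A B)) := fun e he r => by
    obtain ⟨f1, f2⟩ := flag sH.le sP.le t lH t2 (s.nA he) (s.nB he) r
    exact mem_Nm_of_le (cR e he _ le_sup_right (h.se d.nJ s.tv d.hC inf_le_right
      ((pMod3 (d.pA.to_le sH.le) (d.pA.to_le (r.trans sH.le))).mono inf_le_left le_rfl) hx
      ⟨f1, h.le hx⟩ (d.xJ hx hx') ⟨f2, L.mul_mem (L.mul_mem he (h.le hx)) (L.inv_mem he)⟩))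
  obtain ⟨a, ha, ha', -⟩ := h.exists_opp' d.nJ s.tv d.hC d.n
  have n1 : ¬ cj a P ≤ H := fun r => ha' (hX a ha r)
  have n2 : ¬ P ≤ cj a H := fun r =>
    ha' (inv_mem_iff.1 (hX _ (inv_mem ha) (le_cj_iff_cj_le.1 r)))
  have eA := cj_eq_of_Nm (s.nA ha)
  have eB := cj_eq_of_Nm (s.nB ha)
  have lP' : cj a P ≤ A := eA ▸ cj_mono a lP
  have lW : P ⊔ cj a P ≤ A := sup_le lP lP'
  have sB := (show Sp p A (cj a H) from eA ▸ sH.cj a).inf sH.le fun r => n2 (lH.trans r)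
  have lB' : B ≤ H ⊓ cj a H := le_inf lB (eB ▸ cj_mono a lB)
  have nP' : ¬ P ≤ H ⊓ cj a H := fun r => n2 (r.trans inf_le_right)
  have key : L ≤ Tv A (P ⊔ cj a P) ⊓ Tv (H ⊓ cj a H) B := by
    set K := Tv A (P ⊔ cj a P) ⊓ Tv (H ⊓ cj a H) B
    have k0 : L ⊓ Tv A B ≤ K := fun g hg => ⟨mem_Tv_mono hg.2 (sP.le.trans le_sup_left) lW,
      Tv_anti (inf_le_left.trans sH.le) B hg.2⟩
    have k1 : x ∈ K := ⟨mem_Tv_mono t le_sup_left lW, Tv_anti inf_le_left B t2⟩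
    have k2 : a * x * a⁻¹ ∈ K :=
      ⟨mem_Tv_mono (by simpa only [eA] using conj_mem_Tv a t) le_sup_right lW,
        Tv_anti inf_le_right B (by simpa only [eB] using conj_mem_Tv a t2)⟩
    refine h.gen K (fun c hc => (cj_mono c (le_sup_left (b := L ⊓ Tv A B))).trans ?_)
      ((le_inf inf_le_left d.hC).trans k0)
    by_cases r : c ∈ Nm (N ⊔ (L ⊓ Tv A B))
    · simpa [cj_eq_of_Nm r] using cR 1 (one_mem L) K k0 (by simpa using k1)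
    obtain ⟨i, hi⟩ := gt sH sP lB lP t (Tv_anti lH B t2) (ne x hx hx') s.nA s.nB
      (d.nm le_rfl s.le) (h.le hx) hX ha ha' hc r
    rw [show c = (x ^ i)⁻¹ * (a * (a⁻¹ * (x ^ i * c))) by group, cj_mul, cj_mul_of_Nm hi]
    exact cj_le_of_mem (inv_mem (pow_mem k1 i)) (cR a ha K k0 k2)
  refine ⟨P ⊔ cj a P, H, H ⊓ cj a H, (two_min sP (eB ▸ sP.cj a) (fun r => n1 (r.trans lH))
    (lP'.trans (d.nm sP.le lP)) (d.pA.to_le lW)).1, sP, sH, sB, lW, lB', lH, ?_, nP',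
    fun r => n1 (le_sup_right.trans r), key.trans inf_le_left, key.trans inf_le_right, t1, t2',
    fun z hz hz' y hy hy' e => nP' (sP.le_of lB' (com_of_tv (t1 hz) hy) (ne z hz hz' y hy hy') e),
    a, ha, n1⟩
  rw [Sp.two sH sB, pow_succ p 2, mul_assoc] at cd
  exact Nat.le_of_mul_le_mul_left cd (pow_pos hp.out.pos 2)

theorem w_one {V C : Subgroup Ω} (lV : L ≤ Nm V) (lC : L ≤ Nm C) (pm : PMod p (L ⊓ Tv V C) (Tv A B))
    (hx : x ∈ N) (hτ : τ ∈ L) (w : ∀ y ∈ V, W τ y C (-1)) : W τ x (Tv A B) 1 := by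
  have xL := d.h.le hx
  rw [W, zpow_one]
  exact d.h.le_of_normal d.nJ d.s.tv d.hC d.n inf_le_left
    (fun _ hg => mem_Nm_inf (le_Nm L hg) (mem_Nm_Tv (lV hg) (lC hg))) pm
    ⟨L.mul_mem (L.inv_mem xL) (L.mul_mem (L.mul_mem hτ xL) (L.inv_mem hτ)),
      tv_of_neg w (lV hτ) (lC hτ) (lV xL) (lC xL)⟩

theorem neg {V Q C : Subgroup Ω} (s0 : Sp p V Q) (s1 : Sp p Q C) (lV : L ≤ Nm V) (lC : L ≤ Nm C)
    (nQ : ¬ L ≤ Nm Q) (ab : V ≤ Tv V C) (hx : x ∈ N) (t1 : x ∈ Tv V Q) (t2 : x ∈ Tv Q C)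
    (t3 : x ∉ Tv V C) : ∃ τ ∈ L, ∀ y ∈ V, W τ y C (-1) := by
  obtain ⟨a, ha, ha'⟩ := SetLike.not_le_iff_exists.1 nQ
  have eV := cj_eq_of_Nm (lV ha)
  have eC := cj_eq_of_Nm (lC ha)
  have n2 : ¬ cj a Q ≤ Q := fun e => ha' (mem_Nm_of_le e)
  obtain ⟨τ, hτ, w0, w1⟩ := torus (k := -1) (l := -1) s1 (eC ▸ s1.cj a) s0 (eV ▸ s0.cj a) n2 t1 t2 t3
    (by simpa only [eV] using conj_mem_Tv a t1) (by simpa only [eC] using conj_mem_Tv a t2)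
    (fun e => t3 (by
      simpa [mul_assoc] using conj_mem_Tv_of_Nm (inv_mem (lV ha)) (inv_mem (lC ha)) e)) (by simp)
  have xL := d.h.le hx
  exact ⟨τ, (closure_le L).2 (Set.pair_subset xL (mul_mem (mul_mem ha xL) (inv_mem ha))) hτ,
    fun y hy => neg_all s0 (eV ▸ cj_mono a s0.le) n2 ab w0 w1 hy⟩

theorem irr (h2 : p ≠ 2) (c : Cub p E N A A₂ A₁ B) : Irr L A B := by
  have h := d.h
  have s := d.s
  obtain ⟨x, hx, hx'⟩ := h.sp.ex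
  have l1 : A₁ ≤ A := c.s2.le.trans c.s3.le
  have lN := s.lE.trans h.sp.le
  have nB := d.nm le_rfl s.le
  have nA₁ := d.nm c.s1.le l1
  have k1 : ¬ L ≤ Nm A₁ := fun r => by
    have t := h.small' c.s1 (l1.trans s.lE) r s.nB
    obtain ⟨y, hy, hy'⟩ := c.s2.ex
    obtain ⟨z, hz, hz'⟩ := c.s3.ex
    obtain ⟨τ, hτ, w⟩ := d.neg c.s3 c.s2 s.nA r (fun r' => d.n (PMod.tv2 c.s1.pg (PMod.tv2 c.s2.pg
      (PMod.of_le (h.small' c.s3 s.lE s.nA r')) (PMod.of_le (h.small' c.s2 (c.s3.le.trans s.lE) r' r)))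
      (PMod.of_le t))) (fun g hg => mem_Tv_mono (d.ab hg) c.s1.le l1) hx (c.t3 hx) (c.t2 hx)
      fun e => c.n3 x hx hx' z hz hz' (com_of_tv e hz)
    have m := com_of_tv (c.t2 hx) hy
    have := ((d.w_one s.nA r (PMod.tv2 c.s1.pg (PMod.of_le inf_le_right)
      (PMod.of_le (inf_le_left.trans t))) hx hτ w).comm (w y (c.s3.le hy)) hx hy c.s2.le (c.t1 hx).1
      (nB (c.s3.le hy)) (Tv_anti c.s3.le B) (tv_symm (l1.trans nB) c.t1) (com_of_tv (c.t1 hx) m)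
      (com_of_tv (d.ab (c.s3.le hy)) (l1 m))).uniq (W.of_tv (t hτ) m) (c.n2 x hx hx' y hy hy')
      (c.s1.pow m)
    push_cast at this
    exact two_ne h2 (by push_cast; linear_combination -this)
  have k2 : ¬ L ≤ Nm A₂ := fun r => by
    have t := h.small' c.s3 s.lE s.nA r
    obtain ⟨y, hy, hy'⟩ := c.s3.ex
    obtain ⟨z, hz, hz'⟩ := c.s2.ex
    obtain ⟨τ, hτ, w⟩ := d.neg c.s2 c.s1 r s.nB k1 (c.s3.le.trans (d.ab.trans (Tv_anti c.s3.le B)))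
      hx (c.t2 hx) (c.t1 hx) fun e => c.n2 x hx hx' z hz hz' (com_of_tv e hz)
    have m := com_of_tv (c.t3 hx) hy
    have := ((d.w_one r s.nB (PMod.tv2 c.s2.pg (PMod.of_le (inf_le_left.trans t))
      (PMod.of_le inf_le_right)) hx hτ w).comm (W.of_tv (t hτ) hy) hx hy c.s3.le (c.t2 hx).1
      (nA₁ hy) (fun g hg => mem_Tv_mono hg c.s1.le l1) (tv_symm (c.s3.le.trans nA₁) c.t2)
      (com_of_tv (c.t2 hx) m) (c.s1.le (com_of_tv (d.ab hy) (c.s3.le m)))).uniq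
      ((w _ m).mono c.s1.le) (c.n3 x hx hx' y hy hy') (c.s2.pow m)
    push_cast at this
    exact two_ne h2 (by push_cast; linear_combination this)
  intro U u1 u2 u3
  by_contra! r
  have nU := h.le.trans u3
  obtain ⟨Q, q1, q2, q3, -⟩ := exists_step h.pg (u2.trans lN) u1 nU (h.le.trans s.nB)
    fun e => r.1 (le_antisymm e u1)
  have f2 : ∀ y ∈ A, ⁅x, y⁆ ∈ A₁ → y ∈ A₂ := fun y hy e => by_contra fun n => c.n3 x hx hx' y hy n e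
  obtain rfl : Q = A₁ := Sp.eq_of_le' q1 c.s1 fun y hy => by_contra fun n => c.n2 x hx hx' y
    (f2 y (u2 (q2 hy)) (c.s1.le (com_of_tv (q3 hx) hy))) n (com_of_tv (q3 hx) hy)
  obtain ⟨Q', q1', q2', q3', -⟩ := exists_step h.pg (u2.trans lN) q2 nU (fun g hg => (c.t2 hg).1)
    fun e => k1 (le_antisymm e q2 ▸ u3)
  obtain rfl : Q' = A₂ := Sp.eq_of_le' q1' c.s2 fun y hy =>
    f2 y (u2 (q2' hy)) (com_of_tv (q3' hx) hy)
  exact k2 (c.s3.eq_of' q2' u2 (fun e => r.2 (le_antisymm u2 e)) ▸ u3)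

end SC

theorem jobSC : JobSC.{u} := by
  intro Ω _ _ p hp E N L A B h2 sr h s n
  have d : SC p E N L A B := ⟨h, s, n⟩
  have lN := s.lE.trans h.sp.le
  have nA := h.le.trans s.nA
  have nB := h.le.trans s.nB
  have cd := sr A B lN ⟨s.le, d.ab, s.pw⟩
  have big := (h.lt_of_not s.le s.lE s.nA s.nB n).not_ge
  obtain ⟨A₁, s1, l1, t1, n1⟩ := exists_step h.pg lN s.le nA nB fun e =>
    big ((card_le_of_le e).trans (Nat.le_mul_of_pos_left _ hp.out.pos))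
  obtain ⟨A₂, s2, l2, t2, n2⟩ := exists_step h.pg lN l1 nA n1 fun e =>
    big (s1.card ▸ card_le_of_le e)
  have cd' := le_of_card (le_of_card cd s1) s2
  rw [pow_one] at cd'
  rcases l2.eq_or_lt with rfl | l
  · exact .inl ⟨_, _, _, _, d.two s2 s1 t2 t1⟩
  have s3 := sp_of_le d.pA l cd'
  have t3 := H21.F3.tv_small h.pg lN l2 nA n2 cd'
  by_cases hq : ∃ P, Sp p P B ∧ P ≤ A ∧ N ≤ Nm P ∧ ∃ x ∈ N, x ∉ E ∧ x ∈ Tv A P
  · obtain ⟨P, a, b, c, x, hx, hx', t⟩ := hq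
    obtain ⟨A₀, H, B₀, q⟩ := d.quad cd a b c hx hx' t
    exact .inl ⟨_, _, _, _, q⟩
  have c : Cub p E N A A₂ A₁ B := by
    refine ⟨s3, s2, s1, t3, t2, t1, fun x hx hx' y hy hy' e => hq ⟨A₁, s1, l1, n1, x, hx, hx',
      s3.tv_of (t2 hx) (d.nm s1.le l1) hy hy' e⟩, fun x hx hx' y hy hy' e => ?_⟩
    have u := s2.tv_of (t1 hx) (l2.trans (d.nm le_rfl s.le)) hy hy' e
    have u' : N ≤ Tv A₂ B := h.sp.le_of (s.tv.trans (Tv_anti l2 B)) hx hx' u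
    obtain ⟨w, hw, hw'⟩ := s3.ex
    have m := com_of_tv (t3 hx) hw
    have m' : ⁅x, w⁆ ∉ B := fun r => d.xJ hx hx' (s3.tv_of u (d.nm le_rfl s.le) hw hw' r)
    have lP : B ⊔ zpowers ⁅x, w⁆ ≤ A₂ := sup_le (s1.le.trans s2.le) (zpowers_le.2 m)
    exact hq ⟨_, sp_sup d.pA s.le (l2 m) m' (d.ab (l2 m)).1 (s.pw _ (l2 m)), lP.trans l2,
      fun g hg => Nm_of_Tv (u' hg) le_sup_left lP, x, hx, hx',
      s3.tv_of (mem_Tv_mono u le_sup_left lP) (d.nm le_sup_left (lP.trans l2)) hw hw'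
        (mem_sup_right (mem_zpowers _))⟩
  exact .inr ⟨_, _, c, d.irr h2 c⟩

end H21.F3
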