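import Cfsg.Agent.H74.FSp

/-! Jobs M6, E1, More of `blueprints/FUSMC.md`. -/

set_option autoImplicit false
set_option linter.unusedSectionVars false

namespace H21.FMC
open Cfsg H92 H92.Es H93 H92.P5 Subgroup H74.FM
open scoped commutatorElement

universe u
variable {Ω : Type u} [Group Ω] {S A E : Subgroup Ω} {γ : ℕ → Subgroup Ω} {F : FusionSystem S}
  {p n i j k m : ℕ} {a g s t w x y τ : Ω} [hp : Fact p.Prime] [Finite Ω]

section
variable (h : MX p n S γ)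
include h

theorem st_range (hx : x ∈ S) : ∀ (r j : ℕ) (A : Subgroup Ω), x ∈ Tv A (γ j) → x ∈ Ct (γ (j + r)) →
    x ∈ St A ((List.range' j (r + 1)).map γ)
  | 0, _, _, h1, h2 => ⟨h1, h2⟩
  | r + 1, j, _, h1, h2 => ⟨h1, st_range hx r (j + 1) _ (h.tvS j hx)
      (by rwa [show j + 1 + r = j + (r + 1) by omega])⟩

theorem ct_level (ht : t ∈ S) (ht' : t ∉ γ 1) (hy : y ∈ γ 1) (e : ⁅y, t⁆ ∈ γ (k + 1))
    (hk : k + 2 ≤ n) : y ∈ γ k := by
  by_cases z : y = 1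
  · exact z ▸ one_mem _
  obtain ⟨i, -, a, b⟩ := h.level (h.le _ hy) z
  by_contra r
  have i1 : 1 ≤ i := by by_contra q; exact b (h.anti (by omega) hy)
  have i2 : i < k := by by_contra q; exact r (h.anti (by omega) a)
  exact h.unif ht ht' i1 (by omega) a b (h.anti (by omega) e)

theorem pow_mem_two (hs : s ∈ S) (hs' : s ∉ γ 1) : s ^ p ∈ γ (n - 2) := by
  have h4 := h.four
  refine ct_level h hs hs' ((h.sp (i := 0) (by omega)).pow (h.zero.symm ▸ hs)) ?_ (by omega)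
  rw [commutatorElement_eq_one_iff_commute.2 ((Commute.refl s).pow_left p)]
  exact one_mem _

theorem neg_ne (e : ¬ γ 1 ≤ Ct (γ (n - 2))) : (-1 : ZMod p) ≠ 1 := fun r => by
  obtain ⟨-, a, b⟩ := h.exc.resolve_left e
  have : ((2 : ℕ) : ZMod p) = 0 := by push_cast; linear_combination -r
  have := Nat.le_of_dvd (by norm_num) ((ZMod.natCast_eq_zero_iff 2 p).1 this)
  omega

theorem om_of (ht : t ∈ Nm S) (hk : k < n) (hy : y ∈ γ k) (hy' : y ∉ γ (k + 1)) {c : ℤ}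
    (e : W t y (γ (k + 1)) c) : om p γ k t = c :=
  wt_eq (h.sp hk) (h.nm _ ht) (h.nm _ ht) hy hy' e

theorem om_zero (ht : t ∈ Nm S) (hy : y ∈ S) (hy' : y ∉ γ 1) {c : ℤ} (e : W t y (γ 1) c) :
    om p γ 0 t = c := om_of h ht (by have := h.four; omega) (h.zero.symm ▸ hy) hy' e

theorem om_fix (ht : t ∈ Nm S) (hk : k < n) (hy : y ∈ γ k) (hy' : y ∉ γ (k + 1))
    (e : t * y * t⁻¹ = y) : om p γ k t = 1 := by
  simpa using om_of h ht hk hy hy' (c := 1) (by simp [W, e])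

theorem cenZ : S ≤ Ct (γ (n - 1)) := le_Ct_comm.1 (h.cen.ge.trans inf_le_right)

end

section
variable (hF : SatA p F) (h : MX p n S γ) (hE : F.IsEssential p E)
include hF h hE

theorem mem_of_chain (hj : j ≤ m) (hl : γ j ≤ E) (hn : ∀ k, j ≤ k → k ≤ m → Aut F E ≤ Nm (γ k))
    (hx : x ∈ S) (h1 : x ∈ Tv E (γ j)) (h2 : x ∈ Ct (γ m)) : x ∈ E := by
  refine mem_of_St hF hE (l := (List.range' j (m - j + 1)).map γ) (fun B hB => ?_)
    ⟨hx, Nm_of_Tv h1 hl le_rfl⟩ (st_range h hx _ _ _ h1 (by rwa [show j + (m - j) = m by omega]))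
  obtain ⟨k, hk, rfl⟩ := List.mem_map.1 hB
  rw [List.mem_range'_1] at hk
  exact ⟨(h.anti hk.1).trans hl, hn k hk.1 (by omega)⟩

theorem shape (e : ¬ γ 1 ≤ Ct (γ (n - 2))) (h1 : E < Mz n S γ) (h2 : ¬ E ≤ γ 1) :
    ∃ t j, t ∈ E ∧ t ∉ γ 1 ∧ 3 ≤ j ∧ j + 2 ≤ n ∧ E ⊓ γ 1 = γ j ∧ Sp p E (γ j) := by
  have h4 := h.four
  obtain ⟨t, a, b⟩ := SetLike.not_le_iff_exists.1 h2
  have lS := hE.1.1
  have z2 : γ (n - 2) ≤ E ⊓ γ 1 := le_inf (fun x hx => cen hF hE (h.le _ hx)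
    (le_Ct_comm.1 (h1.le.trans inf_le_right) hx)) (h.anti (by omega))
  have l2 : E ⊓ γ 1 ≤ γ 2 := h.inf_M e ▸ fun x hx => ⟨hx.2, h1.le hx.1⟩
  obtain ⟨j, c, d, f, g⟩ := h.levelK (a := n - 1) l2 fun r =>
    h.nle (i := n - 2) (by omega) (by omega) (z2.trans r)
  have q := h.eq_of_nm (lS a) b (mem_Nm_inf (le_Nm E a) (h.nmS 1 (lS a)))
    ((h.anti (by omega)).trans z2) (by omega) f g
  refine ⟨t, j, a, b, ?_, by omega, q, q ▸ (h.sp (i := 0) (by omega)).inf (h.zero.symm ▸ lS) h2⟩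
  by_contra r
  obtain rfl : j = 2 := by omega
  exact h1.not_ge (h.spM2.le_of (q.ge.trans inf_le_left) (h1.le a) (fun r => b (h.succ 1 r)) a)

end

theorem jobMore : JobMore.{u} := by
  intro Ω _ _ S p n _ F γ ⟨hF, h⟩ e E s hE hs s1 sM eE ext
  obtain ⟨ev, h6, -⟩ := h.exc.resolve_left e
  have sE : Sp p E (γ (n - 2)) := eE ▸ sp_sup h.pg (h.le _) hs (fun r => s1 (h.anti (by omega) r))
    (h.nmS _ hs) (pow_mem_two h hs s1)
  have lS := hE.1.1
  have mE : s ∈ E := eE ▸ mem_sup_right (mem_zpowers s)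
  have e1 : n - 2 + 1 = n - 1 := by omega
  have sZ : Sp p (γ (n - 2)) (γ (n - 1)) := e1 ▸ h.sp (by omega)
  have z : γ (n - 1 + 1) = ⊥ := h.bot (by omega)
  have i1 : E ⊓ γ 1 = γ (n - 2) := sE.eq_of' (le_inf sE.le (h.anti (by omega))) inf_le_left
    fun r => s1 (r mE).2
  have iM : E ⊓ Mz n S γ = γ (n - 2) := sE.eq_of' (le_inf sE.le ((h.anti (by omega)).trans
    h.two_le_M)) inf_le_left fun r => sM (r mE).2
  obtain ⟨w, w1, w2⟩ := h.ex (i := n - 2) (by omega)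
  have cE : ⁅E, E⁆ = γ (n - 1) := (h.sp (i := n - 1) (by omega)).eq_of (by rw [z]; exact bot_le)
    (le_of_tv (sE.cyc (lS.trans (h.nmS _)) (lS.trans (e1 ▸ h.tvS _)))) fun r =>
      h.unif' hs s1 sM (by omega) (by omega) w1 w2
        (h.anti (by omega) (r (commutator_mem_commutator (sE.le w1) mE)))
  obtain ⟨x, x1, x2⟩ := h.ex (i := n - 3) (by omega)
  have e2 : n - 3 + 1 = n - 2 := by omega
  have xS := h.le _ x1
  have t1 : x ∈ Tv E (γ (n - 2)) := tv_of_com (h.nmS _ xS) fun y hy => e2 ▸ h.cS x1 (lS hy)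
  obtain ⟨a, ha, ha'⟩ := exists_notXE hF hE
  obtain ⟨-, n2, T⟩ := tor hF hE (r := []) ⟨xS, Nm_of_Tv t1 sE.le le_rfl⟩
    (fun r => x2 (e2.symm ▸ i1.le ⟨r, h.anti (by omega) x1⟩)) sZ sE
    (by simpa using ⟨sZ.le.trans sE.le, fun g hg =>
      cE ▸ mem_Nm_commutator (Aut_le_Nm F E hg) (Aut_le_Nm F E hg)⟩)
    t1 (e1 ▸ h.tvS _ xS) (cenZ h xS) ha ha'
  obtain ⟨τ, τ1, -, W0, W1⟩ := T (-1) (-1) (by simp)
  obtain ⟨t, ht, et⟩ := ext τ τ1
  have nt := Aut_le_Nm F S ht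
  obtain ⟨y, y1, y2⟩ := SetLike.not_le_iff_exists.1 n2
  have yE : y ∈ E := (cj_eq_of_Aut ha).le (cj_mono a sE.le y1)
  have wy := (W1 y y1).congr yE et
  have o0 := om_zero h nt (lS yE) (fun r => y2 (i1.le ⟨yE, r⟩)) (wy.mono (h.anti (by omega)))
  have oM := wt_eq h.spM nt (h.nmM nt) (lS yE) (fun r => y2 (iM.le ⟨yE, r⟩))
    (wy.mono ((h.anti (by omega)).trans h.two_le_M))
  have o2 := om_of h nt (by omega) w1 w2 (e1.symm ▸ (W0 w w1).congr (sE.le w1) et)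
  obtain ⟨c, c1, c2⟩ := wt_ex (h.sp (i := 1) (by omega)) (h.nm _ nt) (h.nm _ nt)
  obtain ⟨v, v1, v2⟩ := h.ex (i := 1) (by omega)
  have oM' := wt_eq h.spM nt (h.nmM nt) (h.le _ v1) (fun r => v2 ((h.inf_M e).le ⟨v1, r⟩))
    ((c2 v v1).mono h.two_le_M)
  have := h.om_eq nt (k := n - 3) (by omega) (Or.inl (by omega))
  rw [e2, o2, o0, om, ← c1, ← oM', oM] at this
  push_cast at this
  rw [Odd.neg_one_pow (by obtain ⟨k, rfl⟩ := ev; exact ⟨k - 2, by omega⟩)] at this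
  exact neg_ne h e (by linear_combination this)

theorem jobE1 : JobE1.{u} := by
  intro Ω _ _ S p n _ F γ ⟨hF, h⟩ e E hE lM nP ext
  obtain ⟨ev, h6, hp⟩ := h.exc.resolve_left e
  obtain ⟨t, j, tE, t1, j3, jn, iE, sE⟩ := shape hF h hE e lM nP
  obtain ⟨j, rfl⟩ : ∃ i, j = i + 1 := ⟨j - 1, by omega⟩
  have lS := hE.1.1
  have tS := lS tE
  obtain ⟨x, x1, x2⟩ := h.ex (i := j) (by omega)
  have xS := h.le _ x1
  have xT : x ∈ Tv E (γ (j + 1)) := tv_of_com (h.nmS _ xS) fun y hy => h.cS x1 (lS hy)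
  have xE : x ∉ E := fun r => x2 (iE.le ⟨r, h.anti (by omega) x1⟩)
  have xN : x ∈ S ⊓ Nm E := ⟨xS, Nm_of_Tv xT sE.le le_rfl⟩
  have xC : x ∈ Ct (γ (n - 2)) := (h.two_le_M (h.anti (by omega) x1)).2
  have cE : E ≤ Ct (γ (n - 2)) := lM.le.trans inf_le_right
  have z2 : γ (n - 2) ≤ E := (h.anti (by omega)).trans sE.le
  have e1 : n - 2 + 1 = n - 1 := by omega
  have z : γ (n - 1 + 1) = ⊥ := h.bot (by omega)
  obtain ⟨a, ha, ha'⟩ := exists_notXE hF hE
  rcases Nat.lt_or_ge (j + 3) n with c | c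
  · obtain ⟨w, w1, w2⟩ := h.ex (i := n - 3) (by omega)
    have e2 : n - 3 + 1 = n - 2 := by omega
    have nc : ∀ y ∈ S, ⁅w, y⁆ = 1 → y ∈ γ 1 := fun y hy r => by_contra fun q =>
      h.unif hy q (by omega) (by omega) w1 w2 (r ▸ one_mem _)
    have eZ : E ⊓ Ct E = γ (n - 2) := le_antisymm (fun y hy => ct_level h tS t1
      (nc y (lS hy.1) (ct_iff.1 hy.2 w (sE.le (h.anti (by omega) w1))))
      (by rw [com_ct hy.2 tE]; exact one_mem _) (by omega)) (le_inf z2 (le_Ct_comm.1 cE))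
    have nZ : Aut F E ≤ Nm (γ (n - 2)) := fun g hg =>
      eZ ▸ mem_Nm_inf (Aut_le_Nm F E hg) (mem_Nm_Ct (Aut_le_Nm F E hg))
    rcases Nat.lt_or_ge (j + 4) n with c' | c'
    · have gen : ∀ k (A : Subgroup Ω), j + 1 ≤ k → k + 3 ≤ n → γ k ≤ A → t ∈ Nm A →
          ⁅A, E⁆ ≤ γ (k + 1) → ⁅A, E⁆ ⊔ γ (n - 2) = γ (k + 1) := fun k A k1 k2 l nA l' => by
        obtain ⟨v, v1, v2⟩ := h.ex (i := k) (by omega)
        exact h.eq_of_nm tS t1 (mem_Nm_sup (mem_Nm_commutator nA (le_Nm E tE)) (h.nmS _ tS))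
          ((h.anti (by omega)).trans le_sup_right) (by omega) (sup_le l' (h.anti (by omega)))
          fun r => h.unif tS t1 (by omega) k2 v1 v2
            (r (mem_sup_left (commutator_mem_commutator (l v1) tE)))
      have inv : ∀ r, j + 2 + r + 2 ≤ n → Aut F E ≤ Nm (γ (j + 2 + r)) := fun r => by
        induction r with
        | zero =>
          intro _ g hg
          rw [Nat.add_zero, ← gen (j + 1) E le_rfl (by omega) sE.le (le_Nm E tE)
            (le_of_tv (sE.cyc (lS.trans (h.nmS _)) (lS.trans (h.tvS _))))]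
          exact mem_Nm_sup (mem_Nm_commutator (Aut_le_Nm F E hg) (Aut_le_Nm F E hg)) (nZ hg)
        | succ r ih =>
          intro q g hg
          rw [← Nat.add_assoc, ← gen (j + 2 + r) _ (by omega) (by omega) le_rfl (h.nmS _ tS)
            ((commutator_mono le_rfl lS).trans (h.comS _))]
          exact mem_Nm_sup (mem_Nm_commutator (ih (by omega) hg) (Aut_le_Nm F E hg)) (nZ hg)
      have inv' : ∀ k, j + 2 ≤ k → k ≤ n - 2 → Aut F E ≤ Nm (γ k) := fun k k1 k2 => by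
        have := inv (k - (j + 2)) (by omega)
        rwa [show j + 2 + (k - (j + 2)) = k by omega] at this
      have eJ : E ⊓ Ct (γ (n - 3)) = γ (j + 1) := sE.eq_of' (le_inf sE.le fun y hy =>
        ct_iff.2 fun v hv => by
          have := h.com (by omega) (by omega) (commutator_mem_commutator hv hy)
          rwa [h.bot (by omega), mem_bot] at this) inf_le_left
        fun r => t1 (nc t tS (ct_iff.1 (r tE).2 w w1))
      refine xE (mem_of_chain hF h hE (m := n - 2) (by omega) sE.le (fun k k1 k2 => ?_) xS xT xC)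
      rcases k1.eq_or_lt with rfl | k1
      · exact fun g hg => eJ ▸ mem_Nm_inf (Aut_le_Nm F E hg)
          (mem_Nm_Ct (inv' _ (by omega) (by omega) hg))
      · exact inv' k k1 k2
    · have ej : j + 1 = n - 3 := by omega
      rw [ej] at xT iE sE
      obtain ⟨-, n2, T⟩ := tor hF hE (r := []) xN xE (e2 ▸ h.sp (by omega)) sE
        (by simpa using ⟨z2, nZ⟩) xT (e2 ▸ h.tvS _ xS) xC ha ha'
      obtain ⟨τ, τ1, τ2, W0, W1⟩ := T (-1) (-1) (by simp)
      obtain ⟨t', ht, et⟩ := ext τ τ1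
      have nt := Aut_le_Nm F S ht
      have ct : t' ∈ Ct (γ (n - 2)) := mem_of_div τ2 et (Ct_anti z2)
      obtain ⟨y, y1, y2⟩ := SetLike.not_le_iff_exists.1 n2
      have yE : y ∈ E := (cj_eq_of_Aut ha).le (cj_mono a sE.le y1)
      have o0 := om_zero h nt (lS yE) (fun r => y2 (iE.le ⟨yE, r⟩))
        (((W1 y y1).congr yE et).mono (h.anti (by omega)))
      have o3 := om_of h nt (by omega) w1 w2 (e2.symm ▸ (W0 w w1).congr (sE.le w1) et)
      obtain ⟨u, u1, u2⟩ := h.ex (i := n - 2) (by omega)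
      obtain ⟨v, v1, v2⟩ := h.ex (i := n - 1) (by omega)
      have o2 := om_fix h nt (by omega) u1 u2 (conj_eq_of_Ct ct u1)
      have o1 := om_fix h nt (by omega) v1 v2 (conj_eq_of_Ct ct (h.anti (by omega) v1))
      have q1 := h.om_eq nt (k := n - 4) (by omega) (Or.inl (by omega))
      have q2 := h.om_last nt e
      rw [show n - 4 + 1 = n - 3 by omega, o3, o0] at q1
      push_cast at q1
      rw [Even.neg_one_pow (by obtain ⟨k, rfl⟩ := ev; exact ⟨k - 2, by omega⟩)] at q1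
      rw [o1, o2] at q2
      exact neg_ne h e (by linear_combination q1 - q2)
  · obtain rfl : j = n - 3 := by omega
    have e2 : n - 3 + 1 = n - 2 := by omega
    rw [e2] at xT iE sE
    have u1 : ⁅x, t⁆ ∈ γ (n - 2) := e2 ▸ h.cS x1 tS
    have u2 : ⁅x, t⁆ ∉ γ (n - 2 + 1) := fun r =>
      h.unif tS t1 (by omega) (by omega) x1 x2 (h.anti (by omega) r)
    have s1 : Sp p (zpowers ⁅x, t⁆) ⊥ := by
      have := sp_sup h.pg bot_le (h.le _ u1) (fun r => u2 (mem_bot.1 r ▸ one_mem _)) (nm_bot _)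
        (h.bot (i := n - 2 + p - 1) (by omega) ▸ (h.pow2 (by omega) u1).1)
      rwa [bot_sup_eq] at this
    have l1 := zpowers_le.2 u1
    have cZ : Nat.card (γ (n - 2)) = p ^ (1 + 1) := by rw [h.card]; congr 1; omega
    have s2 : Sp p (γ (n - 2)) (zpowers ⁅x, t⁆) :=
      sp_of h.pg (h.le _) l1 cZ (s1.card_up (i := 0) (by simp))
    have ab : E ≤ Ct E := sE.cyc' cE
    have tT : x ∈ Tv E (zpowers ⁅x, t⁆) := sE.tv_of
      (mem_Tv_of_Ct xC (Ct_le_Nm _ (Ct_anti l1 xC))) ((cE.trans (Ct_anti l1)).trans (Ct_le_Nm _)) tE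
      (fun r => t1 (h.anti (by omega) r)) (mem_zpowers _)
    obtain ⟨τ, τ1, τ2, W0, W1⟩ := tor3 hF hE xN xE s1 s2 sE ab tT xC ha ha' (k := -1) (l := -1)
      (by simp)
    obtain ⟨t', ht, et⟩ := ext τ τ1
    have nt := Aut_le_Nm F S ht
    obtain ⟨y, y1, y2⟩ := SetLike.not_le_iff_exists.1 (trv' hF hE xN xE tT xC l1 z2 ha ha')
    have yE : y ∈ E := (cj_eq_of_Aut ha).le (cj_mono a (l1.trans z2) y1)
    have o0 := om_zero h nt (lS yE) (fun r => y2 (iE.le ⟨yE, r⟩))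
      (((W1 y y1).congr yE et).mono bot_le)
    have o2 := om_of h nt (by omega) u1 u2 (((W0 _ (mem_zpowers _)).congr (z2 u1) et).mono bot_le)
    have sD := ((cj_eq_of_Aut ha ▸ sE.cj a : Sp p E (cj a (γ (n - 2)))).inf z2
      fun r => trv hF hE xN xE tT xC l1 z2 ha ha' (l1.trans r)).card_down cZ
    obtain ⟨d, d1, d2⟩ := (bot_or_exists_ne_one (γ (n - 2) ⊓ cj a (γ (n - 2)))).resolve_left fun r => by
      rw [r, card_bot, pow_one] at sD
      omega
    have fd : t' * d * t'⁻¹ = d :=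
      conj_eq_of_Ct (mem_of_div τ2 et (Ct_anti (inf_le_left.trans z2))) d1
    push_cast at o0 o2
    have o1 := om_fix h nt (k := n - 1) (by omega) (by_contra fun r => neg_ne h e
      (o2.symm.trans (om_fix h nt (by omega) d1.1 (e1.symm ▸ r) fd))) (by rwa [z, mem_bot]) fd
    have q1 := h.om_eq nt (k := n - 3) (by omega) (Or.inl (by omega))
    have q2 := h.om_last nt e
    rw [e2, o2, o0, Odd.neg_one_pow (by obtain ⟨k, rfl⟩ := ev; exact ⟨k - 2, by omega⟩)] at q1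
    rw [o1, o2] at q2
    exact neg_ne h e (by linear_combination q1 - q2)

theorem jobM6 : JobM6.{u} := by
  intro Ω _ _ S p n _ F γ ⟨hF, h⟩ e hM
  obtain ⟨ev, h6, -⟩ := h.exc.resolve_left e
  obtain ⟨t, tM, t2⟩ := h.spM2.ex
  have t1 : t ∉ γ 1 := fun r => t2 ((h.inf_M e).le ⟨r, tM⟩)
  obtain ⟨x, x1, x2⟩ := h.ex (i := 1) (by omega)
  have xS := h.le _ x1
  have lS : Mz n S γ ≤ S := inf_le_left
  have nM : S ≤ Nm (Mz n S γ) := (le_Nm S).trans h.nmM
  have gen : ∀ k (A : Subgroup Ω), 2 ≤ k → k + 3 ≤ n → γ k ≤ A → S ≤ Nm A →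
      ⁅A, Mz n S γ⁆ ≤ γ (k + 1) → ⁅A, Mz n S γ⁆ = γ (k + 1) := fun k A k1 k2 l nA l' => by
    obtain ⟨v, v1, v2⟩ := h.ex (i := k) (by omega)
    obtain ⟨s, a, b, c⟩ := h.exists_unif
    exact h.eq_of_nm' a b c (mem_Nm_commutator (nA a) (nM a)) (by omega) l'
      fun r => h.unif tM.1 t1 (by omega) k2 v1 v2 (r (commutator_mem_commutator (l v1) tM))
  have inv : ∀ r, 3 + r + 2 ≤ n → Aut F (Mz n S γ) ≤ Nm (γ (3 + r)) := fun r => by
    induction r with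
    | zero =>
      intro _ g hg
      rw [Nat.add_zero, ← gen 2 _ le_rfl (by omega) h.two_le_M nM
        (le_of_tv (h.spM2.cyc (lS.trans (h.nmS _)) (lS.trans (h.tvS _))))]
      exact mem_Nm_commutator (Aut_le_Nm F _ hg) (Aut_le_Nm F _ hg)
    | succ r ih =>
      intro q g hg
      rw [← Nat.add_assoc, ← gen (3 + r) _ (by omega) (by omega) le_rfl (h.nmS _)
        ((commutator_mono le_rfl lS).trans (h.comS _))]
      exact mem_Nm_commutator (ih (by omega) hg) (Aut_le_Nm F _ hg)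
  have inv' : ∀ k, 3 ≤ k → k ≤ n - 2 → Aut F (Mz n S γ) ≤ Nm (γ k) := fun k k1 k2 => by
    have := inv (k - 3) (by omega)
    rwa [show 3 + (k - 3) = k by omega] at this
  have n2 : ¬ Aut F (Mz n S γ) ≤ Nm (γ 2) := fun r => by
    obtain ⟨u, u1, u2⟩ := h.ex (i := 2) (by omega)
    obtain ⟨v, v1, v2⟩ := h.ex (i := n - 3) (by omega)
    have z : γ (n - 1 + 1) = ⊥ := h.bot (by omega)
    have eZ : ⁅γ 2, γ (n - 3)⁆ = γ (n - 1) := (h.sp (i := n - 1) (by omega)).eq_of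
      (by rw [z]; exact bot_le) ((h.com (by omega) (by omega)).trans (h.anti (by omega))) fun q =>
        h.pair e (by omega) (by omega) (by omega) u1 u2 v1 v2
          (mem_bot.1 (z ▸ q (commutator_mem_commutator u1 v1)))
    refine x2 ((h.inf_M e).le ⟨x1, mem_of_chain hF h hM (j := 2) (m := n - 1) (by omega) h.two_le_M
      (fun k k1 k2 => ?_) xS (tv_of_com (h.nmS _ xS) fun y hy => h.cS x1 hy.1) (cenZ h xS)⟩)
    rcases k1.eq_or_lt with rfl | k1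
    · exact r
    rcases k2.eq_or_lt with rfl | k2
    · exact fun g hg => eZ ▸ mem_Nm_commutator (r hg) (inv' _ (by omega) (by omega) hg)
    · exact inv' k k1 (by omega)
  obtain rfl : n = 6 := by
    by_contra r
    obtain ⟨v, v1, v2⟩ := h.ex (i := 3) (by omega)
    have eJ : Mz n S γ ⊓ Tv (γ 3) (γ 5) = γ 2 := h.spM2.eq_of' (le_inf h.two_le_M
      (tv_of_le ((h.le _).trans (h.nmS _)) (h.com (by omega) (by omega)))) inf_le_left
      fun q => h.unif tM.1 t1 (by omega) (by omega) v1 v2 (com_symm (com_of_tv (q tM).2 v1))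
    exact n2 fun g hg => eJ ▸ mem_Nm_inf (Aut_le_Nm F _ hg)
      (mem_Nm_Tv (inv' _ le_rfl (by omega) hg) (inv' _ (by omega) (by omega) hg))
  refine ⟨rfl, fun E hE lM => by_contra fun q => ?_⟩
  obtain ⟨a, ha, ha'⟩ := SetLike.not_le_iff_exists.1 n2
  obtain ⟨s, j, sE, s1, j3, jn, iE, pE⟩ := shape hF h hE e lM
    fun r => q ((le_inf r lM.le).trans (h.inf_M e).le)
  have sM := lM.le sE
  have s2 : s ∉ γ 2 := fun r => s1 (h.succ 1 r)
  obtain ⟨y, y1, y2⟩ := SetLike.not_le_iff_exists.1 fun r : cj a (γ 2) ≤ γ 2 => ha' (mem_Nm_of_le r)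
  have yM : y ∈ Mz 6 S γ := (cj_eq_of_Aut ha).le (cj_mono a h.two_le_M y1)
  obtain ⟨k, hk⟩ := h.spM2.dec yM y2 sM
  have c1 : x ∈ Tv S (γ 2) := tv_of_com (h.nmS _ xS) fun y hy => h.cS x1 hy
  have c2 : s⁻¹ * (x * s * x⁻¹) ∉ γ 3 := fun r => h.unif sM.1 s1 le_rfl (by omega) x1 x2 (by
    have := conj_mem_of_Nm (h.nmS 3 sM.1) r
    convert this using 1
    rw [commutatorElement_def]; group)
  obtain ⟨i, hi⟩ := (h.sp (i := 2) (by omega)).dec (c1.2 s sM.1) c2 (div_symm hk)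
  obtain ⟨m, hm⟩ : ∃ m : ℕ, (s⁻¹ * (x * s * x⁻¹)) ^ m = (s⁻¹ * (x * s * x⁻¹)) ^ i :=
    mem_powers_iff_mem_zpowers.2 (zpow_mem (mem_zpowers _) i)
  have l3 : γ 3 ≤ cj a (γ 2) := by
    rw [← cj_eq_of_Nm (inv' 3 le_rfl (by omega) ha)]; exact cj_mono a (h.succ 2)
  have c3 : x ^ m * s * (x ^ m)⁻¹ ∈ cj a (γ 2) := by
    have := tv_pow c1 (h.tvS 2 xS) sM.1 m
    rw [hm] at this
    have := mul_mem (zpow_mem y1 k) (l3 (mul_mem ((γ 3).inv_mem hi) this))
    convert this using 1; group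
  have hb : a⁻¹ * x ^ m ∈ Aut F (Mz 6 S γ) :=
    mul_mem ((Aut F _).inv_mem ha) (pow_mem (Nm_le_Aut F _ ⟨xS, nM xS⟩) m)
  have ej := cj_eq_of_Nm (inv' j j3 (by omega) hb)
  have l2 : cj (a⁻¹ * x ^ m) E ≤ γ 2 := by
    rw [pE.sup sE fun r => s1 (h.anti (by omega) r), cj_sup, ej, cj_zpowers]
    refine sup_le (h.anti (by omega)) (zpowers_le.2 ?_)
    have := mem_cj.1 c3
    convert this using 1; group
  have l4 : γ (j - 3) ≤ S ⊓ Nm (cj (a⁻¹ * x ^ m) E) := le_inf (h.le _) fun g hg => by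
    refine Nm_of_Tv (tv_of_com (h.nmS j (h.le _ hg)) fun v hv => com_symm ?_)
      (ej.ge.trans (cj_mono _ pE.le)) l2
    obtain rfl | rfl : j = 3 ∨ j = 4 := by omega
    · exact h.cS hv (h.le _ hg)
    · exact h.two (commutator_mem_commutator hv hg)
  have l5 : S ⊓ Nm E ⊓ γ 1 ≤ γ (j - 1) := fun g hg => ct_level h sM.1 s1 hg.2 (by
    rw [show j - 1 + 1 = j by omega]
    exact iE.le ⟨comm_mem_of_Nm hg.1.2 sE, h.succ 1 (h.cS hg.2 sM.1)⟩) (by omega)
  have b1 := (card_le_of_le l4).trans (hE.2.1.2 _ ((M.of_Aut hb lS).mono lM.le).isConj)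
  have b2 := ((h.sp (i := 0) (by omega)).inf (K := S ⊓ Nm E) (h.zero.symm ▸ inf_le_left)
    fun r => s1 (r ⟨sM.1, le_Nm E sE⟩)).card
  rw [normalizerIn_eq, b2] at b1
  have b3 := b1.trans (Nat.mul_le_mul_left p (card_le_of_le l5))
  rw [h.card, h.card, ← pow_succ'] at b3
  have := (Nat.pow_le_pow_iff_right (Fact.out : p.Prime).one_lt).1 b3
  omega

end H21.FMC
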