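import Cfsg.Agent.H82.FSSpec2

/-! Tower FS, job `JobKB`: two commuting involutions acting on a block. -/

set_option autoImplicit false

namespace H21.FSK

open Cfsg Subgroup H82.FS
open scoped commutatorElement

universe u

variable {G : Type u} [Group G] {p r : ℕ} {A N Y : Subgroup G}

theorem odd_mem (hr : r.Prime) (r2 : r ≠ 2) (hY : IsPGroup r Y) {Z : Subgroup G} {x : G} (hx : x ∈ Y)
    (h : x * x ∈ Z) : x ∈ Z := by
  obtain ⟨k, hk⟩ := hY ⟨x, hx⟩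
  obtain ⟨n, hn⟩ := (hr.odd_of_ne_two r2).pow (n := k)
  have e : (x * x) ^ n * x = 1 := by
    rw [← pow_two, ← pow_mul, ← pow_succ, ← hn]
    exact congrArg Subtype.val hk
  rw [eq_inv_of_mul_eq_one_right e]
  exact inv_mem (pow_mem h n)

theorem cnj {H : Subgroup G} {g x : G} (hg : g ∈ normalizer (H : Set G)) (hx : x ∈ H) :
    g * x * g⁻¹ ∈ H := (mem_normalizer_iff.1 hg x).1 hx

theorem sq_one {t : G} (h : orderOf t = 2) : t * t = 1 := by rw [← pow_two, ← h, pow_orderOf_eq_one]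

/-- Fixed by `t` and inverted by `t'` modulo the derived group. -/
def W (Y : Subgroup G) (t t' : G) (h' : t' ∈ normalizer (Y : Set G))
    (hn : Y ≤ normalizer ((⁅Y, Y⁆ : Subgroup G) : Set G)) : Subgroup G where
  carrier := {y | y ∈ Y ∧ ⁅y, t⁆ ∈ ⁅Y, Y⁆ ∧ t' * y * t'⁻¹ * y ∈ ⁅Y, Y⁆}
  one_mem' := ⟨one_mem _, by simp, by simp⟩
  mul_mem' {x y} hx hy := ⟨mul_mem hx.1 hy.1, by
    rw [show ⁅x * y, t⁆ = x * ⁅y, t⁆ * x⁻¹ * ⁅x, t⁆ by simp only [commutatorElement_def]; group]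
    exact mul_mem (cnj (hn hx.1) hy.2.1) hx.2.1, by
    rw [show t' * (x * y) * t'⁻¹ * (x * y) = t' * x * t'⁻¹ * x * ⁅x⁻¹, t' * y * t'⁻¹⁆ *
      (t' * y * t'⁻¹ * y) by simp only [commutatorElement_def]; group]
    exact mul_mem (mul_mem hx.2.2 (commutator_mem_commutator (inv_mem hx.1) (cnj h' hy.1))) hy.2.2⟩
  inv_mem' {x} hx := ⟨inv_mem hx.1, by
    rw [show ⁅x⁻¹, t⁆ = x⁻¹ * ⁅x, t⁆⁻¹ * x⁻¹⁻¹ by simp only [commutatorElement_def]; group]
    exact cnj (hn (inv_mem hx.1)) (inv_mem hx.2.1), by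
    rw [show t' * x⁻¹ * t'⁻¹ * x⁻¹ = x * (t' * x * t'⁻¹ * x)⁻¹ * x⁻¹ by group]
    exact cnj (hn hx.1) (inv_mem hx.2.2)⟩

variable [Finite G]

theorem home (hU : TyU r A) {t c : G} {L X : Subgroup G} (o : orderOf t = 2)
    (ht : t ∈ centralizer (A : Set G)) (hL : Fx r A t L) (hX : Blk r A X) (h : L ≤ X)
    (hc : c ∈ centralizer (A : Set G)) (hct : c * t = t * c) : c ∈ normalizer (X : Set G) :=
  cj_eq_iff.1 (hU t o ht L hL _ _ (hX.cj hc) hX
    ((cj_eq_iff.2 (hL.2.2.1 (mem_centralizer_singleton_iff.2 hct))).ge.trans (cj_mono c h)) h)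

theorem invZ (h : Geo p r A N) (hB : BlkF r A) (hU : TyU r A) (hY : Blk r A Y) {t : G}
    {L : Subgroup G} (o : orderOf t = 2) (ht : t ∈ centralizer (A : Set G))
    (hn : t ∈ normalizer (Y : Set G)) (hL : Fx r A t L) (h1 : ¬ L ≤ Y) {z : G} (hz : z ∈ ⁅Y, Y⁆) :
    t * z * t⁻¹ = z⁻¹ := by
  obtain ⟨X, hX, hLX⟩ := exists_blk hL.1
  have k : t * z * t⁻¹ ∈ ⁅Y, Y⁆ :=
    cnj (le_norm_comm (zpowers_le.2 hn) (zpowers_le.2 hn) (mem_zpowers t)) hz
  have c : z * (t * z * t⁻¹) = t * z * t⁻¹ * z :=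
    (h.cls Y hY.1).2.1 k z (comm_le_left le_normalizer hz)
  have := (hB.zl Y X hY hX fun e => h1 (e ▸ hLX)).le ⟨mul_mem hz k, home hU o ht hL hX hLX
    (h.Z_cen hY.1 (mul_mem hz k)) (by
      calc _ = t * z * t⁻¹ * z * t := by rw [c]
        _ = t * (z * ((t * t)⁻¹ * (t * z * t⁻¹) * (t * t))) := by group
        _ = _ := by rw [sq_one o]; group)⟩
  exact eq_inv_of_mul_eq_one_right this

theorem key (h : Geo p r A N) (r2 : r ≠ 2) (hB : BlkF r A) (hU : TyU r A) (hY : Blk r A Y) {t t' : G}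
    {L L' : Subgroup G} (o : orderOf t = 2) (o' : orderOf t' = 2) (ne : t ≠ t') (hc : Commute t t')
    (ht : t ∈ centralizer (A : Set G)) (ht' : t' ∈ centralizer (A : Set G))
    (hn : t ∈ normalizer (Y : Set G)) (hn' : t' ∈ normalizer (Y : Set G)) (hL : Fx r A t L)
    (hL' : Fx r A t' L') (h1 : ¬ L ≤ Y) (h1' : ¬ L' ≤ Y) {u : G} (hu : u ∈ Y)
    (u1 : ⁅u, t⁆ ∈ ⁅Y, Y⁆) (u2 : t' * u * t'⁻¹ * u ∈ ⁅Y, Y⁆) : u ∈ ⁅Y, Y⁆ := by
  obtain ⟨c1, c2, -⟩ := h.cls Y hY.1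
  have yn := left_le_norm_comm Y Y
  have an := le_norm_comm hY.1.2.1 hY.1.2.1
  have wY : W Y t t' hn' yn ≤ Y := fun y hy => hy.1
  have wA : A ≤ normalizer (W Y t t' hn' yn : Set G) := fun a ha => norm_of_cj_le (by
    rintro _ ⟨y, hy, rfl⟩
    refine ⟨cnj (hY.1.2.1 ha) hy.1, ?_, ?_⟩
    · have : ⁅a * y * a⁻¹, t⁆ = a * ⁅y, t⁆ * a⁻¹ := by
        rw [conjugate_commutatorElement, ht a ha, mul_inv_cancel_right]
      exact this ▸ cnj (an ha) hy.2.1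
    · have : t' * (a * y * a⁻¹) * t'⁻¹ * (a * y * a⁻¹) = a * (t' * y * t'⁻¹ * y) * a⁻¹ := by
        calc _ = t' * a * y * (t' * a)⁻¹ * (a * y * a⁻¹) := by group
          _ = _ := by rw [← ht' a ha]; group
      exact this ▸ cnj (an ha) hy.2.2)
  have sM := sp_comm h.lin (hY.1.1.to_le wY) wA
  have mW := comm_le_left wA
  have mt : ⁅W Y t t' hn' yn, A⁆ ≤ centralizer {t} := cen_comm ht (fun w hw => hw.2.1) (h.Z_cen hY.1)
    (c2.trans (centralizer_le wY))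
  by_cases h0 : ⁅W Y t t' hn' yn, A⁆ = ⊥
  · exact c1.ge ⟨hu, commutator_eq_bot_iff_le_centralizer.1 h0 ⟨hu, u1, u2⟩⟩
  exfalso
  have m2 : ∀ m ∈ ⁅W Y t t' hn' yn, A⁆, t' * m * t'⁻¹ * m ∈ ⁅Y, Y⁆ := fun m hm => (mW hm).2.2
  have mY := mW.trans wY
  generalize ⁅W Y t t' hn' yn, A⁆ = M at sM mt h0 m2 mY
  obtain ⟨X, hX, hLX⟩ := exists_blk hL.1
  have xy : X ≠ Y := fun e => h1 (e ▸ hLX)
  have ac : ∀ s ∈ centralizer (A : Set G), A ≤ centralizer {s} := fun s hs a ha =>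
    mem_centralizer_singleton_iff.2 (hs a ha)
  have mX := (sM.le_loc h.lin mt (ac t ht) hL.1 hL.2.2.2).trans hLX
  have z0 := (hB.lag M Y X sM h0 hY hX xy.symm mY mX).1
  have s1 : t' * t ≠ 1 := fun e => ne (mul_left_cancel (a := t') (e.trans (sq_one o').symm))
  have os : orderOf (t' * t) = 2 := orderOf_eq_prime (hp := ⟨Nat.prime_two⟩) (by
    rw [hc.symm.mul_pow, pow_two, pow_two, sq_one o, sq_one o', mul_one]) s1
  have hs := mul_mem ht' ht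
  have sz : ∀ z ∈ ⁅Y, Y⁆, t' * t * z * (t' * t)⁻¹ = z := fun z hz => by
    calc _ = t' * (t * z * t⁻¹) * t'⁻¹ := by group
      _ = _ := by rw [invZ h hB hU hY o ht hn hL h1 hz, invZ h hB hU hY o' ht' hn' hL' h1' (inv_mem hz),
        inv_inv]
  obtain ⟨R, r1, r3, r4, -, r5⟩ := h.R (h.cen_ne_top s1) (ac _ hs)
  have hR : Fx r A (t' * t) R := ⟨r1, r3, r4, r5⟩
  obtain ⟨X', hX', hRX⟩ := exists_blk r1
  have e : Y = X' := by_contra fun e => z0 (le_bot_iff.1 fun z hz => (hB.zl Y X' hY hX' e).le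
    ⟨hz, home hU os hs hR hX' hRX (h.Z_cen hY.1 hz) (mul_inv_eq_iff_eq_mul.1 (sz z hz)).symm⟩)
  subst e
  refine xy (hU _ os hs R hR X Y hX hY ((hB.lag M X Y sM h0 hX hY xy mX mY).2 R r1
    fun l hl => centralizer_le_normalizer _ fun m hm => ?_) hRX)
  have k := commutator_mem_commutator (hRX hl) (mY hm)
  have e1 : t' * t * l * (t' * t)⁻¹ = l :=
    mul_inv_eq_iff_eq_mul.2 (mem_centralizer_singleton_iff.1 (r3 hl)).symm
  have e2 : t' * t * m * (t' * t)⁻¹ = t' * m * t'⁻¹ * m * m⁻¹ := by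
    rw [mul_assoc t' t, ← mem_centralizer_singleton_iff.1 (mt hm)]; group
  have e3 := sz _ k
  rw [conjugate_commutatorElement, e1, e2] at e3
  have e4 := c2 (m2 m hm)
  generalize t' * m * t'⁻¹ * m = z at e3 e4
  have e5 : ⁅l, m⁆ * ⁅l, m⁆ = 1 := by
    calc _ = ⁅l, z * m⁻¹⁆ * ⁅l, m⁆ := by rw [e3]
      _ = l * z * (m⁻¹ * l⁻¹ * m * z⁻¹) * ⁅l, m⁆ := by simp only [commutatorElement_def]; group
      _ = l * (m⁻¹ * l⁻¹ * m * z * z⁻¹) * ⁅l, m⁆ := by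
        rw [e4 _ (mul_mem (mul_mem (inv_mem (mY hm)) (inv_mem (hRX hl))) (mY hm))]; group
      _ = m⁻¹ * ⁅l, m⁆⁻¹ * (m * ⁅l, m⁆) := by simp only [commutatorElement_def]; group
      _ = 1 := by rw [c2 k m (mY hm)]; group
  exact (commutatorElement_eq_one_iff_mul_comm.1 (mem_bot.1 (odd_mem h.lin.hr r2 hY.1.1
    (comm_le_left le_normalizer k) (mem_bot.2 e5)))).symm

theorem jobKB : JobKB.{u} := by
  intro G _ _ p r A N h r2 hB _ hU Y hY t t' L L' o o' ne hc ht ht' hn hn' hL hL' h1 h1'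
  have c2 := (h.cls Y hY.1).2.1
  have := cen_comm (W := Y) (mul_mem ht ht') (fun y hy => ?_) (h.Z_cen hY.1) c2
  · rw [hY.1.2.2] at this
    exact fun y hy => mem_centralizer_singleton_iff.1 (this hy)
  have t2 := sq_one o
  have s2 : t * t' * (t * t') = 1 := by rw [← pow_two, hc.mul_pow, pow_two, pow_two, t2, sq_one o', mul_one]
  have hw : ⁅y, t * t'⁆ ∈ Y := by
    rw [show ⁅y, t * t'⁆ = y * (t * t' * y * (t * t')⁻¹)⁻¹ by simp only [commutatorElement_def]; group]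
    exact mul_mem hy (inv_mem (cnj (mul_mem hn hn') hy))
  have e : t * t' * ⁅y, t * t'⁆ * (t * t')⁻¹ = ⁅y, t * t'⁆⁻¹ := by
    calc _ = t * t' * y * (t * t' * (t * t')) * (t * t')⁻¹ * y⁻¹ * (t * t' * (t * t'))⁻¹ := by
          simp only [commutatorElement_def]; group
      _ = _ := by rw [s2]; simp only [commutatorElement_def]; group
  generalize ⁅y, t * t'⁆ = w at hw e
  have hv := cnj hn hw
  have e1 : t * (t * w * t⁻¹) * t⁻¹ = w := by
    calc _ = t * t * w * (t * t)⁻¹ := by group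
      _ = _ := by rw [t2]; group
  have e2 : t' * w * t'⁻¹ = (t * w * t⁻¹)⁻¹ := by
    calc _ = t * t * (t' * w * t'⁻¹) * (t * t)⁻¹ := by rw [t2]; group
      _ = t * (t * t' * w * (t * t')⁻¹) * t⁻¹ := by group
      _ = _ := by rw [e]; group
  have e3 : t' * (t * w * t⁻¹) * t'⁻¹ = w⁻¹ := by
    rw [← e, hc.eq]; group
  generalize hv' : t * w * t⁻¹ = v at hv e1 e2 e3
  have k1 := key h r2 hB hU hY o o' ne hc ht ht' hn hn' hL hL' h1 h1' (mul_mem hw hv) (by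
    rw [show ⁅w * v, t⁆ = w * v * (t * w * t⁻¹ * (t * v * t⁻¹))⁻¹ by
      simp only [commutatorElement_def]; group, hv', e1, mul_inv_rev, ← mul_assoc]
    exact commutator_mem_commutator hw hv) (by
    rw [← conj_mul, e2, e3, show v⁻¹ * w⁻¹ * (w * v) = 1 by group]
    exact one_mem _)
  have k2 := key h r2 hB hU hY o' o ne.symm hc.symm ht' ht hn' hn hL' hL h1' h1
    (mul_mem hw (inv_mem hv)) (by
    rw [show ⁅w * v⁻¹, t'⁆ = w * v⁻¹ * (t' * w * t'⁻¹ * (t' * v * t'⁻¹)⁻¹)⁻¹ by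
      simp only [commutatorElement_def]; group, e2, e3, inv_inv, mul_inv_rev, ← mul_assoc]
    exact commutator_mem_commutator hw (inv_mem hv)) (by
    rw [← conj_mul, ← conj_inv, hv', e1, show v * w⁻¹ * (w * v⁻¹) = 1 by group]
    exact one_mem _)
  refine odd_mem h.lin.hr r2 hY.1.1 hw ?_
  rw [show w * w = w * v⁻¹ * (w * v) * ⁅v⁻¹, w⁻¹⁆ by simp only [commutatorElement_def]; group]
  exact mul_mem (mul_mem k2 k1) (commutator_mem_commutator (inv_mem hv) (inv_mem hw))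

end H21.FSK
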