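import Cfsg.Agent.H82.FSSpec
import Cfsg.Agent.H98.Sylow
import Cfsg.Agent.H12.Basic
import Cfsg.Agent.H2.MinNormal
import Cfsg.Agent.H42.OddOrder

/-! Tower FS, job `JobLine`: the structure of the subgroups generated by two members. -/

set_option autoImplicit false

namespace H21.FSL

open Cfsg Subgroup H98
open H82.FS hiding cj
open scoped commutatorElement

universe u v

variable {G : Type u} [Group G] [Finite G] {p : ℕ}

theorem n2c (hp : p.Prime) {A Q : Subgroup G} (hA : Nat.card A = p) (hQ : IsPGroup p Q)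
    (h : Q ≤ normalizer (A : Set G)) : Q ≤ centralizer (A : Set G) := fun q hq => by
  have := Fact.mk hp
  have := isCyclic_of_prime_card hA
  obtain ⟨k, hk⟩ := isPGroup_iff_forall.1 hQ q hq
  have h1 : orderOf (A.normalizerMonoidHom ⟨q, h hq⟩) ∣ p - 1 := by
    rw [← Nat.totient_prime hp, ← hA, ← IsCyclic.card_mulAut]
    exact orderOf_dvd_natCard _
  have h2 : orderOf (A.normalizerMonoidHom ⟨q, h hq⟩) ∣ p ^ k := orderOf_dvd_of_pow_eq_one (by
    rw [← map_pow, show (⟨q, h hq⟩ : normalizer (A : Set G)) ^ p ^ k = 1 from Subtype.ext hk, map_one])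
  have h3 : (p ^ k).Coprime (p - 1) := Nat.Coprime.pow_left _
    ((Nat.coprime_self_sub_right hp.one_le).2 (Nat.coprime_one_right p))
  have h4 := orderOf_eq_one_iff.1 (Nat.eq_one_of_dvd_coprimes h3 h2 h1)
  rw [← MonoidHom.mem_ker, normalizerMonoidHom_ker] at h4
  exact h4

omit [Finite G] in
theorem cop (hp : p.Prime) {l : ℕ} (hl : l.Prime) (h : l ≠ p) {A Q : Subgroup G} (hA : Nat.card A = p)
    (hQ : IsPGroup l Q) (h1 : Q ≤ normalizer (A : Set G)) (h2 : A ≤ normalizer (Q : Set G)) :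
    Q ≤ centralizer (A : Set G) := by
  have := Fact.mk hp
  have := Fact.mk hl
  rw [← commutator_eq_bot_iff_le_centralizer, ← le_bot_iff, ← (IsPGroup.disjoint_of_ne l p h Q A hQ
    (IsPGroup.of_card (n := 1) (by rw [hA, pow_one]))).eq_bot]
  exact le_inf (le_normalizer_iff_commutator_le_left.1 h2) (le_normalizer_iff_commutator_le_right.1 h1)

theorem fit {L : Subgroup G} [Group.IsSolvable L] {a b : G} (ha : a ∈ L) (hb : b ∈ L)
    (h1 : ∀ l : ℕ, l.Prime → a ∈ centralizer ((pCore l L).map L.subtype : Set G))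
    (h2 : ∀ l : ℕ, l.Prime → b ∈ centralizer ((pCore l L).map L.subtype : Set G)) : a * b = b * a := by
  have key : ∀ a (ha : a ∈ L), (∀ l : ℕ, l.Prime → a ∈ centralizer ((pCore l L).map L.subtype : Set G)) →
      (⟨a, ha⟩ : L) ∈ centralizer (fittingSubgroup L : Set L) := fun a ha h => by
    have : fittingSubgroup L ≤ centralizer {(⟨a, ha⟩ : L)} := by
      rw [H2.fitting_eq_iSup_pCore]
      exact iSup_le fun l x hx => mem_centralizer_singleton_iff.2
        (Subtype.ext (h l l.2 x ⟨x, hx, rfl⟩))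
    exact fun x hx => mem_centralizer_singleton_iff.1 (this hx)
  exact congrArg Subtype.val (key b hb h2 _ (H2.centralizer_fitting_le L (key a ha h1)))

omit [Finite G] in
theorem comm_le {Q C : Subgroup G} (h : C ≤ normalizer (Q : Set G)) (hC : C ≤ centralizer (C : Set G)) :
    ⁅Q ⊔ C, Q ⊔ C⁆ ≤ Q := commutator_le.2 fun x hx y hy => by
  obtain ⟨q, hq, c, hc, rfl⟩ := (mem_sup_right_norm h).1 hx
  obtain ⟨q', hq', c', hc', rfl⟩ := (mem_sup_right_norm h).1 hy
  have e : ⁅q * c, q' * c'⁆ = q * (c * q' * c⁻¹) * (c' * q⁻¹ * c'⁻¹) * q'⁻¹ := by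
    calc _ = q * (c * q' * c⁻¹) * (c * c') * c⁻¹ * q⁻¹ * c'⁻¹ * q'⁻¹ := by
          rw [commutatorElement_def]; group
      _ = _ := by rw [hC hc' c hc]; group
  rw [e]
  exact mul_mem (mul_mem (mul_mem hq (conj_mem_of_mem_normalizer (h hc) hq'))
    (conj_mem_of_mem_normalizer (h hc') (inv_mem hq))) (inv_mem hq')

omit [Finite G] in
theorem emb {F : Type v} [Group F] {L : Subgroup G} (h : Nonempty (L ≃* F)) :
    ∃ f : F →* G, Function.Injective f ∧ (⊤ : Subgroup F).map f = L := by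
  obtain ⟨e⟩ := h
  refine ⟨L.subtype.comp e.symm.toMonoidHom, L.subtype_injective.comp e.symm.injective, ?_⟩
  rw [← map_map, map_top_of_surjective _ e.symm.surjective, ← MonoidHom.range_eq_map, range_subtype]

theorem jobLine : JobLine.{u, v} := by
  intro G _ _ hG p hp p2 D hc hj hs F _ _ hF hi
  have := Fact.mk hp
  have hsol : Group.IsSolvable F := H42.odd_order hF
  have ab : ∀ A ∈ D, A ≤ centralizer (A : Set G) := fun A hA => by
    have := isCyclic_of_prime_card (hc A hA)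
    exact A.le_centralizer
  have pg : ∀ A ∈ D, IsPGroup p A := fun A hA => IsPGroup.of_card (n := 1) (by rw [hc A hA, pow_one])
  have he : ∀ A ∈ D, ∀ B ∈ D, A ≠ B → ∃ f : F →* G, Function.Injective f ∧
      (⊤ : Subgroup F).map f = A ⊔ B := fun A hA B hB h => emb (hi A hA B hB h)
  have cd : ∀ A ∈ D, ∀ B ∈ D, A ≠ B → Nat.card ↥(A ⊔ B) = Nat.card F := fun A hA B hB h =>
    (hi A hA B hB h).elim fun e => Nat.card_congr e.toEquiv
  obtain ⟨A, hA, B, hB, hAB⟩ : ∃ A ∈ D, ∃ B ∈ D, ¬ A ≤ centralizer (B : Set G) := by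
    by_contra h
    push Not at h
    have : (⊤ : Subgroup G) ≤ centralizer ((⊤ : Subgroup G) : Set G) := hs.ge.trans (sSup_le fun A hA =>
      le_centralizer_iff.1 (hs.ge.trans (sSup_le fun B hB => h B hB A hA)))
    exact hG ⟨⟨fun a b => this (mem_top b) a (mem_top a)⟩⟩
  have ne : A ≠ B := fun e => hAB (e ▸ ab A hA)
  have nF : ⁅(⊤ : Subgroup F), (⊤ : Subgroup F)⁆ ≠ ⊥ := fun h => by
    obtain ⟨f, -, e⟩ := he A hA B hB ne
    have := congrArg (map f) h
    rw [map_commutator, e, Subgroup.map_bot, commutator_eq_bot_iff_le_centralizer] at this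
    exact hAB ((le_sup_left.trans this).trans (centralizer_anti le_sup_right))
  have nc : ∀ A ∈ D, ∀ B ∈ D, A ≠ B → ¬ A ≤ centralizer (B : Set G) := fun A hA B hB h k => by
    obtain ⟨f, hf, e⟩ := he A hA B hB h
    refine nF ((map_eq_bot_iff_of_injective _ hf).1 ?_)
    rw [map_commutator, e, commutator_eq_bot_iff_le_centralizer, centralizer_sup]
    exact sup_le (le_inf (ab A hA) k) (le_inf (le_centralizer_iff.1 k) (ab B hB))
  have nn : ∀ A ∈ D, ∀ B ∈ D, A ≠ B → ¬ A ≤ normalizer (B : Set G) := fun A hA B hB h k =>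
    nc A hA B hB h (n2c hp (hc B hB) (pg A hA) k)
  have np : ¬ IsPGroup p ↥(A ⊔ B) := fun h => by
    have h1 : (A ⊔ B) ⊓ normalizer (A : Set G) < A ⊔ B := lt_of_le_of_ne inf_le_left fun e =>
      nn B hB A hA ne.symm (le_sup_right.trans (e.ge.trans inf_le_right))
    obtain ⟨g, g1, g2⟩ := SetLike.exists_of_lt (lt_inf_normalizer h h1)
    exact nn _ (hj A hA g) A hA (fun e => g2 ⟨g1.1, cj_eq_self_iff.1 e⟩)
      ((cj_le_of_le (le_inf le_sup_left le_normalizer) g1.2).trans inf_le_right)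
  obtain ⟨f, hf, e⟩ := he A hA B hB ne
  have : Group.IsSolvable ↥(A ⊔ B) := (hi A hA B hB ne).elim fun e =>
    Group.isSolvable_of_isSolvable_injective (f := e.toMonoidHom) e.injective
  have key : ∀ C ∈ D, C ≤ A ⊔ B → (∀ c ∈ C, ∀ l : ℕ, l.Prime →
      c ∈ centralizer ((pCore l ↥(A ⊔ B)).map (A ⊔ B).subtype : Set G)) ∨
      ∃ r a : ℕ, r.Prime ∧ r ≠ p ∧ Nat.card F ∣ p * r ^ a ∧
        IsPGroup r ↥⁅(⊤ : Subgroup F), (⊤ : Subgroup F)⁆ := fun C hC hL => by
    refine or_iff_not_imp_right.2 fun k c hc' l hl => ?_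
    have := Fact.mk hl
    have hQ := H2.isPGroup_map_pCore_subtype (p := l) (A ⊔ B)
    have hn := hL.trans (le_normalizer_map_subtype (pCore l ↥(A ⊔ B)))
    have hQL := map_subtype_le (pCore l ↥(A ⊔ B))
    generalize (pCore l ↥(A ⊔ B)).map (A ⊔ B).subtype = Q at hQ hn hQL
    by_cases h : Q ≤ normalizer (C : Set G)
    · refine le_centralizer_iff.1 ?_ hc'
      by_cases hlp : l = p
      · exact n2c hp (hc C hC) (hlp ▸ hQ) h
      · exact cop hp hl hlp (hc C hC) hQ h hn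
    obtain ⟨y, hy, y1⟩ := SetLike.not_le_iff_exists.1 h
    have y2 : C ≠ cj y C := fun e => y1 (cj_eq_self_iff.1 e.symm)
    have e1 : Q ⊔ C = A ⊔ B := eq_of_le_of_card_ge (sup_le hQL hL) (by
      rw [cd A hA B hB ne, ← cd C hC _ (hj C hC y) y2]
      exact card_le_of_le (sup_le le_sup_right (cj_le_of_le_of_mem le_sup_right (mem_sup_left hy))))
    refine absurd ⟨l, ?_⟩ k
    obtain ⟨a, ha⟩ := IsPGroup.iff_card.1 hQ
    refine ⟨a, hl, ?_, ?_, ?_⟩
    · rintro rfl
      exact np (e1 ▸ IsPGroup.to_sup_of_normal_left' hQ (pg C hC) hn)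
    · rw [← cd A hA B hB ne, ← e1, sup_comm, ← ha, ← hc C hC, ← H12.card_sup_mul_card_inf hn]
      exact dvd_mul_right _ _
    · refine isPGroup_of_map_injective hf ?_
      rw [map_commutator, e, ← e1]
      exact hQ.to_le (comm_le hn (ab C hC))
  obtain ⟨r, a, hr, rp, hd, hk⟩ : ∃ r a : ℕ, r.Prime ∧ r ≠ p ∧ Nat.card F ∣ p * r ^ a ∧
      IsPGroup r ↥⁅(⊤ : Subgroup F), (⊤ : Subgroup F)⁆ := by
    refine (key A hA le_sup_left).elim (fun h1 => (key B hB le_sup_right).resolve_left fun h2 => ?_) id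
    exact hAB fun a ha b hb => (fit (mem_sup_left ha) (mem_sup_right hb) (h1 a ha) (h2 b hb)).symm
  have := Fact.mk hr
  have syl : ∀ C ∈ D, ∀ L : Subgroup G, C ≤ L → Nat.card L = Nat.card F → IsSyl p C L := by
    refine fun C hC L hL e => isSyl_of_not_dvd_relIndex hL (pg C hC) fun h => ?_
    have h1 : Nat.card C * C.relIndex L = Nat.card L := by
      rw [relIndex, ← card_mul_index (C.subgroupOf L), Nat.card_congr (subgroupOfEquivOfLe hL).toEquiv]
    rw [← e, ← h1, hc C hC] at hd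
    exact rp ((Nat.prime_dvd_prime_iff_eq hp hr).1 (hp.dvd_of_dvd_pow
      (h.trans (Nat.dvd_of_mul_dvd_mul_left hp.pos hd)))).symm
  have cn : ∀ C ∈ D, A ≠ C → ∃ k ∈ A ⊔ C, cj k A = C := fun C hC h =>
    (syl A hA _ le_sup_left (cd A hA C hC h)).exists_cj_eq (syl C hC _ le_sup_right (cd A hA C hC h))
  have k0 : ∀ g, cj g A = A → kl A g = ⊥ := fun g h => by
    change ⁅A ⊔ cj g A, A ⊔ cj g A⁆ = ⊥
    rw [h, sup_idem, commutator_eq_bot_iff_le_centralizer]
    exact ab A hA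
  have k1 : ∀ g, cj g A ≠ A → ∃ f : F →* G, Function.Injective f ∧
      kl A g = ⁅(⊤ : Subgroup F), (⊤ : Subgroup F)⁆.map f := fun g h => by
    obtain ⟨f, hf, e⟩ := he A hA _ (hj A hA g) h.symm
    exact ⟨f, hf, by rw [map_commutator, e]; rfl⟩
  have cm : ∀ {X : Type v} [Group X] (f : X →* G) (K : Subgroup X), Function.Injective f →
      (IsMulCommutative (K.map f) ↔ IsMulCommutative K) := fun f K hf => by
    rw [← le_centralizer_iff_isMulCommutative, ← le_centralizer_iff_isMulCommutative,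
      ← commutator_eq_bot_iff_le_centralizer, ← commutator_eq_bot_iff_le_centralizer, ← map_commutator,
      map_eq_bot_iff_of_injective _ hf]
  refine ⟨r, A, ?_, ⟨⟨hp, p2, hr, rp, hc A hA, ?_, fun g => ?_, fun g => ?_⟩, fun g h g1 h1 => ?_⟩, ?_⟩
  · rintro rfl
    obtain ⟨n, hn⟩ := IsPGroup.iff_card.1 hk
    obtain _ | n := n
    · exact nF (card_eq_one.1 hn)
    · exact Nat.not_even_iff_odd.2 hF (even_iff_two_dvd.2
        ((dvd_pow_self 2 n.succ_ne_zero).trans (hn ▸ card_subgroup_dvd_card _)))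
  · refine top_le_iff.1 (hs.ge.trans (sSup_le fun C hC => ?_))
    by_cases h : A = C
    · exact h ▸ le_normalClosure
    · obtain ⟨k, -, rfl⟩ := cn C hC h
      rintro _ ⟨x, hx, rfl⟩
      exact normalClosure_normal.conj_mem x (le_normalClosure hx) k
  · by_cases h : cj g A = A
    · rw [k0 g h]; exact IsPGroup.of_bot
    · obtain ⟨f, -, e⟩ := k1 g h
      rw [e]; exact hk.map f
  · by_cases h : cj g A = A
    · exact h.le.trans le_sup_right
    · obtain ⟨k, k2, e⟩ := cn _ (hj A hA g) (Ne.symm h)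
      refine e.ge.trans ?_
      rintro _ ⟨x, hx, rfl⟩
      have : k * x * k⁻¹ * x⁻¹ * x ∈ kl A g ⊔ A :=
        mul_mem_sup (commutator_mem_commutator k2 (mem_sup_left hx)) hx
      simpa using this
  · exact (cd A hA _ (hj A hA g) g1.symm).trans (cd A hA _ (hj A hA h) h1.symm).symm
  · by_cases h : IsMulCommutative ↥⁅(⊤ : Subgroup F), (⊤ : Subgroup F)⁆
    · refine .inl fun g => ?_
      by_cases k : cj g A = A
      · rw [k0 g k]; infer_instance
      · obtain ⟨f, hf, e⟩ := k1 g k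
        rw [e]; exact (cm f _ hf).2 h
    · refine .inr fun g k => ?_
      obtain ⟨f, hf, e⟩ := k1 g k
      rw [e]; exact fun k => h ((cm f _ hf).1 k)

end H21.FSL
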