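import Cfsg.Agent.H82.FSSpec3

/-! Tower FS, job `JobPsi`: an element fixing two blocks centralises the derived group. -/

set_option autoImplicit false
set_option linter.all false

namespace H21.FSP

open Cfsg Subgroup H82.FS
open scoped commutatorElement

universe u

variable {G : Type u} [Group G]

theorem cnj {H : Subgroup G} {g x : G} (hg : g ∈ normalizer (H : Set G)) (hx : x ∈ H) :
    g * x * g⁻¹ ∈ H := (mem_normalizer_iff.1 hg x).1 hx

theorem cm_mul (e g : G) {h : G} (hh : ⁅e, h⁆ ∈ center G) : ⁅e, g * h⁆ = ⁅e, g⁆ * ⁅e, h⁆ := by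
  have := mem_center_iff.1 hh g
  calc ⁅e, g * h⁆ = ⁅e, g⁆ * (g * ⁅e, h⁆) * g⁻¹ := by simp only [commutatorElement_def]; group
    _ = _ := by rw [this]; group

theorem cm_pow {e g : G} (hg : ⁅e, g⁆ ∈ center G) (n : ℕ) : ⁅e, g ^ n⁆ = ⁅e, g⁆ ^ n := by
  induction n with
  | zero => simp
  | succ n ih => rw [pow_succ, cm_mul _ _ hg, ih, pow_succ]

theorem cm_pow' {e g : G} (hg : ⁅e, g⁆ ∈ center G) (n : ℕ) : ⁅e ^ n, g⁆ = ⁅e, g⁆ ^ n := by
  rw [← commutatorElement_inv, cm_pow (by rw [← commutatorElement_inv]; exact inv_mem hg),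
    ← inv_pow, commutatorElement_inv]

theorem cm_sq {e g : G} (hg : ⁅e, g⁆ ∈ center G) (h : g * g = 1) : ⁅e, g⁆ * ⁅e, g⁆ = 1 := by
  rw [← cm_mul _ _ hg, h, commutatorElement_one_right]

theorem odd_pow {x : G} (h : x * x = 1) {m : ℕ} (hm : Odd m) : x ^ m = x := by
  obtain ⟨j, rfl⟩ := hm
  rw [pow_succ, pow_mul, pow_two, h, one_pow, one_mul]

/-- A `2`-element fixes something modulo the centre. -/
theorem fix {V : Subgroup G} (c : ∀ x ∈ V, ∀ y ∈ V, x * y = y * x) (s : ∀ x ∈ V, x * x = 1) {e : G}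
    (he : e ∈ normalizer (V : Set G)) (k : ℕ) (h : ∃ v ∈ V, v ∉ center G ∧ ⁅e ^ 2 ^ k, v⁆ ∈ center G) :
    ∃ v ∈ V, v ∉ center G ∧ ⁅e, v⁆ ∈ center G := by
  induction k with
  | zero => simpa using h
  | succ k ih =>
    obtain ⟨v, hv, h1, h2⟩ := h
    refine ih ?_
    by_cases h3 : ⁅e ^ 2 ^ k, v⁆ ∈ center G
    · exact ⟨v, hv, h1, h3⟩
    rw [pow_succ, pow_mul, pow_two] at h2
    have hf := pow_mem he (2 ^ k)
    generalize e ^ 2 ^ k = f at *
    have a := inv_mem (cnj hf hv)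
    refine ⟨_, mul_mem (cnj hf hv) (inv_mem hv), h3, ?_⟩
    have : ⁅f, f * v * f⁻¹ * v⁻¹⁆ = ⁅f * f, v⁆ := by
      calc _ = f * f * v * (f * f)⁻¹ * ((f * v * f⁻¹)⁻¹ * v) * (f * v * f⁻¹)⁻¹ := by
            simp only [commutatorElement_def]; group
        _ = f * f * v * (f * f)⁻¹ * v⁻¹ * (v * v) * ((f * v * f⁻¹)⁻¹ * (f * v * f⁻¹)⁻¹) := by
            rw [c _ a _ hv]; group
        _ = _ := by rw [s _ hv, s _ a, mul_one, mul_one, commutatorElement_def]
    rwa [this]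

theorem inv_pow_w {a b : G} (ha : a * a = 1) (hb : b * b = 1) (j : ℕ) :
    a * (a * b) ^ j = ((a * b) ^ j)⁻¹ * a := by
  have : a * (a * b) * a⁻¹ = (a * b)⁻¹ := by
    rw [mul_inv_rev, inv_eq_of_mul_eq_one_right ha, inv_eq_of_mul_eq_one_right hb, ← mul_assoc, ha,
      one_mul]
  rw [← inv_pow, ← this, conj_pow]; group

/-- In a dihedral group `wᵐ a` is conjugate to `a` or `b`. -/
theorem dih {a b : G} (ha : a * a = 1) (hb : b * b = 1) (m : ℕ) : ∃ j : ℕ,
    (a * b) ^ m * a = (a * b) ^ j * a * ((a * b) ^ j)⁻¹ ∨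
    (a * b) ^ m * a = (a * b) ^ j * a * b * ((a * b) ^ j * a)⁻¹ := by
  have k : ∀ j : ℕ, (a * b) ^ j * a = a * ((a * b) ^ j)⁻¹ := fun j => by
    calc _ = (a * b) ^ j * (a * (a * b) ^ j) * ((a * b) ^ j)⁻¹ := by group
      _ = _ := by rw [inv_pow_w ha hb]; group
  obtain ⟨j, rfl | rfl⟩ := Nat.even_or_odd' m
  · exact ⟨j, .inl (by rw [two_mul, pow_add, mul_assoc _ _ a, mul_assoc _ a, k])⟩
  · refine ⟨j, .inr ?_⟩
    rw [show 2 * j + 1 = j + 1 + j by ring, pow_add, mul_assoc _ _ a, mul_inv_rev,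
      inv_eq_of_mul_eq_one_right ha, pow_succ, k j, ← k j, mul_assoc _ a b, k j]

variable [Finite G] {p : ℕ} {A X : Subgroup G}

theorem zc (h : Two p A X) {x y : G} (hx : x ∈ ⁅X, X⁆) (hy : y ∈ ⁅X, X⁆) : x * y = y * x :=
  (h.sol X h.sp).2.1 hy x (comm_le_left le_normalizer hx)

theorem z2 (h : Two p A X) {x : G} (hx : x ∈ ⁅X, X⁆) : x * x = 1 := by
  obtain ⟨-, c2, c3⟩ := h.sol X h.sp
  have hx' := hx
  rw [Subgroup.commutator_def] at hx'
  induction hx' using closure_induction with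
  | mem x hx' =>
    obtain ⟨a, ha, b, hb, rfl⟩ := hx'
    have e1 := c2 hx b hb
    have e2 := c2 (c3 b hb) a ha
    calc _ = ⁅a, b⁆ * (b * ⁅a, b⁆) * b⁻¹ := by rw [e1]; group
      _ = (a * b ^ 2) * a⁻¹ * (b ^ 2)⁻¹ := by simp only [commutatorElement_def, pow_two]; group
      _ = 1 := by rw [e2]; group
  | one => simp
  | mul x y hx' hy' ix iy =>
    calc _ = x * (y * x) * y := by group
      _ = x * x * (y * y) := by rw [zc h hy' hx']; group
      _ = 1 := by rw [ix hx', iy hy', one_mul]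
  | inv x hx' ix => rw [← mul_inv_rev, ix hx', inv_one]

theorem zA (h : Two p A X) : ⁅X, X⁆ ≤ centralizer (A : Set G) :=
  (h.sol X h.sp).1.le.trans inf_le_right

theorem zn (h : Two p A X) : ⁅X, X⁆ ≤ normalizer (X : Set G) :=
  (comm_le_left le_normalizer).trans le_normalizer

theorem cen_mk {x y : G} : ⁅x, y⁆ ∈ center G ↔
    Commute (QuotientGroup.mk' (center G) x) (QuotientGroup.mk' (center G) y) := by
  rw [← commutatorElement_eq_one_iff_commute, ← map_commutatorElement, QuotientGroup.mk'_apply,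
    QuotientGroup.eq_one_iff]

/-- Products of central involutions of two blocks have odd order modulo the centre. -/
theorem odd_ord (h : Two p A X) {c z y : G} (hc : c ∈ centralizer (A : Set G))
    (hn : c ∉ normalizer (X : Set G)) (hz : z ∈ ⁅X, X⁆) (hy : y ∈ ⁅X, X⁆) (z1 : z ∉ center G)
    (y1 : y ∉ center G) : ∃ n, Odd n ∧ (z * (c * y * c⁻¹)) ^ n ∈ center G := by
  set π := QuotientGroup.mk' (center G) with hπ
  have one : ∀ x, π x = 1 ↔ x ∈ center G := fun x => QuotientGroup.eq_one_iff x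
  have cN : center G ≤ normalizer (X : Set G) := center_le_normalizer _
  set z' := c * y * c⁻¹ with hz'
  have zz := z2 h hz
  have zz' : z' * z' = 1 := by
    calc _ = c * (y * y) * c⁻¹ := by rw [hz']; group
      _ = 1 := by rw [z2 h hy]; group
  have wA : z * z' ∈ centralizer (A : Set G) :=
    mul_mem (zA h hz) (mul_mem (mul_mem hc (zA h hy)) (inv_mem hc))
  by_contra hodd
  obtain ⟨m, hm⟩ : Even (orderOf (π (z * z'))) := by
    rw [← Nat.not_odd_iff_even]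
    exact fun ho => hodd ⟨_, ho, by rw [← one, map_pow, pow_orderOf_eq_one]⟩
  have hp := orderOf_pos (π (z * z'))
  set i := (z * z') ^ m with hi
  have i1 : i ∉ center G := by
    rw [← one, hi, map_pow]
    exact pow_ne_one_of_lt_orderOf (by omega) (by omega)
  have ii : (π i)⁻¹ = π i := inv_eq_of_mul_eq_one_right (by
    rw [hi, map_pow, ← pow_add, ← hm, pow_orderOf_eq_one])
  have cz : Commute (π i) (π z) := by
    have := congrArg π (inv_pow_w zz zz' m)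
    rw [map_mul, map_mul, map_inv, ii] at this
    exact this.symm
  have cw : Commute (π i) (π (z * z')) := by rw [hi, map_pow]; exact (Commute.refl _).pow_left m
  have cz' : Commute (π (c⁻¹ * i * c)) (π y) := by
    have := (cz.inv_right.mul_right cw).conj (π c)⁻¹
    simp only [hz', map_mul, map_inv] at this ⊢
    convert this using 1 <;> group
  have n1 := h.f1 z hz z1 i (cen_mk.2 cz)
  have n2 := h.f1 y hy y1 _ (cen_mk.2 cz')
  obtain ⟨g, hg, x, hx, x1, e⟩ : ∃ g ∈ centralizer (A : Set G), ∃ x ∈ ⁅X, X⁆, x ∉ center G ∧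
      i * z = g * x * g⁻¹ := by
    obtain ⟨j, e | e⟩ := dih zz zz' m
    · exact ⟨_, pow_mem wA j, z, hz, z1, e⟩
    · exact ⟨_, mul_mem (mul_mem (pow_mem wA j) (zA h hz)) hc, y, hy, y1, by
        rw [hi, e, hz']; group⟩
  have gn : g ∈ normalizer (X : Set G) := by
    by_contra g1
    exact x1 (h.za g hg g1 x hx (e ▸ mul_mem n1 (zn h hz)))
  have iZ : i ∈ ⁅X, X⁆ := by
    rw [eq_mul_inv_of_mul_eq e]
    exact mul_mem (cnj (le_norm_comm (zpowers_le.2 gn) (zpowers_le.2 gn) (mem_zpowers g)) hx)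
      (inv_mem hz)
  exact i1 (h.za c⁻¹ (inv_mem hc) (fun k => hn (inv_mem_iff.1 k)) i iZ (by rwa [inv_inv]))

theorem jobPsi : JobPsi.{u} := by
  intro G _ _ p A X h ⟨z1, h1, z2', h2, n1, n2, n3⟩ d hd _ hdz c hc hn hdc
  obtain ⟨k, m, hm, e⟩ := Nat.exists_eq_two_pow_mul_odd (orderOf_pos d).ne'
  have he : c⁻¹ * d ^ m * c ∈ normalizer (X : Set G) := by
    rw [← mem_cj, cj_norm]; exact pow_mem hdc m
  obtain ⟨y, hy, y1, hey⟩ := fix (fun _ hx _ hy => zc h hx hy) (fun _ hx => z2 h hx)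
    (le_norm_comm (zpowers_le.2 he) (zpowers_le.2 he) (mem_zpowers _)) k ⟨z1, h1, n1, by
      rw [show c⁻¹ * d ^ m * c = c⁻¹ * d ^ m * c⁻¹⁻¹ by rw [inv_inv], conj_pow, ← pow_mul, mul_comm m,
        ← e, pow_orderOf_eq_one]
      simp⟩
  have k1 : ⁅d ^ m, c * y * c⁻¹⁆ ∈ center G := by
    rw [show ⁅d ^ m, c * y * c⁻¹⁆ = c * ⁅c⁻¹ * d ^ m * c, y⁆ * c⁻¹ by
      simp only [commutatorElement_def]; group]
    exact (inferInstance : (center G).Normal).conj_mem _ hey c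
  have k2 : ∀ z ∈ ⁅X, X⁆, ⁅d ^ m, z⁆ = ⁅d, z⁆ := fun z hz => by
    rw [cm_pow' (hdz z hz), odd_pow (cm_sq (hdz z hz) (z2 h hz)) hm]
  have k3 := cm_sq k1 (by
    calc _ = c * (y * y) * c⁻¹ := by group
      _ = 1 := by rw [z2 h hy]; group)
  have key : ∀ z ∈ ⁅X, X⁆, z ∉ center G → ⁅d, z⁆ * ⁅d ^ m, c * y * c⁻¹⁆ = 1 := fun z hz z1 => by
    obtain ⟨n, hn', hw⟩ := odd_ord h hc hn hz hy z1 y1
    have e1 := cm_mul (d ^ m) z k1
    rw [k2 z hz] at e1
    have e2 := cm_pow (e1 ▸ mul_mem (hdz z hz) k1 : ⁅d ^ m, z * (c * y * c⁻¹)⁆ ∈ center G) n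
    rw [commutatorElement_eq_one_iff_mul_comm.2 (mem_center_iff.1 hw _), e1, odd_pow _ hn'] at e2
    · exact e2.symm
    · rw [mul_assoc, ← mul_assoc _ ⁅d, z⁆, mem_center_iff.1 (hdz z hz), mul_assoc, k3, mul_one,
        cm_sq (hdz z hz) (z2 h hz)]
  have k4 : ⁅d ^ m, c * y * c⁻¹⁆ = 1 := by
    have := key _ (mul_mem h1 h2) n3
    rw [cm_mul _ _ (hdz _ h2), mul_assoc, key _ h2 n2, mul_one] at this
    simpa [this] using key _ h1 n1
  intro z hz
  by_cases z1 : z ∈ center G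
  · exact mem_center_iff.1 z1 d
  · simpa [k4, commutatorElement_eq_one_iff_commute] using key z hz z1

end H21.FSP
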