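import Cfsg.Agent.H85.TWFin

/-! S3094, first Janko group: the field with eight elements and coordinates on `2³`. -/

set_option autoImplicit false
set_option linter.unusedSectionVars false

namespace H21.J1

open Cfsg Subgroup H14 H98 H1.Gold H31.S2 H85.TW

/-- The field with eight elements, `ω³ = ω + 1`. -/
def F8 : Type := ZMod 2 × ZMod 2 × ZMod 2

instance : DecidableEq F8 := inferInstanceAs (DecidableEq (ZMod 2 × ZMod 2 × ZMod 2))
instance : Fintype F8 := inferInstanceAs (Fintype (ZMod 2 × ZMod 2 × ZMod 2))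
instance : AddCommGroup F8 := inferInstanceAs (AddCommGroup (ZMod 2 × ZMod 2 × ZMod 2))

def F8.mul (x y : F8) : F8 :=
  (x.1 * y.1 + x.2.1 * y.2.2 + x.2.2 * y.2.1,
    x.1 * y.2.1 + x.2.1 * y.1 + x.2.1 * y.2.2 + x.2.2 * y.2.1 + x.2.2 * y.2.2,
    x.1 * y.2.2 + x.2.1 * y.2.1 + x.2.2 * y.1 + x.2.2 * y.2.2)

instance : Mul F8 := ⟨F8.mul⟩
instance : One F8 := ⟨((1, 0, 0) : ZMod 2 × ZMod 2 × ZMod 2)⟩

instance : CommRing F8 :=
  { (inferInstance : AddCommGroup F8) with
    mul_assoc := by decide +kernel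
    one_mul := by decide +kernel
    mul_one := by decide +kernel
    left_distrib := by decide +kernel
    right_distrib := by decide +kernel
    zero_mul := by decide +kernel
    mul_zero := by decide +kernel
    mul_comm := by decide +kernel }

instance : Field F8 :=
  { (inferInstance : CommRing F8) with
    inv := fun x => x * x * (x * x) * (x * x)
    exists_pair_ne := ⟨0, 1, by decide +kernel⟩
    mul_inv_cancel := by decide +kernel
    inv_zero := by decide +kernel
    nnqsmul := _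
    nnqsmul_def := fun _ _ => rfl
    qsmul := _
    qsmul_def := fun _ _ => rfl }

instance : CharP F8 2 := CharTwo.of_one_ne_zero_of_two_eq_zero one_ne_zero (by
  rw [← one_add_one_eq_two]; decide +kernel)

theorem card_F8 : Nat.card F8 = 8 := by rw [Nat.card_eq_fintype_card]; decide +kernel

def ω : F8 := ((0, 1, 0) : ZMod 2 × ZMod 2 × ZMod 2)

/-- The additive map with the given values on `1, ω, ω²`. -/
def l3 (p q r x : F8) : F8 :=
  (if x.1 = 1 then p else 0) + (if x.2.1 = 1 then q else 0) + (if x.2.2 = 1 then r else 0)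

theorem eq_l3 {f : F8 → F8} (h : ∀ x y, f (x + y) = f x + f y) (x : F8) :
    f x = l3 (f 1) (f ω) (f (ω * ω)) x := by
  have h0 : f 0 = 0 := by simpa using h 0 0
  have : ∀ x, x = l3 1 ω (ω * ω) x := by decide +kernel
  conv_lhs => rw [this x, l3, h, h, apply_ite f, apply_ite f, apply_ite f, h0]
  rfl

theorem sing_cases : ∀ y : F8, (∀ x, l3 ω (ω * ω) y x = x → x = 0) →
    (∀ x, l3 ω (ω * ω) y x = 0 → x = 0) → ∃ p q : F8, ∃ e ∈ [1, 3],
      (∀ x, l3 1 p q x = 0 → x = 0) ∧ (∀ z, ∃ x, l3 1 p q x = z) ∧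
      ∀ x, (l3 ω (ω * ω) y)^[e] (l3 1 p q x) = l3 1 p q (ω * x) := by decide +kernel

theorem l3_add : ∀ p q r x y : F8, l3 p q r (x + y) = l3 p q r x + l3 p q r y := by
  intro p q r
  have k : ∀ (p : F8) (a b : ZMod 2), (if a + b = 1 then p else 0) =
      (if a = 1 then p else 0) + (if b = 1 then p else 0) := by decide +kernel
  intro x y
  show (if x.1 + y.1 = 1 then p else 0) + (if x.2.1 + y.2.1 = 1 then q else 0) +
    (if x.2.2 + y.2.2 = 1 then r else 0) = _
  rw [k, k, k, l3, l3]; ring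

theorem semi_cases : ∀ p q r : F8, (∀ x, l3 p q r x = 0 → x = 0) →
    (∃ j ∈ [0, 1, 2], ∀ x, l3 p q r x = p * (fun y => y * y)^[j] x) ∨
      ∃ i ∈ List.range 7, (∀ x, (fun y => (fun z => ω * z)^[i] (l3 p q r y))^[4] x = x) ∧
        ∃ x, (fun z => ω * z)^[i] (l3 p q r x) ≠ x := by decide +kernel

theorem ω_gen : ∀ l : F8, l ≠ 0 → ∃ i ∈ List.range 7, ∀ x, (fun z => ω * z)^[i] x = l * x := by
  decide +kernel

variable {G : Type*} [Group G]

/-- Coordinates on `V`, semilinear for `M`. -/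
structure Cd (M V : Subgroup G) (ι : F8 → G) : Prop where
  add : ∀ x y, ι (x + y) = ι x * ι y
  inj : Function.Injective ι
  mem : ∀ v, v ∈ V ↔ ∃ x, ι x = v
  semi : ∀ g ∈ M, ∃ (l : F8) (σ : F8 ≃+* F8), ∀ x, g * ι x * g⁻¹ = ι (l * σ x)
  scal : ∀ l : F8, l ≠ 0 → ∃ g ∈ M, ∀ x, g * ι x * g⁻¹ = ι (l * x)

theorem iter_conj {ι : F8 → G} {g : G} {f : F8 → F8} (h : ∀ x, g * ι x * g⁻¹ = ι (f x)) (i : ℕ)
    (x : F8) : g ^ i * ι x * (g ^ i)⁻¹ = ι (f^[i] x) := by
  induction i generalizing x with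
  | zero => simp
  | succ i ih => rw [Function.iterate_succ_apply, ← ih, ← h, pow_succ]; group

theorem exists_l3 {V : Subgroup G} {ι : F8 → G} (add : ∀ x y, ι (x + y) = ι x * ι y)
    (inj : Function.Injective ι) (mem : ∀ v, v ∈ V ↔ ∃ x, ι x = v) {g : G} (hg : g ∈ nor V) :
    ∃ p q r, (∀ x, l3 p q r x = 0 → x = 0) ∧ ∀ x, g * ι x * g⁻¹ = ι (l3 p q r x) := by
  choose f hf using fun x => (mem _).1 ((mem_normalizer_iff.1 hg _).1 ((mem _).2 ⟨x, rfl⟩))
  have i0 : ι 0 = 1 := by simpa using add 0 0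
  have := eq_l3 (f := f) fun x y => inj (by rw [add, hf, hf, hf, add]; group)
  refine ⟨_, _, _, fun x e => inj ?_, fun x => by rw [← this, hf]⟩
  have h := hf x
  rw [this, e, i0] at h
  simpa [i0] using h.symm

theorem exists_cd [Finite G] {M V : Subgroup G} (h8 : Nat.card V = 8) (sq : ∀ v ∈ V, v * v = 1)
    (MV : M ≤ nor V) {d : G} (hd : d ∈ M) (hs : H24.Sing V d)
    (odd : ∀ g ∈ M, ∃ m, Odd m ∧ g ^ m ∈ cen V) : ∃ ι, Cd M V ι := by
  have cm : ∀ a ∈ V, ∀ b ∈ V, a * b = b * a := fun a ha b hb => H31.comm_of_sq sq ha hb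
  have dV : ∀ {v}, v ∈ V → d * v * d⁻¹ ∈ V := fun hv => (mem_normalizer_iff.1 (MV hd) _).1 hv
  have big : ∀ X : Set G, (V : Set G) ⊆ X → X.ncard ≤ 4 → False := fun X h1 h2 => by
    have := (Set.ncard_le_ncard h1).trans h2
    rw [show (V : Set G).ncard = 8 from h8] at this
    omega
  have inv : ∀ {a}, a ∈ V → a ≠ 1 → ∀ U : Subgroup G, a ∈ U → (∀ u ∈ U, d * u * d⁻¹ ∈ U) → V ≤ U :=
    fun {a} ha a1 U aU hU b hb => by
      by_cases b1 : b = 1
      · exact b1 ▸ one_mem U
      obtain ⟨k, rfl⟩ := hs a ha b hb a1 b1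
      clear hb b1
      induction k with
      | zero => simpa using aU
      | succ k ih => convert hU _ ih using 1; rw [pow_succ']; group
  have four : ∀ a ∈ V, ∀ b ∈ V, ¬ V ≤ closure {a, b} := fun a ha b hb h =>
    big {1, a, b, a * b} (fun x hx => (H86.mem_closure_four (sq a ha) (sq b hb) (cm a ha b hb) x).1
      (h hx)) ((Set.ncard_insert_le _ _).trans (Nat.succ_le_succ ((Set.ncard_insert_le _ _).trans
        (Nat.succ_le_succ ((Set.ncard_insert_le _ _).trans (by simp))))))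
  have := Finite.one_lt_card_iff_nontrivial.1 (by omega : 1 < Nat.card V)
  obtain ⟨⟨a, ha⟩, a1⟩ := exists_ne (1 : V)
  replace a1 : a ≠ 1 := fun e => a1 (Subtype.ext e)
  have hb := dV ha
  have hc := dV hb
  generalize eb : d * a * d⁻¹ = b at hb hc
  generalize ec : d * b * d⁻¹ = c at hc
  have nc : c ∉ closure {a, b} := fun h => four a ha b hb (inv ha a1 _ (subset_closure (by simp))
    fun u hu => by
      have bU : b ∈ closure ({a, b} : Set G) := subset_closure (by simp)
      rcases (H86.mem_closure_four (sq a ha) (sq b hb) (cm a ha b hb) u).1 hu with e | e | e | e <;>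
        rw [e]
      · simp
      · exact eb ▸ bU
      · exact ec ▸ h
      · rw [← conj_mul, eb, ec]; exact mul_mem bU h)
  have pa : ∀ a ∈ V, ∀ r s : ZMod 2, a ^ (r + s).val = a ^ r.val * a ^ s.val := fun a ha r s => by
    rw [← pow_add, ZMod.val_add, ← pow_eq_pow_mod _ (by rw [pow_two, sq a ha])]
  let ι : F8 → G := fun x => a ^ x.1.val * b ^ x.2.1.val * c ^ x.2.2.val
  have add : ∀ x y, ι (x + y) = ι x * ι y := fun x y => by
    show a ^ (x.1 + y.1).val * b ^ (x.2.1 + y.2.1).val * c ^ (x.2.2 + y.2.2).val = _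
    rw [pa a ha, pa b hb, pa c hc]
    simp only [ι, mul_assoc]
    rw [mul_right_inj, ← mul_assoc (c ^ _), cm _ (pow_mem hc _) _ (pow_mem ha _),
      ← mul_assoc (a ^ _), cm _ (pow_mem ha _) _ (pow_mem hb _), mul_assoc, mul_right_inj, mul_assoc,
      mul_right_inj, ← mul_assoc, ← mul_assoc, cm _ (pow_mem hc _) _ (pow_mem hb _)]
  have i0 : ι 0 = 1 := by simpa using add 0 0
  have i1 : ι 1 = a := by show a ^ 1 * b ^ 0 * c ^ 0 = a; simp
  have i2 : ι ω = b := by show a ^ 0 * b ^ 1 * c ^ 0 = b; simp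
  have i3 : ι (ω * ω) = c := by
    show a ^ 0 * b ^ 0 * c ^ 1 = c; simp
  have ker : ∀ x, ι x = 1 → x = 0 := by
    rintro ⟨x, y, z⟩ e
    have z0 : z = 0 := by
      by_contra z0
      obtain rfl : z = 1 := by revert z0; clear e; revert z; decide
      refine nc ?_
      rw [eq_inv_of_mul_eq_one_right (show a ^ x.val * b ^ y.val * c = 1 by simpa [ι, ZMod.val_one] using e)]
      exact inv_mem (mul_mem (pow_mem (subset_closure (by simp)) _) (pow_mem (subset_closure (by simp)) _))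
    subst z0
    have y0 : y = 0 := by
      by_contra y0
      obtain rfl : y = 1 := by revert y0; clear e; revert y; decide
      have : b ∈ zpowers a := by
        rw [eq_inv_of_mul_eq_one_right (show a ^ x.val * b = 1 by simpa [ι, ZMod.val_one] using e)]
        exact inv_mem (pow_mem (mem_zpowers a) _)
      refine nc ?_
      obtain ⟨i, hi⟩ := this
      have : c = b ^ i := by rw [← ec, ← show a ^ i = b from hi, ← conj_zpow, eb, show a ^ i = b from hi]
      exact this ▸ zpow_mem (subset_closure (by simp)) _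
    subst y0
    by_contra x0
    obtain rfl : x = 1 := by
      have : x ≠ 0 := fun e => x0 (by rw [e]; rfl)
      revert this; clear e x0; revert x; decide
    exact a1 (by simpa [ι, ZMod.val_one] using e)
  have inj : Function.Injective ι := fun x y e => CharTwo.add_eq_zero.1 (ker _ (by
    rw [add, e, ← add, CharTwo.add_self_eq_zero, i0]))
  have mem : ∀ v, v ∈ V ↔ ∃ x, ι x = v := fun v => by
    have hm : ∀ x, ι x ∈ V := fun x => mul_mem (mul_mem (pow_mem ha _) (pow_mem hb _)) (pow_mem hc _)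
    refine ⟨fun hv => ?_, fun ⟨x, e⟩ => e ▸ hm x⟩
    obtain ⟨x, e⟩ := ((Function.Injective.bijective_of_nat_card_le (f := fun x => (⟨ι x, hm x⟩ : V))
      (fun x y e => inj (congrArg Subtype.val e)) (by rw [h8, card_F8]))).2 ⟨v, hv⟩
    exact ⟨x, congrArg Subtype.val e⟩
  obtain ⟨p, q, y, h1, h2⟩ := exists_l3 add inj mem (MV hd)
  obtain rfl : p = ω := inj (by
    rw [show p = l3 p q y 1 by simp [l3, show (1 : F8) = (1, 0, 0) from rfl], ← h2, i1, i2, eb])
  obtain rfl : q = ω * ω := inj (by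
    rw [show q = l3 ω q y ω by simp [l3, ω], ← h2, i2, i3, ec])
  obtain ⟨p, q, e, -, k1, k2, k3⟩ := sing_cases y (fun x e => by_contra fun x0 => by
    have hx := (mem _).2 ⟨x, rfl⟩
    refine four _ hx _ hx (inv hx (fun e => x0 (ker x e)) _ (subset_closure (by simp)) fun u hu => ?_)
    rw [Set.pair_eq_singleton, ← zpowers_eq_closure] at hu ⊢
    obtain ⟨i, rfl⟩ := hu
    rw [← conj_zpow, h2, e]
    exact ⟨i, rfl⟩) h1
  let κ : F8 → G := fun x => ι (l3 1 p q x)
  have add' : ∀ x y, κ (x + y) = κ x * κ y := fun x y => by simp only [κ, l3_add, add]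
  have inj' : Function.Injective κ := fun x y e => CharTwo.add_eq_zero.1 (k1 _ (by
    rw [l3_add, inj e, CharTwo.add_self_eq_zero]))
  have mem' : ∀ v, v ∈ V ↔ ∃ x, κ x = v := fun v => (mem v).trans
    ⟨fun ⟨z, e⟩ => let ⟨x, e'⟩ := k2 z; ⟨x, by rw [← e, ← e']⟩, fun ⟨x, e⟩ => ⟨_, e⟩⟩
  have hω : ∀ x, d ^ e * κ x * (d ^ e)⁻¹ = κ (ω * x) := fun x => by rw [iter_conj h2, k3]
  refine ⟨κ, add', inj', mem', fun g hg => ?_, fun l hl => ?_⟩
  · obtain ⟨p, q, r, h3, h4⟩ := exists_l3 add' inj' mem' (MV hg)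
    rcases semi_cases p q r h3 with ⟨j, -, h5⟩ | ⟨i, -, h5, x, h6⟩
    · refine ⟨p, frobeniusEquiv F8 2 ^ j, fun x => ?_⟩
      rw [h4, h5]
      congr 2
      clear h5
      induction j with
      | zero => rfl
      | succ j ih => rw [Function.iterate_succ_apply', ih, pow_succ']; exact (pow_two _).symm
    · exfalso
      have h7 : ∀ x, (d ^ e) ^ i * g * κ x * ((d ^ e) ^ i * g)⁻¹ =
          κ ((fun z => ω * z)^[i] (l3 p q r x)) := fun x => by
        rw [← iter_conj hω, ← h4]; group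
      obtain ⟨_, ⟨m, rfl⟩, hm⟩ := odd _ (mul_mem (pow_mem (pow_mem hd e) i) hg)
      generalize (d ^ e) ^ i * g = n at h7 hm
      have h8 : n ^ 4 ∈ cen V := mem_cen_iff.2 fun v hv => by
        obtain ⟨x, rfl⟩ := (mem' v).1 hv
        exact mul_inv_eq_iff_eq_mul.1 (by rw [iter_conj h7, h5])
      have h9 : n ∈ cen V := by
        have := pow_mem hm (2 * m + 1)
        rw [← pow_mul, show (2 * m + 1) * (2 * m + 1) = 4 * (m * m + m) + 1 by ring, pow_succ,
          pow_mul] at this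
        exact (mul_mem_cancel_left (pow_mem h8 _)).1 this
      exact h6 (inj' (by rw [← h7, mem_cen_iff.1 h9 _ ((mem' _).2 ⟨x, rfl⟩), mul_inv_cancel_right]))
  · obtain ⟨i, -, hi⟩ := ω_gen l hl
    exact ⟨_, pow_mem (pow_mem hd e) i, fun x => by rw [iter_conj hω, hi]⟩

end H21.J1
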