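import Cfsg.Agent.H21.J1A
import Cfsg.Agent.H11.Wr0
import Cfsg.Agent.H24.J1Ord
import Cfsg.Agent.H74.J1M
import Cfsg.Agent.S2065

/-! S3094, first Janko group: facts on `J₁` and the reduction to `C(t) = ⟨t⟩ × O × J₁`. -/

set_option autoImplicit false
set_option linter.unusedSectionVars false

namespace H21.J1

open Subgroup Cfsg H98 H14 H1.Gold H11.Wr
open H99.Wr hiding mem_cen1
open H85.TW (E2)
open scoped commutatorElement

universe u

variable {G : Type u} [Group G] [Finite G] {A : Subgroup G}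

open H24 H10.W in
theorem jr_of_card [IsSimpleGroup G] (h : Nat.card G = 175560) : IsJR G := by
  have hG : ¬ IsMulCommutative G := H87.nonabelian_of_card_not_prime (by rw [h]; norm_num)
  obtain ⟨S⟩ : Nonempty (Sylow 2 G) := inferInstance
  have key : ∀ q c : ℕ, (q + 1) * (q * c) = 175560 → q - 1 ≤ 2 * c → q < 80 := fun q c h1 h2 => by
    by_contra e
    have : 80 * (80 * 30) ≤ (q + 1) * (q * c) :=
      Nat.mul_le_mul (by omega) (Nat.mul_le_mul (by omega) (by omega))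
    omega
  rcases cases_of_eight hG S (H87.card_sylow_eq S (a := 3) (m := 21945) h (by decide)) with
    h2 | ⟨q, h1, -, hL⟩ | ⟨⟨e⟩⟩
  · rcases walterA G hG h2 with ⟨n, hn, hL⟩ | ⟨q, hq, h8, hL⟩ | hJ
    · have h1 := (L2.facts hL).1
      have h3 : 2 ^ n ∣ 2 ^ 3 := (Nat.Coprime.pow_left n (by decide)).dvd_of_dvd_mul_right
        (show _ ∣ 2 ^ 3 * 21945 from
          (h1 ▸ (dvd_mul_right _ _).mul_left _ : _ ∣ Nat.card G).trans h.dvd)
      rw [Nat.pow_dvd_pow_iff_le_right one_lt_two] at h3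
      rw [h] at h1
      interval_cases n <;> simp at h1
    · exact absurd (by rw [h]; decide) ((L2.not_eight_dvd_iff hL (Nat.odd_iff.2 (by omega))).2 h8)
    · exact hJ
  · have h2 := (L2.facts hL).1
    obtain ⟨k, rfl⟩ := h1
    rw [h, Nat.add_sub_cancel, Nat.gcd_eq_left (dvd_mul_right 2 k),
      Nat.mul_div_cancel_left _ two_pos] at h2
    have := key _ _ h2.symm (by omega)
    have : k < 40 := by omega
    interval_cases k <;> simp at h2
  · rw [Nat.card_congr e.toEquiv, nat_card_alternatingGroup] at h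
    simp [Nat.factorial] at h

/-- The facts on `J₁`. -/
structure JF (A : Subgroup G) : Prop where
  card : Nat.card A = 175560
  sq : ∀ a ∈ A, E2 a → a * a = 1
  gen : ∀ x ∈ A, ∀ y ∈ A, orderOf x = 2 → orderOf y = 2 → x ≠ y →
    ∀ M : Subgroup G, A ⊓ cen1 x ≤ M → A ⊓ cen1 y ≤ M → A ≤ M
  ns : ∀ x ∈ A, orderOf x = 2 → ∃ P ≤ A ⊓ cen1 x, ⁅P, P⁆ = P ∧ P ≠ ⊥
  co : ∃ V ι, IsSyl 2 V A ∧ Cd (A ⊓ nor V) V ι

open H24 H10.W in
theorem jf_of [IsSimpleGroup A] (h : Nat.card A = 175560) : JF A := by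
  obtain ⟨t, E, L, q, hJ⟩ := jr_of_card h
  have f := jobJR' A t E L q hJ
  have o2 : ∀ {x} (hx : x ∈ A), orderOf x = 2 → orderOf (⟨x, hx⟩ : A) = 2 := fun hx o => by
    rw [← o]; exact (orderOf_coe _).symm
  have pf : ∀ {x : A} {E L : Subgroup A}, JR x E L q → ⁅L, L⁆ = L ∧ L ≠ ⊥ := fun {x E L} j => by
    have := (JR.facts j).simple
    have := quasi_of_simple (JR.facts j).nonab
    exact ⟨quasi_sub_perfect this, fun e => quasi_sub_commutator_ne_bot this (by
      rw [quasi_sub_perfect this, e])⟩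
  refine ⟨h, fun a ha ⟨k, hk⟩ => ?_, fun x hx y hy ox oy xy M h1 h2 => ?_, fun x hx ox => ?_, ?_⟩
  · have hk' : (⟨a, ha⟩ : A) ^ 2 ^ k = 1 := Subtype.ext hk
    obtain ⟨S, hS⟩ := IsPGroup.exists_le_sylow (isPGroup_zpowers hk')
    exact congrArg Subtype.val ((pow_two _).symm.trans ((f.card_sylow S).2 _ (hS (mem_zpowers _))))
  · obtain ⟨E1, L1, j1⟩ := JR.all hJ (o2 hx ox)
    obtain ⟨E2, L2, j2⟩ := JR.all hJ (o2 hy oy)
    have sub : ∀ {z} (hz : z ∈ A), A ⊓ cen1 z ≤ M → cen1 (⟨z, hz⟩ : A) ≤ M.subgroupOf A :=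
      fun hz h c hc => h ⟨c.2, mem_cen1.2 (congrArg Subtype.val (mem_cen1.1 hc))⟩
    rcases (JR.maximal j1 f.noSE).le_iff.1 (sub hx h1) with e | e
    · exact subgroupOf_eq_top.1 e
    have h3 := (sub hy h2).trans e.le
    have p2 := H24.JR.pjr j2
    rcases p2.eq_of_cent (g := ⟨x, hx⟩) (mem_cen1.2 (mem_cen1.1 (h3 (mem_cen1.2 rfl))).symm)
      (fun l hl => mem_cen1.1 (h3 (p2.E_le (p2.le hl)))) with e | e
    · exact absurd (congrArg Subtype.val e) (ne_one_of_two ox)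
    · exact absurd (congrArg Subtype.val e) xy
  · obtain ⟨E1, L1, j1⟩ := JR.all hJ (o2 hx ox)
    refine ⟨L1.map A.subtype, ?_, by rw [← map_commutator, (pf j1).1], fun e => (pf j1).2
      ((map_eq_bot_iff_of_injective _ A.subtype_injective).1 e)⟩
    rintro _ ⟨l, hl, rfl⟩
    exact ⟨l.2, mem_cen1.2 (congrArg Subtype.val ((H24.JR.pjr j1).comm (j1.le hl)))⟩
  · let S : Sylow 2 A := default
    have hS : IsSyl 2 ((S : Subgroup A).map A.subtype) A := by
      have := (isSyl_sylow S).map A.subtype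
      rwa [← MonoidHom.range_eq_map, range_subtype] at this
    have sq : ∀ v ∈ (S : Subgroup A).map A.subtype, v * v = 1 := by
      rintro _ ⟨s, hs, rfl⟩
      exact congrArg Subtype.val ((pow_two _).symm.trans ((f.card_sylow S).2 s hs))
    obtain ⟨c, hc, _, _, j⟩ := JR.at_sylow hJ S
    obtain ⟨d, hd, hs⟩ := (H24.JR.pjr j).singer hc
    obtain ⟨ι, hι⟩ := exists_cd (M := A ⊓ H1.Gold.nor ((S : Subgroup A).map A.subtype)) (d := d)
      (by rw [card_map_of_injective A.subtype_injective, (f.card_sylow S).1]) sq inf_le_right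
      ⟨d.2, mem_normalizer_fintype (by
        rintro _ ⟨s, hs, rfl⟩
        exact ⟨_, (mem_normalizer_iff.1 hd s).1 hs, rfl⟩)⟩ (by
        rintro _ ⟨a, ha, rfl⟩ _ ⟨b, hb, rfl⟩ a1 b1
        obtain ⟨k, hk⟩ := hs a ha b hb (fun e => a1 (e ▸ rfl)) fun e => b1 (e ▸ rfl)
        exact ⟨k, congrArg Subtype.val hk⟩) fun g hg => by
        obtain ⟨k, m, hm, e⟩ := Nat.exists_eq_pow_mul_and_not_dvd (orderOf_pos g).ne' 2 (by decide)
        refine ⟨m, Nat.odd_iff.2 (by omega), fun v hv => H31.comm_of_sq sq hv ?_⟩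
        exact hS.le_of_le_normalizer' (isPGroup_zpowers (k := k) (by
          rw [← pow_mul, mul_comm, ← e, pow_orderOf_eq_one])) (zpowers_le.2 (pow_mem hg.1 m))
          (zpowers_le.2 (pow_mem hg.2 m)) (mem_zpowers _)
    exact ⟨_, ι, hS, hι⟩

theorem not_le_se {F : Subgroup G} [IsSimpleGroup F] (f : JF A) (AF : A ≤ F) {M : Subgroup F}
    (hM : IsStronglyEmbedded M) : False := by
  have hs : Group.IsSolvable M := H99.se_isSolvable H82.hub hM (H99.se_twoRank_of_simple hM)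
  obtain ⟨y, hy, hy2⟩ := exists_involution_mem (H := A) (by rw [f.card]; decide)
  obtain ⟨P, hP, pf, p1⟩ := f.ns y hy hy2
  obtain ⟨t, ht, ht2⟩ := H88.se_exists_involution hM
  obtain ⟨g, hg⟩ := isConj_iff.1 (H88.se_isConj hM (a := ⟨y, AF hy⟩)
    (by rw [← hy2]; exact (orderOf_coe _).symm) ht2)
  have h1 : cj (g : G) P ≤ M.map F.subtype := by
    rintro _ ⟨c, hc, rfl⟩
    have hc' := hP hc
    refine ⟨g * ⟨c, AF hc'.1⟩ * g⁻¹, H88.se_centralizer_le hM ht ht2 (mem_cen1.2 ?_), rfl⟩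
    rw [← hg, conj_mul, conj_mul]
    exact congrArg (fun x => g * x * g⁻¹) (Subtype.ext (mem_cen1.1 hc'.2))
  exact p1 (cj_eq_bot_iff.1 (eq_bot_of_perfect_of_le_solvable (L := cj (g : G) P)
    (by rw [← cj_commutator, pf]) h1
    (Group.isSolvable_of_surjective (f := F.subtype.subgroupMap M)
      (MonoidHom.subgroupMap_surjective _ _))))

theorem exists_even' (hA : AS G) (hL : IsStandardSubgroup A) (f : JF A) :
    ∃ g ∉ nor (cen A), Even (Nat.card ↥(cj g (cen A) ⊓ nor (cen A))) := by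
  by_contra h
  push Not at h
  have hLF := (std_le_layer hL (as_oddCore hA)).trans layer_le_fstar
  rcases Cfsg.Agent.S3121.result hA.1 hA.2 _ hL.2.1
    (fun g hg => Nat.not_even_iff_odd.1 (h g hg)) with hn | ⟨M, hM⟩
  · have h1 := hA.le_of_nor (X := cen A) (fun e => by
      have := hL.2.1.1
      rw [show centralizer (A : Set G) = ⊥ from e, card_bot] at this
      exact absurd this (by decide)) (le_top.trans (normalizer_eq_top _).ge)
    exact quasi_sub_commutator_ne_bot hL.1 (commutator_eq_bot_iff_le_centralizer.2 (hLF.trans h1))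
  · have := hA.1
    exact not_le_se f hLF hM

theorem exists_t (hA : AS G) (hL : IsStandardSubgroup A) (hZ : A ⊓ cen A = ⊥)
    (hN : ∀ g ∈ nor A, ∃ k ∈ cen A, ∃ l ∈ A, g = k * l) (f : JF A) :
    ∃ t : G, orderOf t = 2 ∧ IsSyl 2 (zpowers t) (cen A) := by
  obtain ⟨g, hg, he⟩ := exists_even' hA hL f
  have hZ' : Odd (Nat.card ↥(A ⊓ cen A)) := by rw [hZ, card_bot]; exact odd_one
  have hK := hL.2.1
  have hNK : nor A = nor (cen A) := hL.2.2.2
  have hK' := te_cj hK g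
  obtain ⟨T, hT⟩ := exists_isSyl 2 (cj g (cen A) ⊓ nor (cen A))
  have hT1 : T ≠ ⊥ := fun e => hT.not_dvd_relIndex (by
    rw [e, relIndex_bot_left]; exact even_iff_two_dvd.1 he)
  obtain ⟨S, hS, hTS⟩ := exists_isSyl_le hT.isPGroup (le_sup_right : T ≤ cen A ⊔ T)
  obtain ⟨s1, s2, -, ⟨φ⟩⟩ := te_structure hK hg hT1 hT hS hTS
  have hc0 := Nat.card_congr φ.toEquiv
  obtain ⟨s, hs, os, -⟩ := exists_central_involution hT.isPGroup hT1
  obtain ⟨t, ht, ot⟩ := H88.exists_involution_of_isPGroup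
    (hS.isPGroup.to_le (inf_le_left.trans inf_le_left : S ⊓ nor T ⊓ cen A ≤ S)) fun e =>
      hT1 (card_eq_one.1 (by rw [← hc0, e, card_bot]))
  have dec : ∀ τ ∈ T, τ ≠ 1 → orderOf τ = 2 ∧ ∃ k ∈ cen A, ∃ x ∈ A, τ = k * x ∧ k * k = 1 ∧
      orderOf x = 2 ∧ A ⊓ cen1 x ≤ nor (cj g (cen A)) := fun τ hτ τ1 => by
    obtain ⟨e, he⟩ := isPGroup_iff_forall.1 hT.isPGroup τ hτ
    obtain ⟨k, hk, x, hx, rfl, hb⟩ := dec_p hN (hNK ▸ (hT.le hτ).2) Nat.prime_two he
    have xx := f.sq x hx hb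
    have e1 : k * x * (k * x) = k * k := by
      calc _ = k * (x * k) * x := by group
        _ = k * k * (x * x) := by rw [mem_cen.1 hk x hx]; group
        _ = _ := by rw [xx, mul_one]
    have e2 : k * k = 1 := mem_bot.1 (s1 ▸ mem_inf.2 ⟨e1 ▸ mul_mem hτ hτ, mul_mem hk hk⟩)
    have o := orderOf_two_of_mul_self (e1.trans e2) τ1
    refine ⟨o, k, hk, x, hx, rfl, e2, orderOf_two_of_mul_self xx fun e => τ1 (mem_bot.1
      (s1 ▸ mem_inf.2 ⟨hτ, by rw [e, mul_one]; exact hk⟩)), fun c hc =>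
      te_centralizer_le hK' o (hT.le hτ).1 (mem_cen1.2 ?_)⟩
    rw [← mul_assoc, mem_cen.1 hk c hc.1, mul_assoc, mem_cen1.1 hc.2, mul_assoc]
  obtain ⟨-, k, hk, x, hx, es, kk, ox, cx⟩ := dec s hs (ne_one_of_two os)
  have hTs : T = zpowers s := by
    refine le_antisymm (fun τ hτ => (mem_zpowers_two os).2 (or_iff_not_imp_left.2 fun τ1 => ?_))
      (zpowers_le.2 hs)
    obtain ⟨-, k', hk', y, hy, rfl, -, oy, cy⟩ := dec τ hτ τ1
    by_cases xy : x = y
    · have : k' * y * s⁻¹ ∈ T ⊓ cen A := mem_inf.2 ⟨mul_mem hτ (inv_mem hs), by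
        rw [es, xy, mul_inv_rev, mul_assoc, mul_inv_cancel_left]; exact mul_mem hk' (inv_mem hk)⟩
      rw [s1] at this
      exact mul_inv_eq_one.1 this
    exfalso
    have h2 := f.gen x hx y hy ox oy xy _ cx cy
    rcases quasi_sub_normalized hL.1 h2 with h3 | h3
    · rw [cj_centralizer] at h3
      exact hL.2.2.1 g (fun e => hg (hNK ▸ cj_eq_self_iff.1 e))
        (commutator_eq_bot_iff_le_centralizer.2 h3)
    · refine ne_one_of_two os (mem_bot.1 (s1 ▸ mem_inf.2 ⟨hs, mem_cen.2 fun a ha => ?_⟩))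
      have h4 : a * s * a⁻¹ * s⁻¹ ∈ cj g (cen A) ⊓ A := mem_inf.2
        ⟨mul_mem (conj_mem_of_mem_normalizer (h2 ha) (hT.le hs).1) (inv_mem (hT.le hs).1), by
          rw [mul_assoc, mul_assoc, ← mul_assoc s]
          exact mul_mem ha (conj_mem_of_mem_normalizer (hNK.ge (hT.le hs).2) (inv_mem ha))⟩
      have h5 : a * s * a⁻¹ * s⁻¹ ∈ A ⊓ cen A :=
        mem_inf.2 ⟨h4.2, commutator_eq_bot_iff_le_centralizer.1 h3 h4⟩
      rw [hZ, mem_bot, mul_inv_eq_one, mul_inv_eq_iff_eq_mul] at h5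
      exact h5
  have hT0 : S ⊓ nor T ⊓ cen A = zpowers t := (eq_of_le_of_card_ge (zpowers_le.2 ht) (by
    rw [hc0, hTs, Nat.card_zpowers, Nat.card_zpowers, os, ot])).symm
  have hSK : S ≤ nor (cen A) := hS.le.trans (sup_le le_normalizer (hT.le.trans inf_le_right))
  have hR := hS.inf_of_le_normalizer le_sup_left hSK
  have hkR : k ∈ S ⊓ cen A := by
    refine zpowers_le.1 (hR.le_of_le_normalizer' (isPGroup_zpowers (k := 1)
      (by rw [pow_one, pow_two, kk])) (zpowers_le.2 hk) (zpowers_le.2 ?_))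
    rw [eq_mul_inv_of_mul_eq es.symm]
    exact mul_mem (inf_normalizer_le_normalizer_inf ⟨le_normalizer (hTS hs), hSK (hTS hs)⟩)
      (inv_mem (centralizer_le_normalizer _ (mem_cen.2 fun w hw => (mem_cen.1 hw.2 x hx).symm)))
  have hCR : ∀ r ∈ S ⊓ cen A, r * k = k * r → r ∈ zpowers t := fun r hr h => by
    rw [← hT0]
    refine ⟨⟨hr.1, centralizer_le_normalizer _ ?_⟩, hr.2⟩
    rw [hTs]
    refine (cen1_eq s).le (mem_cen1.2 ?_)
    rw [es, ← mul_assoc, h, mul_assoc, ← mem_cen.1 hr.2 x hx, mul_assoc]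
  have hk2 := (mem_zpowers_two ot).1 (hCR k hkR rfl)
  have htR : t ∈ S ⊓ cen A := ⟨ht.1.1, ht.2⟩
  have hRt : S ⊓ cen A = zpowers t := by
    refine le_antisymm (fun r hr => hCR r hr ?_) (zpowers_le.2 htR)
    rcases hk2 with e | e
    · rw [e, mul_one, one_mul]
    · obtain ⟨z, hz, oz, hc⟩ := exists_central_involution hR.isPGroup fun e' =>
        ne_one_of_two ot (mem_bot.1 (e' ▸ htR))
      rcases (mem_zpowers_two ot).1 (hCR z hz (mem_cen.1 hc k hkR).symm) with e' | e'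
      · exact absurd e' (ne_one_of_two oz)
      · rw [e, ← e']; exact mem_cen.1 hc r hr
  exact ⟨t, ot, hRt ▸ hR⟩

end H21.J1
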