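import Cfsg.Agent.H21.J1A
import Cfsg.Agent.H35.TW2
import Cfsg.Agent.H51.TW3

/-! S3094, first Janko group: the three cases of the tower, and the Sylow subgroup in the
exceptional case (after `H35.TW.jobTop`, `H51.TW.jobExc`). -/

set_option autoImplicit false
set_option linter.unusedSectionVars false

namespace H21.J1

open Cfsg Subgroup H14 H98 H1.Gold H31.S2 H85.TW H66.Aff H51.TW
open H35.TW hiding exists_third

variable {G : Type*} [Group G] [Finite G] {F : Type} [Field F] [Finite F] [CharP F 2]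
  {t : G} {V W : Subgroup G} {ι : F → G} {k : ℕ} {c : G → F}

theorem syl_trans {Ω : Type*} [MulAction G Ω] [MulAction.IsPretransitive G Ω] [Finite Ω] {p : ℕ}
    (hc : Nat.card Ω = 2 ^ p) {R : Subgroup G} (hR : IsSyl 2 R ⊤) (a x : Ω) : ∃ r ∈ R, r • a = x := by
  have h1 := index_dvd_of_le (inf_le_left : MulAction.stabilizer G a ⊓ R ≤ _)
  rw [MulAction.index_stabilizer_of_transitive, hc, ← relIndex_mul_index inf_le_right,
    inf_relIndex_right] at h1
  have h2 := (Nat.Coprime.pow_left p ((Nat.Prime.coprime_iff_not_dvd Nat.prime_two).2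
    (relIndex_top_right R ▸ hR.not_dvd_relIndex))).dvd_of_dvd_mul_right h1
  rw [show (MulAction.stabilizer G a).relIndex R = (MulAction.stabilizer R a).index from rfl,
    MulAction.index_stabilizer, ← hc] at h2
  have h3 := Set.eq_of_subset_of_ncard_le (Set.subset_univ (MulAction.orbit R a)) (by
    rw [Set.ncard_univ]
    exact Nat.le_of_dvd ((Set.ncard_pos (Set.toFinite _)).2 ⟨a, MulAction.mem_orbit_self a⟩) h2)
  obtain ⟨r, hr⟩ := h3.ge (Set.mem_univ x)
  exact ⟨r, r.2, hr⟩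

theorem tri (h : Hy t V ι) : (∃ W k c, Cand t V ι W ∧ Top t V ι W k c W (W ⊔ zpowers t)) ∨
    (∃ W k c Y P, Mid t V ι W k c Y P) ∨ ∃ W k c, Exc t V ι W k c := by
  obtain ⟨W, -, hw⟩ := Finite.exists_le_maximal (cand_V h)
  obtain ⟨k, c, w⟩ := hw.1.tw h
  by_cases H : ∀ g ∈ NN t W h.tt, c (dl t g) = 0
  · exact .inl ⟨_, _, _, hw.1, top_Q h w H⟩
  have sc : ∀ l : F, l ≠ 0 → ∃ g ∈ NN t W h.tt, c (dl t g) = 0 ∧ ∀ x, lin ι g x = l * x :=
    fun l hl => by
      obtain ⟨g, g1, g2, g3⟩ := hw.1.sc l hl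
      exact ⟨g, ⟨g1, dl_of_comm h.tt g2 ▸ one_mem _⟩, by rw [dl_of_comm h.tt g2, w.c_one h.toCo],
        fun x => h.lin_eq (g3 x)⟩
  have tr : ∀ x, ∃ g ∈ NN t W h.tt, c (dl t g) = x := fun x => by
    rcases eq_or_ne x 0 with rfl | hx
    · exact ⟨1, one_mem _, by rw [dl_of_comm h.tt (by simp), w.c_one h.toCo]⟩
    push Not at H
    obtain ⟨g, hg, e⟩ := H
    obtain ⟨a, ha, a1, a2⟩ := sc (x / c (dl t g)) (div_ne_zero hx e)
    exact ⟨a * g, mul_mem ha hg, by
      rw [w.c_dl_mul h.toCo h.tt ha hg, a1, a2, zero_add, div_mul_cancel₀ _ e]⟩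
  have l0 : ∀ g, lin ι g 0 = 0 := fun g => h.lin_eq (by simp [h.zero])
  let := w.act h.toCo h.tt
  have sm : ∀ (g : NN t W h.tt) (x : F), g • x = lin ι g x + c (dl t g) := fun _ _ => rfl
  rcases H66.Aff.jobAff (NN t W h.tt) F h.four (fun g x y => by
      simp only [sm, h.lin_add (w.nor_le h.toCo g.2.1), l0]; ring)
    (fun x => let ⟨g, hg, e⟩ := tr x; ⟨⟨g, hg⟩, by rw [sm, l0, zero_add, e]⟩) (fun g e => by
      rw [sm, l0, zero_add] at e
      obtain ⟨u, hu, e'⟩ := w.stab h.toCo h.tt g.2.2 e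
      have h1 := w.nor_le h.toCo (le_normalizer hu)
      have h2 := w.nor_le h.toCo g.2.1
      obtain ⟨l, σ, e2⟩ := h.semi _ (mul_mem h1 h2) e'
      exact ⟨l, σ, fun x => by
        rw [sm, e, add_zero, ← h.lin_eq (e2 x), h.lin_mul h1 h2, h.lin_cen (w.le_cen hu)]⟩)
    (fun l hl => let ⟨g, hg, e1, e2⟩ := sc l hl; ⟨⟨g, hg⟩, fun x => by rw [sm, e1, e2, add_zero]⟩)
    with hT | ⟨p, p1, p2, p3, nt, -⟩
  · obtain ⟨Y, P, m⟩ := exists_mid h w (fun x => by
      obtain ⟨g, e⟩ := hT x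
      have e0 := e 0
      rw [sm, l0, zero_add, zero_add] at e0
      exact ⟨g, ⟨g.2, h.cen_of_lin (w.nor_le h.toCo g.2.1) fun y => by
        simpa [sm, e0] using e y⟩, e0⟩) hw
    exact .inr (.inl ⟨_, _, _, _, _, m⟩)
  · exact .inr <| .inr ⟨W, k, c, w, fun x => let ⟨g, hg, e⟩ := tr x; ⟨g, hg.1, hg.2, e⟩,
      fun g g1 g2 g3 => nt ⟨g, g1, g2⟩ _ fun x => by rw [sm, h.lin_cen g3], hw.1.sc, p, p1, p2, p3⟩

theorem exc_syl (h : Hy t V ι) (hT : IsSyl 2 (V ⊔ zpowers t) (cen1 t)) (e : Exc t V ι W k c) :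
    (∀ a ∈ W, IsConj t (t * a)) ∧ ∃ R, IsSyl 2 R ⊤ ∧ W ⊔ zpowers t ≤ R ∧ R ≤ NN t W h.tt ∧
      (∀ r ∈ R, c (dl t r) = 0 → r ∈ W ⊔ zpowers t) ∧ ∀ x, ∃ r ∈ R, c (dl t r) = x := by
  have tt := h.tt
  have co := h.toCo
  have w := e.toTw
  obtain ⟨p, hp, p2, hc⟩ := e.big
  set N := NN t W tt with hN
  set Q := W ⊔ zpowers t with hQ
  let _ : MulAction N F := w.act co tt
  let f := MulAction.toPermHom N F
  have hf : ∀ (g : N) x, f g x = lin ι g x + c (dl t g) := fun _ _ => rfl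
  have NV : ∀ g : N, g.1 ∈ nor V := fun g => w.nor_le co g.2.1
  have lin0 : ∀ g, lin ι g 0 = 0 := fun g => co.lin_eq (by simp [co.zero])
  have f0 : ∀ g : N, f g 0 = c (dl t g) := fun g => by rw [hf, lin0, zero_add]
  have tN : t ∈ N := ⟨w.t_nor, dl_of_comm tt rfl ▸ one_mem W⟩
  have tQ : t ∈ Q := mem_sup_right (mem_zpowers t)
  have QN : Q ≤ N := sup_le (fun a ha => w.mem_NN tt ha) (zpowers_le.2 tN)
  have t2 : IsPGroup 2 (zpowers t) := isPGroup_zpowers (k := 1) (by rw [pow_one, pow_two, tt])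
  have Q2 : IsPGroup 2 Q := by
    rw [hQ, sup_comm]
    exact isPGroup_sup_of_le_normalizer t2 w.two (zpowers_le.2 w.t_nor)
  have NQ : N ≤ nor Q := fun g hg => mem_normalizer_fintype fun x hx => by
    rcases (w.mem_Q tt).1 hx with hx | hx
    · exact mem_sup_left ((mem_normalizer_iff.1 hg.1 x).1 hx)
    · rw [show g * x * g⁻¹ = (g * t * g⁻¹)⁻¹ * (g * (t * x) * g⁻¹) by group, conj_t_eq tt]
      exact mul_mem (inv_mem (mul_mem tQ (mem_sup_left hg.2)))
        (mem_sup_left ((mem_normalizer_iff.1 hg.1 _).1 hx))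
  have triv : ∀ g : N, g.1 ∈ Q → f g = 1 := fun g hg => Equiv.ext fun x => by
    have fW : ∀ g : N, g.1 ∈ W → f g = 1 := fun g hg => Equiv.ext fun x => by
      rw [hf, co.lin_cen (w.le_cen hg), w.dl_W tt hg, w.c_sq co (inv_mem hg), add_zero]; rfl
    have ft : f ⟨t, tN⟩ = 1 := Equiv.ext fun x => by
      rw [hf, co.lin_cen h.cen, dl_of_comm tt rfl, w.c_one co, add_zero]; rfl
    rcases (w.mem_Q tt).1 hg with hg | hg
    · rw [fW g hg]
    · have := fW (⟨t, tN⟩ * g) hg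
      rw [map_mul, ft, one_mul] at this
      rw [this]
  have TQ : V ⊔ zpowers t ≤ Q := sup_le_sup_right w.le _
  have fix : ∀ g : N, E2 g.1 → f g 0 = 0 → g.1 ∈ Q := fun g ⟨j, hj⟩ h0 => by
    obtain ⟨u, hu, ut⟩ := w.stab co tt g.2.2 (by rw [← f0, h0])
    have P2 := isPGroup_sup_of_le_normalizer (isPGroup_zpowers hj) w.two (zpowers_le.2 g.2.1)
    obtain ⟨i, hi⟩ := isPGroup_iff_forall.1 P2 _
      (mul_mem (mem_sup_right hu) (mem_sup_left (mem_zpowers g.1)))
    have uC : u * g ∈ cen1 t := mem_centralizer_singleton_iff.2 ut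
    have uV : u * g ∈ nor V := mul_mem (w.nor_le co (le_normalizer hu)) (NV g)
    have := hT.le_of_le_normalizer' (isPGroup_zpowers hi) (zpowers_le.2 uC) (zpowers_le.2 (by
      rw [← cj_eq_self_iff, cj_sup, cj_eq_self uV, cj, MonoidHom.map_zpowers]
      change V ⊔ zpowers (u * g * t * (u * g)⁻¹) = _
      rw [ut, mul_inv_cancel_right]))
    exact (Q.mul_mem_cancel_left (mem_sup_left hu)).1 (TQ (this (mem_zpowers _)))
  have ah : AH f.range :=
    { aff := by
        rintro _ ⟨g, rfl⟩ x y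
        rw [f0, hf, hf, hf, co.lin_add (NV g)]
        linear_combination (-c (dl t g)) * CharTwo.two_eq_zero (R := F)
      trans := fun x => by
        obtain ⟨g, g1, g2, g3⟩ := e.tr x
        exact ⟨_, ⟨⟨g, g1, g2⟩, rfl⟩, (f0 _).trans g3⟩
      stab := by
        rintro _ ⟨g, rfl⟩ h0
        rw [f0] at h0
        obtain ⟨u, hu, ut⟩ := w.stab co tt g.2.2 h0
        have uV := w.nor_le co (le_normalizer hu)
        obtain ⟨l, σ, hσ⟩ := co.semi _ (mul_mem uV (NV g)) ut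
        refine ⟨l, σ, fun x => ?_⟩
        rw [hf, h0, add_zero, ← co.lin_eq (hσ x), co.lin_mul uV (NV g), co.lin_cen (w.le_cen hu)]
      mul := fun l hl => by
        obtain ⟨g, g1, g2, g3⟩ := e.sc l hl
        have gN : g ∈ N := ⟨g1, dl_of_comm tt g2 ▸ one_mem W⟩
        refine ⟨_, ⟨⟨g, gN⟩, rfl⟩, fun x => ?_⟩
        rw [hf, dl_of_comm tt g2, w.c_one co, add_zero]
        exact co.lin_eq (g3 x) }
  have hnt : ∀ g ∈ f.range, ∀ c, (∀ x, g x = x + c) → c = 0 := by
    rintro _ ⟨g, rfl⟩ d hd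
    have h1 : c (dl t g) = d := by rw [← f0, hd, zero_add]
    rw [← h1]
    exact e.nt g g.2.1 g.2.2 (co.cen_of_lin (NV g) fun x => by
      have := hd x
      rwa [hf, h1, add_left_inj] at this)
  obtain ⟨-, P2⟩ := AH_facts ah hnt hp p2 hc
  let π := f.rangeRestrict
  have π1 : ∀ g : N, E2 g.1 → π g = 1 → g.1 ∈ Q := fun g g2 hg => fix g g2 (by
    rw [show f g = 1 from congrArg Subtype.val hg]; rfl)
  have π2 : ∀ g : N, g.1 ∈ Q → π g = 1 := fun g hg => Subtype.ext (triv g hg)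
  have tW : ∀ a ∈ W, IsConj t (t * a) := fun a ha => by
    obtain ⟨g, -, g2, g3⟩ := e.tr (c a)
    obtain ⟨u, -, hu⟩ := w.conj_of_c co tt g2 ha g3
    exact isConj_iff.2 ⟨u * g, by rw [← hu, ← conj_t_eq tt]; group⟩
  have nsq : ∀ x : G, t * (x * x) ∉ W := fun x hx => by
    have := tW _ hx
    rw [← mul_assoc, tt, one_mul] at this
    obtain ⟨g, hg⟩ := isConj_iff.1 this.symm
    exact h.nsq (g * x * g⁻¹) (by rw [conj_mul, hg])
  have elQ : ∀ x ∈ Q, x ∈ cen1 t → x * x = 1 := fun x hx xt => by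
    rcases (w.mem_Q tt).1 hx with hx | hx
    · have := w.inv x hx
      rw [← mem_centralizer_singleton_iff.1 xt, mul_inv_cancel_right] at this
      exact mul_eq_one_iff_eq_inv.2 this
    · have := w.sq_t tt hx
      rwa [← mul_assoc t t, tt, one_mul] at this
  have DQ : ∀ s ∈ N, IsConj t s → s ∈ Q := fun s sN hs => by
    by_contra sQ
    obtain ⟨g, hg⟩ := isConj_iff.1 hs
    have ss : s * s = 1 := by rw [← hg, conj_mul, tt]; simp
    have s2 : E2 s := ⟨1, by rw [pow_one, pow_two, ss]⟩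
    have hS : IsSyl 2 (cj g (V ⊔ zpowers t)) (cen1 s) := by
      have := hT.cj g
      rwa [show cj g (cen1 t) = cen1 s from Subgroup.ext fun x => by
        rw [mem_cj, mem_centralizer_singleton_iff, mem_centralizer_singleton_iff, ← hg]
        constructor
        · intro h1
          calc x * (g * t * g⁻¹) = g * (g⁻¹ * x * g * t) * g⁻¹ := by group
            _ = _ := by rw [h1]; group
        · intro h1
          calc g⁻¹ * x * g * t = g⁻¹ * (x * (g * t * g⁻¹)) * g := by group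
            _ = _ := by rw [h1]; group] at this
    have nc : s ∉ cen V := fun h1 => sQ (fix ⟨s, sN⟩ s2 ((f0 _).trans (e.nt s sN.1 sN.2 h1)))
    rcases Nat.eq_zero_or_pos k with rfl | k0
    · have WV : W ≤ V := fun a ha => by
        have := w.pow a ha
        rw [pow_zero, pow_one] at this
        exact this ▸ co.ι_mem _
      have QT : Q = V ⊔ zpowers t := le_antisymm (sup_le_sup_right WV _) TQ
      obtain ⟨X, X2, Xs, hX⟩ := P2 (π ⟨s, sN⟩) (H85.ord2_iff.2 ⟨by
        rw [← map_mul, show (⟨s, sN⟩ : N) * ⟨s, sN⟩ = 1 from Subtype.ext ss, map_one],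
        fun h1 => sQ (π1 _ s2 h1)⟩)
      obtain ⟨R, hR, sR⟩ := exists_isSyl_le (Q := zpowers (⟨s, sN⟩ : N))
        (H := (cen1 (π ⟨s, sN⟩)).comap π) (isPGroup_zpowers (p := 2) (k := 1) (Subtype.ext (by
          simp [pow_two, ss]))) (zpowers_le.2 (mem_centralizer_singleton_iff.2 rfl))
      replace sR := sR (mem_zpowers _)
      have h1 := hR.map π
      rw [map_comap_eq_self_of_surjective f.rangeRestrict_surjective] at h1
      have h2 := hX.trans (h1.card_le X2 Xs)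
      have QR : Q.subgroupOf N ≤ R := hR.le_of_le_normalizer (Q2.comap_subtype)
        (fun x hx => mem_comap.2 (by rw [π2 x hx]; exact one_mem _))
        (fun x _ => mem_normalizer_fintype fun y hy => (mem_normalizer_iff.1 (NQ x.2) y.1).1 hy)
      have h3 : Nat.card Q ≤ Nat.card (π.ker ⊓ R : Subgroup N) := by
        rw [← Nat.card_congr (subgroupOfEquivOfLe QN).toEquiv]
        exact card_le_of_le (le_inf (fun x hx => π2 x hx) QR)
      have h4 := H46.card_mul_relIndex (inf_le_right : π.ker ⊓ R ≤ R)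
      rw [inf_relIndex_right, relIndex_ker] at h4
      have h5 := card_le_of_conj (R := R.map N.subtype) (X := V ⊓ cen1 s) (s := s) (by
        rintro _ ⟨r, hr, rfl⟩
        have rR : r * ⟨s, sN⟩ * r⁻¹ * ⟨s, sN⟩ ∈ R := mul_mem (mul_mem (mul_mem hr sR) (inv_mem hr)) sR
        obtain ⟨i, hi⟩ := isPGroup_iff_forall.1 hR.isPGroup _ rR
        have eQ := π1 _ ⟨i, congrArg Subtype.val hi⟩ (by
          rw [map_mul, map_mul, map_mul, map_inv, mem_centralizer_singleton_iff.1 (hR.le hr),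
            mul_inv_cancel_right, ← map_mul, show (⟨s, sN⟩ : N) * ⟨s, sN⟩ = 1 from Subtype.ext ss,
            map_one])
        change r.1 * s * r.1⁻¹ * s ∈ Q at eQ
        change r.1 * s * r.1⁻¹ * s ∈ V ⊓ cen1 s
        have ee := elQ _ eQ (hT.le (QT ▸ eQ))
        have es : r.1 * s * r.1⁻¹ * s * s = s * (r.1 * s * r.1⁻¹ * s) := by
          have uu : r.1 * s * r.1⁻¹ * (r.1 * s * r.1⁻¹) = 1 := by rw [conj_mul, ss]; simp
          generalize r.1 * s * r.1⁻¹ = u at ee uu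
          have := inv_eq_of_mul_eq_one_right ee
          rw [mul_inv_rev, inv_eq_of_mul_eq_one_right ss, inv_eq_of_mul_eq_one_right uu] at this
          rw [← mul_assoc, this]
        generalize r.1 * s * r.1⁻¹ * s = y at eQ es
        refine ⟨WV (((w.mem_Q tt).1 eQ).resolve_right fun hy => sQ ?_),
          mem_centralizer_singleton_iff.2 es⟩
        obtain ⟨a, a1, a2, a3⟩ := e.tr (c (t * y))
        have fx : f ⟨s, sN⟩ (c (t * y)) = c (t * y) := by
          rw [hf, ← w.c_conj co sN.1 hy, add_comm, ← w.c_mul co sN.2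
            ((mem_normalizer_iff.1 sN.1 _).1 hy)]
          refine congrArg c ?_
          change t * (s * t * s⁻¹) * (s * (t * y) * s⁻¹) = t * y
          calc t * (s * t * s⁻¹) * (s * (t * y) * s⁻¹) = t * s * (t * t) * y * s⁻¹ := by group
            _ = t * y := by rw [tt, mul_one, mul_assoc t, ← es]; group
        have := fix ((⟨a, a1, a2⟩ : N)⁻¹ * ⟨s, sN⟩ * ⟨a, a1, a2⟩) ⟨1, by
          change (a⁻¹ * s * a) ^ 2 ^ 1 = 1
          rw [pow_one, pow_two, show a⁻¹ * s * a * (a⁻¹ * s * a) = a⁻¹ * (s * s) * a by group, ss]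
          simp⟩ (by
          rw [map_mul, map_mul, map_inv, Equiv.Perm.mul_apply, Equiv.Perm.mul_apply, f0, a3, fx,
            Equiv.Perm.inv_eq_iff_eq, f0, a3])
        exact (mem_normalizer_iff''.1 (NQ ⟨a1, a2⟩) s).2 this)
      have h6 := hS.card_le ((hR.isPGroup.map N.subtype).to_inf_left (K := cen1 s)) inf_le_right
      rw [card_cj, ← QT] at h6
      rw [card_map_of_injective N.subtype_injective, ← h4] at h5
      have h7 : Nat.card V = Nat.card F := (Nat.card_congr (Equiv.ofBijective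
        (fun x => (⟨ι x, co.ι_mem x⟩ : V)) ⟨fun x y e => co.inj (congrArg Subtype.val e),
          fun v => ((co.mem v.1).1 v.2).imp fun x hx => Subtype.ext hx⟩)).symm
      have h8 : Nat.card V ≤ Nat.card (V ⊓ cen1 s : Subgroup G) := by
        refine Nat.le_of_mul_le_mul_right ?_ (Nat.card_pos (α := Q))
        rw [h7, mul_comm]
        exact (Nat.mul_le_mul h3 h2).trans (h5.trans (Nat.mul_le_mul_left _ h6))
      have h9 := Subgroup.eq_of_le_of_card_ge (inf_le_left : V ⊓ cen1 s ≤ V) h8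
      exact nc (le_cen1_iff.1 (h9 ▸ inf_le_right))
    · refine nc (co.cen_of_lin (NV ⟨s, sN⟩) fun x => ?_)
      obtain ⟨a, ha, rfl⟩ := w.surj x
      have sa := (mem_normalizer_iff.1 sN.1 a).1 ha
      have hy : a * (s * a * s⁻¹) ∈ cen1 s := mem_centralizer_singleton_iff.2 (by
        refine (mul_inv_eq_iff_eq_mul.1 ?_).symm
        rw [show s * (a * (s * a * s⁻¹)) * s⁻¹ = s * a * s⁻¹ * (s * s * a * (s * s)⁻¹) by group, ss,
          w.comm a ha _ sa]
        simp)
      obtain ⟨i, hi⟩ := isPGroup_iff_forall.1 w.two _ (mul_mem ha sa)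
      obtain ⟨b, -, hb⟩ := hS.exists_cj_le (isPGroup_zpowers hi) (zpowers_le.2 hy)
      have h1 := mem_cj.1 (hb (conj_mem_cj (mem_zpowers _)))
      have h2 := elQ _ (TQ h1) (hT.le h1)
      have h3 : a * (s * a * s⁻¹) * (a * (s * a * s⁻¹)) = 1 := by
        generalize a * (s * a * s⁻¹) = y at h2
        calc y * y = (g⁻¹ * b)⁻¹ * (g⁻¹ * (b * y * b⁻¹) * g * (g⁻¹ * (b * y * b⁻¹) * g)) *
            (g⁻¹ * b) := by group
          _ = 1 := by rw [h2]; group
      have h4 := w.pow _ (mul_mem ha sa)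
      rw [← Nat.sub_add_cancel k0, pow_succ', pow_mul, pow_two, h3, one_pow, co.eq_one,
        w.c_mul co ha sa, w.c_conj co sN.1 ha] at h4
      exact (CharTwo.add_eq_zero.1 h4).symm
  obtain ⟨R, hR, QR⟩ := exists_isSyl_le Q2 QN
  have RG : IsSyl 2 R ⊤ := isSyl_of_isSyl_normalizer (hR.of_le (le_inf le_top le_normalizer)
    fun g hg => w.nor_Q h (mem_normalizer_fintype fun x hx => by
      have key : ∀ a ∈ W, g * (t * a) * g⁻¹ ∈ Q := fun a ha => DQ _
        (hR.le ((mem_normalizer_iff.1 hg.2 _).1 (QR (mul_mem tQ (mem_sup_left ha)))))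
        ((tW a ha).trans (isConj_iff.2 ⟨g, rfl⟩))
      rcases (w.mem_Q tt).1 hx with hx | hx
      · rw [show g * x * g⁻¹ = (g * (t * 1) * g⁻¹)⁻¹ * (g * (t * x) * g⁻¹) by group]
        exact mul_mem (inv_mem (key 1 (one_mem W))) (key x hx)
      · have := key _ hx
        rwa [← mul_assoc t t, tt, one_mul] at this))
  refine ⟨tW, R, RG, QR, hR.le, fun r hr e => fix ⟨r, hR.le hr⟩ (isPGroup_iff_forall.1 hR.isPGroup r hr)
    ((f0 _).trans e), fun x => ?_⟩
  have : MulAction.IsPretransitive N F := ⟨fun x y => by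
    obtain ⟨_, ⟨a, rfl⟩, a0⟩ := ah.trans x
    obtain ⟨_, ⟨b, rfl⟩, b0⟩ := ah.trans y
    exact ⟨b * a⁻¹, by rw [← a0, ← b0, mul_smul]; exact congrArg _ (inv_smul_smul a 0)⟩⟩
  obtain ⟨r, hr, e⟩ := syl_trans hc hR.subgroupOf_top (0 : F) x
  exact ⟨r, hr, (f0 r).symm.trans e⟩

end H21.J1
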