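import Cfsg.Agent.H21.J1D

/-! S3094, first Janko group: the 2-group `W . D₈`. -/

set_option autoImplicit false
set_option linter.unusedSectionVars false

namespace H21.J1

open Cfsg Subgroup H14 H98 H1.Gold H31.S2 H85.TW
open scoped commutatorElement

theorem no16 {M : Type*} [AddCommGroup M] (ι : F8 →+ M) (inj : Function.Injective ι)
    (om : ∀ m, m + m = 0 → ∃ x, ι x = m) (e₁ e₂ : M →+ M) {α₁ α₂ ν : F8} {w₁ w₂ u : M}
    (h₁ : w₁ + w₁ = ι α₁) (h₂ : w₂ + w₂ = ι α₂) (hu : u + u = ι ν) (i₁ : e₁ w₁ = -w₁)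
    (i₂ : e₂ w₂ = -w₂) (co : w₁ + e₁ w₂ = w₂ + e₂ w₁) (s₁ : ∀ m, e₁ (e₁ m) = m)
    (s₂ : ∀ m, e₂ (e₂ m) = m) (cm : ∀ m, e₁ (e₂ m) = e₂ (e₁ m)) (f₁ : e₁ (ι α₂) = ι α₂)
    (f₂ : e₂ (ι α₁) = ι α₁) (n₁ : e₁ (ι ν) = ι (ν + α₂)) (n₂ : e₂ (ι ν) = ι (ν + (α₁ + α₂)))
    (di : ∀ x, (e₁ (ι x) = ι x ∧ e₂ (ι x) = ι x) ∨
      (e₁ (ι x) = ι (x + α₂) ∧ e₂ (ι x) = ι (x + (α₁ + α₂))))
    (a₁ : α₁ ≠ 0) (a₂ : α₂ ≠ 0) (a₃ : α₁ ≠ α₂) : False := by
  have z : ∀ x, ι x + ι x = 0 := fun x => by rw [← map_add, CharTwo.add_self_eq_zero, map_zero]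
  obtain ⟨p, hp⟩ := om (e₁ w₂ - w₂) (by
    rw [sub_add_sub_comm, ← map_add, h₂, f₁, sub_self])
  obtain ⟨q, hq⟩ := om (e₂ w₁ - w₁) (by
    rw [sub_add_sub_comm, ← map_add, h₁, f₂, sub_self])
  obtain ⟨v, hv⟩ := om (e₁ u - (u + w₂)) (by
    rw [sub_add_sub_comm, ← map_add, add_add_add_comm, hu, h₂, n₁, map_add, sub_self])
  obtain ⟨v', hv'⟩ := om (e₂ u - (u + (w₁ + w₂))) (by
    rw [sub_add_sub_comm, ← map_add, add_add_add_comm, add_add_add_comm w₁, hu, h₁, h₂, n₂, map_add,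
      map_add, sub_self])
  rw [eq_sub_iff_add_eq] at hp hq hv hv'
  have r₀ : ι p = ι q := by linear_combination (norm := abel_nf) hp - hq + co
  have r₁ : ι (v + p + α₂) + e₁ (ι v) = 0 := by
    have := s₁ u
    rw [← hv, map_add, map_add, ← hv, ← hp] at this
    simp only [map_add]
    linear_combination (norm := abel_nf) this - h₂
  have r₂ : ι (v' + q + α₁) + e₂ (ι v') = 0 := by
    have := s₂ u
    rw [← hv', map_add, map_add, map_add, ← hv', ← hq, i₂] at this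
    simp only [map_add]
    linear_combination (norm := abel_nf) this - h₁
  have r₃ : ι (v + p + α₂ + α₁ + v') + e₁ (ι v') + e₂ (ι v) = 0 := by
    have := cm u
    rw [← hv, ← hv', map_add, map_add, map_add, map_add, map_add, ← hv, ← hv', ← hp, i₁, i₂] at this
    simp only [map_add]
    have z2 : e₂ (ι v) + e₂ (ι v) = 0 := by rw [← map_add, z, map_zero]
    linear_combination (norm := abel_nf) this - h₂ + h₁ + z α₁ + z v' + z2
  obtain rfl := inj r₀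
  rw [← map_zero ι] at r₁ r₂ r₃
  rcases di v with ⟨b₁, b₂⟩ | ⟨b₁, b₂⟩ <;> rcases di v' with ⟨b₃, b₄⟩ | ⟨b₃, b₄⟩ <;>
    rw [b₁, ← map_add] at r₁ <;> rw [b₄, ← map_add] at r₂ <;>
    rw [b₂, b₃, ← map_add, ← map_add] at r₃ <;> replace r₁ := inj r₁ <;> replace r₂ := inj r₂ <;>
    replace r₃ := inj r₃
  all_goals have two : (2 : F8) = 0 := CharTwo.two_eq_zero
  · exact a₃ (by linear_combination r₂ - r₁ + (v - v') * two)
  · exact a₃ (by linear_combination r₃ - r₁ - (v' + α₂) * two)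
  · exact a₁ (by linear_combination r₂ - r₁ + (v + α₂ - v') * two)
  · exact a₂ (by linear_combination r₂ - r₁ + (v + α₂ - v' - α₁) * two)

variable {G : Type*} [Group G] [Finite G] {t : G} {V W R : Subgroup G} {ι : F8 → G} {k : ℕ}
  {c : G → F8} {a b : G}

theorem card_coord {B K : Subgroup G} (KB : K ≤ B) {β : G → F8} (sj : ∀ x, ∃ b ∈ B, β b = x)
    (h : ∀ a ∈ B, ∀ b ∈ B, β a = β b ↔ a⁻¹ * b ∈ K) : Nat.card B = 8 * Nat.card K := by
  rw [← H46.card_mul_relIndex KB, mul_comm, ← card_F8]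
  refine congrArg (· * _) (Nat.card_eq_of_bijective (fun x => β x.out.1) ⟨fun x y e => ?_, fun x => ?_⟩)
  · rw [← x.out_eq, ← y.out_eq]
    exact QuotientGroup.eq.2 ((h _ x.out.2 _ y.out.2).1 e)
  · obtain ⟨b, hb, rfl⟩ := sj x
    exact ⟨(⟨b, hb⟩ : B), (h _ (Subtype.prop _) _ hb).2 
      (mem_subgroupOf.1 (QuotientGroup.eq.1 (Quotient.out_eq' ((⟨b, hb⟩ : B) : B ⧸ K.subgroupOf B))))⟩

/-- `R / W` is regular on `t W / W²`, without translations. -/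
structure RD (t : G) (V : Subgroup G) (ι : F8 → G) (W : Subgroup G) (k : ℕ) (c : G → F8)
    (R : Subgroup G) : Prop extends Tw t V ι W k c where
  WR : W ≤ R
  nn : ∀ r ∈ R, r ∈ nor W ∧ dl t r ∈ W
  kerR : ∀ r ∈ R, c (dl t r) = 0 → r ∈ W
  onto : ∀ x, ∃ r ∈ R, c (dl t r) = x
  nt : ∀ r ∈ R, r ∈ cen V → r ∈ W
  twoR : IsPGroup 2 R

namespace RD

variable (h : Hy t V ι) (d : RD t V ι W k c R)
include h d

theorem nV (ha : a ∈ R) : a ∈ nor V := d.nor_le h.toCo (d.nn a ha).1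

theorem d_mul (ha : a ∈ R) (hb : b ∈ R) : c (dl t (a * b)) = c (dl t a) + lin ι a (c (dl t b)) :=
  d.c_dl_mul h.toCo h.tt (d.nn a ha) (d.nn b hb)

theorem d_W (ha : a ∈ W) : c (dl t a) = 0 := by rw [d.dl_W h.tt ha, d.c_sq h.toCo (inv_mem ha)]

theorem d_eq (ha : a ∈ R) (hb : b ∈ R) : c (dl t a) = c (dl t b) ↔ a⁻¹ * b ∈ W := by
  have l0 : lin ι a 0 = 0 := h.lin_eq (by simp [h.zero])
  constructor
  · intro e
    refine d.kerR _ (mul_mem (inv_mem ha) hb) ?_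
    rw [d.d_mul h (inv_mem ha) hb, ← e, ← d.d_mul h (inv_mem ha) ha, inv_mul_cancel,
      d.d_W h (one_mem W)]
  · intro e
    rw [← mul_inv_cancel_left a b, d.d_mul h ha (d.WR e), d.d_W h e, l0, add_zero]

theorem card : Nat.card R = 8 * Nat.card W := card_coord d.WR d.onto fun _ ha _ hb => d.d_eq h ha hb

theorem fpf (ha : a ∈ R) {x : F8} (e : lin ι a x = x + c (dl t a)) : a ∈ W := by
  obtain ⟨r, hr, rfl⟩ := d.onto x
  have := (d.d_eq h hr (mul_mem ha hr)).1 (by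
    rw [d.d_mul h ha hr, e, add_comm, add_assoc, CharTwo.add_self_eq_zero, add_zero])
  rwa [← mul_assoc, ← mem_normalizer_iff''.1 (d.nn r hr).1] at this

theorem na : ¬ ∀ a ∈ R, ∀ b ∈ R, ⁅a, b⁆ ∈ W := fun H => by
  obtain ⟨⟨z, hz, zc⟩, oz⟩ := ne_bot_iff_exists_ne_one.1 (inf_centralizer_ne_bot (d.two.to_le d.le)
    d.twoR (fun _ => d.nV h) fun e => one_ne_zero (h.eq_one.1 (mem_bot.1 (e ▸ h.ι_mem 1))))
  obtain ⟨x, rfl⟩ := (h.mem z).1 hz
  obtain ⟨a, ha, rfl⟩ := d.onto x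
  refine oz (Subtype.ext (h.eq_one.2 (d.d_W h (d.nt a ha (h.cen_of_lin (d.nV h ha) fun y => ?_)))))
  obtain ⟨b, hb, rfl⟩ := d.onto y
  have := (d.d_eq h (mul_mem hb ha) (mul_mem ha hb)).2 (by
    simpa [commutatorElement_def, mul_assoc] using H _ (inv_mem ha) _ (inv_mem hb))
  rw [d.d_mul h ha hb, d.d_mul h hb ha, h.lin_eq (y := c (dl t a)) (by
    rw [← mem_cen_iff.1 zc b hb, mul_inv_cancel_right]), add_comm, add_right_inj] at this
  exact this.symm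

theorem core (hk : k ≠ 0) (ha : a ∈ R) (hb : b ∈ R) (aa : a * a = 1) (bb : b * b = 1)
    (ab : a * b = b * a) {ν : F8} (f₁ : lin ι a (c (dl t b)) = c (dl t b))
    (f₂ : lin ι b (c (dl t a)) = c (dl t a)) (n₁ : lin ι a ν = ν + c (dl t b))
    (n₂ : lin ι b ν = ν + (c (dl t a) + c (dl t b)))
    (di : ∀ x, (lin ι a x = x ∧ lin ι b x = x) ∨
      (lin ι a x = x + c (dl t b) ∧ lin ι b x = x + (c (dl t a) + c (dl t b))))
    (a₁ : c (dl t a) ≠ 0) (a₂ : c (dl t b) ≠ 0) (a₃ : c (dl t a) ≠ c (dl t b)) : False := by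
  let _ : CommGroup W := { (inferInstance : Group W) with
    mul_comm := fun a b => Subtype.ext (d.comm a a.2 b b.2) }
  obtain ⟨j, rfl⟩ := Nat.exists_eq_succ_of_ne_zero hk
  let φ : ∀ {g}, g ∈ R → Additive W →+ Additive W := fun hg =>
    MonoidHom.toAdditive (W.normalizerMonoidHom ⟨_, (d.nn _ hg).1⟩).toMonoidHom
  let κ : F8 →+ Additive W := AddMonoidHom.mk' (fun x => Additive.ofMul ⟨ι x, d.le (h.ι_mem x)⟩)
    fun x y => Subtype.ext (h.add x y)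
  let p : ∀ {w}, w ∈ W → Additive W := fun hw => Additive.ofMul (⟨_, hw⟩ ^ 2 ^ j)
  have pp : ∀ {w} (hw : w ∈ W), p hw + p hw = κ (c w) := fun {w} hw => Subtype.ext (show
    w ^ 2 ^ j * w ^ 2 ^ j = ι (c w) by rw [d.pow w hw, pow_succ, pow_mul, pow_two])
  have iv : ∀ {g} (hg : g ∈ R), g * g = 1 → φ hg (p (d.nn g hg).2) = -p (d.nn g hg).2 :=
    fun {g} hg gg => Subtype.ext (show g * dl t g ^ 2 ^ j * g⁻¹ = (dl t g ^ 2 ^ j)⁻¹ by
      rw [← conj_pow, ← inv_pow, eq_inv_of_mul_eq_one_right (a := dl t g) (b := g * dl t g * g⁻¹)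
        (by rw [← dl_mul h.tt, gg, dl_of_comm h.tt (by simp)])])
  have ss : ∀ {g} (hg : g ∈ R), g * g = 1 → ∀ m, φ hg (φ hg m) = m := fun {g} hg gg m =>
    Subtype.ext (show g * (g * m.toMul.1 * g⁻¹) * g⁻¹ = m.toMul.1 by
      rw [show g * (g * m.toMul.1 * g⁻¹) * g⁻¹ = g * g * m.toMul.1 * (g * g)⁻¹ by group, gg]; simp)
  have li : ∀ {g} (hg : g ∈ R) {x y}, lin ι g x = y → φ hg (κ x) = κ y := fun {g} hg x y e =>
    Subtype.ext (show g * ι x * g⁻¹ = ι y by rw [← e, h.lin_spec (d.nV h hg)])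
  obtain ⟨u, hu, rfl⟩ := d.surj ν
  refine no16 κ (fun x y e => h.inj (congrArg (·.toMul.1) e)) (fun m e => ?_) (φ ha) (φ hb)
    (pp (d.nn a ha).2) (pp (d.nn b hb).2) (pp hu) (iv ha aa) (iv hb bb) (Subtype.ext ?_) (ss ha aa)
    (ss hb bb) (fun m => Subtype.ext ?_) (li ha f₁) (li hb f₂) (li ha n₁) (li hb n₂)
    (fun x => (di x).imp (fun e => ⟨li ha e.1, li hb e.2⟩) fun e => ⟨li ha e.1, li hb e.2⟩) a₁ a₂ a₃
  · obtain ⟨x, hx⟩ := (h.mem _).1 (d.om _ m.toMul.2 (congrArg (·.toMul.1) e))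
    exact ⟨x, Subtype.ext hx⟩
  · change dl t a ^ 2 ^ j * (a * dl t b ^ 2 ^ j * a⁻¹) = dl t b ^ 2 ^ j * (b * dl t a ^ 2 ^ j * b⁻¹)
    have cj : ∀ {a b}, a ∈ R → b ∈ R → Commute (dl t a) (a * dl t b * a⁻¹) := fun ha hb =>
      d.comm _ (d.nn _ ha).2 _ ((mem_normalizer_iff.1 (d.nn _ ha).1 _).1 (d.nn _ hb).2)
    rw [← conj_pow, ← conj_pow, ← (cj ha hb).mul_pow, ← (cj hb ha).mul_pow, ← dl_mul h.tt,
      ← dl_mul h.tt, ab]
  · change a * (b * m.toMul.1 * b⁻¹) * a⁻¹ = b * (a * m.toMul.1 * a⁻¹) * b⁻¹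
    calc _ = a * b * m.toMul.1 * (a * b)⁻¹ := by group
      _ = _ := by rw [ab]; group

theorem rank (hk : k ≠ 0) {E : Subgroup G} (ER : E ≤ R) (sq : ∀ e ∈ E, e * e = 1) :
    Nat.card E ≤ 8 := by
  by_contra hn
  have cm : ∀ {a b}, a ∈ E → b ∈ E → a * b = b * a := H31.comm_of_sq sq
  have cV : Nat.card V = 8 := h.card.trans card_F8
  have EV : W ⊓ E = V ⊓ E := le_antisymm (fun x hx => ⟨d.om x hx.1 (sq x hx.2), hx.2⟩)
    (inf_le_inf_right E d.le)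
  have c1 := H46.card_mul_relIndex (inf_le_right : W ⊓ E ≤ E)
  have c2 := H46.card_mul_relIndex (inf_le_left : V ⊓ E ≤ V)
  rw [inf_relIndex_right, EV] at c1
  rw [inf_relIndex_left, cV] at c2
  have c3 : E.relIndex V ≠ 1 := fun e => hn (cV ▸ card_le_of_le fun x hx => d.om x (d.nt x (ER hx)
    (mem_cen_iff.2 fun v hv => cm hx (relIndex_eq_one.1 e hv))) (sq x hx))
  have c4 : W.relIndex E < 8 := by
    let δ : E ⧸ W.subgroupOf E → F8 := fun x => c (dl t x.out.1)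
    have inj : Function.Injective δ := fun x y e => by
      rw [← x.out_eq, ← y.out_eq]
      exact QuotientGroup.eq.2 ((d.d_eq h (ER x.out.2) (ER y.out.2)).1 e)
    refine lt_of_not_ge fun e => d.na h fun a ha b hb => ?_
    have sj := (inj.bijective_of_nat_card_le (card_F8 ▸ e)).2
    obtain ⟨x, hx⟩ := sj (c (dl t a))
    obtain ⟨y, hy⟩ := sj (c (dl t b))
    have h1 := (d.d_eq h (ER x.out.2) ha).1 hx
    have h2 := (d.d_eq h (ER y.out.2) hb).1 hy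
    have xy := cm x.out.2 y.out.2
    have n := fun {g w} (hg : g ∈ R) (hw : w ∈ W) => (mem_normalizer_iff.1 (d.nn g hg).1 w).1 hw
    have := mul_mem (mul_mem (mul_mem (n (ER x.out.2) h1) (n (mul_mem (ER x.out.2) (ER y.out.2)) h2))
      (n (mul_mem (ER x.out.2) (ER y.out.2)) (inv_mem h1))) (n (ER y.out.2) (inv_mem h2))
    generalize x.out.1 = x, y.out.1 = y at this xy
    convert this using 1
    calc ⁅a, b⁆ = a * b * a⁻¹ * (x * (x * y)⁻¹ * y) * b⁻¹ := by rw [xy, commutatorElement_def]; group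
      _ = _ := by group
  obtain ⟨j, hj⟩ := IsPGroup.iff_card.1 (d.twoR.to_le ER)
  obtain ⟨i, -, hi⟩ := (Nat.dvd_prime_pow Nat.prime_two).1 (hj ▸ Dvd.intro_left _ c1)
  obtain ⟨l, l3, hl⟩ := (Nat.dvd_prime_pow Nat.prime_two).1
    (show E.relIndex V ∣ 2 ^ 3 from Dvd.intro_left _ c2)
  have i3 : i < 3 := (Nat.pow_lt_pow_iff_right one_lt_two).1 (hi ▸ c4)
  have c5 : E.relIndex V = 2 ∧ W.relIndex E = 4 := by
    have : 4 ≤ j := by
      by_contra h4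
      exact hn (hj ▸ Nat.pow_le_pow_right two_pos (show j ≤ 3 by omega))
    have := Nat.pow_le_pow_right two_pos this
    rw [hi, hj] at c1
    rw [hl] at c2 c3 ⊢
    rw [hi]
    interval_cases i <;> interval_cases l <;> omega
  obtain ⟨a, ha, aW⟩ : ∃ a ∈ E, a ∉ W := by
    by_contra hn
    push Not at hn
    have := relIndex_eq_one.2 (show E ≤ W from hn)
    omega
  obtain ⟨b, hb, bW, abW⟩ : ∃ b ∈ E, b ∉ W ∧ a * b ∉ W := by
    by_contra hn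
    push Not at hn
    have := relIndex_two ha aW fun p hp => or_iff_not_imp_left.2 (hn p hp)
    omega
  obtain ⟨_, hv, hν⟩ := relIndex_eq_two_iff.1 c5.1
  obtain ⟨ν, rfl⟩ := (h.mem _).1 hv
  have fx : ∀ {g x}, g ∈ E → ι x ∈ E → lin ι g x = x := fun hg hx =>
    h.lin_eq (by rw [cm hg hx, mul_inv_cancel_right])
  have mv : ∀ {g x}, g ∈ E → ι x ∉ E → lin ι g x = x + (lin ι g ν + ν) := fun {g x} hg hx => by
    have := fx hg (h.add x ν ▸ (hν _ (h.ι_mem x)).or.resolve_right hx)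
    rw [h.lin_add (d.nV h (ER hg))] at this
    linear_combination this - lin ι g ν * CharTwo.two_eq_zero (R := F8)
  have νE : ι ν ∉ E := fun e => by
    simpa [e] using hν 1 (one_mem V)
  have b0 : ∀ {g}, g ∈ E → g ∉ W → lin ι g ν + ν ≠ 0 := fun hg gW e => gW (d.nt _ (ER hg)
    (h.cen_of_lin (d.nV h (ER hg)) fun x => by
      by_cases hx : ι x ∈ E
      · exact fx hg hx
      · rw [mv hg hx, e, add_zero]))
  have inE : ∀ {g x}, g ∈ E → g ∉ W → lin ι g x = x → ι x ∈ E := fun hg gW e => by_contra fun hx =>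
    b0 hg gW (left_eq_add.1 (e.symm.trans (mv hg hx)))
  have aE : ∀ {g}, g ∈ E → g ∉ W → ι (c (dl t g)) ∈ E := fun {g} hg gW => inE hg gW (by
    have := d.d_mul h (ER hg) (ER hg)
    rw [sq g hg, d.d_W h (one_mem W)] at this
    exact (CharTwo.add_eq_zero.1 this.symm).symm)
  have bE : ∀ {g}, g ∈ E → g ∉ W → ι (lin ι g ν + ν) ∈ E := fun {g} hg gW => inE hg gW (by
    rw [h.lin_add (d.nV h (ER hg)), ← h.lin_mul (d.nV h (ER hg)) (d.nV h (ER hg)), sq g hg,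
      h.lin_cen (one_mem _), add_comm])
  have ne : ∀ {g}, g ∈ E → g ∉ W → lin ι g ν + ν ≠ c (dl t g) := fun hg gW e => gW
    (d.fpf h (ER hg) (by rw [mv hg νE, e]))
  have dab : c (dl t (a * b)) = c (dl t a) + c (dl t b) := by
    rw [d.d_mul h (ER ha) (ER hb), fx ha (aE hb bW)]
  have lab : lin ι (a * b) ν + ν = lin ι a ν + ν + (lin ι b ν + ν) := by
    rw [h.lin_mul (d.nV h (ER ha)) (d.nV h (ER hb)), mv hb νE, h.lin_add (d.nV h (ER ha)),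
      fx ha (bE hb bW)]
    linear_combination (-ν) * CharTwo.two_eq_zero (R := F8)
  have a₁ := mt (d.kerR a (ER ha)) aW
  have a₂ := mt (d.kerR b (ER hb)) bW
  have a₃ := mt (d.kerR _ (ER (mul_mem ha hb))) abW
  have b₃ := b0 (mul_mem ha hb) abW
  have n₃ := ne (mul_mem ha hb) abW
  rw [lab] at b₃ n₃
  rw [dab] at a₃ n₃
  have sp : ∀ {x}, ι x ∈ E → x = 0 ∨ x = c (dl t a) ∨ x = c (dl t b) ∨ x = c (dl t a) + c (dl t b) :=
    fun {x} hx => by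
    have k : ∀ p q x n : F8, p ≠ 0 → q ≠ 0 → p + q ≠ 0 → (x = 0 ∨ x = p ∨ x = q ∨ x = p + q) ∨
      n ∈ [0, p, q, p + q, x, x + p, x + q, x + (p + q)] := by decide +kernel
    refine (k _ _ x ν a₁ a₂ a₃).resolve_right fun e => νE ?_
    have ad : ∀ {x y}, ι x ∈ E → ι y ∈ E → ι (x + y) ∈ E := fun hx hy => h.add _ _ ▸ mul_mem hx hy
    have h1 := aE ha aW
    have h2 := aE hb bW
    simp only [List.mem_cons, List.not_mem_nil, or_false] at e
    rcases e with e | e | e | e | e | e | e | e <;> rw [e]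
    exacts [h.zero ▸ one_mem E, h1, h2, ad h1 h2, hx, ad hx h1, ad hx h2, ad hx (ad h1 h2)]
  have k : ∀ p q x y : F8, (x = 0 ∨ x = p ∨ x = q ∨ x = p + q) →
      (y = 0 ∨ y = p ∨ y = q ∨ y = p + q) → x ≠ 0 → y ≠ 0 → x + y ≠ 0 → x ≠ p → y ≠ q →
      x + y ≠ p + q → (x = q ∧ y = p + q) ∨ (y = p ∧ x = q + p) := by
    rintro p q x y (rfl | rfl | rfl | rfl) (rfl | rfl | rfl | rfl) <;>
      simp [CharTwo.add_self_eq_zero, add_comm]
  have di : ∀ x, (lin ι a x = x ∧ lin ι b x = x) ∨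
      (lin ι a x = x + (lin ι a ν + ν) ∧ lin ι b x = x + (lin ι b ν + ν)) := fun x =>
    (em (ι x ∈ E)).imp (fun e => ⟨fx ha e, fx hb e⟩) fun e => ⟨mv ha e, mv hb e⟩
  have m₁ := mv ha νE
  have m₂ := mv hb νE
  rcases k _ _ _ _ (sp (bE ha aW)) (sp (bE hb bW)) (b0 ha aW) (b0 hb bW) b₃ (ne ha aW)
    (ne hb bW) n₃ with ⟨e₁, e₂⟩ | ⟨e₁, e₂⟩ <;> rw [e₁, e₂] at di
  · exact d.core h hk (ER ha) (ER hb) (sq a ha) (sq b hb) (cm ha hb) (fx ha (aE hb bW))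
      (fx hb (aE ha aW)) (e₁ ▸ m₁) (e₂ ▸ m₂) di a₁ a₂ fun e => a₃ (CharTwo.add_eq_zero.2 e)
  · exact d.core h hk (ER hb) (ER ha) (sq b hb) (sq a ha) (cm hb ha) (fx hb (aE ha aW))
      (fx ha (aE hb bW)) (e₁ ▸ m₂) (e₂ ▸ m₁) (fun x => (di x).imp And.symm And.symm) a₂ a₁
      fun e => a₃ (CharTwo.add_eq_zero.2 e.symm)

end RD

end H21.J1
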