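import Cfsg.Agent.H21.JSV

/-! Tower JS, job `JobF`: fusion of `e` into the elementary abelian group `⟨e⟩ × E1`. -/

set_option autoImplicit false
set_option linter.unusedSectionVars false
set_option maxRecDepth 100000

namespace H21.JSS

open Cfsg Subgroup H8.JS MulAut H49 H71
open H4.M2 (X g y p q r s t z a h)
open H4.QJ (tau tau_eq tau_tau)

universe u
variable {G : Type u} [Group G] [Finite G] {j : X →* G} {e v n b o f γ : G} {O : Subgroup G}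
  {w w' x : X}

omit [Finite G] in
theorem cg_s' {a b x : G} (k : cg a⁻¹ x = b) : cg a b = x := by simp [← k, cg, mul_assoc]

/-- `b` lies over `w` -/
def Pj (j : X →* G) (e b : G) (w : X) : Prop := b = j w ∨ b = e * j w

noncomputable def LR : List X := [1, a, c2, a * c2]

theorem sq_inn (θ : MulAut X) : ∃ x, θ * θ = conj x := by
  obtain ⟨x, rfl | rfl⟩ := H4.QJ.dec θ
  · exact ⟨x * x, (map_mul _ _ _).symm⟩
  · exact ⟨x * tau x, MulEquiv.ext fun w => by simp [tau_tau, mul_assoc]⟩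

theorem cz_a (h1 : w * a = a * w) (h2 : IsConj z w) : ∃ d, d * a = a * d ∧ d * z * d⁻¹ = w :=
  (H21.JS.all_a (P := fun w => w ∈ H4.M2.LZ → ∃ d ∈ List.map (wd [z, H4.M2.u]) [[], [1], [0, 1], [1, 1],
    [1, 0, 1], [0, 1, 1], [0, 1, 0, 1], [1, 1, 0, 1], [1, 0, 1, 1], [1, 0, 1, 0, 1], [0, 1, 1, 0, 1],
    [0, 1, 0, 1, 1], [1, 1, 0, 1, 1], [1, 1, 0, 1, 0, 1], [1, 0, 1, 0, 1, 1]],
    d * a = a * d ∧ d * z * d⁻¹ = w) (by decide +kernel) h1 (H4.M2.LZ_iff.2 h2)).imp fun _ k => k.2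

theorem cp_a (h1 : w * a = a * w) (h2 : w * z = z * w) (h3 : IsConj z w) (h4 : w ≠ z) :
    w = p ∨ w = p * z :=
  H21.JS.all_a (P := fun w => w * z = z * w → w ∈ H4.M2.LZ → w ≠ z → w = p ∨ w = p * z)
    (by decide +kernel) h1 h2 (H4.M2.LZ_iff.2 h3) h4

theorem LR_E1 (hw : w ∈ LR) : w ∈ E1 :=
  mem_E1.2 ((by unfold LR c2; decide +kernel : ∀ w ∈ LR, w ∈ LE1) w hw)

theorem E1_sq (hw : w ∈ E1) : w * w = 1 ∧ w * z = z * w :=
  (by decide +kernel : ∀ w ∈ LE1, w * w = 1 ∧ w * z = z * w) w (mem_E1.1 hw)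

section
variable (H : St j e O)
include H

theorem sepO {o' : G} (ho : o ∈ O) (ho' : o' ∈ O) (k : o * j w = o' * j w') : w = w' :=
  mul_inv_eq_one.1 (H.jc fun u => by
    rw [map_mul, map_inv, show j w * (j w')⁻¹ = o⁻¹ * o' by
      rw [mul_inv_eq_iff_eq_mul, mul_assoc, ← k, inv_mul_cancel_left]]
    exact H.oj _ (mul_mem (inv_mem ho) ho') u)

theorem Pj.cj (k : Pj j e b w) (c : X) : Pj j e (cg (j c) b) (c * w * c⁻¹) :=
  k.imp (fun k => by rw [k, cj_j]) fun k => by rw [k, cg_r, je H, cj_j]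

theorem Pj.mul {b' : G} (k : Pj j e b w) (k' : Pj j e b' w') : Pj j e (b * b') (w * w') := by
  rw [Pj, map_mul]
  rcases k with rfl | rfl <;> rcases k' with rfl | rfl
  exacts [.inl rfl, .inr (by rw [tl (H.ec w).symm, mul_assoc]), .inr (mul_assoc _ _ _),
    .inl (by rw [mul_assoc, tl (H.ec w).symm, mul_assoc, tl H.e2, one_mul])]

theorem Pj.uniq (k : Pj j e b w) (k' : Pj j e b w') : w = w' := by
  rcases k with rfl | rfl <;> rcases k' with k | k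
  · exact H.inj k
  · exact absurd (by rw [map_mul, map_inv, k, mul_inv_cancel_right]) (H.ne' (w * w'⁻¹))
  · exact absurd (by rw [map_mul, map_inv, ← k, mul_inv_cancel_right]) (H.ne' (w' * w⁻¹))
  · exact H.inj (mul_left_cancel k)

theorem Pj.com {b' : G} (k : Pj j e b w) (k' : Pj j e b' w') (c : b * b' = b' * b) : w * w' = w' * w :=
  (k.mul H k').uniq H (c ▸ k'.mul H k)

theorem Pj.sq (k : Pj j e b w) (c : b * b = 1) : w * w = 1 :=
  (k.mul H k).uniq H (.inl (c.trans (map_one j).symm))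

theorem five (h0 : cg b e = e) (h5 : b ^ 5 = 1) : ∃ o ∈ O, ∃ x, x ^ 5 = 1 ∧ b = o * j x := by
  obtain ⟨θ, hθ⟩ := H.act _ (cg_iff.1 (cg_pow h0 3))
  obtain ⟨x, hx⟩ := sq_inn θ
  obtain ⟨o, ho, k | k⟩ := H.inner (cg_iff.1 h0) (w := x) fun u => by
    rw [← hx, MulAut.mul_apply, ← hθ, ← hθ]
    conv_lhs => rw [show b = b ^ 3 * b ^ 3 by rw [← pow_add, pow_succ, h5, one_mul]]
    group
  · refine ⟨o, ho, x, sepO H (pow_mem ho 5) (one_mem _) ?_, k⟩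
    rw [map_pow, ← Commute.mul_pow (H.oj o ho x), ← k, h5, map_one, mul_one]
  · refine absurd ?_ (H.ne (pow_mem ho 5) (x ^ 5))
    have c : Commute e (o * j x) := Commute.mul_right (H.oe o ho).symm (H.ec x)
    rw [k, tl (H.oe o ho), mul_assoc, c.mul_pow, Commute.mul_pow (H.oj o ho x),
      show e ^ 5 = e by rw [pow_succ, show 4 = 2 * 2 from rfl, pow_mul, pow_two e, H.e2]; simp] at h5
    rw [map_pow, eq_inv_of_mul_eq_one_right h5, H.einv]

theorem comO (h0 : cg b e = e) (ho : o ∈ O) (c : cg b (o * j x) = o * j x) : b * j x = j x * b := by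
  obtain ⟨θ, hθ⟩ := H.act _ (cg_iff.1 h0)
  rw [cg_r, show cg b (j x) = _ from hθ x] at c
  rw [← cg_iff, show cg b (j x) = _ from hθ x, sepO H (H.nO (cg_iff.1 h0) ho) ho c]

theorem invo (h0 : cg b e = e) (h2 : b * b = 1) (o5 : orderOf x = 5) (c : b * j x = j x * b) :
    ∃ w, Pj j e b w := by
  obtain ⟨θ, hθ⟩ := H.act _ (cg_iff.1 h0)
  obtain ⟨w, rfl⟩ := H21.JS.inn5 o5 (H.fix hθ c)
  obtain ⟨o, ho, k | k⟩ := H.inner (cg_iff.1 h0) hθ
  · rw [H.o1 ho (w := w) (k := 1) (by rw [← k, pow_one, pow_two, h2]), one_mul] at k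
    exact ⟨w, .inl k⟩
  · have k' : o * j w = e * b := by rw [k, tl (H.oe o ho), mul_assoc, tl H.e2, one_mul]
    rw [H.o1 ho (w := w) (k := 1) (by
      rw [k', pow_one, pow_two, mul_assoc, tl (cg_iff.1 h0), mul_assoc, h2, mul_one, H.e2]),
      one_mul] at k
    exact ⟨w, .inr k⟩

theorem oddO {d : G} {m : ℕ} (ho : o ∈ O) (d1 : d * d = 1) (d2 : o * d = d * o) (hm : Odd m)
    (k : (o * d) ^ m = 1) : o * d ∈ O := by
  obtain ⟨i, rfl⟩ := hm
  rw [Commute.mul_pow d2, pow_succ d, pow_mul d, pow_two d, d1, one_pow, one_mul] at k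
  exact mul_mem ho (eq_inv_of_mul_eq_one_right k ▸ inv_mem (pow_mem ho _))

theorem dat (hγ : cg γ e = f) (hf : Pj j e f a) : ∃ x₁ x₂ : X, orderOf x₁ = 5 ∧ x₂ ^ 5 = 1 ∧
    cg γ⁻¹ (j z) = j (x₁ * x₂) ∧ (∃ θ : MulAut X, cg γ⁻¹ (j p) = j (θ (x₁ * x₂))) ∧
    ∀ b ∈ [e, j a, j c2], ∃ w, Pj j e (cg γ⁻¹ b) w ∧ w * x₁ = x₁ * w ∧ w * x₂ = x₂ * w := by
  have k : ∀ b, cg b f = f → cg (cg γ⁻¹ b) e = e := fun b hb => by
    rw [cg_c, inv_inv, hγ, hb, cg_s hγ]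
  have k' : ∀ w, w * a = a * w → cg (j w) f = f := fun w hw => by
    rcases hf with rfl | rfl <;> simp only [cg_r, je H, jc (mul_inv_eq_iff_eq_mul.2 hw)]
  obtain ⟨f₁, f₂, a1, a2, a3, a4, a5, a6⟩ : ∃ f₁ f₂ : X, f₁ * a = a * f₁ ∧ f₂ * a = a * f₂ ∧ f₁ ^ 5 = 1 ∧
      f₂ = H4.M2.u * (f₁ * f₁) * (H4.M2.u)⁻¹ ∧ z = f₁ * f₂ ∧ f₁ * c2 = c2 * f₁ ∧ f₂ * c2 = c2 * f₂ ∧
      f₂ ^ 5 = 1 := ⟨H4.M2.u * z * H4.M2.u, _, by decide +kernel, by decide +kernel, by decide +kernel,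
        rfl, by unfold c2; decide +kernel⟩
  have p5 : ∀ w, w ^ 5 = 1 → cg γ⁻¹ (j w) ^ 5 = 1 := fun w hw => by
    rw [cg, conj_pow, ← map_pow, hw]; simp
  obtain ⟨o₁, h1, x₁, b1, e1⟩ := five H (k _ (k' _ a1)) (p5 _ a3)
  obtain ⟨o₂, h2, x₂, b2, e2⟩ := five H (k _ (k' _ a2)) (p5 _ a6.2.2)
  have e3 : cg γ⁻¹ (j z) = o₁ * o₂ * j (x₁ * x₂) := by
    rw [a5, map_mul, cg_r, e1, e2, map_mul, mul_assoc, tl (H.oj _ h2 _).symm]; group
  have z2 : cg γ⁻¹ (j z) * cg γ⁻¹ (j z) = 1 := by rw [← cg_r, jzz, cg_1]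
  rw [H.o1 (mul_mem h1 h2) (w := x₁ * x₂) (k := 1) (by rw [← e3, pow_one, pow_two, z2]), one_mul] at e3
  have o5 : orderOf x₁ = 5 := orderOf_eq_prime b1 fun k1 => zne H (by
    rw [k1, map_one, mul_one] at e1
    have : cg γ⁻¹ (j z) ∈ O := by
      rw [a5, a4, map_mul, cg_r, ← cj_j, ← cg_cg, map_mul, cg_r, e1]
      exact mul_mem h1 (H.nO (cg_iff.1 (k _ (k' _ (by decide +kernel)))) (mul_mem h1 h1))
    exact (cg_s (H.o2 this z2)).symm.trans (cg_1 _))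
  obtain ⟨θ, hθ⟩ := H.act _ (cg_iff.1 (k _ (k' (g * y⁻¹) (by decide +kernel))))
  refine ⟨x₁, x₂, o5, b2, e3, ⟨θ, by
    rw [← hθ, ← e3, ← cg, cg_cg, jc (show g * y⁻¹ * z * (g * y⁻¹)⁻¹ = p by decide +kernel)]⟩,
    fun b hb => ?_⟩
  obtain ⟨c1, c2, c3, c4⟩ : cg b f = f ∧ b * b = 1 ∧ cg b (j f₁) = j f₁ ∧ cg b (j f₂) = j f₂ := by
    simp only [List.mem_cons, List.not_mem_nil, or_false] at hb
    rcases hb with rfl | rfl | rfl
    · exact ⟨by rcases hf with rfl | rfl <;> simp only [cg_r, cg_self, cg_iff.2 (H.ec _)], H.e2,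
        cg_iff.2 (H.ec _), cg_iff.2 (H.ec _)⟩
    · exact ⟨k' _ rfl, by rw [← map_mul, show a * a = 1 by decide +kernel, map_one],
        jc (mul_inv_eq_iff_eq_mul.2 a1.symm), jc (mul_inv_eq_iff_eq_mul.2 a2.symm)⟩
    · exact ⟨k' _ (by unfold c2; decide +kernel),
        by rw [← map_mul, show c2 * c2 = 1 by unfold c2; decide +kernel, map_one],
        jc (mul_inv_eq_iff_eq_mul.2 a6.1.symm), jc (mul_inv_eq_iff_eq_mul.2 a6.2.1.symm)⟩
  have d1 := comO H (k b c1) h1 (by rw [← e1, cg_cg, c3])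
  have d2 := comO H (k b c1) h2 (by rw [← e2, cg_cg, c4])
  obtain ⟨w, hw⟩ := invo H (k b c1) (by rw [← cg_r, c2, cg_1]) o5 d1
  exact ⟨w, hw, hw.com H (.inl rfl) d1, hw.com H (.inl rfl) d2⟩

theorem ctrl (hγ : cg γ e = f) (hf : Pj j e f a) : ∃ n, cg n e = f ∧ cg n⁻¹ (j z) = j z ∧
    (cg n⁻¹ (j p) = j p ∨ cg n⁻¹ (j p) = j (p * z)) ∧
    ∀ b ∈ [e, j a, j c2], ∃ w ∈ LR, Pj j e (cg n⁻¹ b) w := by
  have mv : ∀ {γ b} {w} (c : X), Pj j e (cg γ⁻¹ b) (c * w * c⁻¹) → Pj j e (cg (γ * j c)⁻¹ b) w :=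
    fun {_ _ w} c k => by
      have := k.cj H c⁻¹
      rwa [map_inv, ← cg_l, ← mul_inv_rev, show c⁻¹ * (c * w * c⁻¹) * c⁻¹⁻¹ = w by group] at this
  have sq : ∀ {γ b} {w}, b * b = 1 → Pj j e (cg γ⁻¹ b) w → w * w = 1 := fun hb k =>
    k.sq H (by rw [← cg_r, hb, cg_1])
  have cm : ∀ {γ b b'} {w w'}, b * b' = b' * b → Pj j e (cg γ⁻¹ b) w → Pj j e (cg γ⁻¹ b') w' →
      w * w' = w' * w := fun hb k k' => k.com H k' (by rw [← cg_r, hb, cg_r])
  have s2 : j c2 * j c2 = 1 := by rw [← map_mul, show c2 * c2 = 1 by unfold c2; decide +kernel, map_one]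
  obtain ⟨γ, hγ, h1⟩ : ∃ γ, cg γ e = f ∧ Pj j e (cg γ⁻¹ e) a := by
    have n1 : ∀ b w, Pj j e b w → Pj j e (cg γ⁻¹ b) 1 → b = 1 ∨ w = a ∧ b = f := fun b w k k' =>
      k'.imp (fun k' => (cg_s k').symm.trans (by simp [cg])) fun k' => by
        have : b = f := (cg_s k').symm.trans (by rw [inv_inv, map_one, mul_one, hγ])
        exact ⟨k.uniq H (this ▸ hf), this⟩
    obtain ⟨x₁, x₂, o5, -, -, -, k⟩ := dat H hγ hf
    obtain ⟨w, h1, h2, -⟩ := k e (by simp)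
    obtain ⟨w', h3, h4, -⟩ := k (j c2) (by simp)
    rcases H4.M2.invol_conj (c := w) (orderOf_eq_prime ((pow_two w).trans (sq H.e2 h1)) fun k1 =>
      (n1 e 1 (.inr (by simp)) (k1 ▸ h1)).elim H.e1 fun k => absurd k.1 (by decide +kernel)) with k | k <;>
      obtain ⟨c, rfl⟩ := isConj_iff.1 k
    · exfalso
      have c1 : ∀ u, c * z * c⁻¹ * u = u * (c * z * c⁻¹) → c⁻¹ * u * c * z = z * (c⁻¹ * u * c) :=
        fun u hu => by
          calc _ = c⁻¹ * (u * (c * z * c⁻¹)) * c := by group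
            _ = _ := by rw [← hu]; group
      rcases H21.JS.z5 (c1 _ (cm (H.ec c2) h1 h3)) (c1 _ h2) ((by simpa using H14.orderOf_conj' c⁻¹ x₁ : _ = _).trans o5)
        (by simp [mul_assoc, tl h4]) (k := 1) (by simp [pow_two, mul_assoc, tl (sq s2 h3)]) with k | k
      · rw [show w' = 1 by simpa [mul_assoc] using congrArg (fun u => c * u * c⁻¹) k] at h3
        exact (n1 _ c2 (.inl rfl) h3).elim
          ((map_ne_one_iff _ H.inj).2 (by unfold c2; decide +kernel))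
          fun k => absurd k.1 (by unfold c2; decide +kernel)
      · have h5 := h1.mul H h3
        rw [← cg_r, ← k, show c * (c⁻¹ * w' * c) * c⁻¹ * w' = w' * w' by group, sq s2 h3] at h5
        exact (n1 _ c2 (.inr rfl) h5).elim
          (fun k => H.ne' c2 ((eq_inv_of_mul_eq_one_right k).trans H.einv))
          fun k => absurd k.1 (by unfold c2; decide +kernel)
    · exact ⟨γ * j c, by rw [cg_l, je H, hγ], mv c h1⟩
  obtain ⟨γ, hγ, h1, h2⟩ : ∃ γ, cg γ e = f ∧ Pj j e (cg γ⁻¹ e) a ∧ cg γ⁻¹ (j z) = j z := by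
    obtain ⟨x₁, x₂, o5, b2, e3, -, k⟩ := dat H hγ hf
    obtain ⟨w, h2, h3, h4⟩ := k e (by simp)
    obtain rfl := h1.uniq H h2
    obtain ⟨d, d1, d2⟩ := cz_a (Commute.mul_left h3.symm h4.symm) (H21.JS.mB h4.symm h3.symm b2
      (o5 ▸ pow_orderOf_eq_one x₁) (sq jzz (.inl e3)) fun k => zne H (by
        rw [k, map_one] at e3; exact (cg_s e3).symm.trans (cg_1 _)))
    exact ⟨γ * j d, by rw [cg_l, je H, hγ], mv d (by rwa [d1, mul_inv_cancel_right]),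
      by rw [mul_inv_rev, cg_l, e3, cg_s (jc d2)]⟩
  obtain ⟨x₁, x₂, o5, -, e3, ⟨θ, e4⟩, k⟩ := dat H hγ hf
  obtain ⟨w, h3, h4, -⟩ := k e (by simp)
  obtain rfl := h1.uniq H h3
  rw [← H.inj (h2.symm.trans e3)] at e4
  refine ⟨γ, hγ, h2, (cp_a (cm (H.ec p).symm (.inl e4) h1) (cm (by
    rw [← map_mul, ← map_mul, show p * z = z * p by decide +kernel]) (.inl e4) (.inl h2)) (autz θ)
    fun k => ?_).imp (fun k => by rw [e4, k]) fun k => by rw [e4, k], fun b hb => ?_⟩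
  · rw [k, ← h2] at e4
    exact absurd (H.inj ((cg_s e4).symm.trans (cg_s rfl))) (by decide +kernel)
  obtain ⟨w, h5, h6, -⟩ := k b hb
  obtain ⟨b1, b2⟩ : b * e = e * b ∧ b * b = 1 := by
    simp only [List.mem_cons, List.not_mem_nil, or_false] at hb
    rcases hb with rfl | rfl | rfl
    exacts [⟨rfl, H.e2⟩, ⟨(H.ec _).symm, by rw [← map_mul, show a * a = 1 by decide +kernel, map_one]⟩,
      ⟨(H.ec _).symm, s2⟩]
  refine ⟨w, ?_, h5⟩
  rcases H21.JS.a5 (cm b1 h5 h1) h4.symm o5 h6 (k := 1) ((pow_two w).trans (sq b2 h5)) with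
    rfl | rfl | rfl | k
  · unfold LR; simp
  · unfold LR; simp
  · unfold LR c2; decide +kernel
  · rw [eq_inv_mul_of_mul_eq k]; unfold LR c2; decide +kernel

/-- the group `⟨e⟩ × E1` -/
def F0 : Subgroup G where
  carrier := {b | ∃ w ∈ E1, Pj j e b w}
  mul_mem' := fun ⟨_, a, b⟩ ⟨_, c, d⟩ => ⟨_, mul_mem a c, b.mul H d⟩
  one_mem' := ⟨1, one_mem _, .inl (map_one j).symm⟩
  inv_mem' := fun ⟨w, a, b⟩ => ⟨w⁻¹, inv_mem a, b.imp (fun k => by rw [k, map_inv]) fun k => by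
    rw [k, map_inv, mul_inv_rev, H.einv, ← map_inv, H.ec]⟩

theorem norF (h1 : cg n⁻¹ (j z) = j z) (h2 : cg n⁻¹ (j p) = j p ∨ cg n⁻¹ (j p) = j (p * z))
    (h3 : ∀ b ∈ [e, j a, j c2], ∃ w ∈ LR, Pj j e (cg n⁻¹ b) w) (hb : b ∈ F0 H) : cg n b ∈ F0 H := by
  have m : ∀ w ∈ [z, p, a, c2], w ∈ E1 := fun w hw => subset_closure hw
  have k : ∀ b ∈ [e, j a, j c2], cg n⁻¹ b ∈ F0 H := fun b hb =>
    (h3 b hb).imp fun _ k => ⟨LR_E1 k.1, k.2⟩
  have k' : ∀ w ∈ E1, cg n⁻¹ (j w) ∈ F0 H := fun w hw =>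
    (closure_le (((F0 H).comap (conj n⁻¹).toMonoidHom).comap j)).2 (fun w hw => by
      simp only [List.mem_cons, List.not_mem_nil, or_false, Set.mem_ofPred_eq] at hw
      show cg n⁻¹ (j w) ∈ F0 H
      rcases hw with rfl | rfl | rfl | rfl
      exacts [⟨z, m _ (by simp), .inl h1⟩, h2.elim (fun k => ⟨p, m _ (by simp), .inl k⟩) fun k =>
        ⟨p * z, mul_mem (m _ (by simp)) (m _ (by simp)), .inl k⟩, k _ (by simp), k _ (by simp)]) hw
  have : n⁻¹ ∈ normalizer (F0 H : Set G) := mem_normalizer_fintype fun b ⟨w, hw, hb⟩ => by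
    rcases hb with rfl | rfl
    · exact k' w hw
    · exact (cg_r n⁻¹ e (j w) ▸ mul_mem (k e (by simp)) (k' w hw) : cg n⁻¹ (e * j w) ∈ F0 H)
  exact (mem_normalizer_iff.1 (inv_mem_iff.1 this) b).1 hb

theorem nea (V : Vv j e O v) : ¬ IsConj e (j a) := fun c => by
  obtain ⟨γ, hγ⟩ := isConj_iff.1 c
  obtain ⟨n, h0, h1, h2, h3⟩ := ctrl H (show cg γ e = _ from hγ) (.inl rfl)
  have vc : ∀ w, w * z = z * w → cg v (j w) = j w := fun w hw => cg_iff.2 (V.vc w hw)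
  have u0 : cg (cg n⁻¹ v) e = e := by rw [cg_c, inv_inv, h0, vc a (by decide +kernel), cg_s h0]
  obtain ⟨θ, hθ⟩ := H.act _ (cg_iff.1 u0)
  replace hθ : ∀ w, cg (cg n⁻¹ v) (j w) = j (θ w) := hθ
  have u1 := tv θ (H.inj (by rw [← hθ, cg_c, inv_inv, cg_s' h1, vc z rfl, h1])) fun w hw => by
    obtain ⟨w', hw', k⟩ := norF H h1 h2 h3 ⟨w, hw, .inl rfl⟩
    have := hθ w
    rw [cg_c, inv_inv] at this
    rcases k with k | k <;> rw [k] at this
    · rw [vc _ (E1_sq hw').2, cg_s k] at this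
      exact .inl (H.inj this).symm
    · rw [cg_r, vc _ (E1_sq hw').2, show cg v e = _ from V.ve, mul_assoc, ← map_mul, ← (E1_sq hw').2,
        map_mul, ← mul_assoc, cg_r, cg_s k, h1, ← map_mul] at this
      exact .inr (H.inj this).symm
  obtain ⟨w, hw, k⟩ := h3 e (by simp)
  have u2 : cg (cg n⁻¹ v) (cg n⁻¹ e) = cg n⁻¹ e := by
    rcases k with k | k <;> simp only [k, cg_r, u0, hθ, u1 w (LR_E1 hw)]
  rw [cg_cg, show cg v e = _ from V.ve, cg_r, h1, mul_eq_left] at u2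
  exact zne H u2

end

theorem jobF : JobF.{u} := fun G _ _ j e O v H V => ⟨nea H V, fun c => by
  obtain ⟨γ, hγ⟩ := isConj_iff.1 c
  obtain ⟨n, h0, h1, h2, h3⟩ := ctrl H (show cg γ e = _ from hγ) (.inr rfl)
  have ya : y * a * y⁻¹ = c2 := rfl
  have yc : y * c2 * y⁻¹ = a * c2 := by unfold c2; decide +kernel
  have k : ∀ w ∈ [a, c2], ∃ w' ∈ LR, cg n⁻¹ (j w) = j w' := fun w hw => by
    obtain ⟨w', hw', k | k⟩ := h3 (j w) (by
      simp only [List.mem_cons, List.not_mem_nil, or_false] at hw ⊢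
      exact .inr (hw.imp (congrArg j) (congrArg j)))
    · exact ⟨w', hw', k⟩
    refine (nea H V (.trans (b := e * j w') ?_ (.trans (b := j w) (isConj_iff.2 ⟨n⁻¹, k⟩).symm ?_))).elim
    · have c1 : IsConj e (e * j c2) := c.trans (isConj_iff.2 ⟨j y, by
        rw [← cg, cg_r, je H, jc ya]⟩)
      simp only [LR, List.mem_cons, List.not_mem_nil, or_false] at hw'
      rcases hw' with rfl | rfl | rfl | rfl
      exacts [by rw [map_one, mul_one], c, c1, c1.trans (isConj_iff.2 ⟨j y, by rw [← cg, cg_r, je H, jc yc]⟩)]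
    · simp only [List.mem_cons, List.not_mem_nil, or_false] at hw
      rcases hw with rfl | rfl
      exacts [.refl _, (isConj_iff.2 ⟨j y, jc ya⟩).symm]
  obtain ⟨w₁, m1, k1⟩ := k a (by simp)
  obtain ⟨w₂, m2, k2⟩ := k c2 (by simp)
  have i1 : cg n (j w₁) = j a := cg_s' k1
  have i2 : cg n (j w₂) = j c2 := cg_s' k2
  have nO : ∀ o ∈ O, cg n⁻¹ o ∈ O := fun o ho => by
    have c : ∀ b ∈ F0 H, cg n⁻¹ o * b = b * cg n⁻¹ o := fun b hb => cg_iff.1 (by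
      obtain ⟨w, -, k⟩ := norF H h1 h2 h3 hb
      rw [cg_c, inv_inv, show cg o (cg n b) = cg n b by
        rcases k with k | k <;> simp only [k, cg_r, cg_iff.2 (H.oe o ho), cg_iff.2 (H.oj o ho w)]]
      exact cg_s rfl)
    have c' : ∀ w ∈ [z, p, a, c2], cg n⁻¹ o * j w = j w * cg n⁻¹ o := fun w hw =>
      c _ ⟨w, subset_closure hw, .inl rfl⟩
    obtain ⟨o', ho', w, hw, k⟩ := H.kE (c e ⟨1, one_mem _, .inr (by simp)⟩) (c' _ (by simp))
      (c' _ (by simp)) (c' _ (by simp)) (c' _ (by simp))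
    obtain ⟨m, hm, k'⟩ := H.pow_odd ho
    replace k' : cg n⁻¹ o ^ m = 1 := by rw [cg, conj_pow, k']; simp
    have w2 : j w * j w = 1 := by rw [← map_mul, (E1_sq hw).1, map_one]
    rcases k with k | k <;> rw [k] at k' ⊢
    · exact oddO H ho' w2 (H.oj _ ho' _) hm k'
    · exact oddO H ho' (by rw [mul_assoc, tl (H.ec w).symm, mul_assoc, w2, mul_one, H.e2])
        (Commute.mul_right (H.oe _ ho') (H.oj _ ho' _)) hm k'
  have r0 : cg (cg n (j y)) (e * j a) = e * j a := by rw [cg_c, cg_s h0, je H, h0]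
  have r1 : cg (cg n (j y)) (j z) = j z := by
    rw [cg_c, h1, jc (show y * z * y⁻¹ = z by decide +kernel), cg_s' h1]
  have r2 : cg (cg n (j y)) (j p) = j p := by
    rcases h2 with k | k
    · rw [cg_c, k, jc (show y * p * y⁻¹ = p by decide +kernel), cg_s' k]
    · rw [cg_c, k, jc (show y * (p * z) * y⁻¹ = p * z by decide +kernel), cg_s' k]
  have r3 : ∀ o ∈ O, cg (cg n (j y)) o = o := fun o ho => by
    rw [cg_c, cg_sw (cg_iff.2 (H.oj _ (nO o ho) y))]; simp [cg, mul_assoc]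
  have fin : ∀ d : X, d ∈ [y, y⁻¹] → cg (cg n (j y)) (j a) = j (d * a * d⁻¹) →
      cg (cg n (j y)) (j c2) = j (d * c2 * d⁻¹) → ∃ γ, (∀ o ∈ O, γ * o = o * γ) ∧ Trl j e γ :=
    fun d hd r4 r5 => by
      obtain ⟨d1, d2, d3, d4⟩ := (by decide +kernel : ∀ d ∈ [y, y⁻¹], d * z * d⁻¹ = z ∧
        d * p * d⁻¹ = p ∧ d⁻¹ * a * d * a⁻¹ ∈ LE1 ∧ ¬ InV (d⁻¹ * a * d * a⁻¹)) d hd
      refine ⟨(j d)⁻¹ * cg n (j y), fun o ho => cg_iff.1 (cg_eq (by
        rw [r3 o ho, cg_sw (cg_iff.2 (H.oj o ho d))])), fun w hw => ?_, _, mem_E1.2 d3, d4, ?_⟩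
      · refine (mem_centralizer_singleton_iff.1 ((closure_le ((centralizer {_}).comap j)).2
          (fun w hw => mem_centralizer_singleton_iff.2 (cg_iff.1 (cg_eq ?_)).symm) hw)).symm
        simp only [List.mem_cons, List.not_mem_nil, or_false, Set.mem_ofPred_eq] at hw
        rcases hw with rfl | rfl | rfl | rfl
        exacts [r1.trans (jc d1).symm, r2.trans (jc d2).symm, r4.trans (cj_j _ _).symm,
          r5.trans (cj_j _ _).symm]
      · rw [cg_r, r4] at r0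
        rw [← cg, cg_l, eq_mul_inv_of_mul_eq r0, cg_r, cg_r, cg_s (je H d), cg_i, cg_s (cj_j d a)]
        simp [cg, mul_assoc]
  have ne : ∀ {u u' w w' : X}, cg n (j w) = j u → cg n (j w') = j u' → u ≠ u' → w ≠ w' :=
    fun a b c d => c (H.inj (a.symm.trans (d ▸ b)))
  have i0 : cg n (j 1) = j 1 := by simp [cg]
  rcases (by unfold LR c2; decide +kernel : ∀ u ∈ LR, ∀ w ∈ LR, u ≠ 1 → w ≠ 1 → u ≠ w →
      y * u * y⁻¹ = w ∧ y * w * y⁻¹ = u * w ∨ y * u * y⁻¹ = u * w ∧ y * w * y⁻¹ = u) w₁ m1 w₂ m2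
    (ne i1 i0 (by decide +kernel)) (ne i2 i0 (by unfold c2; decide +kernel))
    (ne i1 i2 (by unfold c2; decide +kernel)) with ⟨a1, a2⟩ | ⟨a1, a2⟩
  · exact fin y (by simp) (by rw [cg_c, k1, jc a1, i2, ya])
      (by rw [cg_c, k2, jc a2, map_mul, cg_r, i1, i2, yc, map_mul])
  · exact fin y⁻¹ (by simp) (by
      rw [cg_c, k1, jc a1, map_mul, cg_r, i1, i2, ← map_mul]
      exact congrArg j (by unfold c2; decide +kernel)) (by
      rw [cg_c, k2, jc a2, i1]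
      exact congrArg j (by unfold c2; decide +kernel))⟩

end H21.JSS
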