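import Cfsg.Agent.H21.JSF

/-! Tower JS, job `JobNT`: there is no translation in the Suzuki configuration. -/

set_option autoImplicit false
set_option linter.unusedSectionVars false
set_option maxRecDepth 100000

namespace H21.JSS

open Cfsg Subgroup H8.JS MulAut H49 H71
open H4.M2 (X g y p q r s t z a h)

universe u
variable {G : Type u} [Group G] [Finite G] {j : X →* G} {e v x n n' : G} {c c' w : X}

/-- `n` centralizes `E1` and sends `e` to `e c` -/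
def Tl (j : X →* G) (e n : G) (c : X) : Prop := (∀ w ∈ E1, cg n (j w) = j w) ∧ cg n e = e * j c

theorem Tl.mul (k : Tl j e n c) (k' : Tl j e n' c') (hc : c' ∈ E1) : Tl j e (n * n') (c * c') :=
  ⟨fun w hw => by rw [cg_l, k'.1 w hw, k.1 w hw],
    by rw [cg_l, k'.2, cg_r, k.2, k.1 _ hc, map_mul, mul_assoc]⟩

theorem nE : ∀ l ∈ [d1, d2, y], ∀ w ∈ LE1, l⁻¹ * w * l ∈ LE1 ∧ l * w * l⁻¹ ∈ LE1 := by decide +kernel

theorem cE' : ∀ w ∈ LE1, w * z = z * w ∧ w * p = p * w ∧ w * (p * z) = p * z * w := by decide +kernel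

theorem V_E1 (hw : InV w) : w ∈ E1 := by
  refine mem_E1.2 ?_
  rcases hw with rfl | rfl | rfl | rfl <;> decide +kernel

section
variable (H : St j e ⊥)
include H

theorem Tl.cj (k : Tl j e n c) {l : X} (hl : l ∈ [d1, d2, y]) : Tl j e (cg (j l) n) (l * c * l⁻¹) :=
  ⟨fun w hw => by
    have := cg_tr (j l) (k.1 _ (mem_E1.2 (nE l hl w (mem_E1.1 hw)).1))
    rwa [cj_j, show l * (l⁻¹ * w * l) * l⁻¹ = w by group] at this, by
    have := cg_tr (j l) k.2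
    rwa [cg_r, je H, cj_j] at this⟩

theorem Tl.eq (k : Tl j e n c) (k' : Tl j e n' c) : ∃ w ∈ E1, ∃ f, Pj j e f w ∧ n' = n * f := by
  have m : ∀ w ∈ [z, p, a, c2], n⁻¹ * n' * j w = j w * (n⁻¹ * n') := fun w hw =>
    cg_iff.1 (cg_eq ((k'.1 w (subset_closure hw)).trans (k.1 w (subset_closure hw)).symm))
  obtain ⟨o, ho, w, hw, h1⟩ := H.kE (cg_iff.1 (cg_eq (k'.2.trans k.2.symm))) (m _ (by simp))
    (m _ (by simp)) (m _ (by simp)) (m _ (by simp))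
  exact ⟨w, hw, _, by simpa only [Pj, mem_bot.1 ho, one_mul] using h1, (mul_inv_cancel_left _ _).symm⟩

variable (D : SD j e ⊥ v x)
include D

theorem exU (hw : InV w) : ∃ u, Tl j e u w ∧ cg u v = v ∧
    ∃ w', (w, w') ∈ [((1 : X), (1 : X)), (z, z), (p, p * z), (p * z, p)] ∧ cg x u = u * j w' := by
  have V := D.toVv
  have B := tb H V D.vv
  have R := rl H V
  have xi : x⁻¹ = x := inv_eq_of_mul_eq_one_right D.x2
  have xv : cg x v = v * j z := by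
    rw [← R.iv.2.2.2.1, ← D.xe, cg]
    simp only [mul_inv_rev, xi, H.einv, ← mul_assoc, D.x2, one_mul]
  have xw : cg x (up j v) = up j v * j (p * z) := by rw [cg, xi, D.xv, map_mul, mul_assoc]
  have t1 : uz j v = (v * up j v)⁻¹ := eq_inv_of_mul_eq_one_right D.vv
  rcases hw with rfl | rfl | rfl | rfl
  · exact ⟨1, ⟨fun _ _ => by simp [cg], by simp [cg]⟩, by simp [cg], 1, by simp, by simp [cg]⟩
  · exact ⟨v, ⟨fun w hw => acv H V w (cE' w (mem_E1.1 hw)).1, V.ve⟩, cg_self v, z, by simp, xv⟩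
  · exact ⟨_, ⟨fun w hw => (acv H V).up' (cE' w (mem_E1.1 hw)).2.1, B.pe⟩, B.pv, _, by simp, xw⟩
  · refine ⟨uz j v, ⟨fun w hw => (acv H V).uz' (cE' w (mem_E1.1 hw)).2.2, by
      rw [← up_up, up_e H B.pe, up_p, map_mul]⟩, t1 ▸ cg_s (by rw [cg_l, B.pv, cg_self]), p,
      by simp, ?_⟩
    have c1 : cg (v * up j v) (j p) = j p := by
      rw [cg_l, B.pp]; exact acv H V p (by decide +kernel)
    rw [t1, cg_i, cg_r, xv, xw, cg_iff.1 (cg_s c1), ← R.iv.2.1, ← mul_inv_rev, inv_inj, map_mul,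
      mul_assoc, tl (cg_iff.1 B.pz).symm, mul_assoc, tl R.zp, mul_assoc, R.zz, mul_one, mul_assoc]

theorem trans_l (k : Tl j e n c) (hc : c ∈ E1) {l : X} (hl : l ∈ [d1, d2]) :
    ∃ u, cg u v = v ∧ (∀ w ∈ E1, cg u (j w) = j w) ∧
      (∃ w', (l * c * l⁻¹ * c⁻¹, w') ∈ [((1 : X), (1 : X)), (z, z), (p, p * z), (p * z, p)] ∧
        cg x u = u * j w') ∧ ∃ w ∈ E1, ∃ f, Pj j e f w ∧ cg (j l) n = u * n * f := by
  obtain ⟨u, u1, u2, u4⟩ := exU H D ((by decide +kernel : ∀ l ∈ [d1, d2], ∀ c ∈ LE1,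
    InV (l * c * l⁻¹ * c⁻¹)) l hl c (mem_E1.1 hc))
  have := u1.mul k hc
  rw [inv_mul_cancel_right] at this
  exact ⟨u, u2, u1.1, u4, this.eq H (k.cj H (List.mem_append_left [y] hl))⟩

theorem lv {l : X} (hl : l ∈ [d1, d2, y]) : cg (j l) v = v :=
  cg_sw (acv H D.toVv l ((by decide +kernel : ∀ l ∈ [d1, d2, y], l * z = z * l) l hl))

theorem stepA (k : Tl j e n c) (hc : c ∈ E1) : ∃ w, InV w ∧ cg n v = v * j w := by
  have V := D.toVv
  have R := rl H V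
  have m0 : z ∈ E1 := V_E1 (.inr (.inl rfl))
  have h1 : Tl j e v z := ⟨fun w hw => acv H V w (E1_sq hw).2, V.ve⟩
  have h3 : cg e v = v * j z := by rw [cg, H.einv, mul_assoc, R.ve, tl R.ee, one_mul]
  have c2 : j c * j c = 1 := by rw [← map_mul, (E1_sq hc).1, map_one]
  obtain ⟨w, hw, f, hf, h5⟩ := h1.eq H (n' := cg n v) ⟨fun w hw => by
    rw [cg_c, cg_s (k.1 w hw), h1.1 w hw, k.1 w hw], by
    rw [cg_c, show cg n⁻¹ e = e * j c from cg_s (by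
      rw [cg_r, k.2, k.1 c hc, mul_assoc, c2, mul_one]), cg_r, h1.2, h1.1 c hc, cg_r, cg_r, k.2,
      k.1 c hc, k.1 _ m0, mul_assoc, mul_assoc, ← map_mul j z, ← (E1_sq hc).2, map_mul, tl c2,
      one_mul]⟩
  have w2 : j w * j w = 1 := by rw [← map_mul, (E1_sq hw).1, map_one]
  obtain rfl : f = j w := hf.resolve_right fun hf => by
    have h6 : cg n (v * v) = j z := by rw [V.v2, k.1 _ m0]
    rw [cg_r, h5, hf, mul_assoc, mul_assoc, tl (cg_iff.1 (h1.1 w hw)).symm, mul_assoc,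
      tl (H.ec w).symm, mul_assoc, w2, mul_one, R.ve, tl R.ee, one_mul, tl R.vv, R.zz] at h6
    exact z1 H V h6.symm
  refine ⟨w, (by decide +kernel : ∀ w ∈ LE1, (∀ l ∈ [d1, d2], l * w * l⁻¹ = w ∨
    l * w * l⁻¹ = w * z) → InV w) w (mem_E1.1 hw) fun l hl => ?_, h5⟩
  obtain ⟨u', u4, u3, -, w', hw', f, hf, h6⟩ := trans_l H D k hc hl
  have h4 := lv H D (List.mem_append_left [y] hl)
  have h7 := cg_tr (j l) h5
  rw [h4, cg_r, h4, cj_j, h6, cg_l, cg_l] at h7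
  rcases hf with rfl | rfl
  · rw [cg_sw (h1.1 _ hw'), h5, cg_r, u4, u3 w hw, mul_right_inj] at h7
    exact .inl (H.inj h7).symm
  · rw [cg_l, cg_sw (h1.1 _ hw'), h3, cg_r, h5, k.1 _ m0, mul_assoc, ← map_mul, cg_r, u4,
      u3 _ (mul_mem hw m0), mul_right_inj] at h7
    exact .inr (H.inj h7).symm

end

theorem jobNT : JobNT.{u} := fun G _ _ j e v x γ H D ⟨h1, c, hc, hc', h2⟩ => by
  have V := D.toVv
  have R := rl H V
  have k : Tl j e γ c := ⟨fun w hw => cg_iff.2 (h1 w hw), h2⟩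
  obtain ⟨n, c, hc, hc', k, n1⟩ : ∃ n c, c ∈ E1 ∧ ¬ InV c ∧ Tl j e n c ∧ cg n v = v := by
    obtain ⟨w, hw, h3⟩ := stepA H D k hc
    have m := mem_E1.2 (nE y (by simp) c (mem_E1.1 hc)).2
    refine ⟨_, _, mul_mem hc m, (by decide +kernel : ∀ c ∈ LE1, ¬ InV c → ¬ InV (c * (y * c * y⁻¹)))
      c (mem_E1.1 hc) hc', k.mul (k.cj H (l := y) (by simp)) m, ?_⟩
    have h4 := cg_tr (j y) h3
    rw [cg_r, lv H D (by simp), jc (w' := w) (by
      rcases hw with rfl | rfl | rfl | rfl <;> decide +kernel)] at h4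
    rw [cg_l, h4, cg_r, h3, k.1 w (V_E1 hw), mul_assoc, ← map_mul, (E1_sq (V_E1 hw)).1, map_one,
      mul_one]
  have xi : x⁻¹ = x := inv_eq_of_mul_eq_one_right D.x2
  have xc : ∀ w, w * z = z * w → cg x (j w) = j w := fun w hw => cg_iff.2 (D.xc w hw)
  have xv : cg x v = v⁻¹ := by
    rw [← D.xe, cg]
    simp only [mul_inv_rev, xi, H.einv, ← mul_assoc, D.x2, one_mul]
  have xe : cg x e = e * v⁻¹ := by
    rw [← D.xe, cg]
    simp only [mul_inv_rev, xi, H.einv, ← mul_assoc, H.e2, one_mul]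
  have nv : ∀ {u f w}, w ∈ E1 → Pj j e f w → cg u v = v → cg (u * f) v = v → f = j w :=
    fun {u f w} hw hf h1 h2 => hf.resolve_right fun hf => nev H V (E1_sq hw).2 (by
      rw [cg_l] at h2
      rw [← hf, ← cg_s h2, cg_s h1])
  obtain ⟨f, hf, _, h3, h4⟩ := k.eq H (n' := cg x n) ⟨fun w hw => by
    rw [cg_c, xi, xc w (E1_sq hw).2, k.1 w hw, xc w (E1_sq hw).2], by
    rw [cg_c, xi, xe, cg_r, cg_i, k.2, n1, cg_r, cg_r, cg_i, xe, xv, xc c (E1_sq hc).2, inv_inv,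
      mul_assoc, ← V.vc c (E1_sq hc).2, mul_assoc, inv_mul_cancel_left]⟩
  obtain rfl := nv hf h3 n1 (by rw [← h4, cg_c, xi, xv, cg_i, n1, cg_i, xv, inv_inv])
  refine (by decide +kernel : ∀ c ∈ LE1, ¬ InV c → ∀ f ∈ LE1, ¬ ∀ l ∈ [d1, d2],
    ∃ w ∈ [((1 : X), (1 : X)), (z, z), (p, p * z), (p * z, p)], w.1 = l * c * l⁻¹ * c⁻¹ ∧
      l * f * l⁻¹ = w.2 * f) c (mem_E1.1 hc) hc' f (mem_E1.1 hf) fun l hl => ?_
  obtain ⟨u, u1, u2, ⟨w, u3, u4⟩, f', hf', _, h5, h6⟩ := trans_l H D k hc hl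
  have h7 := lv H D (List.mem_append_left [y] hl)
  obtain rfl := nv hf' h5 (by rw [cg_l, n1, u1]) (by rw [← h6, cg_c, cg_s h7, n1, h7])
  refine ⟨_, u3, rfl, H.inj ?_⟩
  have hw : w ∈ E1 := mem_E1.2 ((by decide +kernel : ∀ w ∈ [((1 : X), (1 : X)), (z, z), (p, p * z),
    (p * z, p)], w.2 ∈ LE1) _ u3)
  have h8 := congrArg (cg x) h6
  rw [← cg_cg, xc l ((by decide +kernel : ∀ l ∈ [d1, d2], l * z = z * l) l hl), h4, cg_r, h6, cj_j,
    cg_r, cg_r, u4, h4, xc _ (E1_sq hf').2] at h8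
  generalize l * f * l⁻¹ = f'' at h8 ⊢
  simp only [mul_assoc, mul_right_inj, tl (cg_iff.1 (k.1 w hw)).symm] at h8
  rw [← mul_assoc, ← map_mul j w, ← map_mul, ← map_mul, (by decide +kernel : ∀ a ∈ LE1, ∀ b ∈ LE1, a * b = b * a) _
      (mem_E1.1 (mul_mem hw hf)) _ (mem_E1.1 hf'), map_mul, map_mul j f', mul_right_inj] at h8
  exact h8

end H21.JSS
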