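import Cfsg.Agent.H8.JSKit

/-! Tower JS, job `JobS`: the dihedral group of order `16`. -/

set_option autoImplicit false
set_option linter.unusedSectionVars false
set_option maxRecDepth 100000

namespace H21.JSS

open Cfsg Subgroup H8.JS MulAut
open H4.M2 (X g y p q r s t z a h)
open H4.QJ (tau tau_eq)

universe u
variable {G : Type u} [Group G]

def cg (a b : G) : G := a * b * a⁻¹

section
variable {a b c x : G}

theorem cg_l (a b x : G) : cg (a * b) x = cg a (cg b x) := by simp [cg, mul_assoc]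
theorem cg_r (a b x : G) : cg a (b * x) = cg a b * cg a x := by simp [cg, mul_assoc]
theorem cg_i (a x : G) : cg a x⁻¹ = (cg a x)⁻¹ := by simp [cg, mul_assoc]
theorem cg_1 (a : G) : cg a 1 = 1 := by simp [cg]
theorem cg_cg (c a x : G) : cg (cg c a) (cg c x) = cg c (cg a x) := by simp [cg, mul_assoc]
theorem cg_c (a b x : G) : cg (cg a b) x = cg a (cg b (cg a⁻¹ x)) := by simp [cg, mul_assoc]
theorem cg_s (k : cg a x = b) : cg a⁻¹ b = x := by simp [← k, cg, mul_assoc]
theorem cg_self (a : G) : cg a a = a := by simp [cg]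
theorem cg_iff : cg a x = x ↔ a * x = x * a := mul_inv_eq_iff_eq_mul
theorem cg_sw (k : cg a x = x) : cg x a = a := cg_iff.2 (cg_iff.1 k).symm
theorem cg_pow (k : cg a x = x) (n : ℕ) : cg (a ^ n) x = x :=
  cg_iff.2 (Commute.pow_left (cg_iff.1 k) n)
theorem cg_tr (c : G) (k : cg a x = b) : cg (cg c a) (cg c x) = cg c b := k ▸ cg_cg c a x
/-- two elements with the same action -/
theorem cg_eq (k : cg a x = cg b x) : cg (b⁻¹ * a) x = x := by rw [cg_l, k]; exact cg_s rfl

theorem tl (k : a * b = c) (x : G) : a * (b * x) = c * x := by rw [← k, mul_assoc]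

theorem tri_comm (k : a * b * c = 1) (k' : c * c * (a * a * (b * b)) = 1) : b * a = a * b := by
  obtain rfl := eq_inv_of_mul_eq_one_right k
  rw [← mul_inv_rev, inv_mul_eq_one, mul_assoc, mul_assoc, mul_right_inj, ← mul_assoc, ← mul_assoc,
    mul_left_inj] at k'
  exact k'

end

structure Rl (e P Q v Z : G) : Prop where
  ee : e * e = 1
  pp : P * P = 1
  qq : Q * Q = 1
  vv : v * v = Z
  zz : Z * Z = 1
  pe : P * e = e * P
  qe : Q * e = e * Q
  ve : v * e = e * (v * Z)
  ze : Z * e = e * Z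
  qp : Q * P = P * (Q * Z)
  vp : v * P = P * v
  zp : Z * P = P * Z
  vq : v * Q = Q * v
  zq : Z * Q = Q * Z
  zv : Z * v = v * Z

theorem Rl.iv {e P Q v Z : G} (R : Rl e P Q v Z) :
    e⁻¹ = e ∧ P⁻¹ = P ∧ Q⁻¹ = Q ∧ v⁻¹ = v * Z ∧ Z⁻¹ = Z :=
  ⟨inv_eq_of_mul_eq_one_right R.ee, inv_eq_of_mul_eq_one_right R.pp, inv_eq_of_mul_eq_one_right R.qq,
    inv_eq_of_mul_eq_one_right (by rw [tl R.vv, R.zz]), inv_eq_of_mul_eq_one_right R.zz⟩

local macro "nf " R:term " with " "[" l:term,* "]" : tactic => `(tactic| simp only [cg_l, cg_r, cg_i, cg_1,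
  $[$l:term],*, mul_inv_rev, inv_inv, mul_assoc, mul_one, one_mul, ($R).iv, ($R).ee, tl ($R).ee,
  ($R).pp, tl ($R).pp, ($R).qq, tl ($R).qq, ($R).vv, tl ($R).vv, ($R).zz, tl ($R).zz, ($R).pe, tl ($R).pe,
  ($R).qe, tl ($R).qe, ($R).ve, tl ($R).ve, ($R).ze, tl ($R).ze, ($R).qp, tl ($R).qp, ($R).vp, tl ($R).vp,
  ($R).zp, tl ($R).zp, ($R).vq, tl ($R).vq, ($R).zq, tl ($R).zq, ($R).zv, tl ($R).zv])

theorem cy {w : X} (h1 : w * z = z * w) (h2 : w * y = y * w) : ∃ i : ℕ, w ^ 4 = y ^ i :=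
  (all0 (P := fun w => w * y = y * w → ∃ i ∈ [0, 1, 2], w * w * (w * w) = y ^ i) (by decide +kernel)
    w h1 h2).imp fun _ k => .trans (by simp only [pow_succ, pow_zero, one_mul, mul_assoc]) k.2

variable [Finite G] {j : X →* G} {e v n b : G}

theorem kQ (H : St j e ⊥) (h0 : b * e = e * b) (h1 : ∀ w ∈ [p, q, r, s], b * j w = j w * b) :
    b ∈ [1, e, j z, e * j z] := by
  obtain ⟨o, ho, d, hd, rfl⟩ := H.kQ h0 (h1 _ (by simp)) (h1 _ (by simp)) (h1 _ (by simp))
    (h1 _ (by simp))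
  rwa [mem_bot.1 ho, one_mul]

theorem kP (H : St j e ⊥) (h0 : b * e = e * b) (h1 : ∀ w ∈ [a, c2, d1, d2], b * j w = j w * b) :
    ∃ w, InV w ∧ (b = j w ∨ b = e * j w) := by
  obtain ⟨o, ho, w, hw, k⟩ := H.kP h0 (h1 _ (by simp)) (h1 _ (by simp)) (h1 _ (by simp))
    (h1 _ (by simp))
  exact ⟨w, hw, by simpa only [mem_bot.1 ho, one_mul] using k⟩

/-- `n` acts on the centralizer of `z` as `θ` -/
def Ac (j : X →* G) (n : G) (θ : X → X) : Prop := ∀ w, w * z = z * w → cg n (j w) = j (θ w)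

theorem cj_j (c w : X) : cg (j c) (j w) = j (c * w * c⁻¹) := by simp [cg]

theorem jc {c w w' : X} (k : c * w * c⁻¹ = w') : cg (j c) (j w) = j w' := k ▸ cj_j c w

theorem uz_eq (n : G) : uz j n = cg (j g)⁻¹ n := by simp [cg, uz]

theorem g3 : j g * j g = (j g)⁻¹ := by
  rw [← map_mul, ← map_inv, show g * g = g⁻¹ by decide +kernel]

theorem up_up (n : G) : up j (up j n) = uz j n := by
  rw [uz_eq, ← g3]; exact (cg_l _ _ _).symm

theorem up_uz (n : G) : up j (uz j n) = n := by simp [up, uz, mul_assoc]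

theorem Ac.up {θ : X → X} (k : Ac j n θ) {w : X} (hw : w * p = p * w) :
    cg (up j n) (j w) = j (g * θ (g⁻¹ * w * g) * g⁻¹) := by
  have := cg_tr (j g) (k (g⁻¹ * w * g) (by
    rw [show z = g⁻¹ * p * g by decide +kernel]; simp [mul_assoc, tl hw]))
  rwa [cj_j, cj_j, show g * (g⁻¹ * w * g) * g⁻¹ = w by group] at this

theorem Ac.uz {θ : X → X} (k : Ac j n θ) {w : X} (hw : w * (p * z) = p * z * w) :
    cg (uz j n) (j w) = j (g⁻¹ * θ (g * w * g⁻¹) * g) := by
  have := cg_tr (j g⁻¹) (k (g * w * g⁻¹) (by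
    rw [show z = g * (p * z) * g⁻¹ by decide +kernel, conj_mul, conj_mul, hw]))
  rwa [cj_j, cj_j, show g⁻¹ * (g * w * g⁻¹) * g⁻¹⁻¹ = w by group, inv_inv, map_inv, ← uz_eq] at this

theorem Ac.up' (k : Ac j n id) {w : X} (hw : w * p = p * w) : cg (H8.JS.up j n) (j w) = j w := by
  rw [k.up hw]; simp [mul_assoc]

theorem Ac.uz' (k : Ac j n id) {w : X} (hw : w * (p * z) = p * z * w) :
    cg (H8.JS.uz j n) (j w) = j w := by
  rw [k.uz hw]; simp [mul_assoc]

theorem inV {w : X} (hw : InV w) : w * z = z * w ∧ w * p = p * w ∧ tau w = w ∧ InV (g * w * g⁻¹) ∧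
    (g * w * g⁻¹ = w → w = 1) ∧ (q * w * q⁻¹ = w⁻¹ → w = 1 ∨ w = z) := by
  unfold InV at hw ⊢
  rcases hw with rfl | rfl | rfl | rfl <;>
    exact ⟨by decide +kernel, by decide +kernel, by simp [tau_p, tau_z], by decide +kernel⟩

theorem gP0 : ∀ w ∈ [a, c2, d1, d2], w * z = z * w ∧ w * p = p * w ∧ w * (p * z) = p * z * w := by
  unfold d1 d2 c2; decide +kernel

section
variable (H : St j e ⊥) (V : Vv j e ⊥ v)
include H V

theorem rl : Rl e (j p) (j q) v (j z) := by
  have k : ∀ {a b c : X}, a * b = c → j a * j b = j c := fun k => by rw [← map_mul, k]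
  have k' : ∀ {a b c d : X}, a * b = c * d → j a * j b = j c * j d := fun k => by
    rw [← map_mul, k, map_mul]
  have c := V.vc z rfl
  refine ⟨H.e2, map_one j ▸ k (by decide +kernel), map_one j ▸ k (by decide +kernel), V.v2,
    map_one j ▸ k (by decide +kernel), (H.ec _).symm, (H.ec _).symm, ?_, (H.ec _).symm, ?_,
    V.vc _ (by decide +kernel), k' (by decide +kernel), V.vc _ (by decide +kernel),
    k' (by decide +kernel), c.symm⟩
  · rw [eq_mul_of_mul_inv_eq V.ve, c, mul_assoc]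
  · rw [← map_mul j q z]; exact k' (by decide +kernel)

theorem z1 : j z ≠ 1 := (map_ne_one_iff _ H.inj).2 (by decide +kernel)

theorem nev {w : X} (hw : w * z = z * w) : cg (e * j w) v ≠ v := fun k => by
  have R := rl H V
  rw [cg_l, cg_sw (cg_iff.2 (V.vc w hw)), cg_iff, R.ve, mul_right_inj, left_eq_mul] at k
  exact z1 H V k

theorem kP' (h0 : cg b e = e) (h1 : ∀ w ∈ [a, c2, d1, d2], cg b (j w) = j w) (h2 : cg b v = v) :
    ∃ w, InV w ∧ b = j w := by
  obtain ⟨w, hw, k | rfl⟩ := kP H (cg_iff.1 h0) fun w hw => cg_iff.1 (h1 w hw)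
  exacts [⟨w, hw, k⟩, absurd h2 (nev H V (inV hw).1)]

theorem kQ' (h0 : cg b e = e) (h1 : Ac j b id) (h2 : cg b v = v) : b = 1 ∨ b = j z := by
  have := kQ H (cg_iff.1 h0) fun w hw => cg_iff.1 (h1 w
    ((by decide +kernel : ∀ w ∈ [p, q, r, s], w * z = z * w) w hw))
  simp only [List.mem_cons, List.not_mem_nil, or_false] at this
  rcases this with k | rfl | k | rfl
  exacts [.inl k, absurd (by simpa using h2) (nev H V (w := 1) (by simp)), .inr k,
    absurd h2 (nev H V rfl)]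

theorem k1' (h0 : cg b e = e) (h1 : ∀ w, cg b (j w) = j w) : b = 1 ∨ b = e :=
  (H.ker b (cg_iff.1 h0) fun w => cg_iff.1 (h1 w)).imp mem_bot.1 fun k =>
    (eq_inv_of_mul_eq_one_right (mem_bot.1 k)).trans (rl H V).iv.1

theorem tri (k : Ac j n id) (h0 : cg (n * up j n * uz j n) e = e)
    (h2 : cg (n * up j n * uz j n) v = v) : Tri j n := by
  obtain ⟨w, hw, h3⟩ := kP' H V h0 (fun w hw => by
    obtain ⟨a1, a2, a3⟩ := gP0 w hw
    rw [cg_l, cg_l, k.uz' a3, k.up' a2]; exact k w a1) h2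
  have h4 : cg (j g) (j w) = cg n⁻¹ (j w) := by
    rw [← h3, cg_r, cg_r]
    show up j n * up j (up j n) * up j (uz j n) = _
    rw [up_up, up_uz]; simp [cg, mul_assoc]
  rw [cg_s (show cg n (j w) = j w from k w (inV hw).1), cj_j] at h4
  rw [Tri, h3, (inV hw).2.2.2.2.1 (H.inj h4), map_one]

theorem acv : Ac j v id := fun w hw => cg_iff.2 (V.vc w hw)

theorem vp_e : cg (up j v) e = e * j p := by
  have := cg_tr (j g) (show cg v e = _ from V.ve)
  rwa [cg_r, cg_sw (cg_iff.2 (H.ec g)), jc (show g * z * g⁻¹ = p by decide +kernel)] at this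

theorem vp2 : up j v * up j v = j p := by
  have := congrArg (cg (j g)) V.v2
  rwa [cg_r, jc (show g * z * g⁻¹ = p by decide +kernel)] at this

omit H V in
theorem up_e {x : G} (H : St j e ⊥) (k : cg n e = e * x) : cg (up j n) e = e * up j x := by
  have := cg_tr (j g) k
  rwa [cg_r, cg_sw (cg_iff.2 (H.ec g))] at this

omit H V in
theorem up_z : up j (j z) = j p := jc (by decide +kernel)

omit H V in
theorem up_p : up j (j p) = j p * j z := (jc (by decide +kernel)).trans (map_mul _ _ _)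

omit H V in
theorem up_mul (a b : G) : up j (a * b) = up j a * up j b := cg_r _ _ _

omit H V in
theorem up_cg {a b c : G} (k : cg a b = c) : cg (up j a) (up j b) = up j c := cg_tr _ k

omit H V in
theorem q_up (k : cg n (j q) = j q) : cg (j q) (up j n) = uz j n := by
  have := cg_cg (j q) (j g) n
  rw [cg_sw k, jc (show q * g * q⁻¹ = g⁻¹ by decide +kernel), map_inv, ← uz_eq] at this
  exact this.symm

theorem up_q (k : cg n (j q) = j q) (T : Tri j n) (c : up j n * n = n * up j n) :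
    cg (up j n) (j q) = j q * n⁻¹ * (up j n * up j n)⁻¹ := by
  have R := rl H V
  have := q_up k
  rw [eq_inv_of_mul_eq_one_right T, ← c, cg, R.iv.2.2.1] at this
  rw [cg, mul_inv_rev, ← mul_assoc, mul_left_inj, mul_assoc (j q), ← mul_inv_rev, ← this,
    ← mul_assoc, ← mul_assoc, R.qq, one_mul]

theorem fz (k : cg n v = v) : cg n (j z) = j z := by rw [← V.v2, cg_r, k]

/-- the action on `up v` -/
theorem act_vp {θ : X → X} (T : up j v * v = v * up j v) (k : Ac j n⁻¹ θ) (h0 : cg n e = e * v)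
    (h1 : cg n v = v) (h2 : cg n (j p) = j p) (h3 : ∀ w ∈ [a, c2, d1, d2], θ w * p = p * θ w) :
    ∃ w, InV w ∧ cg n (up j v) = up j v * j w := by
  have R := rl H V
  have T' := cg_iff.2 T
  have i0 : cg n⁻¹ e = e * v⁻¹ := cg_s (by nf R with [h0, h1, fz H V h1])
  obtain ⟨w, hw, h4⟩ := kP' H V (b := (up j v)⁻¹ * cg n (up j v)) (cg_eq (by
      rw [cg_c, i0]
      nf R with [vp_e H V, T', h0, h1, h2, fz H V h1, fz H V T'])) (fun w hw => cg_eq (by
      rw [cg_c, k w (gP0 w hw).1, (acv H V).up' (h3 w hw), ← k w (gP0 w hw).1,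
        (acv H V).up' (gP0 w hw).2.1]
      simp [cg, mul_assoc])) (cg_eq (by rw [cg_c, cg_s h1, T', h1]))
  exact ⟨w, hw, by rw [← h4, mul_inv_cancel_left]⟩

end

/-- `h (up v) h⁻¹` -/
noncomputable def uq (j : X →* G) (v : G) : G := cg (j h) (up j v)
noncomputable def um (j : X →* G) (v : G) : G := (uq j v)⁻¹ * up j v * uq j v

structure Tb (j : X →* G) (e v vp vq m : G) : Prop where
  c : vp * v = v * vp
  pe : cg vp e = e * j p
  pp : cg vp (j p) = j p
  pq : cg vp (j q) = j q * v⁻¹ * j p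
  pv : cg vp v = v
  pz : cg vp (j z) = j z
  qe : cg vq e = e * j q
  qp : cg vq (j p) = j p * v⁻¹ * j q
  qq : cg vq (j q) = j q
  qv : cg vq v = v
  qz : cg vq (j z) = j z
  qc : ∀ w, w * q = q * w → cg vq (j w) = j w
  me : cg m e = e * v
  mp : cg m (j p) = j q
  mq : cg m (j q) = j p * j z
  mv : cg m v = v
  mm : m * m = j p * j q * v
  mc : ∀ w, w * p = p * w → w * q = q * w → cg m (j w) = j w

section
variable (H : St j e ⊥) (V : Vv j e ⊥ v)
include H V

local notation "vq" => uq j v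
local notation "vp" => up j v
local notation "m" => um j v

theorem tb (T : Tri j v) : Tb j e v vp vq m := by
  have R := rl H V
  have c : up j v * v = v * up j v := tri_comm T (by
    rw [← up_up, ← up_mul, ← up_mul, V.v2, up_z, up_p]; nf R with [cg_1])
  have pv := cg_iff.2 c
  have pp : cg vp (j p) = j p := (acv H V).up' rfl
  have pq : cg vp (j q) = j q * v⁻¹ * j p := by
    rw [up_q H V (acv H V q (by decide +kernel)) T c, vp2 H V, R.iv.2.1]
  have he := cg_sw (cg_iff.2 (H.ec h))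
  have hv := cg_sw (show cg v (j h) = j h from acv H V h (by decide +kernel))
  have hp : cg (j h) (j p) = j q := jc (by decide +kernel)
  have hq : cg (j h) (j q) = j p := jc (by decide +kernel)
  have qe := cg_tr (j h) (vp_e H V)
  have qp := cg_tr (j h) pq
  have qq := cg_tr (j h) pp
  have qv := cg_tr (j h) pv
  simp only [cg_r, cg_i, he, hv, hp, hq] at qe qp qq qv
  rw [← uq] at qe qp qq qv
  have qz := fz H V qv
  have pz := fz H V pv
  have qc : ∀ w, w * q = q * w → cg vq (j w) = j w := fun w hw => by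
    have := cg_tr (j h) ((acv H V).up' (w := h⁻¹ * w * h) (by
      rw [show p = h⁻¹ * q * h by decide +kernel]; simp [mul_assoc, tl hw]))
    rwa [cj_j, show h * (h⁻¹ * w * h) * h⁻¹ = w by group] at this
  have ie : cg vq⁻¹ e = e * j q := cg_s (by nf R with [qe, qq])
  have ip : cg vq⁻¹ (j p) = j p * j q * v := cg_s (by nf R with [qp, qq, qv])
  have iq := cg_s qq
  have iv := cg_s qv
  have iz := cg_s qz
  unfold um
  refine ⟨c, vp_e H V, pp, pq, pv, pz, qe, qp, qq, qv, qz, qc, ?_, ?_, ?_, ?_, ?_, fun w a b => ?_⟩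
  · nf R with [qe, vp_e H V, pq, ie, ip, iq, iv, iz]
  · nf R with [qp, pp, pq, pv, pz, ip, iq, iv, iz]
  · nf R with [qq, pq, ip, iq, iv, iz]
  · nf R with [qv, pv, iv]
  · rw [← ip, ← vp2 H V]; simp [cg, mul_assoc]
  · rw [cg_l, cg_l, qc w b, (acv H V).up' a, cg_s (qc w b)]

theorem ac_n (B : Tb j e v vp vq m) : Ac j (m * (j (q * h))⁻¹) tau := by
  have R := rl H V
  obtain ⟨θ, hz, k⟩ := H.nrm0 (n := m⁻¹) (cg_iff.1 (cg_s (fz H V B.mv))) fun w hw => by
    have := cg_tr m⁻¹ (show cg (j w) (e * v) = e * v by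
      rw [cg_r, cg_sw (cg_iff.2 (H.ec w)), cg_sw (show cg v (j w) = j w from acv H V w hw)])
    rw [cg_s B.me] at this
    exact cg_iff.1 this
  replace k : Ac j m⁻¹ θ := k
  have tq : θ q = p := H.inj ((k q (by decide +kernel)).symm.trans (cg_s B.mp))
  have tp : θ p = q * z := H.inj ((k p (by decide +kernel)).symm.trans (cg_s (by
    nf R with [map_mul, B.mq, fz H V B.mv])))
  have t1 : θ (r * s) = r * s := H.inj ((k _ (by decide +kernel)).symm.trans (cg_s
    (B.mc _ (by decide +kernel) (by decide +kernel))))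
  have t2 : θ (s * t) = s * t := H.inj ((k _ (by decide +kernel)).symm.trans (cg_s
    (B.mc _ (by decide +kernel) (by decide +kernel))))
  have tr : θ r = r := by
    rw [show θ r = θ (q * p * (s * t)⁻¹) from congrArg θ (by decide +kernel), map_mul, map_mul,
      map_inv, t2, tp, tq]
    decide +kernel
  have ts : θ s = s := by rwa [map_mul, tr, mul_right_inj] at t1
  have key : ∀ w, w * z = z * w → (conj (q * h) * θ * tau) w = w := fun w hw => by
    rcases cQ (conj (q * h) * θ * tau)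
      (by rw [MulAut.mul_apply, MulAut.mul_apply, tau_p, tp]
          decide +kernel)
      (by rw [MulAut.mul_apply, MulAut.mul_apply, tau_q, tq]
          decide +kernel)
      (by rw [MulAut.mul_apply, MulAut.mul_apply, tau_r,
            map_mul θ, ts, hz]
          decide +kernel)
      (by rw [MulAut.mul_apply, MulAut.mul_apply, tau_s,
            map_mul θ, tr, hz]
          decide +kernel) with e | e <;> rw [e]
    · rfl
    · exact mul_inv_eq_iff_eq_mul.2 hw.symm
  intro w hw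
  have h1 := cg_s (k (tau w) (by rw [← tau_z, ← map_mul, ← map_mul, hw]))
  rw [inv_inv] at h1
  rw [cg_l, ← h1, cg_s (jc (show q * h * θ (tau w) * (q * h)⁻¹ = w from key w hw))]

theorem ex_tau (T : Tri j v) (k : Ac j n tau) (h0 : cg n e = e * v) (h1 : cg n v = v) :
    ∃ b, cg b e = e ∧ cg b v = v ∧ b * b = 1 ∧ ∀ w, cg b (j w) = j (tau w) := by
  have R := rl H V
  have B := tb H V T
  have tp := tau_p
  have tz := tau_z
  have ty := tau_y
  have ki : Ac j n⁻¹ tau := fun w hw => cg_s (by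
    rw [k _ (by rw [← tz, ← map_mul, ← map_mul, hw]), H4.QJ.tau_tau])
  obtain ⟨w, hw, h2⟩ := act_vp H V B.c ki h0 h1 (by rw [k p (by decide +kernel), tp]) fun w hw => by
    rw [← tp, ← map_mul, ← map_mul, (gP0 w hw).2.1]
  replace h2 := up_cg (j := j) h2
  rw [up_mul, show up j (j w) = _ from cj_j g w] at h2
  replace hw := (inV hw).2.2.2.1
  generalize g * w * g⁻¹ = w at hw h2
  have h3 := up_e H h0
  have h4 := up_e H h3
  have t1 : up j v * up j vp = v⁻¹ := by
    rw [up_up]; exact eq_inv_of_mul_eq_one_right ((mul_assoc _ _ _).symm.trans T)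
  have h5 : cg (n * up j n * up j (up j n)) e = e * j w := by
    rw [cg_l, cg_l, h4, cg_r, h3, h2, mul_assoc, ← mul_assoc vp, t1, cg_r, cg_r, cg_i, h0, h1,
      k w (inV hw).1, (inV hw).2.2.1]
    group
  have h6 : ∀ w ∈ [z, p, y], cg (n * up j n * up j (up j n)) (j w) = j (tau w) := fun w hw => by
    simp only [List.mem_cons, List.not_mem_nil, or_false] at hw
    rw [up_up, cg_l, cg_l, k.uz (by rcases hw with rfl | rfl | rfl <;> decide +kernel)]
    rcases hw with rfl | rfl | rfl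
    · rw [show g * z * g⁻¹ = p by decide +kernel, tp, k.up (by decide +kernel),
        show g⁻¹ * (g⁻¹ * p * g) * g = p * z by decide +kernel, map_mul tau, tp, tz,
        show g * (p * z) * g⁻¹ = z by decide +kernel, k z rfl, tz]
    · rw [show g * p * g⁻¹ = p * z by decide +kernel, map_mul tau, tp, tz, k.up (by decide +kernel),
        show g⁻¹ * (g⁻¹ * (p * z) * g) * g = z by decide +kernel, tz,
        show g * z * g⁻¹ = p by decide +kernel, k p (by decide +kernel), tp]
    · rw [show g * y * g⁻¹ = y by decide +kernel, ty, k.up (by decide +kernel),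
        show g⁻¹ * (g⁻¹ * y⁻¹ * g) * g = y⁻¹ by decide +kernel, map_inv tau, ty,
        show g * y⁻¹⁻¹ * g⁻¹ = y by decide +kernel, k y (by decide +kernel), ty]
  obtain ⟨u, u1, u2⟩ : ∃ u, cg u e = e * j w ∧ ∀ w ∈ [z, p, y⁻¹], cg u (j w) = j w := by
    have c : ∀ w ∈ [z, p, y⁻¹], w * z = z * w ∧ w * p = p * w ∧ w * (p * z) = p * z * w := by
      decide +kernel
    rcases hw with rfl | rfl | rfl | rfl
    · exact ⟨1, by simp [cg], fun w _ => by simp [cg]⟩
    · exact ⟨v, V.ve, fun w hw => acv H V w (c w hw).1⟩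
    · exact ⟨vp, B.pe, fun w hw => (acv H V).up' (c w hw).2.1⟩
    · exact ⟨uz j v, by rw [← up_up, up_e H B.pe, up_p, map_mul],
        fun w hw => (acv H V).uz' (c w hw).2.2⟩
  have h7 := cg_eq (h5.trans u1.symm)
  generalize n * up j n * up j (up j n) = π at h6 h7
  have h8 : ∀ w ∈ [z, p, y], tau w ∈ [z, p, y⁻¹] → cg (u⁻¹ * π) (j w) = j (tau w) := fun w hw hw' => by
    rw [cg_l, h6 w hw, cg_s (u2 _ hw')]
  obtain ⟨b, b1, b2⟩ := H.tau_of (cg_iff.1 h7)
    (cg_iff.1 ((h8 z (by simp) (by simp [tz])).trans (congrArg j tz)))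
    (cg_iff.1 ((h8 p (by simp) (by simp [tp])).trans (congrArg j tp))) (one_mem _)
    (by rw [mul_one, ← ty]; exact h8 y (by simp) (by simp [ty]))
  replace b1 := cg_iff.2 b1
  replace b2 : ∀ w, cg b (j w) = j (tau w) := b2
  have ev : cg e v = v⁻¹ := by rw [cg]; nf R with [cg_1]
  have ej : ∀ w, cg e (j w) = j w := fun w => cg_iff.2 (H.ec w)
  have bz : cg b (j z) = j z := by rw [b2, tz]
  obtain ⟨b, b1, b2, b3⟩ : ∃ b, cg b e = e ∧ (∀ w, cg b (j w) = j (tau w)) ∧ cg b v = v := by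
    have a1 : cg b (v * v) = j z := by rw [V.v2, bz]
    have := kQ H (b := v⁻¹ * cg b v) (cg_iff.1 (cg_eq (by
      rw [cg_c, cg_s b1, show cg v e = _ from V.ve, cg_r, b1, bz]))) fun w hw => cg_iff.1 (cg_eq (by
        have hw := (by decide +kernel : ∀ w ∈ [p, q, r, s], w * z = z * w) w hw
        have := cg_tr b (acv H V (tau w) (by rw [← tz, ← map_mul, ← map_mul, hw]))
        rw [id, b2, H4.QJ.tau_tau] at this
        exact this.trans (acv H V w hw).symm))
    simp only [List.mem_cons, List.not_mem_nil, or_false, inv_mul_eq_iff_eq_mul] at this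
    rw [cg_r] at a1
    rcases this with k | k | k | k
    · exact ⟨b, b1, b2, k.trans (mul_one v)⟩
    · exact (z1 H V (by rw [← a1, k]; nf R with [cg_1])).elim
    · exact ⟨e * b, by rw [cg_l, b1, cg_self], fun w => by rw [cg_l, b2, ej], by
        rw [cg_l, k, cg_r, ev, ej]; nf R with [cg_1]⟩
    · exact (z1 H V (by rw [← a1, k]; nf R with [cg_1])).elim
  refine ⟨b, b1, b3, (k1' H V (by rw [cg_l, b1, b1]) fun w => by
    rw [cg_l, b2, b2, H4.QJ.tau_tau]).resolve_right fun k => nev H V (w := 1) (by simp) ?_, b2⟩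
  rw [map_one, mul_one, ← k, cg_l, b3, b3]

theorem pow8 (h0 : cg b e = e) (hz : cg b (j z) = j z) (hy : cg b (j y) = j y) :
    ∃ i : ℕ, b ^ 8 = j y ^ i := by
  obtain ⟨θ, hθ⟩ := H.act _ (cg_iff.1 h0)
  obtain ⟨x, hx⟩ : ∃ x, ∀ w, cg (b * b) (j w) = cg (j x) (j w) := by
    simp only [cg_l, cj_j]
    obtain ⟨x, rfl | rfl⟩ := H4.QJ.dec θ
    · exact ⟨x * x, fun w => by rw [cg, cg, hθ, hθ]; simp [mul_assoc]⟩
    · exact ⟨x * tau x, fun w => by
        rw [cg, cg, hθ, hθ]; simp [H4.QJ.tau_tau, mul_assoc]⟩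
  have c : ∀ w, cg b (j w) = j w → x * w = w * x := fun w hw => mul_inv_eq_iff_eq_mul.1 (H.inj (by
    rw [← cj_j, ← hx, cg_l, hw, hw]))
  obtain ⟨i, hi⟩ := cy (c z hz) (c y hy)
  have h4 : b * b * (b * b) = j x * j x := by
    rcases k1' H V (b := (j x)⁻¹ * (b * b)) (cg_eq (by
      rw [cg_l, h0, h0, cg_sw (cg_iff.2 (H.ec x))])) fun w => cg_eq (hx w) with k | k <;>
      rw [inv_mul_eq_iff_eq_mul.1 k]
    · rw [mul_one]
    · rw [mul_assoc, tl (H.ec x), mul_assoc, H.e2, mul_one]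
  exact ⟨i, by rw [← map_pow, ← hi, map_pow, show b ^ 8 = (b * b * (b * b)) ^ 2 by
    simp only [pow_succ, pow_zero, one_mul, mul_assoc], h4, ← pow_two, ← pow_mul]⟩

theorem no_sd (T : Tri j v) (k : Ac j n id) (h0 : cg n e = e * v) (h1 : cg n v = v) (h2 : n * n = v)
    (h3 : cg n vp = vp) : False := by
  have R := rl H V
  have B := tb H V T
  have t1 : up j vp = (v * vp)⁻¹ := up_up v ▸ eq_inv_of_mul_eq_one_right T
  have t3 : up j (up j vp) = v := by rw [up_up v, up_uz]
  have a1 := up_cg (j := j) h3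
  have a2 := up_cg (j := j) (show cg n (up j vp) = up j vp by rw [t1, cg_i, cg_r, h1, h3])
  have a3 := up_cg (j := j) a1
  rw [t3] at a2 a3
  have a4 := up_e H h0
  have a5 := up_e H a4
  have Tn := tri H V k (by
    rw [← up_up, cg_l, cg_l, a5, cg_r, a4, a1, t1, cg_r, cg_r, cg_i, cg_r, h0, h1, h3]; group)
    (by rw [← up_up, cg_l, cg_l, a3, a2, h1])
  have c := tri_comm Tn (by rw [← up_up, ← up_mul, ← up_mul, h2, t1, inv_mul_cancel])
  have a6 := up_q H V (k q (by decide +kernel)) Tn c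
  rw [← up_mul, h2] at a6
  have nv := cg_iff.1 h1
  have nz := cg_iff.1 (fz H V h1)
  have ni : n⁻¹ = v * (j z * n) := inv_eq_of_mul_eq_one_right (by nf R with [tl nv, tl nz, h2])
  have pn := cg_sw h3
  have qn : cg vq n = n := cg_sw (by
    rw [uq, ← cg_cg, h3, show cg n (j h) = j h from k h (by decide +kernel)])
  have s0 : cg (up j n * vq) e = e * (j p * (j q * n)) := by
    rw [cg_l, B.qe, cg_r, a4, a6, mul_assoc, ← mul_assoc vp, ← cg]
    nf R with [B.pq, pn, ni, B.pv, B.pz]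
  have s1 : cg (vp * vq * (vp * vq)) (e * (j p * (j q * n))) = e * (j p * (j q * n)) := by
    nf R with [B.pe, B.pp, B.pq, B.pv, B.pz, pn, B.qe, B.qp, B.qq, B.qv, B.qz, qn]
  have key : ∀ w ∈ [z, y], cg (up j n * vq) (j w) = j w ∧ cg (vp * vq * (vp * vq)) (j w) = j w :=
    fun w hw => by
      obtain ⟨b1, b2⟩ := (by decide +kernel : ∀ w ∈ [z, y], w * p = p * w ∧ w * q = q * w) w hw
      simp only [cg_l, B.qc w b2, k.up' b1, (acv H V).up' b1, and_self]
  obtain ⟨z1, z2⟩ := key z (by simp)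
  obtain ⟨y1, y2⟩ := key y (by simp)
  obtain ⟨i, hi⟩ := pow8 H V (b := cg (up j n * vq)⁻¹ (vp * vq * (vp * vq)))
    (by rw [cg_c, inv_inv, s0, s1, cg_s s0]) (by rw [cg_c, inv_inv, z1, z2, cg_s z1])
    (by rw [cg_c, inv_inv, y1, y2, cg_s y1])
  have w1 : cg (vp * vq) (j p) = j q := by nf R with [B.pp, B.pq, B.pv, B.pz, B.qp, B.qq]
  have w3 : cg ((vp * vq) ^ 3) (j p) = j p := by
    rw [pow_three]; nf R with [B.pp, B.pq, B.pv, B.pz, B.qp, B.qq, B.qv, B.qz]
  generalize vp * vq = W at hi w1 w3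
  generalize up j n * vq = c at hi y1
  have h5 : W * (W ^ 3) ^ 5 = j y ^ i := by
    rw [← cg_sw (cg_pow (cg_sw y1) i), ← hi, cg, cg, conj_pow, ← pow_two, ← pow_mul]; group
  have h6 := cg_pow (jc (j := j) (show y * p * y⁻¹ = p by decide +kernel)) i
  rw [← h5, cg_l, cg_pow w3, w1] at h6
  exact absurd (H.inj h6) (by decide +kernel)

theorem sd (T : Tri j v) (k : Ac j n id) (h0 : cg n e = e * v⁻¹) (h1 : cg n v = v) (h2 : n * n = v)
    (h3 : cg n vp = vp * j z) : SD j e ⊥ v (n * e) := by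
  have R := rl H V
  have B := tb H V T
  have t1 : up j vp = (v * vp)⁻¹ := up_up v ▸ eq_inv_of_mul_eq_one_right T
  have t3 : up j (up j vp) = v := by rw [up_up v, up_uz]
  have ev : cg e v = v * j z := by rw [cg]; nf R with [cg_1]
  have ep := up_cg (j := j) ev
  rw [show up j e = e from cg_sw (cg_iff.2 (H.ec g)), up_mul, up_z] at ep
  have kx : Ac j (n * e) id := fun w hw => by rw [cg_l, cg_iff.2 (H.ec w), k w hw]
  have xx : n * e * (n * e) = 1 := by
    nth_rw 1 [eq_mul_of_mul_inv_eq h0]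
    rw [mul_assoc, tl h2]; nf R with [cg_1]
  have xe : cg (n * e) e = e * v⁻¹ := by rw [cg_l, cg_self, h0]
  have xz : cg (n * e) (j z) = j z := kx z rfl
  have xp : cg (n * e) (j p) = j p := kx p (by decide +kernel)
  have xv : cg (n * e) v = v * j z := by rw [cg_l, ev, cg_r, h1, fz H V h1]
  have xw : cg (n * e) vp = vp * j p * j z := by
    rw [cg_l, ep, cg_r, h3, show cg n (j p) = j p from k p (by decide +kernel)]; nf R with [cg_1]
  refine ⟨V, T, fun o ho => by simp [mem_bot.1 ho], fun w hw => cg_iff.1 (kx w hw), xx,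
    by simp only [mul_assoc, R.ee, mul_one, h2],
    by rw [← xw, cg, inv_eq_of_mul_eq_one_right xx], ?_⟩
  generalize n * e = x at *
  have r1 := B.c.symm
  have r2 := (cg_iff.1 B.pz).symm
  have r3 := cg_iff.1 B.pp
  have r4 := vp2 H V
  have r5 : vp⁻¹ = j p * vp := inv_eq_of_mul_eq_one_right (by nf R with [tl r3, r4])
  have a1 := up_cg (j := j) xw
  have a2 := up_cg (j := j) a1
  have a3 := up_cg (j := j) (show cg x (up j vp) = up j vp * j p by
    rw [t1]; nf R with [xv, xw, xz, xp, r1, tl r1, r2, tl r2, r3, tl r3, r5])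
  simp only [up_mul, up_z, up_p, t3] at a1 a2 a3
  have a4 := up_e H xe
  have a5 := up_e H a4
  have ui : ∀ u : G, up j u⁻¹ = (up j u)⁻¹ := cg_i _
  simp only [ui] at a4 a5
  have a6 : cg (up j x) (j p) = j p := kx.up' rfl
  have a7 : cg (up j x) (j z) = j z := kx.up' (by decide +kernel)
  refine tri H V kx ?_ ?_ <;> rw [← up_up, cg_l, cg_l]
  · rw [a5, cg_r, cg_i, a4, a1, t1]
    nf R with [xe, xv, xw, xz, xp, r1, tl r1, r2, tl r2, r3, tl r3, r4, tl r4, r5]
  · nf R with [a2, a3, a6, a7, xv, xz, xp]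

theorem main (T : Tri j v) : ∃ x, SD j e ⊥ v x := by
  have R := rl H V
  have B := tb H V T
  have k := ac_n H V B
  have c1 : cg (j (q * h)) v = v := cg_sw (acv H V _ (by decide +kernel))
  have k0 : cg (m * (j (q * h))⁻¹) e = e * v := by rw [cg_l, cg_s (cg_sw (cg_iff.2 (H.ec _))), B.me]
  have k1 : cg (m * (j (q * h))⁻¹) v = v := by rw [cg_l, cg_s c1, B.mv]
  obtain ⟨b, b1, b2, b3, b4⟩ := ex_tau H V T k k0 k1
  have em : m = m * (j (q * h))⁻¹ * b * (b * j (q * h)) := by
    rw [mul_assoc, tl b3, one_mul, inv_mul_cancel_right]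
  have kη : Ac j (m * (j (q * h))⁻¹ * b) id := fun w hw => by
    rw [cg_l, b4, k _ (by rw [← tau_z, ← map_mul, ← map_mul, hw]), H4.QJ.tau_tau, id]
  have h0 : cg (m * (j (q * h))⁻¹ * b) e = e * v := by rw [cg_l, b1, k0]
  have h1 : cg (m * (j (q * h))⁻¹ * b) v = v := by rw [cg_l, b2, k1]
  have x1 : cg (b * j (q * h)) v = v := by rw [cg_l, c1, b2]
  have x2 : b * j (q * h) * (b * j (q * h)) = j p * j q := by
    have := b4 (q * h)
    rw [cg, inv_eq_of_mul_eq_one_right b3] at this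
    rw [← mul_assoc, this, ← map_mul, ← map_mul, show tau (q * h) = q * (h * z) from
      tau_eq.2 (by decide +kernel)]
    exact congrArg j (by decide +kernel)
  generalize m * (j (q * h))⁻¹ * b = n at em kη h0 h1
  generalize b * j (q * h) = x at em x1 x2
  have h2 : cg n m = m * v * (n * n)⁻¹ := by
    have := B.mm
    rw [← x2, em, mul_assoc x x v, cg_iff.1 x1, ← mul_assoc, ← mul_assoc,
      mul_left_inj] at this
    rw [em, mul_assoc n x v, ← this, cg]; group
  have ki : Ac j n⁻¹ id := fun w hw => cg_s (kη w hw)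
  obtain ⟨w, hw, h3⟩ := act_vp H V B.c ki h0 h1 (kη p (by decide +kernel)) fun w hw => (gP0 w hw).2.1
  have h4 : w = 1 ∨ w = z := (inV hw).2.2.2.2.2 (H.inj (by
    have a1 := congrArg (cg (j q)) h3
    have a2 := q_up (acv H V q (by decide +kernel))
    rw [← cg_cg, cg_sw (show cg n (j q) = j q from kη q (by decide +kernel)), cg_r, a2, cj_j,
      eq_inv_of_mul_eq_one_right T, cg_i, cg_r, h1, h3, ← mul_assoc, mul_inv_rev] at a1
    have a3 : cg (v * vp) (j w⁻¹) = j w⁻¹ := by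
      rw [cg_l, map_inv, cg_i, (acv H V).up' (inV hw).2.1, cg_i, acv H V w (inV hw).1, id]
    rw [← inv_mul_eq_iff_eq_mul.2 a1, inv_inv, ← a3, cg, map_inv, mul_assoc (v * vp)]))
  have h5 : cg n vq = vq * cg (j h) (j w) := by
    rw [uq, ← cg_r, ← h3, ← cg_cg (j h) n, cg_sw (show cg n (j h) = j h from kη h (by decide +kernel))]
  have h6 := kQ' H V (b := v⁻¹ * (n * n)) (cg_eq (by
    rw [cg_l, h0, cg_r, h0, h1, show cg v e = _ from V.ve, mul_assoc, V.v2])) (fun w hw => cg_eq (by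
      rw [cg_l, kη w hw, id, kη w hw, acv H V w hw])) (cg_eq (by rw [cg_l, h1, h1, cg_self]))
  simp only [inv_mul_eq_iff_eq_mul, mul_one] at h6
  rcases h4 with rfl | rfl
  · rw [map_one, cg_1, mul_one] at h5
    rw [map_one, mul_one] at h3
    rcases h6 with h6 | h6
    · exact (no_sd H V T kη h0 h1 h6 h3).elim
    · rw [h6, show cg n m = m by rw [um, cg_r, cg_r, cg_i, h5, h3], mul_assoc, left_eq_mul] at h2
      exact (z1 H V (by rw [← h2]; nf R with [cg_1])).elim
  · rw [jc (show h * z * h⁻¹ = z by decide +kernel)] at h5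
    have a1 := (cg_iff.1 B.qz).symm
    have a2 := (cg_iff.1 B.pz).symm
    have a3 := (cg_iff.1 (cg_s B.qz)).symm
    have h7 : cg n m = m * j z := by
      rw [um]; nf R with [h5, h3, a1, tl a1, a2, tl a2, a3, tl a3]
    rcases h6 with h6 | h6
    · rw [h6, h7, mul_inv_cancel_right, mul_eq_left] at h2
      exact (z1 H V h2).elim
    · exact ⟨_, sd H V T ki (cg_s (by nf R with [h0, h1, fz H V h1])) (cg_s h1)
        (by rw [← mul_inv_rev, h6]; nf R with [cg_1]) (cg_s (by nf R with [h3, fz H V h1]))⟩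

end

theorem jobS : JobS.{u} := fun _ _ _ _ _ _ H V T => main H V T

end H21.JSS
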