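import Cfsg.Agent.H21.JSS
import Cfsg.Agent.H21.JSM

/-! Tower JS, job `JobV`: the element of order four that swaps `e` and `e z`. -/

set_option autoImplicit false
set_option linter.unusedSectionVars false
set_option maxRecDepth 100000

namespace H21.JSS

open Cfsg Subgroup H8.JS MulAut
open H4.M2 (X g y p q r s t z a h)
open H4.QJ (tau tau_eq tau_tau)

universe u
variable {G : Type u} [Group G] [Finite G] {j : X →* G} {e v n b o : G} {O : Subgroup G}

theorem Ac.tri3 (k : Ac j n tau) : ∀ w ∈ [z, p, y],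
    cg (n * H8.JS.up j n * H8.JS.uz j n) (j w) = j (tau w) := fun w hw => by
  have tp := tau_p
  have tz := tau_z
  have ty := tau_y
  simp only [List.mem_cons, List.not_mem_nil, or_false] at hw
  rw [cg_l, cg_l, k.uz (by rcases hw with rfl | rfl | rfl <;> decide +kernel)]
  rcases hw with rfl | rfl | rfl
  · rw [show g * z * g⁻¹ = p by decide +kernel, tp, k.up (by decide +kernel),
      show g⁻¹ * (g⁻¹ * p * g) * g = p * z by decide +kernel, map_mul tau, tp, tz,
      show g * (p * z) * g⁻¹ = z by decide +kernel, k z rfl, tz]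
  · rw [show g * p * g⁻¹ = p * z by decide +kernel, map_mul tau, tp, tz, k.up (by decide +kernel),
      show g⁻¹ * (g⁻¹ * (p * z) * g) * g = z by decide +kernel, tz,
      show g * z * g⁻¹ = p by decide +kernel, k p (by decide +kernel), tp]
  · rw [show g * y * g⁻¹ = y by decide +kernel, ty, k.up (by decide +kernel),
      show g⁻¹ * (g⁻¹ * y⁻¹ * g) * g = y⁻¹ by decide +kernel, map_inv tau, ty,
      show g * y⁻¹⁻¹ * g⁻¹ = y by decide +kernel, k y (by decide +kernel), ty]

theorem p4 (o : G) : o ^ 2 ^ 2 = o * o * (o * o) := by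
  rw [show 2 ^ 2 = 2 * 2 from rfl, pow_mul, pow_two, pow_two]

theorem jzz : j z * j z = 1 := by rw [← map_mul, show z * z = 1 by decide +kernel, map_one]

theorem tau_c {w : X} (hw : w * z = z * w) : tau w * z = z * tau w := by
  rw [← tau_z, ← map_mul, ← map_mul, hw]

section
variable (H : St j e O)
include H

theorem je (w : X) : cg (j w) e = e := cg_sw (cg_iff.2 (H.ec w))

theorem up_e' {x : G} (k : cg n e = e * x) : cg (up j n) e = e * up j x := by
  have := cg_tr (j g) k
  rwa [cg_r, je H] at this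

theorem zne : j z ≠ 1 := (map_ne_one_iff _ H.inj).2 (by decide +kernel)

theorem swap (h0 : cg n e = e * j z) (h1 : cg n (j z) = j z) : cg n (e * j z) = e := by
  rw [cg_r, h0, h1, mul_assoc, jzz, mul_one]

theorem tri_e (h0 : cg n e = e * j z) (h1 : cg n (j z) = j z)
    (h2 : cg (up j n) (j (p * z)) = j (p * z)) : cg (n * up j n * uz j n) e = e := by
  have a1 := up_e' H h0
  have a2 := up_e' H a1
  rw [up_up, up_z, up_p, ← map_mul] at a2
  rw [cg_l, cg_l, a2, cg_r, a1, h2, up_z, mul_assoc, ← map_mul,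
    show p * (p * z) = z by decide +kernel, swap H h0 h1]

theorem ex_n (c : IsConj e (e * j z)) : ∃ n, cg n e = e * j z ∧ cg n (j z) = j z := by
  obtain ⟨γ, hγ⟩ := isConj_iff.1 c
  have k : ∀ w, w * z = z * w → cg γ⁻¹ (j w) * e = e * cg γ⁻¹ (j w) := fun w hw => by
    have := cg_tr γ⁻¹ (show cg (j w) (e * j z) = e * j z by
      rw [cg_r, je H, jc (mul_inv_eq_iff_eq_mul.2 hw)])
    rw [cg_s (show cg γ e = _ from hγ)] at this
    exact cg_iff.1 this
  obtain ⟨o, ho, w, h1⟩ := H.cm (k y (by decide +kernel)) (k r (by decide +kernel))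
  rw [← cg_i, ← cg_i, ← cg_r, ← cg_r, ← cg_r, ← map_inv, ← map_inv, ← map_mul, ← map_mul,
    ← map_mul] at h1
  have h2 : o * j w * (o * j w) = cg γ⁻¹ (j z) := by
    rw [← h1, ← cg_r, ← map_mul, show y * r * y⁻¹ * r⁻¹ * (y * r * y⁻¹ * r⁻¹) = z by decide +kernel]
  have h3 : cg γ⁻¹ (j z) * cg γ⁻¹ (j z) = 1 := by rw [← cg_r, jzz, cg_1]
  obtain rfl := H.o1 ho (w := w) (k := 2) (by rw [p4, h2, h3])
  rw [one_mul, ← map_mul] at h2
  rcases H4.M2.invol_conj (c := w * w) (orderOf_eq_prime (H.inj (by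
    rw [pow_two, map_mul, h2, h3, map_one])) fun k => zne H (by
      rw [k, map_one] at h2
      exact (cg_s h2.symm).symm.trans (cg_1 _))) with k | k <;> obtain ⟨c, hc⟩ := isConj_iff.1 k
  · exact ⟨γ * j c, by rw [cg_l, je H]; exact hγ, by rw [cg_l, jc hc, h2]; simp [cg, mul_assoc]⟩
  · have h4 : c⁻¹ * w * c * (c⁻¹ * w * c) = a := by
      calc _ = c⁻¹ * (w * w) * c := by group
        _ = a := by rw [← hc]; group
    generalize c⁻¹ * w * c = x at h4
    exact absurd (h4.symm.trans (H21.JS.a_sq (k := 2) (by rw [← h4, mul_assoc]) (by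
      rw [p4, h4]; decide +kernel))) (by decide +kernel)

theorem ex_n' (c : IsConj e (e * j z)) : ∃ n, cg n e = e * j z ∧ Ac j n id := by
  obtain ⟨n, h0, h1⟩ := ex_n H c
  obtain ⟨θ, hz, k⟩ := H.nrm0 (cg_iff.1 h1) fun w hw => by
    have := cg_tr n (show cg (j w) (e * j z) = e * j z by
      rw [cg_r, je H, jc (mul_inv_eq_iff_eq_mul.2 hw)])
    rw [swap H h0 h1] at this
    exact cg_iff.1 this
  replace k : Ac j n θ := k
  obtain ⟨w, hw, k'⟩ := dec0 θ hz
  have a0 : cg ((j w)⁻¹ * n) e = e * j z := by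
    rw [cg_l, h0, cg_r, cg_s (je H w), cg_s (jc (mul_inv_eq_iff_eq_mul.2 hw))]
  rcases k' with rfl | rfl
  · exact ⟨_, a0, fun u hu => by rw [cg_l, k u hu]; exact cg_s (cj_j w u)⟩
  have a1 : Ac j ((j w)⁻¹ * n) tau := fun u hu => by rw [cg_l, k u hu]; exact cg_s (cj_j w (tau u))
  generalize (j w)⁻¹ * n = n at a0 a1
  obtain ⟨b, b1, b2⟩ := H.tau_of (cg_iff.1 (tri_e H a0 ((a1 z rfl).trans (congrArg j tau_z)) (by
      rw [a1.up (by decide +kernel), show g⁻¹ * (p * z) * g = p by decide +kernel, tau_p,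
        show g * p * g⁻¹ = p * z by decide +kernel])))
    (cg_iff.1 ((a1.tri3 z (by simp)).trans (congrArg j tau_z)))
    (cg_iff.1 ((a1.tri3 p (by simp)).trans (congrArg j tau_p))) (one_mem _)
    (by rw [mul_one, ← tau_y]; exact a1.tri3 y (by simp))
  exact ⟨n * b, by rw [cg_l, cg_iff.2 b1, a0], fun u hu => by
    rw [cg_l, show cg b (j u) = _ from b2 u, a1 _ (tau_c hu), tau_tau, id]⟩

theorem kQ0 (h0 : cg b e = e) (h1 : Ac j b id) : ∃ o ∈ O, ∃ d ∈ [1, e, j z, e * j z], b = o * d :=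
  H.kQ (cg_iff.1 h0) (cg_iff.1 (h1 p (by decide +kernel))) (cg_iff.1 (h1 q (by decide +kernel)))
    (cg_iff.1 (h1 r (by decide +kernel))) (cg_iff.1 (h1 s (by decide +kernel)))

theorem d_prop {d : G} (hd : d ∈ [1, e, j z, e * j z]) : d * d = 1 ∧ ∀ o ∈ O, o * d = d * o := by
  simp only [List.mem_cons, List.not_mem_nil, or_false] at hd
  rcases hd with rfl | rfl | rfl | rfl
  exacts [by simp, ⟨H.e2, H.oe⟩, ⟨jzz, fun o ho => H.oj o ho z⟩,
    ⟨by rw [mul_assoc, tl (H.ec z).symm, mul_assoc, jzz, mul_one, H.e2],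
      fun o ho => Commute.mul_right (H.oe o ho) (H.oj o ho z)⟩]

theorem nO' (h0 : cg n e = e * j z) (k : Ac j n id) (ho : o ∈ O) : cg n o ∈ O := by
  obtain ⟨o', ho', d, hd, h1⟩ := kQ0 H (b := cg n o) (by
    have := cg_tr n (show cg o (e * j z) = e * j z by
      rw [cg_r, cg_iff.2 (H.oe o ho), cg_iff.2 (H.oj o ho z)])
    rwa [swap H h0 (k z rfl)] at this) fun w hw => by
      have := cg_tr n (cg_iff.2 (H.oj o ho w))
      rwa [k w hw] at this
  obtain ⟨d1, d2⟩ := d_prop H hd
  obtain ⟨_, ⟨i, rfl⟩, h2⟩ := H.pow_odd ho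
  have h3 : (o' * d) ^ (2 * i + 1) = 1 := by rw [← h1, cg, conj_pow, h2]; simp
  rw [Commute.mul_pow (d2 o' ho'), pow_succ d, pow_mul d, pow_two d, d1, one_pow, one_mul] at h3
  rw [h1]
  exact mul_mem ho' (eq_inv_of_mul_eq_one_right h3 ▸ inv_mem (pow_mem ho' _))

theorem ex_v (c : IsConj e (e * j z)) : ∃ v, cg v e = e * j z ∧ Ac j v id ∧ v * v = j z := by
  obtain ⟨n, h0, k⟩ := ex_n' H c
  have nz : cg n (j z) = j z := k z rfl
  have h1 : cg (n * n) e = e := by rw [cg_l, h0, swap H h0 nz]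
  obtain ⟨o, ho, d, hd, h2⟩ := kQ0 H h1 fun w hw => by rw [cg_l, k w hw, id, k w hw, id]
  obtain ⟨d1, d2⟩ := d_prop H hd
  have h3 : cg n o * cg n d = o * d := by rw [← cg_r, ← h2, cg_r, cg_self]
  have h4 : cg n d ≠ d * j z := fun k' => by
    rw [k', ← mul_assoc, d2 _ (nO' H h0 k ho), d2 o ho, mul_assoc, mul_right_inj] at h3
    exact zne H (H.o2 (eq_inv_mul_of_mul_eq h3 ▸ mul_mem (inv_mem (nO' H h0 k ho)) ho) jzz)
  obtain ⟨_, ⟨i, rfl⟩, h5⟩ := H.pow_odd ho
  have h6 : n ^ (2 * i + 1) * n ^ (2 * i + 1) = d := by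
    rw [← Commute.mul_pow rfl, h2, Commute.mul_pow (d2 o ho), h5, pow_succ d, pow_mul d, pow_two d,
      d1, one_pow, one_mul, one_mul]
  have h7 : cg (n ^ (2 * i + 1)) e = e * j z := by
    rw [pow_succ', pow_mul, pow_two, cg_l, cg_pow h1, h0]
  have h8 : Ac j (n ^ (2 * i + 1)) id := fun w hw => cg_pow (k w hw) _
  simp only [List.mem_cons, List.not_mem_nil, or_false] at hd
  rcases hd with rfl | rfl | rfl | rfl
  · refine ⟨n ^ (2 * i + 1) * e, by rw [cg_l, cg_self, h7], fun w hw => by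
      rw [cg_l, cg_iff.2 (H.ec w), h8 w hw], ?_⟩
    nth_rw 1 [eq_mul_of_mul_inv_eq h7]
    rw [mul_assoc, tl h6, one_mul, H.ec, mul_assoc, H.e2, mul_one]
  · exact absurd h0 h4
  · exact ⟨_, h7, h8, h6⟩
  · exact absurd (by rw [swap H h0 nz, mul_assoc, jzz, mul_one]) h4

end

theorem jobV : JobV.{u} := fun G _ _ j e O H c => by
  obtain ⟨v, h0, k, h1⟩ := ex_v H c
  have gO : ∀ o ∈ O, ∀ w, cg (j w) o = o := fun o ho w => cg_sw (cg_iff.2 (H.oj o ho w))
  have n0 := fun o => nO' H (o := o) h0 k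
  have u1 : ∀ o ∈ O, cg (up j v) o = cg v o := fun o ho => by
    have := cg_cg (j g) v o
    rwa [gO o ho, gO _ (n0 o ho)] at this
  have u2 : ∀ o ∈ O, cg (uz j v) o = cg v o := fun o ho => by
    have := cg_cg (j g)⁻¹ v o
    rwa [cg_s (gO o ho g), cg_s (gO _ (n0 o ho) g), ← uz_eq] at this
  have c0 : ∀ w ∈ [a, c2, d1, d2], v * up j v * uz j v * j w = j w * (v * up j v * uz j v) :=
    fun w hw => cg_iff.1 (by
      obtain ⟨a1, a2, a3⟩ := gP0 w hw
      rw [cg_l, cg_l, k.uz' a3, k.up' a2]; exact k w a1)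
  obtain ⟨o, ho, w, hw, h2⟩ := H.kP (cg_iff.1 (tri_e H h0 (k z rfl) (k.up' (by decide +kernel))))
    (c0 _ (by simp)) (c0 _ (by simp)) (c0 _ (by simp)) (c0 _ (by simp))
  have h3 : ∀ x ∈ O, cg v x = cg o x := fun x hx => by
    have : cg (v * up j v * uz j v) x = cg v x := by
      rw [cg_l, cg_l, u2 x hx, u1 _ (n0 x hx), ← cg_l v v x, h1, gO x hx]
    rw [← this]
    rcases h2 with h2 | h2 <;> simp only [h2, cg_l, gO x hx, cg_sw (cg_iff.2 (H.oe x hx))]
  have h4 : ∀ x ∈ O, cg v x = x := fun x hx => by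
    obtain ⟨_, ⟨i, rfl⟩, h5⟩ := H.pow_odd ho
    have : cg (o * o) x = x := by
      rw [cg_l, ← h3 x hx, ← h3 _ (n0 x hx), ← cg_l, h1, gO x hx]
    calc _ = cg o (cg ((o * o) ^ i) x) := by rw [cg_pow this i, h3 x hx]
      _ = x := by rw [← cg_l, ← pow_two, ← pow_mul, ← pow_succ', h5]; simp [cg]
  have V : Vv j e O v := ⟨fun x hx => cg_iff.1 (h4 x hx), fun w hw => cg_iff.1 (k w hw), h0, h1⟩
  have h5 : cg (j g) (v * up j v * uz j v) = cg v⁻¹ (v * up j v * uz j v) := by
    rw [cg_r, cg_r]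
    show up j v * up j (up j v) * up j (uz j v) = _
    rw [up_up, up_uz]; simp [cg, mul_assoc]
  have vw : cg v⁻¹ (j w) = j w := cg_s (k w (inV hw).1)
  have ov := h4 o ho
  have op : up j v * o = o * up j v := cg_iff.1 ((u1 o ho).trans ov)
  have oz : uz j v * o = o * uz j v := cg_iff.1 ((u2 o ho).trans ov)
  have p2 : up j v * up j v = j p := by rw [← up_mul, h1, up_z]
  have z2 : uz j v * uz j v = j p * j z := by rw [← up_up, ← up_mul, p2, up_p]
  have pp : j p * j p = 1 := by rw [← map_mul, show p * p = 1 by decide +kernel, map_one]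
  refine ⟨v, V, h2.imp (fun h2 => ?_) fun h2 => ?_⟩
  · rw [h2, cg_r, cg_r, gO o ho, cg_s ov, vw, cj_j, mul_right_inj] at h5
    rw [(inV hw).2.2.2.2.1 (H.inj h5), map_one, mul_one] at h2
    have a1 : v * up j v = o * (uz j v)⁻¹ := eq_mul_inv_of_mul_eq h2
    have a2 : v * up j v * (v * up j v) = o * o * (v * v * (up j v * up j v)) := by
      rw [a1, h1, p2, mul_assoc, tl (Commute.inv_left oz).eq, mul_assoc, ← mul_inv_rev, z2,
        mul_inv_rev, inv_eq_of_mul_eq_one_right jzz, inv_eq_of_mul_eq_one_right pp, mul_assoc]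
    have a3 : cg v⁻¹ (up j v) = o * o * up j v := by
      have c : o * o * v = v * (o * o) := (Commute.mul_right (cg_iff.1 ov) (cg_iff.1 ov)).symm
      rw [← mul_assoc (o * o), ← mul_assoc (o * o), c, mul_assoc v (o * o), c] at a2
      simp only [mul_assoc, mul_right_inj] at a2
      rw [cg, inv_inv, mul_assoc, inv_mul_eq_iff_eq_mul, ← mul_left_inj (up j v)]
      simpa only [mul_assoc] using a2
    have a4 : cg v⁻¹ (up j v * up j v) = o * o * (o * o) * (up j v * up j v) := by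
      rw [cg_r, a3, mul_assoc, tl (Commute.mul_right op op).eq]; simp only [mul_assoc]
    rw [p2, cg_s (show cg v (j p) = j p from k p (by decide +kernel)), right_eq_mul] at a4
    rw [Tri, h2]
    exact H.o0 ho (k := 2) (a4 ▸ p4 o)
  · have ie : cg v⁻¹ e = e * j z := cg_s (swap H h0 (k z rfl))
    rw [h2, cg_r, cg_r, cg_r, cg_r, gO o ho, cg_s ov, vw, cj_j, je H, ie, mul_right_inj, mul_assoc e,
      mul_right_inj, ← map_mul] at h5
    obtain rfl : w = p := by
      have := H.inj h5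
      rcases hw with rfl | rfl | rfl | rfl
      exacts [absurd this (by decide +kernel), absurd this (by decide +kernel), rfl,
        absurd this (by decide +kernel)]
    have b1 : v * e * (v * e) = 1 := by
      nth_rw 1 [eq_mul_of_mul_inv_eq (show v * e * v⁻¹ = _ from h0)]
      rw [mul_assoc, tl h1, mul_assoc, tl jzz, one_mul, H.e2]
    have ue : up j e = e := je H g
    have b2 : up j (v * e) * up j (v * e) = 1 := by rw [← up_mul, b1]; exact cg_1 _
    have b3 : uz j (v * e) * uz j (v * e) = 1 := by rw [← up_up, ← up_mul, b2]; exact cg_1 _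
    have b4 : v * e * up j (v * e) * uz j (v * e) = o := by
      have c1 : e * up j v * e = up j v * j p := by
        rw [up_mul, ue, mul_assoc] at b2
        rw [mul_assoc, ← mul_assoc e, ← mul_right_inj (up j v), tl p2, pp, ← b2]
        simp only [mul_assoc]
      have c2 : j p * uz j v = uz j v * j p := (cg_iff.1 (k.uz' (by decide +kernel))).symm
      rw [← up_up, up_mul, up_mul, ue, ue, up_up]
      calc _ = v * (e * up j v * e) * uz j v * e := by simp only [mul_assoc]
        _ = v * up j v * uz j v * j p * e := by rw [c1]; simp only [mul_assoc, tl c2]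
        _ = o := by rw [h2]; simp only [mul_assoc, tl pp, one_mul, H.e2, mul_one]
    have oz' : uz j (v * e) * o = o * uz j (v * e) := by
      rw [← up_up, up_mul, up_mul, ue, ue, up_up]
      exact Commute.mul_left oz (H.oe o ho).symm
    have ov' : v * e * o = o * (v * e) := Commute.mul_left (cg_iff.1 ov) (H.oe o ho).symm
    rw [Tri, b4]
    generalize uz j (v * e) = c at *
    generalize up j (v * e) = b at *
    generalize v * e = x at *
    have b5 : x * b * (x * b) = o * o := by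
      rw [eq_mul_inv_of_mul_eq b4, inv_eq_of_mul_eq_one_right b3, mul_assoc, tl oz', mul_assoc, b3,
        mul_one]
    have b6 : b * x * (b * x) = o * o := by
      have := congrArg (cg x) b5
      rw [cg_r x o, cg_iff.2 ov', cg, inv_eq_of_mul_eq_one_right b1] at this
      simpa only [mul_assoc, tl b1, one_mul] using this
    refine H.o0 ho (k := 2) ?_
    calc _ = o * o * (o * o) := p4 o
      _ = 1 := by nth_rw 1 [← b5]; rw [← b6]; simp only [mul_assoc, tl b1, tl b2, one_mul, b1]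

end H21.JSS
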