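import Cfsg.Agent.H21.JSN
import Cfsg.Agent.H21.JSM

/-! Tower JS, job `JobW2`, part 1: the halves generate two commuting subgroups. -/

set_option autoImplicit false
set_option maxRecDepth 100000
set_option linter.unusedSectionVars false

namespace H21.JSW

open Cfsg Subgroup H98 H1.Gold H49 H4 H8.JS
open H4.M2 (X g y p q r s t z a h gens)

universe u

variable {G : Type u} [Group G] [Finite G] {j : X →* G} {e u : G} {c c' w : X}

structure WD (j : X →* G) (e u : G) : Prop where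
  inj : Function.Injective j
  e1 : e ≠ 1
  e2 : e * e = 1
  ec : ∀ w, e * j w = j w * e
  u2 : u * u = 1
  uc : ∀ w, w * z = z * w → u * j w = j w * u
  ue : u * e * u = e * j z
  tri : Tri j u
  wr : WR j u

/-- the half of `c z c⁻¹` -/
noncomputable def hf (j : X →* G) (u : G) (c : X) : G := j c * u * (j c)⁻¹

theorem hf_cj (w c : X) : j w * hf j u c * (j w)⁻¹ = hf j u (w * c) := by
  simp only [hf, map_mul]; group

theorem com_cj {b b' : G} (k : Commute b b') (n : G) : Commute (n * b * n⁻¹) (n * b' * n⁻¹) := by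
  unfold Commute SemiconjBy
  rw [conj_mul, conj_mul, k.eq]

/-- `f = g q g⁻¹` -/
noncomputable def ff : X := g * q * g⁻¹
noncomputable def rr : X := wd gens [9, 3, 6, 0, 9, 8, 0, 9, 4]

theorem gen_k {K : Subgroup X} (h1 : z ∈ K) (h2 : p ∈ K) (h3 : y ∈ K) (h4 : rr ∈ K) : ⊤ ≤ K := by
  have h0 : ∀ u ∈ [z, p, y, rr], u ∈ K.toSubmonoid := by simpa using ⟨h1, h2, h3, h4⟩
  refine H21.JS.gz (fun w hw => gen0 h3 ?_ ?_ h2 w (mem_cen1.1 hw)) fun _ => ?_
  · rw [show a = wd [z, p, y, rr] [3, 0, 3, 2, 1, 3, 2, 2, 0, 3, 2, 1, 0, 3, 0, 3, 2, 0] by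
      decide +kernel]
    exact wd_mem h0 _
  · rw [show h = wd [z, p, y, rr] [3, 0, 3, 1, 3, 2, 3, 0, 3, 2, 3, 0, 3, 2, 1, 0, 3, 0, 3, 1] by
      decide +kernel]
    exact wd_mem h0 _
  · rw [show g = wd [z, p, y, rr] [3, 0, 3, 0, 3, 1, 0, 3, 1, 3, 1, 3, 0] by decide +kernel]
    exact wd_mem h0 _

namespace WD

variable (W : WD j e u)
include W

theorem uniq (k : c * z * c⁻¹ = c' * z * c'⁻¹) : hf j u c = hf j u c' := by
  have := W.uc (c⁻¹ * c') (by
    calc _ = c⁻¹ * (c' * z * c'⁻¹) * c' := by group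
      _ = _ := by rw [← k]; group)
  rw [map_mul, map_inv] at this
  unfold hf
  calc _ = j c * (u * ((j c)⁻¹ * j c')) * (j c')⁻¹ := by group
    _ = _ := by rw [this]; group

theorem sq (c : X) : hf j u c * hf j u c = 1 := by
  rw [hf, conj_mul, W.u2]; simp

theorem fix (k : w * c * z * (w * c)⁻¹ = c * z * c⁻¹) : Commute (j w) (hf j u c) :=
  mul_inv_eq_iff_eq_mul.1 ((hf_cj w c).trans (W.uniq k))

theorem one (k : c * z * c⁻¹ = z) : hf j u c = u := by
  rw [W.uniq (c' := 1) (by simpa using k)]; simp [hf]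

theorem onE (c : X) : hf j u c * e * hf j u c = e * j (c * z * c⁻¹) := by
  have c1 : (j c)⁻¹ * e * j c = e := by rw [mul_assoc, W.ec, inv_mul_cancel_left]
  calc _ = j c * (u * ((j c)⁻¹ * e * j c) * u) * (j c)⁻¹ := by unfold hf; group
    _ = _ := by rw [c1, W.ue, ← mul_assoc, ← W.ec]; simp [mul_assoc]

/-- the line `z, p, p z` -/
theorem ln : Commute u (hf j u g) ∧ hf j u g⁻¹ = u * hf j u g := by
  have h1 : u * hf j u g * hf j u g⁻¹ = 1 := by
    have := W.tri
    simpa [Tri, up, uz, hf] using this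
  have h2 : hf j u g⁻¹ = u * hf j u g := by
    rw [← inv_eq_of_mul_eq_one_right (W.sq g⁻¹), eq_inv_of_mul_eq_one_left h1]
  refine ⟨?_, h2⟩
  have := inv_eq_of_mul_eq_one_right (W.sq g⁻¹)
  rw [h2, mul_inv_rev, inv_eq_of_mul_eq_one_right (W.sq g),
    inv_eq_of_mul_eq_one_right W.u2] at this
  exact this.symm

/-- all lines -/
theorem ln' (w : X) : Commute (hf j u w) (hf j u (w * g)) ∧
    hf j u (w * g⁻¹) = hf j u w * hf j u (w * g) := by
  have h1 := com_cj W.ln.1 (j w)
  rw [hf_cj] at h1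
  refine ⟨h1, ?_⟩
  rw [← hf_cj, W.ln.2, ← conj_mul, hf_cj]; rfl

/-- points at distance two -/
theorem d2 : Commute (hf j u g) (hf j u (h * g) * j q) := by
  have h1 : hf j u g * hf j u (h * g) * (hf j u g * hf j u (h * g)) = u := by
    have := W.wr
    rw [← hf_cj]
    exact this
  obtain ⟨l1, -⟩ := W.ln' h
  rw [W.one (by decide +kernel)] at l1
  have h2 : j q * hf j u g * (j q)⁻¹ = u * hf j u g := by
    rw [hf_cj, W.uniq (c' := g⁻¹) (by decide +kernel), W.ln.2]
  have h3 : u * j q = j q * u := W.uc q (by decide +kernel)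
  have p2 := W.sq g
  have q2 := W.sq (h * g)
  have u2 := W.u2
  have l0 := W.ln.1.eq
  have l2 := l1.eq
  generalize hf j u g = P at *
  generalize hf j u (h * g) = Q at *
  have k1 : P * Q = u * Q * P := by
    rw [← h1]
    calc _ = P * Q * (P * (Q * Q) * P) := by rw [q2, mul_one, p2, mul_one]
      _ = _ := by group
  have k2 : P * j q = u * (j q * P) := by
    rw [eq_mul_of_mul_inv_eq h2, ← mul_assoc, ← mul_assoc, u2, one_mul]
  calc P * (Q * j q) = u * Q * (P * j q) := by rw [← mul_assoc, k1]; group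
    _ = u * (Q * u) * (j q * P) := by rw [k2]; group
    _ = Q * j q * P := by rw [← l2, ← mul_assoc u, u2]; group

/-- points at distance three -/
theorem d3 (hA : IsStandardSubgroup j.range) :
    Commute (hf j u (h * g)) (hf j u (g * (h * g)) * j ff) := by
  obtain ⟨a1, b1⟩ := W.ln' h
  rw [W.one (c := h) (by decide +kernel)] at a1 b1
  have a2 : Commute u (hf j u (g * (h * g)) * j ff) := by
    have h1 : Commute (hf j u g⁻¹) (hf j u (h * g) * j q) := by
      rw [W.ln.2]
      exact (a1.mul_right (W.uc q (by decide +kernel))).mul_left W.d2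
    have h2 := com_cj h1 (j g)
    rwa [hf_cj, W.one (by simp), ← conj_mul, hf_cj, ← map_inv, ← map_mul, ← map_mul] at h2
  have a3 : Commute (hf j u (h * g)) (hf j u g * j p) := by
    have h2 := com_cj W.d2 (j h)
    rwa [hf_cj, ← conj_mul, hf_cj, ← map_inv, ← map_mul, ← map_mul,
      W.uniq (c := h * (h * g)) (c' := g) (by decide +kernel),
      show h * q * h⁻¹ = p by decide +kernel] at h2
  obtain ⟨a4, b4⟩ := W.ln' (g * h)
  rw [W.uniq (c := g * h) (c' := g) (by decide +kernel), mul_assoc g h g] at a4 b4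
  have a5 : Commute (j ff) (hf j u g) := W.fix (by decide +kernel)
  have a6 : Commute (j p) (hf j u (g * (h * g))) := W.fix (by decide +kernel)
  have a7 : Commute (j p) (j ff) := Commute.map (show p * ff = ff * p by decide +kernel) j
  have a8 : Commute (j p) (hf j u g) := W.fix (by decide +kernel)
  have a9 : Commute (j ff) (hf j u (g * (h * g))) := W.fix (by decide +kernel)
  have jp2 : j p * j p = 1 := by rw [← map_mul, show p * p = 1 by decide +kernel, map_one]
  have jf2 : j ff * j ff = 1 := by rw [← map_mul, show ff * ff = 1 by decide +kernel, map_one]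
  have P2 : hf j u g * j p * (hf j u g * j p) = 1 := by
    rw [a8.mul_mul_mul_comm, W.sq, jp2, one_mul]
  have F2 : hf j u (g * (h * g)) * j ff * (hf j u (g * (h * g)) * j ff) = 1 := by
    rw [a9.mul_mul_mul_comm, W.sq, jf2, one_mul]
  have c1 : Commute (hf j u g * j p) (hf j u (g * (h * g)) * j ff) :=
    (a4.mul_right a5.symm).mul_left (a6.mul_right a7)
  have ez : j z * (hf j u (g * (h * g)) * j ff) * (j z)⁻¹ =
      hf j u (g * (h * g)) * j ff * (hf j u g * j p) := by
    rw [← conj_mul, hf_cj, W.uniq (c' := g * h * g⁻¹) (by decide +kernel), b4, ← map_inv, ← map_mul,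
      ← map_mul, show z * ff * z⁻¹ = ff * p by decide +kernel, map_mul, a4.eq,
      a5.symm.mul_mul_mul_comm]
  have ep : j p * hf j u (h * g) * (j p)⁻¹ = u * hf j u (h * g) := by
    rw [hf_cj, W.uniq (c' := h * g⁻¹) (by decide +kernel), b1]
  have zq : Commute (j z) (hf j u (h * g)) := W.fix (by decide +kernel)
  have fx : ∀ w : X, w * (h * g) * z * (w * (h * g))⁻¹ = h * g * z * (h * g)⁻¹ →
      w * (g * (h * g)) * z * (w * (g * (h * g)))⁻¹ = g * (h * g) * z * (g * (h * g))⁻¹ →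
      w * ff = ff * w → Commute (j w) (hf j u (h * g) * (hf j u (g * (h * g)) * j ff)) :=
    fun w k1 k2 k3 => (W.fix k1).mul_right ((W.fix k2).mul_right (Commute.map k3 j))
  have fy := fx y (by decide +kernel) (by decide +kernel) (by decide +kernel)
  have fr := fx rr (by decide +kernel) (by decide +kernel) (by decide +kernel)
  have pF : Commute (j p) (hf j u (g * (h * g)) * j ff) := a6.mul_right a7
  have Q2 := W.sq (h * g)
  have oe := W.onE (h * g)
  have hQ : ∀ k, Commute u k → (∀ w, Commute (j w) k) → Commute (hf j u (h * g)) k :=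
    fun k k1 k2 => ((k2 _).mul_left k1).mul_left (k2 _).inv_left
  generalize hf j u (g * (h * g)) * j ff = F at *
  generalize hf j u g * j p = P at *
  generalize hf j u (h * g) = Q at *
  have kz : Commute (j z) (Q * F * (Q * F)) := by
    refine mul_inv_eq_iff_eq_mul.1 ?_
    rw [← conj_mul, ← conj_mul, ez, zq.eq, mul_inv_cancel_right]
    calc _ = Q * F * (P * Q) * (F * P) := by group
      _ = Q * F * Q * (P * F) * P := by rw [← a3.eq]; group
      _ = Q * F * (Q * F) * (P * P) := by rw [c1.eq]; group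
      _ = _ := by rw [P2, mul_one]
  have kp : Commute (j p) (Q * F * (Q * F)) := by
    refine mul_inv_eq_iff_eq_mul.1 ?_
    rw [← conj_mul, ← conj_mul, ep, pF.eq, mul_inv_cancel_right, mul_assoc u,
      (a1.mul_right a2).symm.mul_mul_mul_comm, W.u2, one_mul]
  have kall : ∀ w, Commute (j w) (Q * F * (Q * F)) := fun w =>
    mem_centralizer_singleton_iff.1 (gen_k (K := (centralizer {Q * F * (Q * F)}).comap j)
      (mem_centralizer_singleton_iff.2 kz) (mem_centralizer_singleton_iff.2 kp)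
      (mem_centralizer_singleton_iff.2 (fy.mul_right fy))
      (mem_centralizer_singleton_iff.2 (fr.mul_right fr)) (mem_top w))
  have kQ := hQ _ ((a1.mul_right a2).mul_right (a1.mul_right a2)) kall
  have k2 : Q * F * (Q * F) * (Q * F * (Q * F)) = 1 := by
    have e1 : Q * F * (Q * F) = F * Q * (F * Q) := by
      calc _ = Q * F * (Q * F) * Q * Q := by rw [mul_assoc _ Q Q, Q2, mul_one]
        _ = Q * Q * (F * Q * (F * Q)) := by rw [← kQ.eq]; group
        _ = _ := by rw [Q2, one_mul]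
    calc _ = Q * F * (Q * F) * (F * Q * (F * Q)) := by rw [← e1]
      _ = Q * (F * (Q * (F * F) * Q) * F) * Q := by group
      _ = 1 := by rw [F2, mul_one, Q2, mul_one, F2, mul_one, Q2]
  by_cases k1 : Q * F * (Q * F) = 1
  · have := inv_eq_of_mul_eq_one_right k1
    rw [mul_inv_rev, inv_eq_of_mul_eq_one_right Q2, inv_eq_of_mul_eq_one_right F2] at this
    exact this.symm
  · exfalso
    have n1 := H14.std_centralizer_le hA (orderOf_eq_prime (by rwa [pow_two]) k1)
      (by rintro _ ⟨w, rfl⟩; exact kall w) (mem_centralizer_singleton_iff.2 kQ)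
    obtain ⟨w', hw⟩ := (mem_normalizer_iff.1 n1 (j p)).1 ⟨p, rfl⟩
    rw [inv_eq_of_mul_eq_one_right Q2] at hw
    have n2 : Q * e * Q * j p = j p * (Q * e * Q) := by
      calc _ = Q * e * Q * j p * (Q * Q) := by rw [Q2, mul_one]
        _ = Q * (e * (Q * j p * Q)) * Q := by group
        _ = Q * Q * j p * (Q * e * Q) := by rw [← hw, W.ec, hw]; group
        _ = _ := by rw [Q2, one_mul]
    rw [oe, ← mul_assoc, ← W.ec, mul_assoc e, mul_assoc e, mul_right_inj, ← map_mul, ← map_mul] at n2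
    exact absurd (W.inj n2) (by decide +kernel)

/-- conjugators of `z` -/
noncomputable def _root_.H21.JSW.D4 : List X :=
  List.map (wd gens) [[], [0, 0, 9, 6, 0, 9, 0], [4, 6, 0, 9, 5, 0, 9, 0], [9, 0, 9, 8, 0, 9, 0]]

omit W in
theorem _root_.H21.JSW.D4_pair : ∀ c ∈ D4, ∀ c' ∈ D4, c = c' ∨ ∃ w ∈ List.map (wd gens)
    [[0, 0, 9, 6, 2], [4, 6, 0, 9, 5], [8, 0, 9, 3, 4], [0, 0, 9, 5, 4, 0, 0],
      [7, 1, 0, 8, 9, 0, 9, 8, 0, 3], [9, 4, 0, 9, 6, 0, 9, 0, 8, 4, 3], [9, 6, 0, 9, 4, 0, 0],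
      [7, 1, 0, 8, 9, 0, 9, 8], [9, 0, 9, 7, 0, 8, 9, 0, 4], [8, 0, 9, 7, 4, 0, 0],
      [9, 0, 9, 4, 5, 0, 9, 0, 8, 9], [9, 0, 9, 0, 8, 9, 8, 2, 5]],
    w * (h * g) * z * (w * (h * g))⁻¹ = c * z * c⁻¹ ∧
      w * (g * (h * g)) * z * (w * (g * (h * g)))⁻¹ = c' * z * c'⁻¹ ∧
      w * ff * w⁻¹ = c' * z * c'⁻¹ := by decide +kernel

omit W in
theorem _root_.H21.JSW.D4_top : closure {d | d ∈ D4.map fun c => c * z * c⁻¹} = ⊤ := by
  have h0 : ∀ u ∈ D4.map fun c => c * z * c⁻¹,
      u ∈ (closure {d | d ∈ D4.map fun c => c * z * c⁻¹}).toSubmonoid := fun u hu => subset_closure hu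
  refine top_le_iff.1 (H21.JS.gz (fun w hw => gen0 ?_ ?_ ?_ ?_ w (mem_cen1.1 hw)) fun _ => ?_)
  · rw [show y = wd (D4.map fun c => c * z * c⁻¹) [1, 3, 0, 2, 3, 1, 0, 2, 1, 3] by decide +kernel]
    exact wd_mem h0 _
  · rw [show a = wd (D4.map fun c => c * z * c⁻¹)
      [3, 1, 2, 1, 3, 0, 2, 3, 0, 2, 1, 3, 2, 0, 3, 0, 1, 2, 0] by decide +kernel]
    exact wd_mem h0 _
  · rw [show h = wd (D4.map fun c => c * z * c⁻¹)
      [3, 2, 1, 0, 3, 0, 1, 2, 1, 3, 2, 1, 0, 3, 2, 0] by decide +kernel]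
    exact wd_mem h0 _
  · rw [show p = wd (D4.map fun c => c * z * c⁻¹) [3, 1, 2, 1, 0, 3, 0, 1, 2, 1, 3] by decide +kernel]
    exact wd_mem h0 _
  · rw [show g = wd (D4.map fun c => c * z * c⁻¹)
      [1, 3, 1, 2, 1, 3, 0, 2, 3, 1, 2, 1, 3, 0, 1] by decide +kernel]
    exact wd_mem h0 _

theorem gen4 (hA : IsStandardSubgroup j.range) : ∀ c ∈ D4, ∀ c' ∈ D4,
    Commute (hf j u c) (hf j u c' * j (c' * z * c'⁻¹)) := fun c hc c' hc' => by
  rcases D4_pair c hc c' hc' with rfl | ⟨w, -, h1, h2, h3⟩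
  · exact (Commute.refl _).mul_right (W.fix (by group)).symm
  · have := com_cj (W.d3 hA) (j w)
    rwa [hf_cj, ← conj_mul, hf_cj, W.uniq h1, W.uniq h2, ← map_inv, ← map_mul, ← map_mul, h3] at this

end WD

theorem wd_of {O : Subgroup G} {v : G} (S : St j e O) (V : Vv j e O v) (T : Tri j (v * e))
    (R : WR j (v * e)) : WD j e (v * e) := by
  have h1 : v * e = e * j z * v := eq_mul_of_mul_inv_eq V.ve
  have z2 : j z * j z = 1 := by rw [← map_mul, show z * z = 1 by decide +kernel, map_one]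
  refine ⟨S.inj, S.e1, S.e2, S.ec, ?_, fun w hw => ?_, ?_, T, R⟩
  · calc _ = e * j z * v * (v * e) := by rw [← h1]
      _ = e * (j z * (v * v)) * e := by group
      _ = 1 := by rw [V.v2, z2, mul_one, S.e2]
  · rw [mul_assoc, S.ec, ← mul_assoc, V.vc w hw, mul_assoc]
  · rw [mul_assoc v, S.e2, mul_one, ← mul_assoc, V.v2, S.ec]

end H21.JSW
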