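import Cfsg.Agent.H21.SWSpec
import Cfsg.Agent.H64.SGK89

/-! STD-S kit, part 1: `Ind`, `F0`, invariance under automorphisms, transport. -/

set_option autoImplicit false
set_option linter.unusedSectionVars false

namespace H21.SW

open H64.SG Subgroup
open H67.SA (cm)

universe u

/-! ### Maps of subgroups under an isomorphism -/

section Iso

variable {X Y : Type*} [Group X] [Group Y] (β : X ≃* Y)

/-- The image of a subgroup under an isomorphism. -/
abbrev mp (A : Subgroup X) : Subgroup Y := A.map β.toMonoidHom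

theorem mem_mp {A : Subgroup X} {y : Y} : y ∈ mp β A ↔ β.symm y ∈ A := mem_map_equiv
theorem map_mem_mp {A : Subgroup X} {x : X} : β x ∈ mp β A ↔ x ∈ A :=
  mem_map_iff_mem (f := β.toMonoidHom) β.injective
theorem mp_symm (A : Subgroup X) : mp β.symm (mp β A) = A := by
  ext x; rw [mem_mp, MulEquiv.symm_symm, map_mem_mp]
theorem mp_symm' (A : Subgroup Y) : mp β (mp β.symm A) = A := mp_symm β.symm A
theorem mp_le {A B : Subgroup X} : mp β A ≤ mp β B ↔ A ≤ B :=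
  map_le_map_iff_of_injective (f := β.toMonoidHom) β.injective
theorem mp_inj {A B : Subgroup X} : mp β A = mp β B ↔ A = B :=
  (map_injective (f := β.toMonoidHom) β.injective).eq_iff
theorem card_mp (A : Subgroup X) : Nat.card (mp β A) = Nat.card A :=
  card_map_of_injective (f := β.toMonoidHom) β.injective
theorem mp_inf (A B : Subgroup X) : mp β (A ⊓ B) = mp β A ⊓ mp β B :=
  map_inf _ _ _ β.injective
theorem mp_sup (A B : Subgroup X) : mp β (A ⊔ B) = mp β A ⊔ mp β B := Subgroup.map_sup _ _ _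
theorem mp_top : mp β ⊤ = ⊤ := map_top_of_surjective _ β.surjective
theorem mp_bot : mp β ⊥ = ⊥ := Subgroup.map_bot _
theorem mp_comm (A B : Subgroup X) : mp β ⁅A, B⁆ = ⁅mp β A, mp β B⁆ := map_commutator _ _ _
theorem mp_zpowers (x : X) : mp β (zpowers x) = zpowers (β x) := MonoidHom.map_zpowers _ _

theorem mp_Cz (x : X) : mp β (Cz x) = Cz (β x) := by
  ext y
  obtain ⟨y, rfl⟩ := β.surjective y
  rw [map_mem_mp, mem_Cz, mem_Cz, ← map_mul, ← map_mul, β.injective.eq_iff]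

theorem mp_Cs (A : Subgroup X) : mp β (Cs A) = Cs (mp β A) := by
  ext y
  obtain ⟨y, rfl⟩ := β.surjective y
  rw [map_mem_mp, mem_Cs, mem_Cs]
  refine ⟨?_, fun h a ha => β.injective ?_⟩
  · rintro h _ ⟨a, ha, rfl⟩
    change β a * β y = β y * β a
    rw [← map_mul, ← map_mul, h a ha]
  · rw [map_mul, map_mul, h _ ((map_mem_mp β).2 ha)]

theorem mp_Ns (A : Subgroup X) : mp β (Ns A) = Ns (mp β A) :=
  map_equiv_normalizer_eq A β

theorem mp_closure (S : Set X) : mp β (closure S) = closure (β '' S) := MonoidHom.map_closure _ _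

theorem mp_ivs (A : Subgroup X) : mp β (ivs A) = ivs (mp β A) := by
  rw [ivs, ivs, mp_closure]
  congr 1
  ext y
  obtain ⟨y, rfl⟩ := β.surjective y
  rw [β.injective.mem_set_image, Set.mem_setOf_eq, Set.mem_setOf_eq, map_mem_mp, ← map_mul,
    map_eq_one_iff β β.injective]

theorem mp_sqs (A : Subgroup X) : mp β (sqs A) = sqs (mp β A) := by
  rw [sqs, sqs, mp_closure]
  congr 1
  ext y
  constructor
  · rintro ⟨_, ⟨x, hx, rfl⟩, rfl⟩
    exact ⟨β x, (map_mem_mp β).2 hx, map_mul _ _ _⟩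
  · rintro ⟨_, ⟨x, hx, rfl⟩, rfl⟩
    exact ⟨x * x, ⟨x, hx, rfl⟩, map_mul _ _ _⟩

theorem mp_O2 (A : Subgroup X) : mp β (O2 A) = O2 (mp β A) := by
  rw [O2, O2, mp_closure]
  congr 1
  ext y
  obtain ⟨y, rfl⟩ := β.surjective y
  rw [β.injective.mem_set_image, Set.mem_setOf_eq, Set.mem_setOf_eq, map_mem_mp,
    MulEquiv.orderOf_eq]

theorem index_mp (A : Subgroup X) : (mp β A).index = A.index := index_map_equiv A β

theorem relIndex_mp (A B : Subgroup X) : (mp β A).relIndex (mp β B) = A.relIndex B :=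
  relIndex_map_map_of_injective _ _ β.injective

theorem isPGroup_mp {A : Subgroup X} (h : IsPGroup 2 A) : IsPGroup 2 (mp β A) := h.map _

theorem Syl.mp {P A : Subgroup X} (h : Syl P A) : Syl (mp β P) (mp β A) :=
  ⟨(mp_le β).2 h.1, h.2.1.map _, by rw [relIndex_mp]; exact h.2.2⟩

theorem El.mp {A : Subgroup X} (h : El A) : El (mp β A) := by
  rintro _ ⟨a, ha, rfl⟩
  rw [← map_mul, h a ha, map_one]

theorem inv2_map {x : X} : Inv2 (β x) ↔ Inv2 x := by
  rw [Inv2, Inv2, ← map_mul, map_eq_one_iff β β.injective, Ne, map_eq_one_iff β β.injective]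

theorem I_map {x : X} : I (β x) ↔ I x := by
  rw [I, I, inv2_map, ← mp_Cz, index_mp]

theorem mp_pCoreOf (A : Subgroup X) : mp β (Cfsg.pCoreOf 2 A) = Cfsg.pCoreOf 2 (mp β A) := by
  obtain ⟨h1, h2, h3, h4⟩ := isO2_pCoreOf A
  refine IsO2.eq ⟨(mp_le β).2 h1, by rw [← mp_Ns]; exact (mp_le β).2 h2, h3.map _,
    fun R r1 r2 r3 => ?_⟩
  rw [← mp_symm' β R, mp_le]
  refine h4 _ ?_ ?_ (r3.map _)
  · rw [← mp_le β, mp_symm']; exact r1
  · rw [← mp_le β, mp_Ns, mp_symm']; exact r2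

end Iso

/-! ### The largest perfect subgroup -/

section Pf

variable {X Y : Type*} [Group X] [Group Y] {A B N : Subgroup X}

theorem Pf_le (A : Subgroup X) : Pf A ≤ A := sSup_le fun _ h => h.1
theorem le_Pf (h : N ≤ A) (h' : N ≤ ⁅N, N⁆) : N ≤ Pf A := le_sSup ⟨h, h'⟩
theorem Pf_perf (A : Subgroup X) : Pf A ≤ ⁅Pf A, Pf A⁆ :=
  sSup_le fun _ h => h.2.trans (commutator_mono (le_Pf h.1 h.2) (le_Pf h.1 h.2))
theorem Pf_mono (h : A ≤ B) : Pf A ≤ Pf B := le_Pf ((Pf_le A).trans h) (Pf_perf A)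
theorem Pf_eq_self (h : A ≤ ⁅A, A⁆) : Pf A = A := le_antisymm (Pf_le A) (le_Pf le_rfl h)
theorem map_perf (f : X →* Y) (h : N ≤ ⁅N, N⁆) : N.map f ≤ ⁅N.map f, N.map f⁆ := by
  rw [← map_commutator]; exact map_mono h
theorem map_Pf_le (f : X →* Y) (A : Subgroup X) : (Pf A).map f ≤ Pf (A.map f) :=
  le_Pf (map_mono (Pf_le A)) (map_perf f (Pf_perf A))

theorem perf_comap {f : X →* Y} (hf : Function.Injective f) {N : Subgroup Y} (hN : N ≤ f.range)
    (h : N ≤ ⁅N, N⁆) : N.comap f ≤ ⁅N.comap f, N.comap f⁆ := by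
  rw [← map_le_map_iff_of_injective hf, map_commutator, map_comap_eq_self hN]; exact h

theorem map_Pf {f : X →* Y} (hf : Function.Injective f) (A : Subgroup X) :
    (Pf A).map f = Pf (A.map f) := by
  refine le_antisymm (map_Pf_le f A) ?_
  have h1 : Pf (A.map f) ≤ f.range := (Pf_le _).trans (map_le_range f A)
  rw [← map_comap_eq_self h1]
  refine map_mono (le_Pf ?_ (perf_comap hf h1 (Pf_perf _)))
  rw [← comap_map_eq_self_of_injective hf A]
  exact comap_mono (by rw [comap_map_eq_self_of_injective hf A]; exact Pf_le _)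

theorem mp_Pf (β : X ≃* Y) (A : Subgroup X) : mp β (Pf A) = Pf (mp β A) :=
  map_Pf (f := β.toMonoidHom) β.injective A

theorem mp_Py (β : X ≃* Y) (y : X) : mp β (Py y) = Py (β y) := by rw [Py, mp_Pf, mp_Cz]

theorem mp_Vy (β : X ≃* Y) (y : X) : mp β (Vy y) = Vy (β y) := by
  rw [Vy, mp_inf, mp_Cs, mp_Py, mp_Cz]

theorem cjs_eq (g : X) (A : Subgroup X) : cjs g A = mp (MulAut.conj g) A := rfl

theorem mem_Ns_iff {g : X} : g ∈ Ns A ↔ cjs g A = A :=
  ⟨H98.cj_eq_self, fun h => mem_normalizer_iff.2 fun a => by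
    rw [← H67.SA.conj_mem_cjs (g := g), h]⟩

theorem Ns_le_Ns_Pf (A : Subgroup X) : Ns A ≤ Ns (Pf A) := fun g hg =>
  mem_Ns_iff.2 (by rw [cjs_eq, mp_Pf, ← cjs_eq, mem_Ns_iff.1 hg])

theorem Cz_le_Ns_Py (y : X) : Cz y ≤ Ns (Py y) := le_normalizer.trans (Ns_le_Ns_Pf _)

theorem Ln2.map (β : X ≃* Y) {z e : X} (h : Ln2 z e) : Ln2 (β z) (β e) :=
  ⟨(I_map β).2 h.1, (I_map β).2 h.2.1, β.injective.ne h.2.2.1, by
    rw [← mp_Cz, ← mp_pCoreOf, map_mem_mp]; exact h.2.2.2⟩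

theorem Ln3.map (β : X ≃* Y) {z e : X} (h : Ln3 z e) : Ln3 (β z) (β e) :=
  ⟨(I_map β).2 h.1, (I_map β).2 h.2.1, β.injective.ne h.2.2.1, by
    rw [← mp_Py, map_mem_mp]; exact h.2.2.2⟩

theorem I.conj {x : X} (h : I x) (g : X) : I (g * x * g⁻¹) := (I_map (MulAut.conj g)).2 h
theorem I.isConj {x y : X} (h : I x) (c : IsConj x y) : I y := by
  obtain ⟨g, rfl⟩ := isConj_iff.1 c; exact h.conj g
theorem I.sq {x : X} (h : I x) : x * x = 1 := h.1.1
theorem I.ne {x : X} (h : I x) : x ≠ 1 := h.1.2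
theorem Ln2.conj {z e : X} (h : Ln2 z e) (g : X) : Ln2 (g * z * g⁻¹) (g * e * g⁻¹) :=
  h.map (MulAut.conj g)
theorem Ln3.conj {z e : X} (h : Ln3 z e) (g : X) : Ln3 (g * z * g⁻¹) (g * e * g⁻¹) :=
  h.map (MulAut.conj g)
theorem Ln2.mem {z e : X} (h : Ln2 z e) : e ∈ Cz z := (isO2_pCoreOf _).1 h.2.2.2
theorem Ln3.mem {z e : X} (h : Ln3 z e) : e ∈ Cz z := Pf_le _ h.2.2.2
theorem cj_Py (g y : X) : cjs g (Py y) = Py (g * y * g⁻¹) := mp_Py (MulAut.conj g) y
theorem cj_Vy (g y : X) : cjs g (Vy y) = Vy (g * y * g⁻¹) := mp_Vy (MulAut.conj g) y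

theorem ivs_le (A : Subgroup X) : ivs A ≤ A := (closure_le _).2 fun _ h => h.1
theorem mem_ivs {v : X} (h : v ∈ A) (h2 : v * v = 1) : v ∈ ivs A := subset_closure ⟨h, h2⟩
theorem ivs_mono (h : A ≤ B) : ivs A ≤ ivs B := closure_mono fun _ hv => ⟨h hv.1, hv.2⟩
theorem sqs_le (A : Subgroup X) : sqs A ≤ A := (closure_le _).2 (by
  rintro _ ⟨x, hx, rfl⟩; exact mul_mem hx hx)
theorem sq_mem_sqs {x : X} (h : x ∈ A) : x * x ∈ sqs A := subset_closure ⟨x, h, rfl⟩
theorem sqs_mono (h : A ≤ B) : sqs A ≤ sqs B := closure_mono fun _ ⟨x, hx, e⟩ => ⟨x, h hx, e⟩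
theorem Ns_le_Ns_sqs (A : Subgroup X) : Ns A ≤ Ns (sqs A) := fun g hg =>
  mem_Ns_iff.2 (by rw [cjs_eq, mp_sqs, ← cjs_eq, mem_Ns_iff.1 hg])
theorem Ns_le_Ns_ivs (A : Subgroup X) : Ns A ≤ Ns (ivs A) := fun g hg =>
  mem_Ns_iff.2 (by rw [cjs_eq, mp_ivs, ← cjs_eq, mem_Ns_iff.1 hg])
theorem cm_mem_sqs {a b : X} (ha : a ∈ A) (hb : b ∈ A) : cm a b ∈ sqs A := by
  have : cm a b = a * b * (a * b) * (b⁻¹ * a⁻¹ * b * (b⁻¹ * a⁻¹ * b)) * (b⁻¹ * b⁻¹) := by
    unfold cm; group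
  rw [this]
  exact mul_mem (mul_mem (sq_mem_sqs (mul_mem ha hb))
    (sq_mem_sqs (mul_mem (mul_mem (inv_mem hb) (inv_mem ha)) hb))) (sq_mem_sqs (inv_mem hb))
theorem El.comm (h : El A) {a b : X} (ha : a ∈ A) (hb : b ∈ A) : a * b = b * a := by
  have h1 := h _ (mul_mem ha hb)
  calc a * b = a * (a * b * (a * b)) * b := by rw [h1]; group
    _ = a * a * (b * a) * (b * b) := by group
    _ = b * a := by rw [h a ha, h b hb]; group
theorem El.mono (h : El B) (hA : A ≤ B) : El A := fun a ha => h a (hA ha)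
theorem El.isPGroup (h : El A) : IsPGroup 2 A := isPGroup_iff_is2.2 fun a ha => is2_of_sq (h a ha)
theorem Lnk.le {S U : Subgroup X} (h : Lnk S U) : U ≤ S := by
  induction h with
  | top => exact le_rfl
  | step h1 _ _ ih => exact h1.trans ih

/-! ### Inner automorphisms -/

variable {β γ : MulAut X}

theorem inn_conj (g : X) : Inn (MulAut.conj g) := ⟨g, rfl⟩
theorem inn_one : Inn (1 : MulAut X) := ⟨1, (map_one _).symm⟩
theorem Inn.mul (h : Inn β) (h' : Inn γ) : Inn (β * γ) := by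
  obtain ⟨a, rfl⟩ := h
  obtain ⟨b, rfl⟩ := h'
  exact ⟨a * b, (map_mul _ _ _).symm⟩
theorem Inn.inv (h : Inn β) : Inn β⁻¹ := by
  obtain ⟨a, rfl⟩ := h
  exact ⟨a⁻¹, (map_inv _ _).symm⟩
theorem aut_conj (γ : MulAut X) (g : X) : γ * MulAut.conj g * γ⁻¹ = MulAut.conj (γ g) := by
  ext x; simp
theorem Inn.conj (h : Inn β) (γ : MulAut X) : Inn (γ * β * γ⁻¹) := by
  obtain ⟨a, rfl⟩ := h
  exact ⟨γ a, aut_conj γ a⟩
theorem inn_conj_iff : Inn (γ * β * γ⁻¹) ↔ Inn β :=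
  ⟨fun h => by simpa [mul_assoc] using h.conj γ⁻¹, fun h => h.conj γ⟩
theorem Inn.pow (h : Inn β) (k : ℕ) : Inn (β ^ k) := by
  obtain ⟨a, rfl⟩ := h
  exact ⟨a ^ k, (map_pow _ _ _).symm⟩
theorem inn_iff : Inn β ↔ β ∈ cI (⊤ : Subgroup X) :=
  ⟨fun ⟨g, h⟩ => ⟨g, trivial, h.symm⟩, fun ⟨g, _, h⟩ => ⟨g, h.symm⟩⟩
theorem mp_fx (γ β : MulAut X) : mp γ (fx β) = fx (γ * β * γ⁻¹) := by
  ext x
  obtain ⟨x, rfl⟩ := γ.surjective x
  rw [map_mem_mp, mem_fx, mem_fx]
  simp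

theorem SC.map (γ : MulAut X) {U : Subgroup X} (h : SC U) : SC (mp γ U) := fun β hβ => by
  obtain ⟨u, hu, e⟩ := h (γ⁻¹ * β * γ) fun x hx => by
    have := mem_fx.1 (hβ ((map_mem_mp γ).2 hx))
    rw [mem_fx]; simp [this]
  refine ⟨γ u, (map_mem_mp γ).2 hu, ?_⟩
  rw [← aut_conj, ← e]; group

theorem PV.map (γ : MulAut X) {y : X} (h : PV y) : PV (γ y) where
  ne := fun e => h.ne (by rwa [← mp_Py, ← mp_bot γ, mp_inj] at e)
  cv := fun β h1 h2 => by
    have := h.cv (γ⁻¹ * β * γ⁻¹⁻¹) (by simp [h1]) (by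
      rw [← mp_fx, ← mp_le γ]
      exact (mp_Py γ y).le.trans (h2.trans (mp_symm' γ _).ge))
    exact inn_conj_iff.1 this
  card := by rw [← mp_Vy, card_mp]; exact h.card
  mv := by
    obtain ⟨s, hs, h1⟩ := h.mv
    refine ⟨γ s, by rw [← mp_Cz, map_mem_mp]; exact hs, fun v hv hn => ?_⟩
    obtain ⟨v, rfl⟩ := γ.surjective v
    rw [← mp_Vy, map_mem_mp] at hv
    rw [← mp_zpowers, map_mem_mp] at hn
    rw [← map_inv, ← map_mul, ← map_mul, h1 v hv hn, map_mul]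
  g0 := fun Y h1 h2 h3 B h4 h5 => by
    obtain ⟨Y, rfl⟩ : ∃ Y', mp γ Y' = Y := ⟨_, mp_symm' γ Y⟩
    obtain ⟨B, rfl⟩ : ∃ B', mp γ B' = B := ⟨_, mp_symm' γ B⟩
    rw [← mp_Py, mp_le] at h1
    rw [← mp_Cz, ← mp_Ns, mp_le] at h2
    rw [← mp_Py, ← mp_Cs, mp_le] at h3
    rw [← mp_Cz, mp_le] at h4
    rw [h.g0 Y h1 h2 h3 B h4 fun u hu h6 => by
      rw [← mp_le γ, mp_Cz]; exact h5 _ ((map_mem_mp γ).2 hu) ((inv2_map γ).2 h6), mp_top]
  q8 := fun hc N h1 h2 => by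
    obtain ⟨N, rfl⟩ : ∃ N', mp γ N' = N := ⟨_, mp_symm' γ N⟩
    rw [← mp_Vy, card_mp] at hc
    rw [← mp_Py, mp_le] at h1
    rw [← mp_Py, ← mp_Ns, mp_le] at h2
    rw [← mp_Py, mp_inj, relIndex_mp]
    exact h.q8 hc N h1 h2

theorem PV.conj {y : X} (h : PV y) (g : X) : PV (g * y * g⁻¹) := h.map (MulAut.conj g)

end Pf

/-! ### `F0` -/

namespace F0

variable {X : Type} [Group X] (h : F0 X) {β γ : MulAut X}
include h

theorem normal_eq {N : Subgroup X} (hN : N.Normal) : N = ⊥ ∨ N = ⊤ :=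
  have := h.simple; hN.eq_bot_or_eq_top

theorem center_eq : center X = ⊥ := (h.normal_eq inferInstance).resolve_right fun e =>
  h.nab ⟨⟨fun a b => mem_center_iff.1 (e ▸ mem_top b) a⟩⟩

theorem eq_one_of_comm {g : X} (hg : ∀ x, x * g = g * x) : g = 1 :=
  mem_bot.1 (h.center_eq ▸ mem_center_iff.2 hg)

theorem conj_inj : Function.Injective (MulAut.conj : X →* MulAut X) :=
  (injective_iff_map_eq_one _).2 fun g e => h.eq_one_of_comm fun x => by
    have := DFunLike.congr_fun e x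
    rw [MulAut.conj_apply, MulAut.one_apply, mul_inv_eq_iff_eq_mul] at this
    exact this.symm

theorem cen (g : X) (e : MulAut.conj g = 1) : g = 1 := h.conj_inj (by rw [e, map_one])

theorem perf : (⊤ : Subgroup X) ≤ ⁅(⊤ : Subgroup X), (⊤ : Subgroup X)⁆ := by
  refine ((h.normal_eq inferInstance).resolve_left fun e => h.nab ⟨⟨fun a b => ?_⟩⟩).ge
  exact commutatorElement_eq_one_iff_mul_comm.1
    (mem_bot.1 (e ▸ commutator_mem_commutator (mem_top a) (mem_top b)))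

theorem inn_sq (β : MulAut X) : Inn (β * β) := by
  by_cases c : Inn β
  exacts [c.mul c, h.out β β c c]

theorem inn_mul_iff : Inn (β * γ) ↔ (Inn β ↔ Inn γ) := by
  refine ⟨fun c => ⟨fun d => by simpa using d.inv.mul c, fun d => by simpa using c.mul d.inv⟩,
    fun c => ?_⟩
  by_cases d : Inn β
  exacts [d.mul (c.1 d), h.out β γ d fun k => d (c.2 k)]

theorem inn_inv_iff : Inn β⁻¹ ↔ Inn β := ⟨fun c => by simpa using c.inv, Inn.inv⟩

theorem inn_cm (β γ : MulAut X) : Inn (cm β γ) := by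
  unfold cm
  rw [h.inn_mul_iff, inn_conj_iff, h.inn_inv_iff]

theorem inn_of_pow {k : ℕ} (hk : Odd k) (c : Inn (β ^ k)) : Inn β := by
  obtain ⟨j, rfl⟩ := hk
  rw [pow_succ, pow_mul, pow_two, h.inn_mul_iff] at c
  exact c.1 ((h.inn_sq β).pow j)

theorem inn_odd (c : Odd (orderOf β)) : Inn β :=
  h.inn_of_pow c (by rw [pow_orderOf_eq_one]; exact inn_one)

/-- Every automorphism is `conj g` or `conj g * θ`. -/
theorem cases {θ : MulAut X} (hθ : ¬ Inn θ) (β : MulAut X) :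
    Inn β ∨ ∃ g, β = MulAut.conj g * θ := by
  refine or_iff_not_imp_left.2 fun c => ?_
  obtain ⟨g, e⟩ := h.out β θ⁻¹ c (by rwa [h.inn_inv_iff])
  exact ⟨g, by rw [← e]; group⟩

/-- The inner automorphisms of a perfect group of automorphisms. -/
theorem inn_of_mem_comm {A : Subgroup (MulAut X)} (c : β ∈ ⁅A, A⁆) : Inn β :=
  inn_iff.2 (commutator_le.2 (fun a _ b _ => inn_iff.1 (h.inn_cm a b)) c)

theorem index_inn : (cI (⊤ : Subgroup X)).index = 1 ∨ (cI (⊤ : Subgroup X)).index = 2 := by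
  by_cases c : ∀ β : MulAut X, Inn β
  · exact Or.inl (index_eq_one.2 (eq_top_iff.2 fun β _ => inn_iff.1 (c β)))
  · obtain ⟨θ, hθ⟩ := not_forall.1 c
    refine Or.inr (index_eq_two_iff.2 ⟨θ, fun β => ?_⟩)
    rw [← inn_iff, ← inn_iff, h.inn_mul_iff]
    rw [xor_def]
    tauto

theorem finite_aut : Finite (MulAut X) := have := h.fin; inferInstance

end F0

/-! ### `Ind` -/

section Ind

variable {X : Type} [Group X] {G : Type u} [Group G] {e : X →* G} {g g' t : G}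
  {β β' : MulAut X} {A : Subgroup X}

theorem Ind.mul (h : Ind e g β) (h' : Ind e g' β') : Ind e (g * g') (β * β') := fun s => by
  rw [MulAut.mul_apply, ← h, ← h']; group

theorem Ind.inv (h : Ind e g β) : Ind e g⁻¹ β⁻¹ := fun s => by
  have := h (β⁻¹ s)
  rw [MulAut.apply_inv_self] at this
  rw [← this]; group

theorem ind_one : Ind e 1 1 := fun s => by simp

theorem Ind.pow (h : Ind e g β) (k : ℕ) : Ind e (g ^ k) (β ^ k) := by
  induction k with
  | zero => simpa using ind_one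
  | succ k ih => rw [pow_succ, pow_succ]; exact ih.mul h

theorem Ind.conj (h : Ind e g β) (h' : Ind e g' β') : Ind e (g * g' * g⁻¹) (β * β' * β⁻¹) :=
  (h.mul h').mul h.inv

theorem Ind.cm (h : Ind e g β) (h' : Ind e g' β') : Ind e (cm g g') (cm β β') :=
  (h.conj h').mul h'.inv

theorem ind_conj (s : X) : Ind e (e s) (MulAut.conj s) := fun a => by simp

theorem mem_Cs_range : g ∈ Cs e.range ↔ ∀ s, e s * g = g * e s :=
  ⟨fun h s => h _ ⟨s, rfl⟩, by rintro h _ ⟨s, rfl⟩; exact h s⟩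

theorem mem_Cs_map : g ∈ Cs (A.map e) ↔ ∀ s ∈ A, e s * g = g * e s :=
  ⟨fun h s hs => h _ ⟨s, hs, rfl⟩, by rintro h _ ⟨s, hs, rfl⟩; exact h s hs⟩

theorem ind_one_iff : Ind e g 1 ↔ g ∈ Cs e.range := by
  rw [mem_Cs_range]
  exact forall_congr' fun s => by rw [MulAut.one_apply, mul_inv_eq_iff_eq_mul, eq_comm]

theorem Ind.cjs_map (h : Ind e g β) (A : Subgroup X) : cjs g (A.map e) = (mp β A).map e := by
  rw [cjs, Subgroup.map_map, Subgroup.map_map]
  congr 1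
  ext s
  exact h s

theorem Ind.mem_Ns_map (h : Ind e g β) (hA : mp β A = A) : g ∈ Ns (A.map e) :=
  mem_Ns_iff.2 (by rw [h.cjs_map, hA])

theorem Ind.mem_Ns (h : Ind e g β) : g ∈ Ns e.range := by
  rw [MonoidHom.range_eq_map]
  exact h.mem_Ns_map (mp_top β)

theorem Ind.comm (h : Ind e g β) {s : X} (hs : β s = s) : g * e s = e s * g := by
  have := h s
  rwa [hs, mul_inv_eq_iff_eq_mul] at this

theorem ind_conj_iff {s : X} : Ind e g (MulAut.conj s) ↔ g * (e s)⁻¹ ∈ Cs e.range := by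
  rw [← ind_one_iff]
  exact ⟨fun h => by simpa using h.mul (ind_conj s).inv,
    fun h => by simpa using h.mul (ind_conj (e := e) s)⟩

theorem map_mem_Ns {s : X} (h : s ∈ Ns A) : e s ∈ Ns (A.map e) :=
  (ind_conj s).mem_Ns_map (mem_Ns_iff.1 h)

theorem map_mem_Cs {s : X} (h : s ∈ Cs A) : e s ∈ Cs (A.map e) := by
  rintro _ ⟨a, ha, rfl⟩
  rw [← map_mul, ← map_mul, h a ha]

theorem Cs_range_le (A : Subgroup X) : Cs e.range ≤ Cs (A.map e) := centralizer_le (map_le_range e A)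

/-- `e` conjugated by `g`. -/
abbrev cje (g : G) (e : X →* G) : X →* G := (MulAut.conj g).toMonoidHom.comp e

theorem cje_apply (s : X) : cje g e s = g * e s * g⁻¹ := rfl
theorem map_cje (A : Subgroup X) : A.map (cje g e) = cjs g (A.map e) := (Subgroup.map_map _ _ _).symm
theorem range_cje : (cje g e).range = cjs g e.range := (MonoidHom.map_range _ _).symm
theorem inj_cje (h : Function.Injective e) (g : G) : Function.Injective (cje g e) :=
  (MulAut.conj g).injective.comp h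
theorem Ind.cje (h : Ind e g β) (a : G) : Ind (cje a e) (a * g * a⁻¹) β := fun s => by
  rw [cje_apply, cje_apply, ← h]; group
theorem ind_cje_iff {a : G} : Ind (cje a e) (a * g * a⁻¹) β ↔ Ind e g β :=
  ⟨fun h s => (MulAut.conj a).injective (by
    have := h s
    rw [cje_apply, cje_apply] at this
    rw [MulAut.conj_apply, MulAut.conj_apply, ← this]; group), fun h => h.cje a⟩

section Inj

variable (hi : Function.Injective e)
include hi

theorem Ind.unique (h : Ind e g β) (h' : Ind e g β') : β = β' :=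
  MulEquiv.ext fun s => hi ((h s).symm.trans (h' s))

theorem Ind.eq_one_iff (h : Ind e g β) : β = 1 ↔ g ∈ Cs e.range :=
  ⟨fun e1 => ind_one_iff.1 (e1 ▸ h), fun e1 => h.unique hi (ind_one_iff.2 e1)⟩

theorem Ind.fix (h : Ind e g β) {s : X} (hs : g * e s = e s * g) : β s = s :=
  hi (by rw [← h, hs, mul_inv_cancel_right])

theorem Ind.le_fx (h : Ind e g β) (hg : g ∈ Cs (A.map e)) : A ≤ fx β := fun s hs =>
  h.fix hi (mem_Cs_map.1 hg s hs).symm

theorem Ind.mp_eq (h : Ind e g β) (hg : g ∈ Ns (A.map e)) : mp β A = A :=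
  map_injective hi (by rw [← h.cjs_map, mem_Ns_iff.1 hg])

theorem exists_ind (hg : g ∈ Ns e.range) : ∃ β, Ind e g β := by
  let φ := MonoidHom.ofInjective hi
  refine ⟨φ.trans ((e.range.normalizerMonoidHom ⟨g, hg⟩).trans φ.symm), fun s => ?_⟩
  change _ = e (φ.symm _)
  rw [MonoidHom.apply_ofInjective_symm]
  rfl

/-- The action of `N(A)`. -/
noncomputable def indH : Ns e.range →* MulAut X :=
  MonoidHom.mk' (fun g => (exists_ind hi g.2).choose) fun a b =>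
    (exists_ind hi (a * b).2).choose_spec.unique hi
      ((exists_ind hi a.2).choose_spec.mul (exists_ind hi b.2).choose_spec)

theorem ind_indH (g : Ns e.range) : Ind e g (indH hi g) := (exists_ind hi g.2).choose_spec

theorem Ind.indH_eq (h : Ind e g β) : indH hi ⟨g, h.mem_Ns⟩ = β := (ind_indH hi _).unique hi h

theorem mem_ker_indH {g : Ns e.range} : indH hi g = 1 ↔ g.1 ∈ Cs e.range :=
  (ind_indH hi g).eq_one_iff hi

theorem Ind.pow_eq_one (h : Ind e g β) {k : ℕ} (h1 : g ^ k = 1) : β ^ k = 1 :=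
  (h.pow k).unique hi (h1 ▸ ind_one)

theorem Ind.is2 (h : Ind e g β) (h2 : Is2 g) : Is2 β := ⟨_, h.pow_eq_one hi h2.choose_spec⟩

theorem Ind.odd (h : Ind e g β) (h2 : Odd (orderOf g)) : Odd (orderOf β) :=
  odd_orderOf_of_pow h2 (h.pow_eq_one hi (pow_orderOf_eq_one g))

theorem card_map_e (A : Subgroup X) : Nat.card (A.map e) = Nat.card A := card_map_of_injective hi

theorem e_mem_map {s : X} : e s ∈ A.map e ↔ s ∈ A := mem_map_iff_mem hi

theorem e_comm {a b : X} : e a * e b = e b * e a ↔ a * b = b * a := by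
  rw [← map_mul, ← map_mul, hi.eq_iff]

theorem e_mem_Cs (hF : F0 X) {s : X} (h : e s ∈ Cs e.range) : s = 1 :=
  hF.eq_one_of_comm fun x => (e_comm hi).1 (mem_Cs_range.1 h x)

/-- The components of `k * e s` are unique. -/
theorem comp_unique (hF : F0 X) {k k' : G} {s s' : X} (hk : k ∈ Cs e.range) (hk' : k' ∈ Cs e.range)
    (h : k * e s = k' * e s') : k = k' ∧ s = s' := by
  have h1 : e (s * s'⁻¹) = k⁻¹ * k' := by
    rw [map_mul, map_inv, eq_inv_mul_iff_mul_eq, ← mul_assoc, h]; group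
  have h2 := mul_inv_eq_one.1 (e_mem_Cs hi hF (h1 ▸ mul_mem (inv_mem hk) hk'))
  exact ⟨mul_right_cancel (h2 ▸ h), h2⟩

theorem pow_comp (hF : F0 X) {k : G} {s : X} (hk : k ∈ Cs e.range) {n : ℕ} (h : (k * e s) ^ n = 1) :
    k ^ n = 1 ∧ s ^ n = 1 := by
  rw [(show Commute k (e s) from (mem_Cs_range.1 hk s).symm).mul_pow, ← map_pow] at h
  exact comp_unique hi hF (pow_mem hk n) (one_mem _) (by rw [h, map_one, mul_one])

/-- A perfect subgroup of `N(A)` acts by inner automorphisms. -/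
theorem inn_of_perf (hF : F0 X) {N : Subgroup G} (hN : N ≤ Ns e.range) (hg : g ∈ ⁅N, N⁆) :
    ∃ s, Ind e g (MulAut.conj s) := by
  have : ⁅N, N⁆ ≤ ((cI ⊤).comap (indH hi)).map (Ns e.range).subtype :=
    commutator_le.2 fun a ha b hb => ⟨cm (⟨a, hN ha⟩ : Ns e.range) ⟨b, hN hb⟩, by
      rw [SetLike.mem_coe, mem_comap, cm, map_mul, map_mul, map_mul, map_inv, map_inv]
      exact inn_iff.1 (hF.inn_cm _ _), rfl⟩
  obtain ⟨n, ⟨s, -, hs⟩, rfl⟩ := this hg
  exact ⟨s, hs ▸ ind_indH hi n⟩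

end Inj

theorem range_perf (hF : F0 X) : e.range ≤ ⁅e.range, e.range⁆ := by
  rw [MonoidHom.range_eq_map]; exact map_perf e hF.perf

/-! ### `B1`, `CE`, `AB` -/

theorem B1.comm (h : B1 e t) (s : X) : t * e s = e s * t := (h.cen _ ⟨s, rfl⟩).symm
theorem B1.conj_eq (h : B1 e t) (s : X) : t * e s * t⁻¹ = e s := by
  rw [h.comm, mul_inv_cancel_right]
theorem B1.conj_t (h : B1 e t) (s : X) : e s * t * (e s)⁻¹ = t := by
  rw [← h.comm, mul_inv_cancel_right]
theorem B1.mem_Cz (h : B1 e t) (s : X) : e s ∈ Cz t := H64.SG.mem_Cz.2 (h.comm s)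
theorem B1.range_le (h : B1 e t) : e.range ≤ Cz t := by rintro _ ⟨s, rfl⟩; exact h.mem_Cz s
theorem B1.tt (h : B1 e t) : t * t = 1 := h.inv.1
theorem B1.inv_eq (h : B1 e t) : t⁻¹ = t := inv_eq_of_mul_eq_one_right h.inv.1
theorem B1.ind (h : B1 e t) (hg : g ∈ Cz t) : ∃ β, Ind e g β := exists_ind h.inj (h.cz hg)
theorem B1.t_ne (h : B1 e t) (hF : F0 X) (s : X) : t ≠ e s := fun c =>
  h.inv.2 (by rw [c, e_mem_Cs (s := s) h.inj hF (c ▸ h.cen), map_one])

theorem B1.cje (h : B1 e t) (g : G) : B1 (cje g e) (g * t * g⁻¹) where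
  inj := inj_cje h.inj g
  inv := H9.UF.inv2_conj h.inv (isConj_iff.2 ⟨g, rfl⟩)
  cen := by rw [range_cje, ← cj_Cs]; exact H67.SA.conj_mem_cjs.2 h.cen
  cz := by rw [range_cje, ← cj_Ns, ← cj_Cz]; exact map_mono h.cz

theorem CE.cje (h : CE e t) (g : G) : CE (cje g e) (g * t * g⁻¹) where
  toB1 := h.toB1.cje g
  two := fun R hR h2 => by
    rw [range_cje, ← cj_Cs] at hR
    rw [← H67.SA.card_cjs g⁻¹]
    exact h.two _ (H67.SA.cjs_inv_le hR) (h2.map _)

theorem AB.cje {O : Subgroup G} (h : AB e t O) (g : G) : AB (cje g e) (g * t * g⁻¹) (cjs g O) := by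
  have sj : ∀ x : G, ∃ y, x = g * y * g⁻¹ := fun x => ⟨g⁻¹ * x * g, by group⟩
  refine ⟨by rw [H67.SA.card_cjs]; exact h.odd, ?_, fun k h1 h2 => ?_, ?_, fun y h1 h2 => ?_,
    fun N h1 h2 => ?_, fun y h1 h2 s h3 => ?_, fun a c => h.nr a ?_⟩
  · rw [range_cje, ← cj_Cs, ← cj_Cz, cjs_eq, cjs_eq, cjs_eq, ← mp_inf, mp_le]; exact h.le
  · obtain ⟨k, rfl⟩ := sj k
    rw [range_cje, ← cj_Cs, H67.SA.conj_mem_cjs] at h1
    rw [← cj_Cz, H67.SA.conj_mem_cjs] at h2
    rw [conj_mul, H67.SA.conj_mem_cjs, H67.SA.conj_mem_cjs]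
    exact h.ko k h1 h2
  · rw [← cj_Cz, ← cj_Ns]; exact map_mono h.ct
  · obtain ⟨y, rfl⟩ := sj y
    rw [← cj_Cz, cjs_eq, ← mp_comm, ← cjs_eq, H67.SA.conj_mem_cjs] at h1
    rw [range_cje, H67.SA.conj_mem_cjs]
    exact h.cm y h1 (by simpa [mul_assoc] using h2.conj g⁻¹)
  · obtain ⟨N, rfl⟩ : ∃ N', mp (MulAut.conj g) N' = N := ⟨_, mp_symm' _ N⟩
    rw [← cj_Cz, cjs_eq, mp_le] at h1
    rw [← mp_comm, mp_le] at h2
    rw [range_cje, cjs_eq, mp_le]
    exact h.pf N h1 h2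
  · obtain ⟨y, rfl⟩ := sj y
    rw [← cj_Cz, H67.SA.conj_mem_cjs] at h1
    rcases h.inn y h1 (by simpa [mul_assoc] using h2.conj g⁻¹) s (ind_cje_iff.1 h3) with c | c
    · exact Or.inl (by rw [c]; rfl)
    · exact Or.inr (by rw [c, cje_apply]; group)
  · exact (isConj_iff.2 ⟨g, rfl⟩).trans (c.trans (isConj_iff.2 ⟨g⁻¹, by rw [cje_apply]; group⟩))

/-- A `2`-element of `K` commuting with `t` is `1` or `t`. -/
theorem CE.eq_or [Finite G] (h : CE e t) {k : G} (hk : k ∈ Cs e.range) (h2 : Is2 k)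
    (hc : t * k = k * t) : k = 1 ∨ k = t := by
  have hp : IsPGroup 2 ↥(zpowers t ⊔ zpowers k) := (H9.UF.pg_zp h.inv.1).to_sup_of_normal_left'
    h2.zpowers ((zpowers_le.2 (mem_Cs_zpowers.2 hc)).trans (Cs_le_Ns _))
  have h3 := h.two _ (sup_le (zpowers_le.2 h.cen) (zpowers_le.2 hk)) hp
  have h4 : Nat.card (zpowers t) = 2 := by
    rw [Nat.card_zpowers]; exact orderOf_eq_prime (by rw [pow_two, h.inv.1]) h.inv.2
  have h5 : zpowers t = zpowers t ⊔ zpowers k := eq_of_le_of_card_ge le_sup_left (h4 ▸ h3)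
  obtain ⟨i, hi⟩ := (mem_powers_iff_mem_zpowers).2 (h5 ▸ mem_sup_right (mem_zpowers k) : k ∈ zpowers t)
  obtain ⟨j, rfl | rfl⟩ := Nat.even_or_odd' i
  · left; rw [← hi]; simp [pow_mul, pow_two, h.inv.1]
  · right; rw [← hi]; simp [pow_succ, pow_mul, pow_two, h.inv.1]

/-- The largest perfect subgroup of `C(t) ⊓ D`. -/
theorem AB.pf_eq {O : Subgroup G} (h : AB e t O) (hB : B1 e t) (D : Subgroup G) :
    Pf (Cz t ⊓ D) = (Pf (D.comap e)).map e := by
  refine le_antisymm ?_ (le_Pf (le_inf ((map_le_range _ _).trans hB.range_le)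
    (map_le_iff_le_comap.2 (Pf_le _))) (map_perf e (Pf_perf _)))
  have h1 := h.pf _ ((Pf_le (Cz t ⊓ D)).trans inf_le_left) (Pf_perf _)
  rw [← map_comap_eq_self h1]
  exact map_mono (le_Pf (comap_mono ((Pf_le _).trans inf_le_right)) (perf_comap hB.inj h1 (Pf_perf _)))

theorem comap_Cz (hi : Function.Injective e) (y : X) : (Cz (e y)).comap e = Cz y := by
  ext x; rw [mem_comap, mem_Cz, mem_Cz, e_comm hi]

theorem comap_Cs (hi : Function.Injective e) (A : Subgroup X) : (Cs (A.map e)).comap e = Cs A := by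
  ext x
  rw [mem_comap, mem_Cs_map, mem_Cs]
  exact forall₂_congr fun a _ => e_comm hi

theorem AB.pf_Cz {O : Subgroup G} (h : AB e t O) (hB : B1 e t) (y : X) :
    Pf (Cz t ⊓ Cz (e y)) = (Py y).map e := by rw [h.pf_eq hB, comap_Cz hB.inj]

/-- An element swapping `t`, `t e y` (or fixing `t`) and fixing `e y` normalises `C(t, e y)`. -/
theorem mem_Ns_CC {a : G} (h1 : g * t * g⁻¹ = t * a ∨ g * t * g⁻¹ = t) (h2 : g * a * g⁻¹ = a) :
    g ∈ Ns (Cz t ⊓ Cz a) := by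
  rw [mem_Ns_iff, cjs_eq, mp_inf, mp_Cz, mp_Cz, MulAut.conj_apply, MulAut.conj_apply, h2]
  rcases h1 with h1 | h1
  · rw [h1]
    ext x
    simp only [mem_inf, mem_Cz]
    refine and_congr_left fun c => ?_
    rw [mul_assoc, c, ← mul_assoc, ← mul_assoc, mul_left_inj]
  · rw [h1]

end Ind

end H21.SW
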