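import Cfsg.Agent.H21.SWHc
import Cfsg.Agent.H67.SAW0

/-! STD-S: `JobB`. -/

set_option autoImplicit false
set_option linter.unusedSectionVars false

namespace H21.SW.B

open H64.SG H21.SW Subgroup H98
open H67.SA (cm mem_cjs conj_mem_cjs card_cjs cm_eq_one IG mem_IG le_IG cm_mem_IG cjs_IG_le IG_le
  le_of_perfect_central mem_sup_zp)
open scoped commutatorElement

universe u

variable {X : Type} [Group X] {G : Type u} [Group G] [Finite G] {e : X →* G} {t s : G} {A B : Subgroup G}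

theorem odd_of (h : CE e t) {C : Subgroup G} (h1 : C ≤ Cs e.range) (h2 : t ∈ Ns C) (h3 : t ∉ C) :
    Odd (Nat.card C) := odd_card_of_forall fun g hg => by
  obtain ⟨S, s1, s2⟩ := exists_isSyl_le (H9.UF.pg_zp h.inv.1) (le_sup_right : _ ≤ C ⊔ zpowers t)
  have h4 := s1.inf_of_le_normalizer le_sup_left
    (s1.le.trans (sup_le le_normalizer (zpowers_le.2 h2)))
  have h5 : Nat.card (zpowers t) = 2 := by
    rw [Nat.card_zpowers]; exact orderOf_eq_prime (by rw [pow_two, h.inv.1]) h.inv.2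
  have h6 : zpowers t = S := eq_of_le_of_card_ge s2 (h5 ▸ h.two S
    (s1.le.trans (sup_le h1 (zpowers_le.2 h.cen))) s1.isPGroup)
  have h7 : S ⊓ C = ⊥ := eq_bot_iff.2 fun a ha => by
    rcases (mem_zp2 h.inv.1).1 (h6 ▸ ha.1) with h8 | h8
    · exact h8
    · exact absurd (h8 ▸ ha.2) h3
  exact odd_orderOf_of_mem (Nat.not_even_iff_odd.1 fun h8 => h4.eq_bot_iff.1 h7
    (even_iff_two_dvd.1 h8)) hg

/-- `l ↦ l l^s` -/
def dg (h : B ≤ Cs (cjs s B)) : B →* G :=
  MonoidHom.mk' (fun l => l * (s * l * s⁻¹)) fun a b => by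
    have := h b.2 _ (conj_mem_cjs.2 a.2)
    simp only [coe_mul]
    rw [← conj_mul, mul_assoc (a : G), mul_assoc (a : G), ← mul_assoc (b : G), ← this, mul_assoc]

theorem IG_eq (h : B ≤ Cs (cjs s B)) (s2 : s * s = 1) (hA : A = (dg h).range) (h0 : Cz s ≤ Ns A)
    (hs : s ∈ Cs A) (ho : ∀ l ∈ B, l ∈ cjs s B → Odd (orderOf l)) (hp : B ≤ ⁅B, B⁆) {D : Set G}
    (hD : B = closure D) (h2 : ∀ l ∈ D, l * l = 1) : IG s A = B ⊔ cjs s B := by
  have si : s⁻¹ = s := inv_eq_of_mul_eq_one_right s2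
  have mA : ∀ l ∈ B, l * (s * l * s⁻¹) ∈ A := fun l hl => hA ▸ ⟨⟨l, hl⟩, rfl⟩
  have cB : ∀ l ∈ B, ∀ m ∈ B, s * m * s⁻¹ * l = l * (s * m * s⁻¹) := fun l hl m hm =>
    h hl _ (conj_mem_cjs.2 hm)
  have h1 : A ≤ B ⊔ cjs s B := by
    rw [hA]; rintro _ ⟨l, rfl⟩
    exact mul_mem (mem_sup_left l.2) (mem_sup_right (conj_mem_cjs.2 l.2))
  refine le_antisymm (IG_le h0 h1 fun w hw => ?_) ?_
  · have u2 : cm w s * cm w s = 1 := by
      have h2 := hs _ hw
      have h3 : cm w s * s = w * s * w⁻¹ := inv_mul_cancel_right _ _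
      calc _ = cm w s * (cm w s * s) * s⁻¹ := by group
        _ = cm w s * s * (cm w s * s) := by
          nth_rewrite 1 [h2]; rw [si]; simp only [mul_assoc]
        _ = 1 := by rw [h3, conj_mul, s2]; simp
    obtain ⟨l, hl⟩ := hA ▸ hw
    have h4 : dg h (l * l) = 1 := by rw [map_mul, hl, u2]
    have h5 := ho _ (l * l).2 (by
      rw [eq_inv_of_mul_eq_one_left h4]; exact inv_mem (conj_mem_cjs.2 (l * l).2))
    obtain ⟨k, hk⟩ := h5
    have h6 : (l : G) ^ (2 * k + 1) * l ^ (2 * k + 1) = 1 := by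
      rw [← (Commute.refl (l : G)).mul_pow, ← hk, ← coe_mul, pow_orderOf_eq_one]
    have h7 : dg h (l ^ (2 * k + 1)) = cm w s := by rw [map_pow, hl, pow_succ, pow_mul, sq, u2, one_pow, one_mul]
    refine ⟨_, mem_sup_left (pow_mem l.2 (2 * k + 1)), ?_⟩
    rw [inv_eq_of_mul_eq_one_right h6, ← inv_mul_cancel_right (w * s * w⁻¹) s, ← cm, ← h7]
    change _ = (l : G) ^ (2 * k + 1) * (s * l ^ (2 * k + 1) * s⁻¹) * s
    group
  have cj : ∀ m ∈ B, ∀ n ∈ B, n ∈ IG s A → m * n * m⁻¹ ∈ IG s A := fun m hm n hn h3 => by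
    have := mul_mem (mul_mem (le_IG (mA m hm)) h3) (inv_mem (le_IG (mA m hm)))
    rwa [mul_assoc m, cB n hn m hm, show m * (n * (s * m * s⁻¹)) * (m * (s * m * s⁻¹))⁻¹ = m * n * m⁻¹ by
      group] at this
  have cmB : ∀ l ∈ B, ∀ m ∈ B, cm l m ∈ B := fun l hl m hm =>
    mul_mem (mul_mem (mul_mem hl hm) (inv_mem hl)) (inv_mem hm)
  have h3 : B ≤ IG s A := hp.trans (commutator_le.2 fun l hl m hm => by
    change cm l m ∈ _
    rw [hD] at hl
    induction hl using closure_induction with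
    | mem l hl =>
      have lB : l ∈ B := hD ▸ subset_closure hl
      have := cm_mem_IG (w := l) (t := s) (by
        rw [cm, inv_eq_of_mul_eq_one_right (h2 l hl), mul_assoc, mul_assoc, ← mul_assoc s]
        exact mA l lB) (mA m hm)
      rwa [show cm l (m * (s * m * s⁻¹)) = l * m * (s * m * s⁻¹ * l⁻¹) * (s * m * s⁻¹)⁻¹ * m⁻¹ by
        simp only [cm]; group, cB _ (inv_mem lB) m hm, ← mul_assoc, mul_inv_cancel_right] at this
    | one => rw [cm, one_mul, inv_one, mul_one, mul_inv_cancel]; exact one_mem _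
    | mul a b ha hb iha ihb =>
      rw [show cm (a * b) m = a * cm b m * a⁻¹ * cm a m by simp only [cm]; group]
      exact mul_mem (cj a (hD ▸ ha) _ (cmB b (hD ▸ hb) m hm) ihb) iha
    | inv a ha iha =>
      rw [show cm a⁻¹ m = a⁻¹ * (cm a m)⁻¹ * a⁻¹⁻¹ by simp only [cm]; group]
      exact cj _ (inv_mem (hD ▸ ha)) _ (inv_mem (cmB a (hD ▸ ha) m hm)) (inv_mem iha))
  refine sup_le h3 ?_
  rintro _ ⟨a, ha, rfl⟩
  exact (mul_mem_cancel_left (h3 ha)).1 (le_IG (mA a ha))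

theorem le_or_cent (hF : F0 X) (c : Cov X B) (hp : B ≤ ⁅B, B⁆) {N : Subgroup G} (h1 : N ≤ Ns B)
    (h2 : B ≤ Ns N) : B ≤ N ∨ N ≤ Cs B := by
  have : (c.im (N ⊓ B)).Normal := ⟨fun x hx y => by
    obtain ⟨l, a1, a2, rfl⟩ := c.mem_im.1 hx
    obtain ⟨m, hm, rfl⟩ := c.surj y
    rw [← c.pi_conj hm a2]
    have := conj_mem_of_mem_normalizer (le_normalizer hm) a2
    exact c.pi_mem_im ⟨conj_mem_of_mem_normalizer (h2 hm) a1.1, this⟩ this⟩
  rcases hF.normal_eq this with h | h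
  · refine .inr fun v hv => c.ac_ker v (h1 hv) (MulEquiv.ext fun y => ?_)
    obtain ⟨l, hl, rfl⟩ := c.surj y
    have m1 := conj_mem_of_mem_normalizer (h1 hv) hl
    have m2 : v * l * v⁻¹ * l⁻¹ ∈ N := by
      simpa only [mul_assoc] using mul_mem hv (conj_mem_of_mem_normalizer (h2 hl) (inv_mem hv))
    have m3 := mul_mem m1 (inv_mem hl)
    have := mem_bot.1 (h.le (c.pi_mem_im ⟨m2, m3⟩ m3))
    rw [c.pi_mul _ m1 _ (inv_mem hl), c.pi_inv hl, mul_inv_eq_one, c.ac_pi v (h1 hv) l hl] at this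
    exact this
  · refine .inl ((le_of_perfect_central hp inf_le_right fun l hl => ?_).trans inf_le_left)
    obtain ⟨n, a1, a2, a3⟩ := c.mem_im.1 (h.ge (mem_top (c.pi l)))
    exact ⟨n, a1, n⁻¹ * l, c.ker_cen _ (mul_mem (inv_mem a2) hl) (by
      rw [c.pi_mul _ (inv_mem a2) _ hl, c.pi_inv a2, a3, inv_mul_cancel]), by group⟩

theorem jobB : JobB.{u} := by
  intro X _ G _ _ e t hF hC O hA h H ⟨D, d1, d2, d3⟩
  have b1 := hC.toB1
  set B := closure (h '' D) with hB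
  have comm : B ≤ Cs (cjs t B) := by
    rw [hB, cjs, MonoidHom.map_closure, closure_le]
    rintro _ ⟨a, ha, rfl⟩
    refine mem_Cs_closure.2 ?_
    rintro _ ⟨_, ⟨b, hb, rfl⟩, rfl⟩
    exact ((H.gd_iff (d1 b hb)).1 (d3 a ha b hb)).eq.symm
  have comm' : cjs t B ≤ Cs B := fun a ha b hb => (comm hb a ha).symm
  have hmem : ∀ a ∈ D, h a ∈ B := fun a ha => subset_closure ⟨a, ha, rfl⟩
  have dga : ∀ a (ha : a ∈ D), dg comm ⟨h a, hmem a ha⟩ = e a := fun a ha => by
    change h a * (t * h a * t⁻¹) = _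
    rw [H.conj_t (d1 a ha), ← mul_assoc, H.sq a (d1 a ha), one_mul]
  have rg : e.range = (dg comm).range := by
    refine le_antisymm ?_ ?_
    · rw [MonoidHom.range_eq_map, ← d2, MonoidHom.map_closure, closure_le]
      rintro _ ⟨a, ha, rfl⟩
      exact ⟨_, dga a ha⟩
    · rintro _ ⟨⟨l, hl⟩, rfl⟩
      induction hl using closure_induction with
      | mem l hl => obtain ⟨a, ha, rfl⟩ := hl; exact ⟨a, (dga a ha).symm⟩
      | one => exact ⟨1, (map_one e).trans (map_one (dg comm)).symm⟩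
      | mul a b ha hb iha ihb => exact map_mul (dg comm) ⟨a, ha⟩ ⟨b, hb⟩ ▸ mul_mem iha ihb
      | inv a ha iha => exact map_inv (dg comm) ⟨a, ha⟩ ▸ inv_mem iha
  let π : B →* X := (MonoidHom.ofInjective hC.inj).symm.toMonoidHom.comp
    ((dg comm).codRestrict e.range fun l => rg ▸ ⟨l, rfl⟩)
  have eπ : ∀ l, e (π l) = dg comm l := fun l => MonoidHom.apply_ofInjective_symm hC.inj _
  have sπ : Function.Surjective π := fun x => by
    obtain ⟨l, hl⟩ := rg.le ⟨x, rfl⟩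
    exact ⟨l, hC.inj (by rw [eπ, hl])⟩
  have AG : e.range ≤ G1 t B := by
    rw [rg]; rintro _ ⟨l, rfl⟩
    exact mul_mem (mem_sup_left l.2) (mem_sup_right (conj_mem_cjs.2 l.2))
  have k1 : ∀ l : B, π l = 1 → t * l * t⁻¹ = (l : G)⁻¹ := fun l hl =>
    eq_inv_of_mul_eq_one_right ((eπ l).symm.trans (by rw [hl, map_one]))
  have k2 : ∀ l : B, π l = 1 → (l : G) ∈ cjs t B := fun l hl =>
    inv_mem_iff.1 (k1 l hl ▸ conj_mem_cjs.2 l.2)
  have k3 : ∀ l : B, (l : G) ∈ Cs B → π l = 1 := fun l hl => hF.eq_one_of_comm fun x => by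
    obtain ⟨m, rfl⟩ := sπ x
    rw [← map_mul, ← map_mul]
    exact congrArg π (Subtype.ext (hl m m.2))
  have kc : π.ker = center B := Subgroup.ext fun l => ⟨fun hl => mem_center_iff.2 fun m =>
    Subtype.ext (comm' (k2 l hl) m m.2), fun hl => k3 l fun m hm =>
      congrArg Subtype.val (mem_center_iff.1 hl ⟨m, hm⟩)⟩
  have ko : ∀ l, π l = 1 → Odd (orderOf l) := fun l hl => by
    rw [← orderOf_coe]
    refine odd_orderOf_of_mem (odd_of hC (C := π.ker.map B.subtype) ?_ (mem_normalizer_of_cj_le ?_) ?_)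
      ⟨l, hl, rfl⟩
    · rintro _ ⟨l, hl, rfl⟩
      refine centralizer_le AG ?_
      rw [centralizer_sup]
      exact ⟨comm' (k2 l hl), comm l.2⟩
    · rintro _ ⟨_, ⟨l, hl, rfl⟩, rfl⟩
      exact ⟨l⁻¹, inv_mem hl, (k1 l hl).symm⟩
    · rintro ⟨l, hl, e1⟩
      have := hF.simple
      refine top_ne_bot (d2.symm.trans (eq_bot_iff.2 ((closure_le _).2 fun a ha => hC.inj ?_)))
      have h1 := H.ht a (d1 a ha)
      rw [comm' (e1 ▸ k2 l hl) _ (hmem a ha), mul_assoc, H.sq a (d1 a ha)] at h1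
      rw [map_one]; exact (mul_left_cancel h1).symm
  have perf : B ≤ ⁅B, B⁆ := (closure_le _).2 (by
    rintro _ ⟨a, ha, rfl⟩
    have : π ⟨h a, hmem a ha⟩ ∈ Subgroup.map π ⁅(⊤ : Subgroup B), (⊤ : Subgroup B)⁆ := by
      rw [map_commutator, map_top_of_surjective π sπ]; exact hF.perf (mem_top _)
    obtain ⟨b, hb, e1⟩ := this
    have b1 : (b : G) ∈ ⁅B, B⁆ := by
      have := mem_map_of_mem B.subtype hb
      rwa [map_commutator, ← MonoidHom.range_eq_map, range_subtype] at this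
    have z1 : π (b⁻¹ * ⟨h a, hmem a ha⟩) = 1 := by rw [map_mul, map_inv, e1, inv_mul_cancel]
    have z2 := comm' (k2 _ z1) b b.2
    refine (mul_mem_cancel_left (inv_mem b1)).1 (mem_of_sq_mem ?_ (orderOf_coe (b⁻¹ * ⟨h a, _⟩) ▸ ko _ z1))
    have z3 : (b : G)⁻¹ * h a * ((b : G)⁻¹ * h a) = (b : G)⁻¹ * (b : G)⁻¹ := by
      change (b : G) * ((b : G)⁻¹ * h a) = (b : G)⁻¹ * h a * b at z2
      calc _ = (b : G)⁻¹ * h a * (b : G)⁻¹ * ((b : G) * ((b : G)⁻¹ * h a)) := by group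
        _ = (b : G)⁻¹ * ((b : G) * ((b : G)⁻¹ * h a)) * (b : G)⁻¹ * h a := by group
        _ = (b : G)⁻¹ * (b : G)⁻¹ * (h a * h a) := by rw [z2]; group
        _ = _ := by rw [H.sq a (d1 a ha), mul_one]
    exact z3 ▸ mul_mem (inv_mem b1) (inv_mem b1))
  let c := Cov.ofHom π sπ kc ko perf
  have B1 := ne_bot_of_cov hF c
  have nab : ∀ N : Subgroup G, N ≤ ⁅N, N⁆ → N ≤ Cs N → N = ⊥ := fun N a b =>
    eq_bot_iff.2 (a.trans (commutator_eq_bot_iff_le_centralizer.2 b).le)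
  have ne : t ∉ Ns B := fun m => B1 (nab B perf (by nth_rw 2 [← mem_Ns_iff.1 m]; exact comm))
  have back : cjs t (cjs t B) = B := cjs_tt b1.tt B
  have n1 : G1 t B ≤ Ns B := sup_le le_normalizer (comm'.trans (Cs_le_Ns _))
  have n2 : G1 t B ≤ Ns (cjs t B) := sup_le (comm.trans (Cs_le_Ns _)) le_normalizer
  have key : ∀ m ∈ MM t B, ∀ F ≤ G1 t B, G1 t B ≤ Ns F → F ≤ ⁅F, F⁆ → Nat.card F = Nat.card B →
      cjs m F = B ∨ cjs m F = cjs t B := fun m hm F f1 f2 f3 f4 => by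
    have a1 : cjs m F ≤ G1 t B := (map_mono f1).trans (mem_Ns_iff.1 hm).le
    have a2 : G1 t B ≤ Ns (cjs m F) := by rw [← cj_Ns]; exact (mem_Ns_iff.1 hm).ge.trans (map_mono f2)
    rcases le_or_cent hF c perf (a1.trans n1) (le_sup_left.trans a2) with a3 | a3
    · exact .inl (eq_of_le_of_card_ge a3 (by rw [card_cjs, f4])).symm
    rcases le_or_cent hF (c.cj t) (map_perf _ perf) (a1.trans n2) (le_sup_right.trans a2) with a4 | a4
    · exact .inr (eq_of_le_of_card_ge a4 (by rw [card_cjs, card_cjs, f4])).symm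
    have : cjs m F = ⊥ := nab _ (map_perf _ f3) (le_trans (by rw [centralizer_sup]; exact le_inf a3 a4) (centralizer_le a1))
    rw [← card_cjs m, this, card_bot] at f4
    exact absurd (card_eq_one.1 f4.symm) B1
  have key1 := fun m hm => key m hm B le_sup_left n1 perf rfl
  have ho : ∀ l ∈ B, l ∈ cjs t B → Odd (orderOf l) := fun l hl hl' =>
    orderOf_coe (⟨l, hl⟩ : B) ▸ ko _ (k3 _ (comm' hl'))
  have d4 : ∀ l ∈ h '' D, l * l = 1 := by rintro _ ⟨a, ha, rfl⟩; exact H.sq a (d1 a ha)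
  have ig := IG_eq comm b1.tt rg b1.cz b1.cen ho perf hB d4
  have ct : Cz t ≤ MM t B := fun g hg => mem_normalizer_of_cj_le (by
    have := cjs_IG_le (t := t) (L := e.range) g
    rwa [← mem_Cz.1 hg, mul_inv_cancel_right, mem_Ns_iff.1 (b1.cz hg), ig] at this)
  refine ⟨B, c, hC, comm, fun l hl => ?_, perf, odd_of hC (centralizer_le AG)
    (normalizer_le_normalizer_centralizer _ (ct (mem_Cz.2 rfl)))
    fun m => ne (Cs_le_Ns _ (centralizer_le (le_sup_left : B ≤ G1 t B) m)), ne, fun m hm => ?_, ct, fun g hg hn => ?_⟩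
  · rw [Cov.ofHom_pi π sπ kc ko perf ⟨l, hl⟩, eπ]; rfl
  · have a3 : cjs m B ≠ cjs m (cjs t B) := fun a => ne (mem_Ns_iff.2 (map_injective (MulAut.conj m).injective a).symm)
    rcases key1 m hm with a1 | a1 <;>
      rcases key m hm _ le_sup_right n2 (map_perf _ perf) (card_cjs t B) with a2 | a2
    · exact absurd (a1.trans a2.symm) a3
    · exact .inl ⟨mem_Ns_iff.2 a1, mem_Ns_iff.2 a2⟩
    · exact .inr ⟨mem_Ns_iff.2 (by rw [cjs_mul, a2]), mem_Ns_iff.2 (by rw [cjs_mul, back, a1])⟩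
    · exact absurd (a1.trans a2.symm) a3
  · have sw := (key1 _ hg).resolve_left fun a => hn (mem_Ns_iff.2 a)
    have b2 := b1.cje g
    have a2 := hA.cje g
    generalize hs : g * t * g⁻¹ = s at *
    have cs : B ≤ Cs (cjs s B) := sw ▸ comm
    have r1 : (cje g e).range = (dg cs).range := by
      refine (eq_of_le_of_card_ge (a2.pf _ ?_ ?_) ?_).symm
      · rintro _ ⟨l, rfl⟩
        refine mem_Cz.2 (mul_inv_eq_iff_eq_mul.1 ?_)
        change s * (l * (s * l * s⁻¹)) * s⁻¹ = l * (s * l * s⁻¹)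
        rw [← conj_mul, H99.Wr.tt_conj b2.tt, cs l.2 _ (conj_mem_cjs.2 l.2)]
      · rw [MonoidHom.range_eq_map]
        refine map_perf _ fun l _ => ?_
        refine (mem_map_iff_mem B.subtype_injective).1 ?_
        rw [map_commutator, ← MonoidHom.range_eq_map, range_subtype]
        exact perf l.2
      · rw [← index_ker, ← index_ker, (MonoidHom.ker_eq_bot_iff _).2 b2.inj, index_bot,
          ← card_top (G := X), ← MonoidHom.range_eq_top.2 sπ, ← index_ker]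
        refine index_antitone fun l hl => k3 l (comm' (sw ▸ ?_))
        rw [eq_inv_of_mul_eq_one_left hl]; exact inv_mem (conj_mem_cjs.2 l.2)
    have ig' := IG_eq cs b2.tt r1 b2.cz b2.cen (sw ▸ ho) perf hB d4
    have := cjs_IG_le (t := t) (L := e.range) g
    rw [hs, ← range_cje, ig, ig', sw] at this
    exact mem_normalizer_of_cj_le this

end H21.SW.B
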