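import Cfsg.Agent.H21.SWHc
import Cfsg.Agent.H21.SWB
import Cfsg.Agent.H7.Frobenius
import Cfsg.Agent.H64.SGK89
import Cfsg.Agent.H9.UfK1

/-! STD-S: `JobCU`. -/

set_option autoImplicit false
set_option linter.unusedSectionVars false

namespace H21.SW.B

open H64.SG H21.SW Subgroup H98
open H67.SA (cm mem_cjs conj_mem_cjs card_cjs cm_eq_one)

universe u

variable {X : Type} [Group X] {G : Type u} [Group G] [Finite G] {e : X →* G} {t : G} {B : Subgroup G}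
  {c : Cov X B} {U : Subgroup X}

theorem fix_of_odd {n q y : G} (hn : Odd (orderOf n)) (h : n * q * n⁻¹ = y * q) (hy : n * y = y * n)
    (h2 : Is2 y) : y = 1 := by
  have key : ∀ j : ℕ, n ^ j * q * (n ^ j)⁻¹ = y ^ j * q := fun j => by
    induction j with
    | zero => simp
    | succ j ih =>
      have c1 : n * y ^ j = y ^ j * n := ((Commute.pow_right (hy : Commute n y) j)).eq
      calc _ = n * (n ^ j * q * (n ^ j)⁻¹) * n⁻¹ := by rw [pow_succ']; group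
        _ = y ^ j * (n * q * n⁻¹) := by rw [ih, ← mul_assoc n, c1]; group
        _ = _ := by rw [h, pow_succ]; group
  have := key (orderOf n)
  rw [pow_orderOf_eq_one, one_mul, inv_one, mul_one] at this
  exact h2.eq_one (odd_orderOf_of_pow hn (by simpa using this.symm))

/-- `g` acts on `Y` as the power `ε` modulo `V`. -/
def Pw (V : Subgroup G) (Y : Set G) (ε : ℤ) (g : G) : Prop :=
  g ∈ Cs V ∧ ∀ y ∈ Y, ∃ v ∈ V, g * y * g⁻¹ = v * y ^ ε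

theorem Pw.mul {V : Subgroup G} {Y : Set G} (hY : ∀ y ∈ Y, y ∈ Cs V) {ε δ : ℤ} {g g' : G}
    (h : Pw V Y ε g) (h' : Pw V Y δ g') : Pw V Y (ε * δ) (g * g') := ⟨mul_mem h.1 h'.1, fun y hy => by
  obtain ⟨v, hv, e1⟩ := h.2 y hy
  obtain ⟨v', hv', e2⟩ := h'.2 y hy
  refine ⟨v' * v ^ δ, mul_mem hv' (zpow_mem hv δ), ?_⟩
  have c1 : Commute v (y ^ ε) := Commute.zpow_right (hY y hy v hv) ε
  calc _ = g * (g' * y * g'⁻¹) * g⁻¹ := by group
    _ = v' * (g * y * g⁻¹) ^ δ := by rw [e2, ← mul_assoc g, ← h.1 v' hv', conj_zpow]; group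
    _ = _ := by rw [e1, c1.mul_zpow, zpow_mul, mul_assoc]⟩

theorem Pw.one (V : Subgroup G) (Y : Set G) : Pw V Y 1 1 :=
  ⟨one_mem _, fun y _ => ⟨1, one_mem _, by simp⟩⟩

section

variable (h : GW e t c) (hP : IsPGroup 2 U) (hS : SC U)
include h hP

theorem mem_P0 {x : G} : x ∈ U12 c t (U ⊓ Cs U) ↔
    ∃ a ∈ Up c (U ⊓ Cs U), ∃ b ∈ Up c (U ⊓ Cs U), x = a * (t * b * t⁻¹) := by
  rw [h.toCW.mem_U12]
  exact ⟨fun ⟨a, ha, _, ⟨b, hb, e1⟩, e2⟩ => ⟨a, ha, b, hb, e2.trans (congrArg _ e1.symm)⟩,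
    fun ⟨a, ha, b, hb, e1⟩ => ⟨a, ha, _, conj_mem_cjs.2 hb, e1⟩⟩

theorem P0_le : U12 c t (U ⊓ Cs U) ≤ Cs (U12 c t U) := by
  have key : ∀ {B : Subgroup G} {c : Cov X B}, CW e t c → Up c (U ⊓ Cs U) ≤ Cs (U12 c t U) :=
    fun {B c} h a ha => by
      obtain ⟨a1, a2, a3⟩ := (mem_Up (hP.to_le inf_le_left)).1 ha
      rw [Cs, centralizer_sup]
      refine ⟨fun l hl => ?_, fun l hl => (h.cm12 a1 (map_mono (Up_le c U) hl)).symm⟩
      obtain ⟨l1, -, l3⟩ := (mem_Up hP).1 hl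
      exact c.comm_of_pi a1 l1 a2 (a3.2 _ l3)
  refine sup_le (key h.toCW) ?_
  rw [← cj_Up, ← h.toCW.U12_symm]
  exact key h.toCW.symm

theorem P0_H : U12 c t (U ⊓ Cs U) ≤ Cs (U.map e) :=
  (P0_le h hP).trans (centralizer_le (h.toCW.map_e_le hP))

theorem P0_ab : U12 c t (U ⊓ Cs U) ≤ Cs (U12 c t (U ⊓ Cs U)) :=
  (P0_le h hP).trans (centralizer_le (sup_le_sup (Up_mono inf_le_left) (map_mono (Up_mono inf_le_left))))

omit hP in
theorem t_H : t ∈ Cs (U.map e) := centralizer_le (map_le_range _ _) h.cen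

/-- No element of `P0 t` is conjugate in `H` to an element of `P0`. -/
theorem no_fuse {x y g : G} (hx : x ∈ U12 c t (U ⊓ Cs U)) (hy : y ∈ U12 c t (U ⊓ Cs U))
    (hg : g ∈ Cs (U.map e)) : g * (x * t) * g⁻¹ ≠ y := fun k => by
  have w := h.toCW
  have z2 := hP.to_le (inf_le_left : U ⊓ Cs U ≤ U)
  obtain ⟨a, ha, b, hb, rfl⟩ := (mem_P0 h hP).1 hx
  obtain ⟨a', ha', b', hb', rfl⟩ := (mem_P0 h hP).1 hy
  have uB := Up_le c (U ⊓ Cs U)
  have ab : ∀ {p q : G}, p ∈ Up c (U ⊓ Cs U) → q ∈ Up c (U ⊓ Cs U) → p * q = q * p := fun hp hq =>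
    P0_ab h hP (mem_sup_left hq) _ (mem_sup_left hp)
  have fix : ∀ {p : G}, p ∈ Up c (U ⊓ Cs U) → g * (p * (t * p * t⁻¹)) * g⁻¹ = p * (t * p * t⁻¹) :=
    fun {p} hp => by
      rw [w.diag p (uB hp), ← hg _ ⟨_, ((mem_Up z2).1 hp).2.2.1, rfl⟩, mul_inv_cancel_right]
  have c1 : ∀ {p q : G}, p ∈ Up c (U ⊓ Cs U) → q ∈ Up c (U ⊓ Cs U) →
      t * q * t⁻¹ * p = p * (t * q * t⁻¹) := fun hp hq => (w.cm12 (uB hp) (conj_mem_cjs.2 (uB hq))).symm
  have s1 : a * (t * b * t⁻¹) * t * (a * (t * b * t⁻¹) * t) = a * b * (t * (a * b) * t⁻¹) := by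
    calc _ = a * (t * b * t⁻¹ * (t * a * t⁻¹)) * (t * (t * b * t⁻¹) * t⁻¹) * (t * t) := by group
      _ = _ := by rw [conj_mul, H99.Wr.tt_conj w.tt, w.tt, mul_one, ab hb ha, mul_assoc,
        c1 hb (mul_mem ha hb)]; group
  have s2 : a' * a' * (t * (b' * b') * t⁻¹) = a * b * (t * (a * b) * t⁻¹) := by
    rw [← fix (mul_mem ha hb), ← s1, ← conj_mul (b := g), k, ← conj_mul, mul_assoc a' a',
      ← mul_assoc a' (t * b' * t⁻¹), mul_assoc a' (t * b' * t⁻¹) (a' * _), ← mul_assoc (t * b' * t⁻¹) a',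
      c1 ha' hb']
  have i2 := fun p hp => ((mem_Up (c := c) z2 (g := p)).1 hp).2.1
  have s3 := (w.comp_eq (uB (mul_mem ha' ha')) (uB (mul_mem ha hb)) (conj_mem_cjs.2 (uB (mul_mem hb' hb')))
    (conj_mem_cjs.2 (uB (mul_mem ha hb))) (i2 _ (mul_mem ha' ha')) (i2 _ (mul_mem ha hb)) s2).1
  have s4 : a * (t * b * t⁻¹) * t * (a'⁻¹ * (t * a'⁻¹ * t⁻¹)) = a * a'⁻¹ * t * (a * a'⁻¹)⁻¹ := by
    have e1 : b * a'⁻¹ = a' * a⁻¹ := by
      rw [mul_inv_eq_iff_eq_mul, mul_assoc, ← ab ha' (inv_mem ha), ← mul_assoc, s3, ab ha hb]; group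
    calc _ = a * (t * b * t⁻¹ * (t * a'⁻¹ * t⁻¹)) * (t * (t * a'⁻¹ * t⁻¹) * t⁻¹) * t := by group
      _ = _ := by
        rw [conj_mul, H99.Wr.tt_conj w.tt, e1, mul_assoc a, c1 (inv_mem ha') (mul_mem ha' (inv_mem ha))]
        group
  have m1 : g * (a * a'⁻¹) * t * (g * (a * a'⁻¹))⁻¹ ∈ G1 t B := by
    rw [show g * (a * a'⁻¹) * t * (g * (a * a'⁻¹))⁻¹ = g * (a * a'⁻¹ * t * (a * a'⁻¹)⁻¹) * g⁻¹ by group,
      ← s4, ← conj_mul, k, fix (inv_mem ha')]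
    exact mul_mem (mul_mem (mem_sup_left (uB ha')) (mem_sup_right (conj_mem_cjs.2 (uB hb'))))
      (mul_mem (mem_sup_left (uB (inv_mem ha'))) (mem_sup_right (conj_mem_cjs.2 (uB (inv_mem ha')))))
  exact h.sw _ (w.M0_le (w.G1_le m1)) (isConj_iff.2 ⟨_, rfl⟩) (w.G1_le m1).1

include hS

theorem split0 {m : G} (hm : m ∈ M0 t B) (hH : m ∈ Cs (U.map e)) :
    ∃ x ∈ U12 c t (U ⊓ Cs U), x⁻¹ * m ∈ Cs (G1 t B) := by
  obtain ⟨a, ha, b, hb, k⟩ := h.toCW.cen_SC hP hS hm (h.toCW.fix_U12 hP hm hH)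
  exact ⟨a * b, mul_mem (mem_sup_left ha) (mem_sup_right hb), k⟩

omit hS hP in
theorem P0_G1 (P : Subgroup X) : U12 c t P ≤ G1 t B := sup_le_sup (Up_le c _) (map_mono (Up_le c _))

theorem two_mem {m : G} (hm : m ∈ M0 t B) (hH : m ∈ Cs (U.map e)) (h2 : Is2 m) :
    m ∈ U12 c t (U ⊓ Cs U) := by
  obtain ⟨x, hx, k⟩ := split0 h hP hS hm hH
  have x2 := isPGroup_iff_is2.1 (h.toCW.isPGroup_U12 (hP.to_le inf_le_left)) x hx
  have := k x (P0_G1 h _ hx)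
  rw [← inv_mul_eq_one.1 (h.toCW.eq_one_C1 k (x2.inv.mul h2 (by
    rw [mul_inv_cancel_left] at this
    rw [eq_mul_inv_iff_mul_eq, ← this])))]
  exact hx

theorem odd_mem_C1 {m : G} (hm : m ∈ MM t B) (hH : m ∈ Cs (U.map e)) (ho : Odd (orderOf m)) :
    m ∈ Cs (G1 t B) := by
  obtain ⟨x, hx, k⟩ := split0 h hP hS (h.toCW.odd_mem hm ho) hH
  have x2 := isPGroup_iff_is2.1 (h.toCW.isPGroup_U12 (hP.to_le inf_le_left)) x hx
  have c1 := k x (P0_G1 h _ hx)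
  rw [mul_inv_cancel_left] at c1
  have : x = 1 := x2.eq_one (by
    rw [show x = m * (x⁻¹ * m)⁻¹ by group]
    refine odd_orderOf_mul ho (by rw [orderOf_inv]; exact odd_orderOf_of_mem h.odd k) ?_
    refine (Commute.inv_right ?_).eq
    change m * (x⁻¹ * m) = _
    rw [← mul_assoc, mul_left_inj, mul_inv_eq_iff_eq_mul, ← c1])
  simpa [this] using k

theorem key_U : Odd (Nat.card (O2 (Cs (U.map e)))) ∧
    ∀ g ∈ Cs (U.map e), ∃ m ∈ MM t B, ∃ o ∈ O2 (Cs (U.map e)), g = m * o := by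
  have w := h.toCW
  set H := Cs (U.map e) with hH
  set P0 := U12 c t (U ⊓ Cs U) with hP0
  set V := (U ⊓ Cs U).map e with hV
  have z2 := hP.to_le (inf_le_left : U ⊓ Cs U ≤ U)
  obtain ⟨S, s1, s2⟩ := exists_isSyl_le (H9.UF.pg_zp h.inv.1) (zpowers_le.2 (t_H (U := U) h))
  have tS := s2 (mem_zpowers t)
  have sM := (H9.UF.jobK1 h.uf (IsConj.refl t) h.uf.mem).2 S s1.isPGroup tS
  have sP : ∀ s ∈ S, s ∈ P0 ∨ s * t ∈ P0 := fun s hs => (h.pm s (sM hs)).imp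
    (fun k => two_mem h hP hS k (s1.le hs) (isPGroup_iff_is2.1 s1.isPGroup _ hs))
    fun k => two_mem h hP hS k (s1.le (mul_mem hs tS)) (isPGroup_iff_is2.1 s1.isPGroup _ (mul_mem hs tS))
  refine ⟨?_, fun g hg => ?_⟩
  swap
  · obtain ⟨s, hs, r, hr, rfl⟩ := s1.exists_mul_res hg
    exact ⟨s, sM hs, r, O2_eq H ▸ hr, rfl⟩
  have HV : H ≤ Cs V := centralizer_le (map_mono inf_le_left)
  have main : ∀ Q ≤ S, ∀ n ∈ H, n ∈ Ns Q → Odd (orderOf n) → n ∈ Cs Q := fun Q hQ n nH nQ no => by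
    have keep : ∀ g ∈ H, g ∈ Ns Q → ∀ y ∈ Q ⊓ P0, g * y * g⁻¹ ∈ Q ⊓ P0 := fun g g1 g2 y hy => by
      have m := conj_mem_of_mem_normalizer g2 hy.1
      refine ⟨m, (sP _ (hQ m)).resolve_right fun k => no_fuse h hP k hy.2 (inv_mem g1) ?_⟩
      rw [mul_assoc (g * y * g⁻¹), w.tt]; group
    have hY : ∀ y ∈ ((Q ⊓ P0 : Subgroup G) : Set G), y ∈ Cs V := fun y hy => HV (P0_H h hP hy.2)
    have pt : Pw V (Q ⊓ P0 : Subgroup G) (-1) t := ⟨HV (t_H h), fun y hy => by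
      obtain ⟨a, ha, b, hb, rfl⟩ := (mem_P0 h hP).1 hy.2
      have uB := Up_le c (U ⊓ Cs U)
      refine ⟨_, ⟨_, ((mem_Up z2).1 (mul_mem hb ha)).2.2, (w.diag _ (uB (mul_mem hb ha))).symm⟩, ?_⟩
      rw [zpow_neg_one, eq_mul_inv_iff_mul_eq, ← conj_mul, H99.Wr.tt_conj w.tt,
        ← w.cm12 (uB hb) (conj_mem_cjs.2 (uB ha)), mul_assoc b, ← mul_assoc (t * a * t⁻¹),
        ← w.cm12 (uB ha) (conj_mem_cjs.2 (uB ha)), mul_assoc a, conj_mul,
        P0_ab h hP (mem_sup_left hb) _ (mem_sup_left ha), mul_assoc b]⟩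
    have pb : Pw V (Q ⊓ P0 : Subgroup G) (-1) (n * t * n⁻¹) :=
      ⟨HV (mul_mem (mul_mem nH (t_H h)) (inv_mem nH)), fun y hy => by
        obtain ⟨v, hv, e1⟩ := pt.2 _ (keep _ (inv_mem nH) (inv_mem nQ) y hy)
        refine ⟨v, hv, ?_⟩
        calc _ = n * (t * (n⁻¹ * y * n⁻¹⁻¹) * t⁻¹) * n⁻¹ := by group
          _ = _ := by rw [e1, ← mul_assoc n, ← HV nH v hv]; group⟩
    obtain ⟨d, d1, d2⟩ := (H9.UF.jobK2 h.uf (IsConj.refl t) h.uf.mem).1 (n * t * n⁻¹)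
      (isConj_iff.2 ⟨n, rfl⟩)
    have d3 : d * n ∈ MM t B := h.uf.uf _ (by convert d2 using 1; group)
    have cl : ∀ x ∈ closure {t, n * t * n⁻¹}, x ∈ H ∧ ∃ ε, ε * ε = 1 ∧ Pw V (Q ⊓ P0 : Subgroup G) ε x := by
      have g1 : ∀ x ∈ ({t, n * t * n⁻¹} : Set G), x⁻¹ = x ∧ x ∈ H ∧
          ∃ ε, ε * ε = 1 ∧ Pw V (Q ⊓ P0 : Subgroup G) ε x := by
        rintro x (rfl | rfl)
        · exact ⟨w.ti, t_H h, -1, rfl, pt⟩
        · exact ⟨by rw [conj_inv, w.ti], mul_mem (mul_mem nH (t_H h)) (inv_mem nH), -1, rfl, pb⟩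
      intro x hx
      induction hx using closure_induction'' with
      | mem x hx => exact (g1 x hx).2
      | inv_mem x hx => rw [(g1 x hx).1]; exact (g1 x hx).2
      | one => exact ⟨one_mem _, 1, rfl, Pw.one _ _⟩
      | mul x y _ _ ihx ihy =>
        obtain ⟨x1, ε, e1, p1⟩ := ihx
        obtain ⟨y1, δ, e2, p2⟩ := ihy
        exact ⟨mul_mem x1 y1, ε * δ, by linear_combination δ * δ * e1 + e2, p1.mul hY p2⟩
    have p0 : ∀ m ∈ M0 t B, m ∈ H → Pw V (Q ⊓ P0 : Subgroup G) 1 m := fun m m1 m2 => ⟨HV m2, fun y hy => by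
      obtain ⟨x, hx, k⟩ := split0 h hP hS m1 m2
      refine ⟨1, one_mem _, ?_⟩
      rw [one_mul, zpow_one, mul_inv_eq_iff_eq_mul, ← mul_inv_cancel_left x m, mul_assoc x,
        ← k y (P0_G1 h _ hy.2), ← mul_assoc x, ← P0_ab h hP hx y hy.2, mul_assoc]⟩
    have dH := mul_mem (cl d d1).1 nH
    obtain ⟨ε, e1, p1⟩ : ∃ ε, ε * ε = 1 ∧ Pw V (Q ⊓ P0 : Subgroup G) ε (d * n) := by
      rcases h.pm _ d3 with k | k
      · exact ⟨1, rfl, p0 _ k dH⟩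
      · have := (p0 _ k (mul_mem dH (t_H h))).mul hY pt
        rw [mul_assoc (d * n), w.tt, mul_one] at this
        exact ⟨_, rfl, this⟩
    obtain ⟨-, δ, e2, p2⟩ := cl _ (inv_mem d1)
    have p3 := p2.mul hY p1
    rw [inv_mul_cancel_left] at p3
    have p4 := p3.mul hY p3
    rw [show δ * ε * (δ * ε) = 1 by linear_combination δ * δ * e1 + e2] at p4
    have p5 : ∀ j : ℕ, Pw V (Q ⊓ P0 : Subgroup G) 1 ((n * n) ^ j) := fun j => by
      induction j with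
      | zero => rw [pow_zero]; exact Pw.one _ _
      | succ j ih => rw [pow_succ]; exact ih.mul hY p4
    obtain ⟨k, hk⟩ := no
    have p6 := p5 (k + 1)
    rw [← sq, ← pow_mul, mul_add, mul_one, ← add_assoc (2 * k) 1 1, ← hk, pow_succ, pow_orderOf_eq_one,
      one_mul] at p6
    have no : Odd (orderOf n) := ⟨k, hk⟩
    have c0 : ∀ y ∈ Q ⊓ P0, n * y = y * n := fun y hy => by
      obtain ⟨v, hv, e3⟩ := p6.2 y hy
      rw [zpow_one] at e3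
      rw [fix_of_odd no e3 (HV nH v hv).symm (isPGroup_iff_is2.1 (z2.map e) v hv), one_mul] at e3
      exact mul_inv_eq_iff_eq_mul.1 e3
    intro q hq
    by_cases k0 : q ∈ P0
    · exact (c0 q ⟨hq, k0⟩).symm
    have m := conj_mem_of_mem_normalizer nQ hq
    have k1 := (sP _ (hQ hq)).resolve_left k0
    have k2 := (sP _ (hQ m)).resolve_left fun k => k0 (by
      simpa [mul_assoc] using (keep _ (inv_mem nH) (inv_mem nQ) _ ⟨m, k⟩).2)
    have k3 : n * q * n⁻¹ * q⁻¹ ∈ Q ⊓ P0 :=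
      ⟨Q.mul_mem m (Q.inv_mem hq), by simpa [mul_assoc] using mul_mem k2 (inv_mem k1)⟩
    have := fix_of_odd no (inv_mul_cancel_right _ q).symm (c0 _ k3)
      (isPGroup_iff_is2.1 s1.isPGroup _ (hQ k3.1))
    exact (cm_eq_one.1 this).symm
  obtain ⟨P, hP'⟩ := s1.exists_sylow_map
  have npc := H7.hasNPC_of_normalizer_centralizer_sylow P fun Q hQ _ g hg hc => by
    have := main (Q.map H.subtype) (hP' ▸ map_mono hQ) g g.2 (le_normalizer_map _ ⟨g, hg, rfl⟩)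
      (by rw [orderOf_coe]; exact Nat.coprime_two_right.1 hc)
    exact fun q hq => Subtype.ext (this _ ⟨q, hq, rfl⟩)
  rw [O2_eq]
  have := H7.hasNPC_iff_not_dvd.1 npc
  rw [res, card_map_of_injective H.subtype_injective]
  exact Nat.odd_iff.2 (Nat.two_dvd_ne_zero.1 this)

theorem cen_ivs : O2 (Cs (U.map e)) ≤ Cs ((ivs (Ns U)).map e) := fun o ho => by
  have k := (key_U h hP hS).1
  rw [ivs, MonoidHom.map_closure, mem_Cs_closure]
  rintro _ ⟨v, ⟨v1, v2⟩, rfl⟩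
  exact mem_Cz.1 (H9.UF.jobK6 h.uf (IsConj.refl t) h.uf.mem (h.toCW.isConj_te v2)
    (h.toCW.M0_le (h.toCW.e_M0 v)) (by rw [← map_mul, v2, map_one]) (h.toCW.b1.comm v) _ k
    (Ns_le_Ns_O2 _ (le_normalizer (t_H h)))
    (Ns_le_Ns_O2 _ (normalizer_le_normalizer_centralizer _ (le_normalizer_map _ ⟨v, v1, rfl⟩)))
    (fun o ho => mem_Cz.2 (odd_mem_C1 h hP hS ho.2 (O2_le _ ho.1) (odd_orderOf_of_mem k ho.1) _
      (h.toCW.e_mem v))) ho)

end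

theorem jobCU : JobCU.{u} := by
  intro X _ G _ _ e t hF B c z S U₁ U₂ hE h
  have w := h.toCW
  have fin := hF.fin
  -- along the chain the odd part is carried up
  have up : ∀ U, Lnk S U → ∀ o, Odd (orderOf o) → o ∈ Cs (U.map e) →
      (∀ U' : Subgroup X, U ≤ U' → U' ≤ S → SC U') → o ∈ Cs (S.map e) := fun U hL => by
    induction hL with
    | top => exact fun o _ k _ => k
    | step h1 h2 h3 ih =>
      exact fun o ho k sc => ih o ho (centralizer_le (map_mono h2) (cen_ivs h (hE.two.to_le (h1.trans h3.le))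
        (sc _ le_rfl (h1.trans h3.le)) (mem_O2_of_odd k ho))) fun U' a b => sc U' (h1.trans a) b
  have scm : ∀ {U U' : Subgroup X}, SC U → U ≤ U' → SC U' := fun hs hl β hβ =>
    (hs β (hl.trans hβ)).imp fun u hu => ⟨hl hu.1, hu.2⟩
  have oK : O2 (Cs (S.map e)) ≤ Cs e.range := fun o ho => by
    have k : ∀ {U : Subgroup X}, SC U → Lnk S U → o ∈ Cs ((O2 (ivs (Ns U))).map e) := fun hs hl =>
      centralizer_le (map_mono (O2_le _)) (cen_ivs h (hE.two.to_le hl.le) hs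
        (O2_mono (centralizer_le (map_mono hl.le)) ho))
    rw [MonoidHom.range_eq_map, ← hE.gen, Subgroup.map_sup, Subgroup.map_sup, Cs, centralizer_sup,
      centralizer_sup]
    exact ⟨⟨O2_le _ ho, k hE.sc1 hE.lk1⟩, k hE.sc2 hE.lk2⟩
  obtain ⟨z1, hz⟩ := exists_ZL c hE.zI.sq
  have zH : z1 ∈ Cs (S.map e) := P0_H h hE.two (mem_sup_left (mem_Up_of hz.mem hz.is2 (hz.pi ▸ hE.zS)))
  have oM : O2 (Cs (S.map e)) ≤ MM t B := fun o ho => by
    have o1 := oK ho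
    have o2 := oK (conj_mem_of_mem_normalizer (Ns_le_Ns_O2 _ (le_normalizer zH)) ho)
    have n1 : e.range ≤ Cz o := fun a ha => mem_Cz.2 (o1 a ha).symm
    -- `N = C_B(o)` is normal in `B`
    have cj : ∀ m ∈ B, ∀ l ∈ Cz o ⊓ B, m * l * m⁻¹ ∈ Cz o ⊓ B := fun m hm l hl => by
      rw [← w.conj_e hm hl.2]
      exact ⟨(Cz o).mul_mem (mul_mem (n1 ⟨_, rfl⟩) hl.1) (inv_mem (n1 ⟨_, rfl⟩)),
        by rw [w.conj_e hm hl.2]; exact B.mul_mem (mul_mem hm hl.2) (inv_mem hm)⟩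
    have cz : ∀ l ∈ B, cm z1⁻¹ l ∈ Cz o ⊓ B := fun l hl => by
      refine ⟨?_, B.mul_mem (mul_mem (mul_mem (inv_mem hz.mem) hl) (inv_mem (inv_mem hz.mem))) (inv_mem hl)⟩
      have k1 : z1⁻¹ * e (c.pi l) * z1 ∈ Cz o := mem_Cz.2 (by
        have := o2 _ ⟨c.pi l, rfl⟩
        calc _ = z1⁻¹ * (z1 * o * z1⁻¹ * e (c.pi l)) * z1 := by group
          _ = _ := by rw [← this]; group)
      have k2 := mul_mem k1 (inv_mem (n1 ⟨c.pi l, rfl⟩))
      rwa [mul_assoc, mul_assoc, ← mul_assoc (e _), w.conj_e hl hz.mem,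
        show z1⁻¹ * (l * z1 * l⁻¹) = cm z1⁻¹ l by simp only [cm]; group] at k2
    have bo : B ≤ Cz o := by
      rcases le_or_cent hF c w.perf (N := Cz o ⊓ B) (inf_le_right.trans le_normalizer)
        (fun m hm => mem_normalizer_of_cj_le (by rintro _ ⟨l, hl, rfl⟩; exact cj m hm l hl)) with k | k
      · exact k.trans inf_le_left
      refine absurd (hF.eq_one_of_comm (g := z) fun x => ?_) hE.zI.ne
      obtain ⟨l, hl, rfl⟩ := c.surj x
      have k1 := cz l hl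
      have k2 : c.pi (cm z1⁻¹ l) = 1 := hF.cen _ (by rw [← c.ac_of_mem k1.2, c.ac_of_Cs (k k1)])
      have zi := inv_mem hz.mem
      rw [cm, c.pi_mul _ (mul_mem (mul_mem zi hl) (inv_mem zi)) _ (inv_mem hl),
        c.pi_mul _ (mul_mem zi hl) _ (inv_mem zi), c.pi_mul _ zi _ hl, c.pi_inv zi, c.pi_inv hl,
        c.pi_inv hz.mem, hz.pi, inv_inv, mul_inv_eq_one, mul_assoc, inv_mul_eq_iff_eq_mul] at k2
      exact k2
    refine Cs_le_Ns _ fun a ha => (mem_Cz.1 (sup_le bo ?_ ha)).symm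
    rintro _ ⟨l, hl, rfl⟩
    exact (mul_mem_cancel_left (bo hl)).1 (by
      change l * (t * l * t⁻¹) ∈ _
      rw [w.diag l hl]; exact n1 ⟨_, rfl⟩)
  intro U hS hL g hg
  obtain ⟨k1, k2⟩ := key_U h (hE.two.to_le hL.le) hS
  obtain ⟨m, hm, o, ho, rfl⟩ := k2 g hg
  have oo := odd_orderOf_of_mem k1 ho
  exact mul_mem hm (oM (mem_O2_of_odd (up U hL o oo (O2_le _ ho) fun U' a _ => scm hS a) oo))

end H21.SW.B
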