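/- STD-S tower, slot T2: all conjugates of `t` in `M` interchange the two factors. -/
import Cfsg.Agent.H21.SWWr2

set_option autoImplicit false
set_option linter.unusedSectionVars false

namespace H21.SW.T2

open H21.SW H64.SG Subgroup
open H67.SA (mem_cjs conj_mem_cjs)

universe u

variable {X : Type} [Group X] {G : Type u} [Group G] [Finite G] {e : X →* G} {t s u g a b : G}
  {B O : Subgroup G} {c : Cov X B} {P Q : Subgroup X}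

theorem el_Up (hP : El P) : El (Up c P) := fun _ ha =>
  have h := (mem_Up hP.isPGroup).1 ha
  c.sq_of_pi h.1 h.2.1 (hP _ h.2.2)

theorem Up_le_Cz (hP : El P) (hs : s ∈ Ns B) (h : P ≤ fx (c.ac s)) : Up c P ≤ Cz s := fun _ ha =>
  have k := (mem_Up hP.isPGroup).1 ha
  mem_Cz.2 (c.comm_of_ac hs k.1 k.2.1 (h k.2.2))

theorem exists_act (h : CE e s) {W : Subgroup G} (hW : El W) (h1 : W ≤ Cz s) :
    ∃ φ : W →* MulAut X, El φ.range ∧ (∀ w : W, Ind e w (φ w)) ∧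
      ∀ w, φ w = 1 → (w : G) = 1 ∨ w = s :=
  ⟨(indH h.inj).comp (inclusion (h1.trans h.cz)), by
    rintro _ ⟨w, rfl⟩
    rw [← map_mul, show w * w = 1 from Subtype.ext (hW w w.2), map_one],
    fun w => ind_indH h.inj ⟨w, h.cz (h1 w.2)⟩, fun w hw => h.eq_or ((mem_ker_indH h.inj).1 hw)
      (is2_of_sq (hW w w.2)) (mem_Cz.1 (h1 w.2))⟩

section

variable (h : CW e t c)
include h

theorem Up_le_Ns (P Q : Subgroup X) : Up (c.cj t) Q ≤ Ns (Up c P) :=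
  ((Up_le _ Q).trans (h.comm'.trans (centralizer_le (Up_le c P)))).trans (Cs_le_Ns _)

theorem el_sup (hP : El P) (hQ : El Q) : El (Up c P ⊔ Up (c.cj t) Q) := fun x hx => by
  obtain ⟨a, ha, b, hb, rfl⟩ := (H98.mem_sup_right_norm (Up_le_Ns h P Q)).1 hx
  rw [(show Commute b a from (h.cm12 (Up_le _ _ ha) (Up_le _ _ hb)).symm).mul_mul_mul_comm,
    el_Up hP a ha, el_Up hQ b hb, mul_one]

theorem card_sup (hP : El P) (hQ : El Q) :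
    Nat.card P * Nat.card Q ≤ Nat.card ↥(Up c P ⊔ Up (c.cj t) Q) := by
  rw [← card_Up (c := c) hP.isPGroup, ← card_Up (c := c.cj t) hQ.isPGroup, ← Nat.card_prod]
  refine Nat.card_le_card_of_injective
    (fun x => ⟨x.1 * x.2, mul_mem (mem_sup_left x.1.2) (mem_sup_right x.2.2)⟩) fun x y k => ?_
  have := h.comp_eq (Up_le _ _ x.1.2) (Up_le _ _ y.1.2) (Up_le _ _ x.2.2) (Up_le _ _ y.2.2)
    (is2_of_sq (el_Up hP _ x.1.2)) (is2_of_sq (el_Up hP _ y.1.2)) (congrArg Subtype.val k)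
  exact Prod.ext (Subtype.ext this.1) (Subtype.ext this.2)

theorem isConj_e (ha : a ∈ B) (hb : b ∈ cjs t B) (a2 : a * a = 1) (b2 : b * b = 1)
    (k : IsConj (c.pi a) ((c.cj t).pi b)) : IsConj (e (c.pi a)) (a * b) := by
  obtain ⟨x, hx⟩ := isConj_iff.1 k
  obtain ⟨l, hl, rfl⟩ := c.surj x
  have h1 := mem_cjs.1 hb
  have h2 : l * a * l⁻¹ = t⁻¹ * b * t := c.eq_of_pi_eq (mul_mem (mul_mem hl ha) (inv_mem hl)) h1
    ((is2_of_sq a2).conj l) (by simpa using (is2_of_sq b2).conj t⁻¹) ((c.pi_conj hl ha).trans hx)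
  refine (e.map_isConj k).trans (IsConj.symm (isConj_iff.2 ⟨l, ?_⟩))
  rw [Cov.cj_pi, ← h.diag _ h1, ← conj_mul, h2, h.cm12 hl hb]
  group

theorem not_t (hF : F0 X) (hT : FTb X) (ha : a ∈ B) (hb : b ∈ cjs t B) (a2 : a * a = 1)
    (b2 : b * b = 1) : ¬ IsConj t (a * b) := fun k => by
  have := hF.finite_aut
  have key : ∀ {B : Subgroup G} (c : Cov X B) a, a ∈ B → a * a = 1 →
      ∃ E, El E ∧ Nat.card E = 64 ∧ a ∈ Up c E := fun c a ha a2 => by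
    by_cases k : c.pi a = 1
    · obtain ⟨z, hz⟩ := hF.ex
      exact (hT.e6 z hz.1).imp fun E hE =>
        ⟨hE.1, hE.2.1, mem_Up_of ha (is2_of_sq a2) (k ▸ one_mem _)⟩
    · exact (hT.e6 _ ⟨by rw [← c.pi_mul a ha a ha, a2, c.pi_one], k⟩).imp fun E hE =>
        ⟨hE.1, hE.2.1, mem_Up_of ha (is2_of_sq a2) hE.2.2⟩
  obtain ⟨P, p1, p2, p3⟩ := key c a ha a2
  obtain ⟨Q, q1, q2, q3⟩ := key (c.cj t) b hb b2
  have h1 := el_sup h p1 q1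
  have h2 := card_sup h p1 q1
  have h3 := mul_mem (mem_sup_left (T := Up (c.cj t) Q) p3) (mem_sup_right q3)
  obtain ⟨g, hg⟩ := isConj_iff.1 k
  generalize Up c P ⊔ Up (c.cj t) Q = W at h1 h2 h3
  obtain ⟨φ, h4, -, h5⟩ := exists_act (hg ▸ h.toCE.cje g) h1 fun w hw => mem_Cz.2 (h1.comm h3 hw)
  have h6 : Nat.card φ.ker ≤ 2 := (card_le_of_le (K := zpowers ⟨_, h3⟩) fun w hw =>
    (h5 w hw).elim (fun k => (show w = 1 from Subtype.ext k) ▸ one_mem _)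
      fun k => (show w = ⟨_, h3⟩ from Subtype.ext k) ▸ mem_zpowers _).trans (by
    rw [Nat.card_zpowers]
    exact orderOf_le_of_pow_eq_one two_pos (Subtype.ext ((sq _).trans (h1 _ h3))))
  have h7 := φ.ker.card_mul_index
  rw [p2, q2, ← h7, index_ker] at h2
  obtain ⟨Y, h8, h9, -⟩ := hT.j6 _ h4 (by nlinarith)
  rw [h8, card_map_of_injective hF.conj_inj, h9] at h2
  omega

theorem inner (hF : F0 X) (hA : AB e t O) (h1 : u ∈ Cz (g * t * g⁻¹)) (h2 : u * u = 1)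
    (h3 : ¬ IsConj t u) {y : X} (k : Ind (cje g e) u (MulAut.conj y)) :
    y * y = 1 ∧ u = cje g e y := by
  have h4 : y * y = 1 := hF.cen _ (by
    rw [map_mul, ← sq]; exact k.pow_eq_one (inj_cje h.inj g) ((sq u).trans h2))
  refine ⟨h4, ((hA.cje g).inn u h1 (is2_of_sq h2) y k).resolve_right fun k => h3 ?_⟩
  rw [k, cje_apply, conj_mul]
  exact (h.isConj_te h4).trans (isConj_iff.2 ⟨g, rfl⟩)

end

/-- Conjugates of the lift of a `2`-central involution. -/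
def Pu (c : Cov X B) (u : G) : Prop := ∃ l ∈ B, Is2 l ∧ I (c.pi l) ∧ IsConj l u

theorem pu₁ (ha : a ∈ B) (a2 : a * a = 1) (k : I (c.pi a)) : Pu c a :=
  ⟨a, ha, is2_of_sq a2, k, .refl _⟩

theorem pu₂ (ha : a ∈ cjs t B) (a2 : a * a = 1) (k : I ((c.cj t).pi a)) : Pu c a :=
  ⟨_, mem_cjs.1 ha, by simpa using (is2_of_sq a2).conj t⁻¹, k, isConj_iff.2 ⟨t, by group⟩⟩

theorem Pu.conj (h : Pu c a) (k : IsConj a b) : Pu c b :=
  h.imp fun _ h => ⟨h.1, h.2.1, h.2.2.1, h.2.2.2.trans k⟩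

theorem Pu.not_t (hN : NF e t c) (h : Pu c a) : ¬ IsConj t a := fun k =>
  h.elim fun l h => (hN l h.1 h.2.1 h.2.2.1).1 (k.trans h.2.2.2.symm)

theorem Pu.not_I (hF : F0 X) (hN : NF e t c) {y : X} (h : Pu c (e y)) : y ≠ 1 ∧ ¬ I y := by
  obtain ⟨l, h1, h2, h3, h4⟩ := h
  refine ⟨fun k => h3.ne ?_, fun k => (hN l h1 h2 h3).2 ((e.map_isConj (hF.one _ _ h3 k)).trans h4.symm)⟩
  rw [k, map_one, isConj_one_left] at h4
  rw [h4, c.pi_one]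

theorem isConj_cje (y : X) : IsConj (cje g e y) (e y) := (isConj_iff.2 ⟨g, rfl⟩).symm

theorem caseA (hF : F0 X) (hT : FTa X) (h2 : ∀ x y : X, Inv2 x → Inv2 y → ¬ I x → ¬ I y → IsConj x y)
    (h : CW e t c) (hA : AB e t O) (hN : NF e t c) (hs : g * t * g⁻¹ ∈ M0 t B) : False := by
  have hE := h.toCE.cje g
  obtain ⟨In, hI⟩ : ∃ In : G → Prop, ∀ u, In u ↔ ∃ y, Ind (cje g e) u (MulAut.conj y) :=
    ⟨_, fun _ => Iff.rfl⟩
  have i1 : ∀ u v, In u → In v → In (u * v) := fun u v hu hv => by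
    obtain ⟨x, hx⟩ := (hI u).1 hu
    obtain ⟨y, hy⟩ := (hI v).1 hv
    exact (hI _).2 ⟨x * y, map_mul MulAut.conj x y ▸ hx.mul hy⟩
  have i2 : ∀ u ∈ Cz (g * t * g⁻¹), ∀ v ∈ Cz (g * t * g⁻¹), ¬ In u → ¬ In v → In (u * v) :=
    fun u hu v hv h1 h3 => by
      obtain ⟨β, hβ⟩ := hE.toB1.ind hu
      obtain ⟨γ, hγ⟩ := hE.toB1.ind hv
      obtain ⟨y, hy⟩ := hF.out β γ (fun ⟨y, k⟩ => h1 ((hI _).2 ⟨y, k ▸ hβ⟩))
        fun ⟨y, k⟩ => h3 ((hI _).2 ⟨y, k ▸ hγ⟩)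
      exact (hI _).2 ⟨y, hy ▸ hβ.mul hγ⟩
  let L : ∀ {B : Subgroup G}, Cov X B → G → Prop := fun {B} c l =>
    l ∈ B ∧ l * l = 1 ∧ I (c.pi l) ∧ l ∈ Cz (g * t * g⁻¹)
  have pair : ∀ {B : Subgroup G} (c : Cov X B), g * t * g⁻¹ ∈ Ns B →
      ∃ p q, L c p ∧ L c q ∧ L c (q * p) ∧ In p := fun c hs => by
    obtain ⟨x, y, hx, hy, hne, hc, h3, h4⟩ := hT.fx (c.ac (g * t * g⁻¹))
      (by rw [← c.ac_mul _ hs _ hs, hE.toB1.tt, c.ac_one])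
    obtain ⟨p, p1, p2, rfl⟩ := c.exists_lift2 (is2_of_sq hx.sq)
    obtain ⟨q, q1, q2, rfl⟩ := c.exists_lift2 (is2_of_sq hy.sq)
    have hp : L c p := ⟨p1, c.sq_of_pi p1 p2 hx.sq, hx, mem_Cz.2 (c.comm_of_ac hs p1 p2 h3)⟩
    have hq : L c q := ⟨q1, c.sq_of_pi q1 q2 hy.sq, hy, mem_Cz.2 (c.comm_of_ac hs q1 q2 h4)⟩
    have k : Commute p q := c.comm_of_pi q1 p1 q2 hc
    have hr : L c (p * q) := ⟨mul_mem p1 q1, by rw [k.symm.mul_mul_mul_comm, hp.2.1, hq.2.1, mul_one],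
      c.pi_mul p p1 q q1 ▸ hT.zz _ _ hx hy hc hne, mul_mem hp.2.2.2 hq.2.2.2⟩
    by_cases k1 : In p
    · exact ⟨p, q, hp, hq, k.eq ▸ hr, k1⟩
    by_cases k2 : In q
    · exact ⟨q, p, hq, hp, hr, k2⟩
    · exact ⟨_, p, hr, hp, by rwa [← mul_assoc, hp.2.1, one_mul], i2 p hp.2.2.2 q hq.2.2.2 k1 k2⟩
  have fin : ∀ p q r, Pu c p → In p → In (q * r) → p * p = 1 → q * p * (q * p) = 1 →
      q * r * (q * r) = 1 → Commute p r → p ∈ Cz (g * t * g⁻¹) → q * r ∈ Cz (g * t * g⁻¹) →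
      q * q = 1 → (∃ x, I x ∧ IsConj (e x) (q * r)) → (∃ x, I x ∧ IsConj (e x) (q * p * r)) → False := by
    rintro p q r p1 p2 q1 p3 q2 q3 k p4 q4 q5 ⟨x, x1, x2⟩ ⟨x', x3, x4⟩
    have k1 : Commute p q := by
      rw [commute_iff_eq, ← inv_eq_of_mul_eq_one_right q2, mul_inv_rev,
        inv_eq_of_mul_eq_one_right p3, inv_eq_of_mul_eq_one_right q5]
    obtain ⟨y, hy⟩ := (hI _).1 p2
    obtain ⟨w, hw⟩ := (hI _).1 q1
    obtain ⟨y1, rfl⟩ := inner h hF hA p4 p3 (p1.not_t hN) hy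
    obtain ⟨w1, w2⟩ := inner h hF hA q4 q3 (fun k => hA.nr x (k.trans x2.symm)) hw
    obtain ⟨y2, y3⟩ := (p1.conj (isConj_cje y)).not_I hF hN
    have key : ∀ v x, v * v = 1 → I x → IsConj (e x) (cje g e v) → I v := fun v x v1 x1 x2 =>
      by_contra fun v2 => ((p1.conj ((cje g e).map_isConj (h2 y v ⟨y1, y2⟩ ⟨v1, fun k => x1.ne (h.inj
        (by simpa [k] using x2))⟩ y3 v2))).conj x2.symm).not_I hF hN |>.2 x1
    have k2 : w * y = y * w := (e_comm hE.inj).1 (w2 ▸ (k1.mul_right k).symm.eq)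
    have k3 := key (w * y) x' (by
      rw [(show Commute y w from k2.symm).mul_mul_mul_comm, w1, y1, mul_one]) x3
      (by rwa [map_mul, ← w2, mul_assoc, ← k.eq, ← mul_assoc])
    have := hT.zz _ _ (key w x w1 x1 (w2 ▸ x2)) k3 (by rw [mul_assoc, k2])
      fun k => y2 (left_eq_mul.1 k)
    rw [← mul_assoc, w1, one_mul] at this
    exact y3 this
  obtain ⟨p, q, p1, q1, r1, p2⟩ := pair c hs.1
  obtain ⟨p', q', p3, q3, r3, p4⟩ := pair (c.cj t) hs.2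
  have mx : ∀ a b, L c a → L (c.cj t) b → Commute a b ∧ a * b * (a * b) = 1 ∧
      a * b ∈ Cz (g * t * g⁻¹) ∧ ∃ x, I x ∧ IsConj (e x) (a * b) := fun a b ha hb =>
    have k : Commute a b := h.cm12 ha.1 hb.1
    ⟨k, by rw [k.symm.mul_mul_mul_comm, ha.2.1, hb.2.1, mul_one], mul_mem ha.2.2.2 hb.2.2.2, _,
      ha.2.2.1, isConj_e h ha.1 hb.1 ha.2.1 hb.2.1 (hF.one _ _ ha.2.2.1 hb.2.2.1)⟩
  have fin1 : ∀ r, L (c.cj t) r → ¬ In (q * r) := fun r hr k =>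
    fin p q r (pu₁ p1.1 p1.2.1 p1.2.2.1) p2 k p1.2.1 r1.2.1 (mx q r q1 hr).2.1 (mx p r p1 hr).1
      p1.2.2.2 (mx q r q1 hr).2.2.1 q1.2.1 (mx q r q1 hr).2.2.2 (mx _ r r1 hr).2.2.2
  by_cases k1 : In q
  · exact fin1 p' p3 (i1 _ _ k1 p4)
  by_cases k2 : In q'
  · obtain ⟨m1, m2, m3, m4⟩ := mx p q' p1 q3
    rw [m1.eq] at m2 m3 m4
    exact fin p' q' p (pu₂ p3.1 p3.2.1 p3.2.2.1) p4 (i1 _ _ k2 p2) p3.2.1 r3.2.1 m2
      (mx p p' p1 p3).1.symm p3.2.2.2 m3 q3.2.1 m4 ((mx p _ p1 r3).1.eq ▸ (mx p _ p1 r3).2.2.2)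
  · exact fin1 q' q3 (i2 _ q1.2.2.2 _ q3.2.2.2 k1 k2)

theorem card_non (h1 : Nat.card P = 8) (h2 : Nat.card {x // x ∈ P ∧ I x} = 3) :
    4 ≤ Nat.card {x // x ∈ P ∧ x ≠ 1 ∧ ¬ I x} := by
  have : Finite P := Nat.finite_of_card_ne_zero (by omega)
  have h3 : (P : Set X).Finite := Set.toFinite _
  have h4 := (Set.ncard_le_ncard (s := P) (t := insert 1 ({x | x ∈ P ∧ I x} ∪
    {x | x ∈ P ∧ x ≠ 1 ∧ ¬ I x})) (fun x hx => by simp; tauto) (h3.subset ?_)).trans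
    ((Set.ncard_insert_le _ _).trans (Nat.succ_le_succ (Set.ncard_union_le _ _)))
  · change Nat.card P ≤ Nat.card {x // x ∈ P ∧ I x} + Nat.card {x // x ∈ P ∧ x ≠ 1 ∧ ¬ I x} + 1 at h4
    omega
  · rintro x (rfl | hx | hx)
    exacts [one_mem _, hx.1, hx.1]

theorem caseB (hF : F0 X) (hT : FTb X) (h : CW e t c) (hA : AB e t O) (hN : NF e t c)
    (hs : g * t * g⁻¹ ∈ M0 t B) : False := by
  have := hF.fin
  have hE := h.toCE.cje g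
  have key : ∀ {B : Subgroup G} (c : Cov X B), g * t * g⁻¹ ∈ Ns B → ∃ (P : Subgroup X) (f : X → G),
      El P ∧ Nat.card P = 8 ∧ Nat.card {x // x ∈ P ∧ I x} = 3 ∧ Up c P ≤ Cz (g * t * g⁻¹) ∧
        ∀ x ∈ P, f x ∈ Up c P ∧ c.pi (f x) = x := fun c hs => by
    obtain ⟨P, h1, h2, h3, h4⟩ := hT.fx (c.ac (g * t * g⁻¹))
      (by rw [← c.ac_mul _ hs _ hs, hE.toB1.tt, c.ac_one])
    choose! f hf using fun x => exists_Up (c := c) h2.isPGroup (x := x)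
    exact ⟨P, f, h2, h3, h4, Up_le_Cz h2 hs h1, hf⟩
  obtain ⟨P, f, p1, p2, p3, p4, p5⟩ := key c hs.1
  obtain ⟨Q, f', q1, q2, q3, q4, q5⟩ := key (c.cj t) hs.2
  have h1 := el_sup h p1 q1
  have h2 : ∀ w ∈ Up c P ⊔ Up (c.cj t) Q, ¬ IsConj t w := fun w hw => by
    obtain ⟨a, ha, b, hb, rfl⟩ := (H98.mem_sup_right_norm (Up_le_Ns h P Q)).1 hw
    exact not_t h hF hT (Up_le _ _ ha) (Up_le _ _ hb) (el_Up p1 a ha) (el_Up q1 b hb)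
  obtain ⟨φ, h3, h4, h5⟩ := exists_act hE h1 (sup_le p4 q4)
  obtain ⟨Y, h6, -, h7⟩ := hT.j6 _ h3 (by
    rw [← Nat.card_congr (φ.ofInjective ((injective_iff_map_eq_one φ).2 fun w hw => Subtype.ext
      ((h5 w hw).resolve_right fun k => h2 w w.2 (isConj_iff.2 ⟨g, k.symm⟩)))).toEquiv]
    simpa [p2, q2] using card_sup h p1 q1)
  have h8 : ∀ w ∈ Up c P ⊔ Up (c.cj t) Q, ∃ y ∈ Y, y * y = 1 ∧ w = cje g e y := fun w hw => by
    obtain ⟨y, hy, k⟩ := h6.le ⟨⟨w, hw⟩, rfl⟩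
    exact ⟨y, hy, inner h hF hA (sup_le p4 q4 hw) (h1 w hw) (h2 w hw) (k ▸ h4 ⟨w, hw⟩)⟩
  choose! y y1 y2 y3 using h8
  have h9 : ∀ w ∈ Up c P ⊔ Up (c.cj t) Q, Pu c w → y w ≠ 1 ∧ ¬ I (y w) := fun w hw k =>
    (Pu.conj (y3 w hw ▸ k) (isConj_cje _)).not_I hF hN
  have m1 : ∀ x ∈ P, ∀ x' ∈ Q, f x * f' x' ∈ Up c P ⊔ Up (c.cj t) Q := fun x hx x' hx' =>
    mul_mem (mem_sup_left (p5 x hx).1) (mem_sup_right (q5 x' hx').1)
  have m2 : f' 1 = 1 := (c.cj t).eq_one_of_is2 (Up_le _ _ (q5 1 (one_mem _)).1)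
    (is2_of_sq (el_Up q1 _ (q5 1 (one_mem _)).1)) (q5 1 (one_mem _)).2
  have m3 : ∀ x ∈ P, I x → Pu c (f x * f' 1) := fun x hx k => by
    rw [m2, mul_one]
    exact pu₁ (Up_le _ _ (p5 x hx).1) (el_Up p1 _ (p5 x hx).1) ((p5 x hx).2.symm ▸ k)
  obtain ⟨⟨z, z1, z2⟩⟩ := (Nat.card_pos_iff.1 (p3.ge.trans_lt' three_pos)).1
  have z3 := m1 z z1 1 (one_mem _)
  have z4 := h9 _ z3 (m3 z z1 z2)
  have m4 : ∀ x ∈ P, x ≠ 1 ∧ ¬ I x → ∀ x' ∈ Q, x' ≠ 1 ∧ ¬ I x' → Pu c (f x * f' x') :=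
    fun x hx k x' hx' k' => ((y3 _ z3 ▸ m3 z z1 z2 :).conj ((isConj_cje _).trans
      (e.map_isConj (hT.two _ x ⟨y2 _ z3, z4.1⟩ ⟨p1 x hx, k.1⟩ z4.2 k.2)))).conj (by
        have := isConj_e h (Up_le _ _ (p5 x hx).1) (Up_le _ _ (q5 x' hx').1)
          (el_Up p1 _ (p5 x hx).1) (el_Up q1 _ (q5 x' hx').1) (by
            rw [(p5 x hx).2, (q5 x' hx').2]
            exact hT.two _ _ ⟨p1 x hx, k.1⟩ ⟨q1 x' hx', k'.1⟩ k.2 k'.2)
        rwa [(p5 x hx).2] at this)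
  have m5 : ∀ x ∈ P, ∀ x' ∈ Q, ∀ w ∈ P, ∀ w' ∈ Q, y (f x * f' x') = y (f w * f' w') →
      x = w ∧ x' = w' := fun x hx x' hx' w hw w' hw' k => by
    obtain ⟨k1, k2⟩ := h.comp_eq (Up_le _ _ (p5 x hx).1) (Up_le _ _ (p5 w hw).1)
      (Up_le _ _ (q5 x' hx').1) (Up_le _ _ (q5 w' hw').1) (is2_of_sq (el_Up p1 _ (p5 x hx).1))
      (is2_of_sq (el_Up p1 _ (p5 w hw).1))
      ((y3 _ (m1 x hx x' hx')).trans (k ▸ (y3 _ (m1 w hw w' hw')).symm))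
    exact ⟨by rw [← (p5 x hx).2, k1, (p5 w hw).2], by rw [← (q5 x' hx').2, k2, (q5 w' hw').2]⟩
  have h10 := Nat.card_le_card_of_injective (β := {x // x ∈ Y ∧ x ≠ 1 ∧ ¬ I x}) (Sum.elim
    (fun x : {x // x ∈ P ∧ I x} => ⟨_, y1 _ (m1 _ x.2.1 1 (one_mem _)),
      h9 _ (m1 _ x.2.1 1 (one_mem _)) (m3 _ x.2.1 x.2.2)⟩)
    fun x : {x // x ∈ P ∧ x ≠ 1 ∧ ¬ I x} × {x // x ∈ Q ∧ x ≠ 1 ∧ ¬ I x} =>
      ⟨_, y1 _ (m1 _ x.1.2.1 _ x.2.2.1),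
        h9 _ (m1 _ x.1.2.1 _ x.2.2.1) (m4 _ x.1.2.1 x.1.2.2 _ x.2.2.1 x.2.2.2)⟩) (by
    rintro (x | x) (w | w) k
    · exact congrArg _ (Subtype.ext
        (m5 _ x.2.1 _ (one_mem _) _ w.2.1 _ (one_mem _) (congrArg Subtype.val k)).1)
    · exact absurd (m5 _ x.2.1 _ (one_mem _) _ w.1.2.1 _ w.2.2.1 (congrArg Subtype.val k)).2.symm
        w.2.2.2.1
    · exact absurd (m5 _ x.1.2.1 _ x.2.2.1 _ w.2.1 _ (one_mem _) (congrArg Subtype.val k)).2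
        x.2.2.2.1
    · have := m5 _ x.1.2.1 _ x.2.2.1 _ w.1.2.1 _ w.2.2.1 (congrArg Subtype.val k)
      exact congrArg _ (Prod.ext (Subtype.ext this.1) (Subtype.ext this.2)))
  rw [Nat.card_sum, Nat.card_prod, p3] at h10
  have := Nat.mul_le_mul (card_non p2 p3) (card_non q2 q3)
  omega

theorem jobT2 : JobT2.{u} := by
  rintro X _ G _ _ e t hF hT B c O h hA hN
  refine ⟨h, fun s hs k hn => ?_⟩
  obtain ⟨g, rfl⟩ := isConj_iff.1 k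
  exact hT.elim (fun k => caseA hF k.1 k.2 h hA hN (h.mem_M0 hs hn))
    fun k => caseB hF k h hA hN (h.mem_M0 hs hn)

end H21.SW.T2
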