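import Cfsg.Agent.H21.SWAut
import Cfsg.Agent.H21.SWAB
import Cfsg.Agent.H21.SWCU
import Cfsg.Agent.H21.SWT1
import Cfsg.Agent.H21.SWT2
import Cfsg.Agent.H21.SWW1
import Cfsg.Agent.H21.SWW3
import Cfsg.Agent.H21.SWWE

/-! The wreath configuration does not occur in an almost simple group. -/

set_option autoImplicit false

namespace H21.SW

open H64.SG Subgroup

universe u

variable {X : Type} [Group X] {G : Type u} [Group G] [Finite G] {e : X →* G}

/-- from the wreath configuration -/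
theorem finish_cw (h0 : F0 X) (hE : FE X) (hT : FT X) (hG : H99.Wr.AS G) {t : G}
    {O : Subgroup G} (h2 : AB e t O) {B : Subgroup G} {c : Cov X B} (k1 : CW e t c) : False := by
  obtain ⟨z, S, U₁, U₂, hE⟩ := hE
  have k2 := T2.jobT2 X G e t h0 hT B c O k1 h2 (T1.jobT1 X G e t h0 B c z S U₁ U₂ hE k1)
  have k3 := H21.SW.B.jobCU X G e t h0 B c z S U₁ U₂ hE k2
  exact k1.ne_top h0 hG (WE.jobWE W1.jobW1 T1.jobW2 X G e t h0 B c z S U₁ U₂ hE k2 k3
    (W3j.jobW3 X G e t h0 B c z S U₁ U₂ hE k2 k3))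

/-- from the halves -/
theorem finish (h0 : F0 X) (hE : FE X) (hT : FT X) (hG : H99.Wr.AS G) {t : G}
    {O : Subgroup G} {h : X → G} (h1 : CE e t) (h2 : AB e t O) (h3 : HC e t h) (h4 : Gen e h) :
    False := by
  obtain ⟨B, c, k1⟩ := H21.SW.B.jobB X G e t h0 h1 O h2 h h3 h4
  exact finish_cw h0 hE hT hG h2 k1

end H21.SW
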