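/- Tower KU (S2196), slot Pp: the orthogonal complement of a frame. -/
import Cfsg.Agent.H53.KUSpec

set_option autoImplicit false

namespace H21.KUPp

open Cfsg H59 H53.WU H53.KU Module

variable {S : HS} {m : ℕ} (Φ : Fr S m)

/-- The coordinates on the frame. -/
def co : S.V →ₗ[S.F] (Fin m → S.F) × (Fin m → S.F) :=
  (LinearMap.pi fun i => S.B (Φ.e i)).prod (LinearMap.pi fun i => S.B (Φ.f i))

theorem mem_ker {w : S.V} : w ∈ LinearMap.ker (co Φ) ↔ Φ.Pp w := by
  rw [LinearMap.mem_ker, Prod.ext_iff, funext_iff, funext_iff]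
  rfl

/-- The vector of the span of the frame with given coordinates. -/
def vc (a : (Fin m → S.F) × (Fin m → S.F)) : S.V := ∑ i, a.1 i • Φ.f i + ∑ i, a.2 i • Φ.e i

theorem co_vc (a : (Fin m → S.F) × (Fin m → S.F)) : co Φ (vc Φ a) = a := by
  refine Prod.ext (funext fun i => ?_) (funext fun i => ?_)
  · show S.B (Φ.e i) (vc Φ a) = a.1 i
    simp [vc, Φ.ee, Φ.ef]
  · show S.B (Φ.f i) (vc Φ a) = a.2 i
    simp [vc, Φ.ff, Φ.fe]

/-- Every vector is a vector of the span plus a vector of the complement. -/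
theorem dec (v : S.V) : Φ.Pp (v - vc Φ (co Φ v)) := by
  rw [← mem_ker, LinearMap.mem_ker, map_sub, co_vc, sub_self]

theorem finrank_ker : finrank S.F (LinearMap.ker (co Φ)) + 2 * m = S.n := by
  have h := LinearMap.finrank_range_add_finrank_ker (co Φ)
  rw [LinearMap.range_eq_top.2 fun a => ⟨_, co_vc Φ a⟩, finrank_top, finrank_prod,
    finrank_fin_fun] at h
  show _ = finrank S.F S.V
  omega

theorem perp_vc {w : S.V} (hw : Φ.Pp w) (a : (Fin m → S.F) × (Fin m → S.F)) :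
    S.B w (vc Φ a) = 0 := by
  have h1 : ∀ i, S.B w (Φ.e i) = 0 := fun i => by rw [← S.h.symm, hw.1, map_zero]
  have h2 : ∀ i, S.B w (Φ.f i) = 0 := fun i => by rw [← S.h.symm, hw.2, map_zero]
  simp [vc, h1, h2]

theorem jobPp : JobPp := by
  intro S m Φ hm w hw h0
  have hk := finrank_ker Φ
  have hw' := (mem_ker Φ).2 hw
  have hne : (⟨w, hw'⟩ : LinearMap.ker (co Φ)) ≠ 0 := fun e => h0 (congrArg Subtype.val e)
  have hpos : 0 < finrank S.F (LinearMap.ker (co Φ)) := finrank_pos_iff_exists_ne_zero.2 ⟨_, hne⟩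
  have h1 : finrank S.F (LinearMap.ker (co Φ)) = 1 := by omega
  have h3 : ∀ w', Φ.Pp w' → ∃ c : S.F, w' = c • w := fun w' h => by
    obtain ⟨c, hc⟩ := (finrank_eq_one_iff_of_nonzero' _ hne).1 h1 ⟨w', (mem_ker Φ).2 h⟩
    exact ⟨c, (congrArg Subtype.val hc).symm⟩
  refine ⟨⟨m, by omega⟩, fun e => h0 (S.h.nondeg w fun v => ?_), h3⟩
  obtain ⟨c, hc⟩ := h3 _ (dec Φ v)
  rw [← sub_add_cancel v (vc Φ (co Φ v)), hc, map_add, map_smul, e, perp_vc Φ hw, smul_zero,
    add_zero]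

end H21.KUPp
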