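import Cfsg.Agent.H63.KgvSpec
import Cfsg.Agent.H28.CharBasic

/-! Tower KGV, slot JVL: the values of `gam` for an induced character. -/

set_option autoImplicit false
set_option linter.unusedSectionVars false

namespace H21.KgvVL

open Finset Cfsg H28 H63.Kgv MulAction

universe u

theorem grp {α : Type} [Fintype α] (s : Equiv.Perm α) (f g : α → ℂ) (hf : ∀ u, f (s u) = f u)
    (hg : ∀ u, g (s u) = g u)
    (h : ∀ u, f u ^ Function.minimalPeriod s u = g u ^ Function.minimalPeriod s u) :
    ∏ u, f u = ∏ u, g u := by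
  classical
  have key : ∀ f : α → ℂ, (∀ u, f (s u) = f u) → ∀ u,
      ∏ v ∈ univ.filter (fun v => Quotient.mk (orbitRel (Subgroup.zpowers s) α) v =
        Quotient.mk (orbitRel (Subgroup.zpowers s) α) u), f v =
        f u ^ Function.minimalPeriod s u := by
    intro f hf u
    have h1 : ∀ k : ℕ, f ((s ^ k) u) = f u := fun k => by
      induction k with
      | zero => simp
      | succ k ih => rw [pow_succ', Equiv.Perm.mul_apply, hf, ih]
    have h2 : univ.filter (fun v => Quotient.mk (orbitRel (Subgroup.zpowers s) α) v =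
        Quotient.mk (orbitRel (Subgroup.zpowers s) α) u) =
        (orbit (Subgroup.zpowers s) u).toFinset := by
      ext v
      simp only [mem_filter, mem_univ, true_and, Set.mem_toFinset]
      exact Quotient.eq''.trans orbitRel_apply
    rw [h2, Finset.prod_congr rfl (g := fun _ => f u), prod_const, Set.toFinset_card,
      ← minimalPeriod_eq_card]
    · rfl
    · intro v hv
      obtain ⟨⟨a, ha⟩, rfl⟩ := Set.mem_toFinset.1 hv
      obtain ⟨k, rfl⟩ := (mem_powers_iff_mem_zpowers.2 ha : a ∈ Submonoid.powers s)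
      exact h1 k
  rw [← Finset.prod_fiberwise univ (Quotient.mk (orbitRel (Subgroup.zpowers s) α)) f,
    ← Finset.prod_fiberwise univ (Quotient.mk (orbitRel (Subgroup.zpowers s) α)) g]
  refine Finset.prod_congr rfl fun c _ => ?_
  induction c using Quotient.inductionOn with
  | _ u => rw [key f hf, key g hg, h]

section fib

variable {C : Type} [CommGroup C] [Fintype C] [DecidableEq C] [IsCyclic C] {r : ℕ} {ω : C}

theorem fib_eq (hr : 0 < r) (hω : orderOf ω = r) (w : C) :
    univ.filter (fun v => v ^ r = w ^ r) = (range r).image fun i => w * ω ^ i := by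
  symm
  refine Finset.eq_of_subset_of_card_le (fun v hv => ?_) ?_
  · obtain ⟨i, -, rfl⟩ := mem_image.1 hv
    simp only [mem_filter, mem_univ, true_and]
    rw [mul_pow, ← pow_mul, mul_comm i, pow_mul, ← hω, pow_orderOf_eq_one, one_pow, mul_one]
  · rw [card_image_of_injOn]
    · rw [card_range]
      refine le_trans ?_ (IsCyclic.card_pow_eq_one_le (α := C) hr)
      refine card_le_card_of_injOn (fun v => v * w⁻¹) (fun v hv => ?_) fun a _ b _ h => ?_
      · have := (mem_filter.1 hv).2
        simp [mul_pow, this]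
      · simpa using h
    · intro i hi j hj h
      exact pow_injOn_Iio_orderOf (by simpa [hω] using hi) (by simpa [hω] using hj)
        (mul_left_cancel h)

theorem fib_prod (hr : 0 < r) (hω : orderOf ω = r) (w : C) (F : C → ℂ) :
    ∏ v ∈ univ.filter (fun v => v ^ r = w ^ r), F v = ∏ i ∈ range r, F (w * ω ^ i) := by
  rw [fib_eq hr hω, prod_image]
  intro i hi j hj h
  exact pow_injOn_Iio_orderOf (by simpa [hω] using hi) (by simpa [hω] using hj)
    (mul_left_cancel h)

theorem fib_card (hr : 0 < r) (hω : orderOf ω = r) (w : C) :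
    (univ.filter (fun v => v ^ r = w ^ r)).card = r := by
  rw [fib_eq hr hω, card_image_of_injOn, card_range]
  intro i hi j hj h
  exact pow_injOn_Iio_orderOf (by simpa [hω] using hi) (by simpa [hω] using hj)
    (mul_left_cancel h)

theorem root_of (_hr : 0 < r) {N : ℕ} (hN : Fintype.card C = r * N) {u : C} (hu : u ^ N = 1) :
    ∃ w, u = w ^ r := by
  obtain ⟨g, hg⟩ := IsCyclic.exists_monoid_generator (α := C)
  obtain ⟨k, rfl⟩ := hg u
  have ho : orderOf g = r * N := by
    rw [← hN, ← Nat.card_eq_fintype_card]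
    exact orderOf_eq_card_of_forall_mem_powers hg
  have hN0 : 0 < N := Nat.pos_of_mul_pos_left (hN ▸ Fintype.card_pos)
  have h1 : r * N ∣ k * N := by
    rw [← ho, orderOf_dvd_iff_pow_eq_one, pow_mul]
    exact hu
  obtain ⟨c, rfl⟩ := Nat.dvd_of_mul_dvd_mul_right hN0 h1
  exact ⟨g ^ c, by simp only [← pow_mul, mul_comm]⟩

end fib

theorem eq_one_of_sum {α : Type} [Fintype α] (m : α → ℕ) (z : α → ℂ) (hz : ∀ u, ‖z u‖ = 1)
    (h : ∑ u, (m u : ℂ) * z u = ∑ u, (m u : ℂ)) (u : α) (hu : m u ≠ 0) : z u = 1 := by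
  have h1 : ∑ u, (m u : ℝ) * (1 - (z u).re) = 0 := by
    have := congrArg Complex.re h
    simp only [Complex.re_sum, Complex.mul_re, Complex.natCast_re, Complex.natCast_im, zero_mul,
      sub_zero] at this
    simp only [mul_sub, mul_one, sum_sub_distrib, this, sub_self]
  have h2 : ∀ u, (z u).re ≤ 1 := fun u => (Complex.re_le_norm _).trans (hz u).le
  have h3 := (Finset.sum_eq_zero_iff_of_nonneg fun u _ =>
    mul_nonneg (Nat.cast_nonneg _) (sub_nonneg.2 (h2 u))).1 h1 u (mem_univ _)
  have h4 : (z u).re = 1 := by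
    rcases mul_eq_zero.1 h3 with h | h
    · exact absurd (by exact_mod_cast h) hu
    · linarith
  have h5 : (z u).im = 0 := by
    have := Complex.sq_norm (z u)
    rw [hz, Complex.normSq_apply, h4] at this
    have h6 : (z u).im * (z u).im = 0 := by linarith
    exact mul_self_eq_zero.1 h6
  exact Complex.ext h4 h5

theorem pow_mem_iff {E : Type u} [Group E] [Finite E] (H : Subgroup E) [H.Normal] {r : ℕ}
    (hr : r.Prime) (hi : H.index = r) {y : E} (hy : y ∉ H) :
    (∀ k, y ^ k ∈ H ↔ r ∣ k) ∧ ∀ x : E, ∃ (a : H) (i : ℕ), x = a * y ^ i := by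
  have := Fact.mk hr
  have hc : Nat.card (E ⧸ H) = r := hi
  have hne : (y : E ⧸ H) ≠ 1 := fun h => hy ((QuotientGroup.eq_one_iff y).1 h)
  have ho : orderOf (y : E ⧸ H) = r := orderOf_eq_prime (by rw [← hc]; exact pow_card_eq_one') hne
  refine ⟨fun k => ?_, fun x => ?_⟩
  · rw [← ho, orderOf_dvd_iff_pow_eq_one, ← QuotientGroup.mk_pow, QuotientGroup.eq_one_iff]
  · obtain ⟨i, hi⟩ := mem_powers_iff_mem_zpowers.2 (mem_zpowers_of_prime_card hc hne (g' := (x : E ⧸ H)))
    refine ⟨⟨x * (y ^ i)⁻¹, ?_⟩, i, by simp⟩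
    rw [← QuotientGroup.eq_one_iff, QuotientGroup.mk_mul, QuotientGroup.mk_inv, QuotientGroup.mk_pow]
    simp only at hi
    rw [hi, mul_inv_cancel]

theorem job : H63.Kgv.JVL.{u} := by
  classical
  intro eg p _ M K _ _ θ a Hf hs E _ _ hE H _ r d x χ φ ω id hd hrd hω hst
  have hr0 := id.pr.pos
  have hcK : Fintype.card Kˣ = p ^ M - 1 := by rw [Fintype.card_units, hs.card]
  have hyq : ∀ y : E, y ^ (Fintype.card K - 1) = 1 := fun y => by
    rw [hs.card]
    exact orderOf_dvd_iff_pow_eq_one.1 ((orderOf_dvd_natCard y).trans hE)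
  have un := (eg K θ E hs.inj).1
  have unH := (eg K θ H hs.inj).1
  have ex : ∀ h : H, Eg θ φ h (em θ φ h) := fun h =>
    (eg K θ H hs.inj).2 φ h id.ch (Subtype.ext (by simpa using hyq h))
  have hn : ∀ h : H, φ 1 = ((∑ u, em θ φ h u : ℕ) : ℂ) := fun h => by
    have := ex h 0
    simpa using this
  refine ⟨∑ u, em θ φ 1 u, hn 1, fun t ht => ⟨fun h => ?_, fun y h hy hh => ?_⟩⟩
  · have h1 : em θ χ (h : E) = fun u => ∑ j ∈ range r, em θ φ (MulAut.conjNormal (x ^ j) h) u := by
      refine un _ _ _ fun k => ?_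
      rw [← Subgroup.coe_pow, id.on]
      simp only [map_pow, Nat.cast_sum, sum_mul]
      rw [sum_comm]
      exact sum_congr rfl fun j _ => by simpa only [map_pow] using ex (MulAut.conjNormal (x ^ j) h) k
    simp only [gam, h1, mul_sum, ← prod_pow_eq_pow_sum]
    exact prod_comm
  · obtain ⟨hk, hc⟩ := pow_mem_iff H id.pr id.idx hy
    have hχ : ∀ k : ℕ, χ (y ^ (r * k)) = r * φ (h ^ k) := fun k => by
      rw [pow_mul, ← hh, ← Subgroup.coe_pow, id.on, sum_congr rfl (g := fun _ => φ (h ^ k))]
      · simp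
      · intro j _
        obtain ⟨b, i, e⟩ := hc (x ^ j)
        rw [← id.ch.isClassFunction (h ^ k) b]
        congr 1
        ext
        simp only [MulAut.conjNormal_apply, e, Subgroup.coe_mul, Subgroup.coe_pow, hh,
          Subgroup.coe_inv]
        group
    obtain ⟨N, hN⟩ : r ∣ p ^ M - 1 := hrd.trans (Nat.pow_sub_one_dvd_pow_sub_one p hd)
    have hroot : ∀ u, em θ φ h u ≠ 0 → ∃ w, u = w ^ r := fun u hu => by
      refine root_of hr0 (hcK.trans hN) (hs.inj (Units.ext ?_))
      have h1 : h ^ N = 1 := Subtype.ext (by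
        rw [Subgroup.coe_pow, hh, ← pow_mul, ← hN, ← hs.card]; simpa using hyq y)
      have h2 := ex h N
      rw [h1, hn h, Nat.cast_sum] at h2
      have h3 := eq_one_of_sum (em θ φ h) (fun u => (θ u : ℂ) ^ N) (fun u => by
        have h4 : (θ u : ℂ) ^ Fintype.card Kˣ = 1 := by
          rw [← Units.val_pow_eq_pow_val, ← map_pow, pow_card_eq_one, map_one, Units.val_one]
        rw [norm_pow, Complex.norm_eq_one_of_pow_eq_one h4 Fintype.card_ne_zero, one_pow])
        h2.symm u hu
      simpa using h3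
    have h1 : em θ χ y = fun w => em θ φ h (w ^ r) := by
      refine un _ _ _ fun k => ?_
      by_cases hrk : r ∣ k
      · obtain ⟨k, rfl⟩ := hrk
        rw [hχ, ex h k, mul_sum]
        refine Eq.trans ?_ (Finset.sum_fiberwise univ (fun w : Kˣ => w ^ r) _)
        refine sum_congr rfl fun u _ => ?_
        symm
        rw [sum_congr rfl (g := fun _ => (em θ φ h u : ℂ) * (θ u : ℂ) ^ k)]
        · by_cases hu : em θ φ h u = 0
          · simp [hu]
          · obtain ⟨w, rfl⟩ := hroot u hu
            rw [sum_const, fib_card hr0 hω, nsmul_eq_mul]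
        · intro w hw
          rw [← (mem_filter.1 hw).2, pow_mul, map_pow, Units.val_pow_eq_pow_val]
      · rw [id.off _ fun h' => hrk ((hk k).1 h')]
        have hωr : ω ^ r = 1 := hω ▸ pow_orderOf_eq_one ω
        have h2 : ∑ w : Kˣ, (em θ φ h (w ^ r) : ℂ) * (θ w : ℂ) ^ k =
            (θ ω : ℂ) ^ k * ∑ w : Kˣ, (em θ φ h (w ^ r) : ℂ) * (θ w : ℂ) ^ k := by
          rw [mul_sum, ← Equiv.sum_comp (Equiv.mulRight ω)]
          refine sum_congr rfl fun w _ => ?_
          simp only [Equiv.coe_mulRight, mul_pow, hωr, mul_one, map_mul, Units.val_mul]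
          ring
        have h3 : (θ ω : ℂ) ^ k ≠ 1 := fun h' => hrk (by
          rw [← hω, orderOf_dvd_iff_pow_eq_one]
          exact hs.inj (Units.ext (by simpa using h')))
        have h4 : (1 - (θ ω : ℂ) ^ k) * ∑ w : Kˣ, (em θ φ h (w ^ r) : ℂ) * (θ w : ℂ) ^ k = 0 := by
          rw [sub_mul, one_mul, ← h2, sub_self]
        exact ((mul_eq_zero.1 h4).resolve_left (sub_ne_zero.2 h3.symm)).symm
    obtain ⟨c, hMc⟩ := hd
    have hM : ∀ u : Kˣ, u ^ p ^ M = u := fun u => by
      have h5 : p ^ M = Fintype.card Kˣ + 1 := by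
        have := Nat.one_le_pow M p (Fact.out : p.Prime).pos
        omega
      rw [h5, pow_succ, pow_card_eq_one, one_mul]
    have hit : ∀ (k : ℕ) (u : Kˣ), (fun u : Kˣ => u ^ p ^ d)^[k] u = u ^ p ^ (d * k) := fun k u => by
      rw [pow_iterate, pow_mul]
    have hc0 : 0 < c := Nat.pos_of_mul_pos_left (hMc ▸ hs.pos)
    have hinj : Function.Injective fun u : Kˣ => u ^ p ^ d := by
      obtain ⟨c', rfl⟩ := Nat.exists_eq_succ_of_ne_zero hc0.ne'
      intro u v huv
      simp only at huv
      rw [← hM u, ← hM v, hMc, Nat.mul_succ, pow_add, mul_comm, pow_mul u, pow_mul v, huv]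
    let s : Equiv.Perm Kˣ := Equiv.ofBijective _ (Finite.injective_iff_bijective.1 hinj)
    have hs1 : ∀ u, s u = u ^ p ^ d := fun _ => rfl
    have hfr : ∀ t, t ≠ 0 → ∀ (k : ℕ) (u : Kˣ), Hf t (u ^ p ^ k) = Hf t u := fun t ht k u => by
      induction k with
      | zero => simp
      | succ k ih => rw [pow_succ, pow_mul, hs.frob t _ ht, ih]
    have hrt : (r : ZMod p) * t ≠ 0 := by
      refine mul_ne_zero (fun h0 => ?_) ht
      have h6 : p ∣ p ^ d - 1 := ((ZMod.natCast_eq_zero_iff r p).1 h0).trans hrd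
      have hd0 : d ≠ 0 := by rintro rfl; exact hs.pos.ne' (by simpa using hMc)
      have h7 : p ∣ p ^ d := dvd_pow_self p hd0
      have h8 := Nat.one_le_pow d p (Fact.out : p.Prime).pos
      have h9 : p ∣ p ^ d - (p ^ d - 1) := Nat.dvd_sub h7 h6
      rw [Nat.sub_sub_self h8] at h9
      exact (Fact.out : p.Prime).one_lt.ne' (Nat.dvd_one.1 h9)
    have hm : ∀ u, em θ φ h (s u) = em θ φ h u := by
      have h5 : em θ φ h = fun u => em θ φ h (s.symm u) := by
        refine unH _ _ _ fun k => ?_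
        have h6 := hst (y ^ (r * k))
        rw [← pow_mul, mul_assoc, hχ, hχ] at h6
        rw [← mul_left_cancel₀ (Nat.cast_ne_zero.2 hr0.ne') h6, ex h]
        refine Eq.trans ?_ (Equiv.sum_comp s _)
        refine sum_congr rfl fun u _ => ?_
        rw [Equiv.symm_apply_apply, hs1, map_pow, Units.val_pow_eq_pow_val, ← pow_mul, mul_comm k]
      intro u
      have h9 := congrFun h5 (s u)
      rwa [Equiv.symm_apply_apply] at h9
    have hn' : ∑ u, em θ φ 1 u = ∑ u, em θ φ h u := by exact_mod_cast (hn 1).symm.trans (hn h)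
    simp only [gam, h1]
    rw [hn', ← prod_pow_eq_pow_sum, ← prod_mul_distrib,
      ← Finset.prod_fiberwise univ (fun w : Kˣ => w ^ r)]
    refine grp s _ _ (fun u => ?_) (fun u => ?_) fun u => ?_
    · symm
      refine Finset.prod_equiv s (fun w => ?_) fun w hw => ?_
      · simp only [mem_filter, mem_univ, true_and, hs1]
        rw [← pow_mul, mul_comm, pow_mul]
        exact hinj.eq_iff.symm
      · rw [hs1, hfr t ht, pow_right_comm w, ← hs1, hm]
    · rw [hm, hs1, hfr _ hrt]
    · by_cases hu : em θ φ h u = 0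
      · rw [prod_eq_one fun w hw => by rw [(mem_filter.1 hw).2, hu]; simp]
        simp [hu]
      · obtain ⟨w, rfl⟩ := hroot u hu
        have he : Function.minimalPeriod s (w ^ r) ∣ c :=
          Function.IsPeriodicPt.minimalPeriod_dvd (by
            show (fun u : Kˣ => u ^ p ^ d)^[c] _ = _
            rw [hit, ← hMc, hM])
        have hp' : (w ^ r) ^ p ^ (d * Function.minimalPeriod s (w ^ r)) = w ^ r := by
          rw [← hit]
          exact Function.iterate_minimalPeriod (f := s)
        have h7 := hs.prod r d ω id.pr ⟨c, hMc⟩ hrd hω t (d * Function.minimalPeriod s (w ^ r)) w ht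
          (Dvd.intro _ rfl) (hMc ▸ Nat.mul_dvd_mul_left d he) hp'
        rw [prod_congr rfl (g := fun v => Hf t v ^ (d * em θ φ h (w ^ r)))
          fun v hv => by rw [(mem_filter.1 hv).2], fib_prod hr0 hω]
        have h8 := congrArg (· ^ em θ φ h (w ^ r)) h7
        simp only [prod_pow, mul_pow, ← pow_mul] at h8 ⊢
        rw [mul_right_comm d]
        convert h8 using 3

end H21.KgvVL
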