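import Cfsg.Agent.H21.L3T

/-! `blueprints/LOCAL3.md`, §1.8: the centraliser of `t`. -/

set_option autoImplicit false
set_option maxRecDepth 100000
set_option synthInstance.maxSize 4096

namespace H21.L3

open Cfsg Subgroup H98 H44 H56.L3 H42.L3 Equiv

universe u

variable {G : Type u} [Group G] [Finite G] {φ : M48 →* G} {lam : P6 × P3 →* G}

theorem bs_model {M : Type*} [Group M] {ψ : M →* G} (hψ : Function.Injective ψ) {C : Subgroup G}
    (hH : ψ.range ≤ C) (π : M →* P3) (hπ : Function.Surjective π) (hse : SE 3 C ψ.range) {v : G}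
    (hv : v ∈ C) (h2 : v * v = 1) (h : ∀ g ∈ C, ∀ m, g * v * g⁻¹ = ψ m → π m = 1) :
    ∃ N : Subgroup G, N ≤ C ∧ C ≤ nr N ∧ v ∈ N ∧ ∀ m, orderOf (π m) = 3 → ψ m ∉ N := by
  let e := MonoidHom.ofInjective hψ
  obtain ⟨N, h3, h4, h5, h6⟩ := bs_sub hH (π.comp e.symm.toMonoidHom) (hπ.comp e.symm.surjective)
    hse hv (by rw [h2, one_mul]) (fun g _ => mem_Ce.2 (by rw [h2, one_mul, mul_one]))
    fun g hg x ex => by
      obtain ⟨m, rfl⟩ := e.surjective x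
      rw [MonoidHom.comp_apply, show e.symm.toMonoidHom (e m) = m from e.symm_apply_apply m,
        h g hg m ex, orderOf_one]
      decide
  exact ⟨N, h3, h4, h5, fun m hm => h6 (e m) (by
    rwa [MonoidHom.comp_apply, show e.symm.toMonoidHom (e m) = m from e.symm_apply_apply m])⟩

/-- the centraliser of `t` in `S₆ × S₃` -/
abbrev C0 : Subgroup (P6 × P3) := Ce (τ6, 1)

def md (y : Fin 6) : Fin 3 := Fin.ofNat 3 y

theorem C0_comm (m : C0) : m.1.1 * τ6 = τ6 * m.1.1 := congrArg Prod.fst (mem_Ce.1 m.2)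

/-- the action on the three blocks -/
def π1 : C0 →* P3 :=
  @MulAction.toPermHom C0 (Fin 3) _
    { smul := fun m x => md (m.1.1 (x.castLE (by decide)))
      one_smul := by decide
      mul_smul := fun a b x => (by decide +kernel : ∀ p : P6, p * τ6 = τ6 * p → ∀ y,
        md (p y) = md (p ((md y).castLE (by decide)))) a.1.1 (C0_comm a) _ }

def π2 : C0 →* P3 := (MonoidHom.snd _ _).comp C0.subtype

theorem π1_eq (m : C0) (p : P3) : π1 m = p ↔ ∀ x, md (m.1.1 (x.castLE (by decide))) = p x :=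
  Equiv.ext_iff

theorem π12_surj : Function.Surjective (π1.prod π2) := fun ⟨p, q⟩ => by
  obtain ⟨a, -, h1, h2⟩ := (by decide : ∀ p : P3, ∃ a ∈ [(1 : P6), swap 0 1 * swap 3 4,
    swap 1 2 * swap 4 5, swap 0 2 * swap 3 5, swap 0 1 * swap 3 4 * (swap 1 2 * swap 4 5),
    swap 1 2 * swap 4 5 * (swap 0 1 * swap 3 4)], a * τ6 = τ6 * a ∧
    ∀ x : Fin 3, md (a (x.castLE (by decide))) = p x) p
  exact ⟨⟨(a, q), mem_Ce.2 (Prod.ext h1 (by simp))⟩, Prod.ext ((π1_eq _ _).2 h2) rfl⟩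

namespace Ctx

variable (h : Ctx φ lam)
include h

omit [Finite G] in
theorem Ce_a {m n : M48} (i : ℕ) (e : n * vc 1 1 1 * n⁻¹ = m ^ i) : Ce (φ m) ≤ φ.range :=
  fun g hg => by
    have h1 : g ∈ Ce (φ (n * vc 1 1 1 * n⁻¹)) := by
      rw [e, map_pow]
      exact mem_Ce.2 ((show Commute g _ from mem_Ce.1 hg).pow_right i)
    have h2 : (φ n)⁻¹ * g * φ n ∈ φ.range := h.hS.scen (by
      simpa [mul_assoc] using conj_mem_Ce h1 (φ n)⁻¹)
    simpa [mul_assoc] using φ.range.mul_mem (φ.range.mul_mem ⟨n, rfl⟩ h2)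
      (φ.range.inv_mem ⟨n, rfl⟩)

theorem inf_range : Ce (φ K48.t) ⊓ φ.range ≤ lam.range := by
  rintro _ ⟨hm, m, rfl⟩
  obtain ⟨i, -, hi⟩ := (by decide +kernel : ∀ m : M48, m * K48.t = K48.t * m → ∃ i < 3,
    m * vc 0 0 1 * m⁻¹ = vc 0 0 1 ^ i) m ((map_mem_Ce h.loc.inj).1 hm)
  refine h.hB.nor.le (mem_Nz.2 ?_)
  rw [← map_inv, ← map_mul, ← map_mul, hi, map_pow]
  exact pow_mem (mem_zpowers _) i

theorem inf_Nz {x : G} (hx : x ∈ DD.map φ) (h1 : x ≠ 1) : Ce (φ K48.t) ⊓ Ce x ≤ lam.range := by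
  obtain ⟨m, hm, rfl⟩ := hx
  have key : ∀ (y : M48) (i : ℕ), m ^ i = y → Ce (φ m) ≤ Ce (φ y) := fun y i e g hg => by
    rw [← e, map_pow]
    exact mem_Ce.2 ((show Commute g _ from mem_Ce.1 hg).pow_right i)
  obtain ⟨i, -, e | e | ⟨n, -, e⟩⟩ := ((by decide +kernel : ∀ m : M48, m ∈ DD → m = 1 ∨ ∃ i < 3,
    m ^ i = vc 1 1 0 ∨ m ^ i = vc 0 0 1 ∨ ∃ n ∈ [1, K48.r3], n * vc 1 1 1 * n⁻¹ = m ^ i)
    m hm).resolve_left fun e => h1 (by rw [e, map_one])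
  · exact (inf_le_inf_left _ ((key _ i e).trans h.hu)).trans h.inf_range
  · exact inf_le_right.trans ((key _ i e).trans h.Ce_e3)
  · exact (inf_le_inf_left _ (h.Ce_a i e)).trans h.inf_range

omit [Finite G] in
theorem range_C0 : (lam.comp C0.subtype).range = Ce (φ K48.t) ⊓ lam.range := by
  rw [h.hB.t]
  refine le_antisymm ?_ ?_
  · rintro _ ⟨m, rfl⟩
    exact ⟨(map_mem_Ce h.hB.inj).2 (mem_Ce.1 m.2), _, rfl⟩
  · rintro _ ⟨hm, m, rfl⟩
    exact ⟨⟨m, mem_Ce.2 ((map_mem_Ce h.hB.inj).1 hm)⟩, rfl⟩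

theorem se_t : SE 3 (Ce (φ K48.t)) (lam.comp C0.subtype).range := fun x hx ho g hg e => by
  rw [h.range_C0] at *
  refine se_ab (isSyl_D h.loc h.hu) (D_le_J.trans (JI_le_cn.trans (centralizer_anti D_le_J)))
    inf_le_left (le_inf inf_le_left ((inf_le_inf_left _ fun _ hg => ?_).trans h.inf_range))
    (fun a ha h1 => le_inf inf_le_left (h.inf_Nz ha h1)) hx ho hg e
  exact mem_range_of_conj wk48 h.loc le_rfl rfl h.hu
    (D_le_J (conj_mem_of_mem_normalizer hg ⟨_, ⟨rfl, rfl⟩, rfl⟩))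

theorem conj_rho {g : G} (hg : g ∈ Ce (φ K48.t)) {m : C0}
    (e : g * lam (swap 0 3, 1) * g⁻¹ = lam m) : (π1.prod π2) m = 1 := by
  obtain ⟨h1, h2⟩ := h.of_r ((h.ty_r (x := (swap 0 3, 1)) (by decide) (by decide)).trans
    (isConj_iff.2 ⟨g, e⟩))
  have h3 : IsConj (φ K48.d) (lam (m.1 * (τ6, 1))) :=
    (h.ty_d (x := (swap 0 3, 1) * (τ6, 1)) (by decide) (by decide)).trans (isConj_iff.2 ⟨g, by
      rw [map_mul, map_mul, ← e, ← conj_mul, ← show φ K48.t = lam (τ6, 1) from h.hB.t,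
        mem_Ce'.1 hg]⟩)
  rcases h2 with h2 | h2
  · exact Prod.ext ((π1_eq _ _).2 ((by decide +kernel : ∀ p : P6, p * τ6 = τ6 * p →
      p.support.card = 2 → ∀ x : Fin 3, md (p (x.castLE (by decide))) = x) _ (C0_comm m)
      (congrArg Prod.fst h2))) (Perm.card_support_eq_zero.1 (congrArg Prod.snd h2))
  · obtain ⟨⟨p, q⟩, hm⟩ := m
    obtain rfl : p = 1 := Perm.card_support_eq_zero.1 (congrArg Prod.fst h2)
    refine absurd (h3.trans (h.ty_w (x := (1, q) * (τ6, 1)) (Prod.ext (show 1 * τ6 * (1 * τ6) = 1 by decide) ?_)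
      (Prod.ext (by simpa [sp] using (by decide : τ6.support.card = 6)) ?_)).symm) h.d_w
    · simpa using congrArg Prod.snd h1
    · simpa [sp] using congrArg Prod.snd h2

/-- `C(t) = 2 ≀ S₃ × S₃`. -/
theorem cen_t : Ce (φ K48.t) ≤ lam.range := by
  have hi : Function.Injective (lam.comp C0.subtype) := h.hB.inj.comp (subtype_injective _)
  have hH : (lam.comp C0.subtype).range ≤ Ce (φ K48.t) := h.range_C0.le.trans inf_le_left
  have hv : lam (swap 0 3, 1) ∈ Ce (φ K48.t) := hH ⟨⟨_, mem_Ce.2 (by decide)⟩, rfl⟩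
  have v2 : lam (swap 0 3, 1) * lam (swap 0 3, 1) = 1 := by
    rw [← map_mul, ← lam.map_one]; exact congrArg lam (by decide)
  obtain ⟨N, a1, a2, a3, a4⟩ := bs_model hi hH π1 (Prod.fst_surjective.comp π12_surj) h.se_t hv v2
    fun g hg m e => congrArg Prod.fst (h.conj_rho hg e)
  obtain ⟨N', b1, b2, b3, b4⟩ := bs_model hi hH π2
    (fun q => (π12_surj (1, q)).imp fun _ e => congrArg Prod.snd e) h.se_t hv v2
    fun g hg m e => congrArg Prod.snd (h.conj_rho hg e)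
  have hD := isSyl_D h.loc h.hu
  have hn : Ce (φ K48.t) ≤ nr (N ⊓ N') := le_normalizer_inf a2 b2
  have h3 := coprime_of_inf hD (inf_le_left.trans a1) (hD.le.trans hn) (eq_bot_iff.2 fun x hx => by
    have x3 := JI_cube (D_le_J hx.1)
    by_contra h1
    obtain ⟨m, rfl⟩ := h.range_C0.ge ⟨hD.le hx.1, h.inf_Nz hx.1 h1 ⟨hD.le hx.1, mem_Ce.2 rfl⟩⟩
    rw [← map_pow, ← (lam.comp C0.subtype).map_one, hi.eq_iff] at x3
    have c1 : π1 m = 1 := by_contra fun e =>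
      a4 m (ord3.2 ⟨by rw [← map_pow, x3, map_one], e⟩) hx.2.1
    have c2 : π2 m = 1 := by_contra fun e =>
      b4 m (ord3.2 ⟨by rw [← map_pow, x3, map_one], e⟩) hx.2.2
    refine h1 (mem_bot.2 ((congrArg lam (Prod.ext ?_ c2)).trans lam.map_one))
    exact (by decide +kernel : ∀ p : P6, p * τ6 = τ6 * p → p ^ 3 = 1 →
      (∀ x : Fin 3, md (p (x.castLE (by decide))) = x) → p = 1) _ (C0_comm m)
      (congrArg (fun a : C0 => a.1.1) x3) ((π1_eq _ _).1 c1))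
  have hN : N ⊓ N' ≤ (lam.comp C0.subtype).range := gen_D h.loc.inj h3 (hD.le.trans hn)
    fun x hx h1 g hg => h.range_C0.ge ⟨a1 hg.1.1, h.inf_Nz hx h1 ⟨a1 hg.1.1, hg.2⟩⟩
  refine (s3s3_model hi hH (π1.prod π2) π12_surj (fun g hg m hm => ?_)
    fun m ho g hg e => h.se_t.dvd ⟨m, rfl⟩ ?_ hg e).trans (h.range_C0.le.trans inf_le_right)
  · let S : Submonoid C0 :=
      { carrier := {m | ∃ n, (π1.prod π2) n = 1 ∧
          g * (lam.comp C0.subtype) m * g⁻¹ = (lam.comp C0.subtype) n}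
        one_mem' := ⟨1, map_one _, by simp⟩
        mul_mem' := fun ⟨n, h1, h2⟩ ⟨n', h1', h2'⟩ => ⟨n * n', by rw [map_mul, h1, h1', one_mul],
          by rw [map_mul, map_mul, ← h2, ← h2', conj_mul]⟩ }
    let ρ : C0 := ⟨(swap 0 3, 1), mem_Ce.2 (by decide)⟩
    let c : C0 := ⟨(swap 0 1 * swap 3 4 * (swap 1 2 * swap 4 5), 1), mem_Ce.2 (by decide)⟩
    have key : ∀ i : ℕ, c ^ i * ρ * (c ^ i)⁻¹ ∈ S := fun i => by
      have h4 := mul_mem hg (hH ⟨c ^ i, rfl⟩)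
      obtain ⟨n, hn⟩ := hN (conj_mem_of_mem_normalizer (hn h4) ⟨a3, b3⟩)
      refine ⟨n, h.conj_rho h4 hn.symm, hn ▸ ?_⟩
      simp only [map_mul, map_inv, mul_inv_rev, mul_assoc]
      rfl
    obtain ⟨i, -, j, -, k, -, e⟩ := (by decide +kernel : ∀ p : P6, p * τ6 = τ6 * p →
      (∀ x : Fin 3, md (p (x.castLE (by decide))) = x) → ∃ i < 2, ∃ j < 2, ∃ k < 2,
      p = swap 0 3 ^ i * swap 1 4 ^ j * swap 2 5 ^ k) _ (C0_comm m)
      ((π1_eq _ _).1 (congrArg Prod.fst hm))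
    have e0 : c ^ 0 * ρ * (c ^ 0)⁻¹ = ⟨(swap 0 3, 1), mem_Ce.2 (by decide)⟩ := Subtype.ext (by decide)
    have e1 : c ^ 1 * ρ * (c ^ 1)⁻¹ = ⟨(swap 1 4, 1), mem_Ce.2 (by decide)⟩ := Subtype.ext (by decide)
    have e2 : c ^ 2 * ρ * (c ^ 2)⁻¹ = ⟨(swap 2 5, 1), mem_Ce.2 (by decide)⟩ := Subtype.ext (by decide)
    have := S.mul_mem (S.mul_mem (S.pow_mem (e0 ▸ key 0) i) (S.pow_mem (e1 ▸ key 1) j))
      (S.pow_mem (e2 ▸ key 2) k)
    have e3 : m.1.2 = 1 := congrArg Prod.snd hm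
    show m ∈ S
    convert this
    refine Subtype.ext (Prod.ext ?_ ?_)
    · simpa using e
    · simpa using e3
  · rw [orderOf_injective _ hi]
    exact ho.symm.dvd.trans (orderOf_map_dvd _ m)

end Ctx

end H21.L3
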