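import Cfsg.Agent.H21.L3D
import Cfsg.Agent.S3035
import Cfsg.Agent.H19.L3Fin
import Cfsg.Agent.H49.CenCore

/-! `blueprints/LOCAL3.md`, §1.8: the centraliser of two commuting transpositions. -/

set_option autoImplicit false
set_option maxRecDepth 100000
set_option synthInstance.maxSize 4096

namespace H21.L3

open Cfsg Subgroup H98 H44 H56.L3 H42.L3 Equiv

universe u

section Five

/-- two overlapping Coxeter systems of type `A₃` -/
def R5 {Γ : Type*} [Group Γ] (a b c d : Γ) : Prop :=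
  b * b = 1 ∧ c * c = 1 ∧ (b * c) ^ 3 = 1 ∧ a * c = c * a ∧ a ≠ c ∧ a * a = 1 ∧ (a * b) ^ 3 = 1 ∧
    b * d = d * b ∧ b ≠ d ∧ d * d = 1 ∧ (c * d) ^ 3 = 1

variable {Γ Δ : Type*} [Group Γ] [Group Δ] {a b c d y : Γ}

theorem R5.map (h : R5 a b c d) {f : Γ →* Δ} (hf : Function.Injective f) :
    R5 (f a) (f b) (f c) (f d) := by
  simp only [R5, ← map_mul, ← map_pow, ← f.map_one, hf.eq_iff, hf.ne_iff]
  exact h

theorem R5.ne (h : R5 a b c d) : a ≠ b := by
  rintro rfl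
  obtain ⟨h1, h2, h3, h4, h5, -⟩ := h
  rw [(show Commute a c from h4).mul_pow, pow_three', pow_three', h1, h2, one_mul, one_mul] at h3
  exact h5 (mul_right_cancel (h3.trans h2.symm))

theorem R5.five (h : R5 a b c d) (e : Γ ≃* P5) : a * d = d * a ∨ d = c * b * a * b * c := by
  have h' := h.map (f := e.toMonoidHom) e.injective
  have ho : orderOf (e b) = 2 := ord2.2 ⟨(pow_two _).trans h'.1, fun e1 => by
    obtain rfl : b = 1 := e.injective (e1.trans (map_one e).symm)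
    obtain ⟨-, -, -, -, -, h1, h2, -⟩ := id h
    rw [mul_one, pow_three', h1, one_mul] at h2
    exact h.ne h2⟩
  obtain ⟨n, -, hn⟩ := card_support_of_prime Nat.prime_two ho
  have h6 : (e b).support.card ≤ 5 := Finset.card_le_univ _
  obtain ⟨τ, hτ, h1, h2⟩ : ∃ τ ∈ [(swap 1 2 : P5), swap 0 1 * swap 2 3], (τ ^ 2 = 1 ∧ τ ≠ 1) ∧
      (e b).support.card = τ.support.card := by
    obtain rfl | rfl : n = 0 ∨ n = 1 := by omega
    exacts [⟨swap 1 2, by simp, by decide, hn.trans (by decide)⟩,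
      ⟨swap 0 1 * swap 2 3, by simp, by decide, hn.trans (by decide)⟩]
  obtain ⟨g, hg⟩ := isConj_iff.1 (isConj_of_prime Nat.prime_two ho (ord2.2 h1) h2)
  let f := (e.trans (MulAut.conj g)).toMonoidHom
  have hf : Function.Injective f := (e.trans (MulAut.conj g)).injective
  obtain ⟨-, a2, a3, a4, a5, a6, a7, a8, a9, a10, a11⟩ := h.map hf
  have := (by decide +kernel : ∀ b ∈ [(swap 1 2 : P5), swap 0 1 * swap 2 3], ∀ c : P5, c * c = 1 →
    (b * c) ^ 3 = 1 → ∀ a : P5, a * c = c * a → a ≠ c → a * a = 1 → (a * b) ^ 3 = 1 →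
    ∀ d : P5, b * d = d * b → b ≠ d → d * d = 1 → (c * d) ^ 3 = 1 →
    a * d = d * a ∨ d = c * b * a * b * c) (f b) (show g * e b * g⁻¹ ∈ _ from hg ▸ hτ) _ a2 a3 _
    a4 a5 a6 a7 _ a8 a9 a10 a11
  simpa only [← map_mul, hf.eq_iff] using this

theorem R5.top [Finite Γ] (h : R5 a b c d)
    (hC : Nonempty (centralizer ({a * c} : Set Γ) ≃* DihedralGroup 4)) (y6 : y ^ 6 = 1)
    (y2 : y ^ 2 ≠ 1) (y3 : y ^ 3 ≠ 1) (hd : d ≠ c * b * a * b * c) :
    a * d = d * a ∧ ∀ T : Subgroup Γ, a ∈ T → b ∈ T → c ∈ T → d ∈ T → T = ⊤ := by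
  obtain ⟨a1, a2, a3, a4, a5, a6, a7, a8, a9, a10, a11⟩ := id h
  obtain ⟨β, hβ⟩ := H75.exists_hom_perm (n := 3) ![a, b, c]
    (fun i => by fin_cases i; exacts [a6, a1, a2])
    (fun i j hij => by
      fin_cases i <;> fin_cases j <;> simp only [Nat.reduceAdd, Nat.reduceEqDiff] at hij
      exacts [a7, a3])
    fun i j hij => by
      fin_cases i <;> fin_cases j <;> simp only [Nat.reduceAdd, Nat.reduceLT] at hij
      exact a4
  have b0 : β (swap 0 1) = a := hβ 0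
  have b2 : β (swap 2 3) = c := hβ 2
  have hi := H75.injective_of_perm4 β (b0 ▸ b2 ▸ a5)
  have hz : a * c = β (swap 0 1 * swap 2 3) := by rw [map_mul, b0, b2]
  have six : ∀ {Δ : Type} [Group Δ] (e : Γ ≃* Δ) {c5 c7 : Prop}, ¬ H19.Sm Δ c5 False c7 := by
    intro Δ _ e c5 c7 hs
    have k : ∀ n, e y ^ n = 1 → y ^ Nat.gcd n 6 = 1 := fun n hn => pow_gcd_eq_one.2
      ⟨e.injective (by rw [map_pow, hn, map_one]), y6⟩
    rcases hs (e y) with ⟨-, h1 | h1 | h1 | h1⟩ | h1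
    exacts [y3 (k 3 h1), y2 (k 4 h1), y2 (by rw [show y = 1 from (pow_one y).symm.trans (k 5 h1.2),
      one_pow]), h1.1, y2 (by rw [show y = 1 from (pow_one y).symm.trans (k 7 h1.2.1), one_pow])]
  rcases Cfsg.Agent.S3035.result (a * c)
    (by rw [hz, orderOf_injective β hi]; exact ord2.2 (by decide)) hC with
    e | ⟨⟨e⟩⟩ | ⟨⟨e⟩⟩ | ⟨⟨e⟩⟩ | ⟨⟨e⟩⟩
  · obtain ⟨n, hn, k, hk, e'⟩ := (mem_sup_right_norm (N := oddCore Γ) le_normalizer_of_normal).1
      (((sup_comm _ _).trans e).ge (mem_top (β (swap 1 2))))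
    have h1 : β (swap 0 1 * swap 2 3 * (swap 1 2 * (swap 0 1 * swap 2 3)⁻¹ * (swap 1 2)⁻¹)) ∈
        oddCore Γ := by
      simp only [map_mul β (_ * _), map_mul β (swap 1 2), map_inv, ← hz, e']
      convert mul_mem (Normal.conj_mem inferInstance n hn (a * c)) (inv_mem hn) using 1
      calc _ = a * c * n * (k * (a * c) * k⁻¹)⁻¹ * n⁻¹ := by group
        _ = _ := by rw [mem_Ce'.1 hk]
    have h2 := (H2.odd_card_oddCore Γ).of_dvd_nat ((oddCore Γ).orderOf_dvd_natCard h1)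
    rw [orderOf_injective β hi, ord2.2 (by decide)] at h2
    exact absurd h2 (by decide)
  · exact ((by decide +kernel : ∀ x : Perm (Fin 4), x ^ 6 = 1 → x ^ 2 = 1 ∨ x ^ 3 = 1) (e y)
      (by rw [← map_pow, y6, map_one])).elim
      (fun e' => absurd (e.injective (by rw [map_pow, e', map_one])) y2)
      fun e' => absurd (e.injective (by rw [map_pow, e', map_one])) y3
  · have had := (h.five e).resolve_right hd
    obtain ⟨γ, hγ⟩ := H75.exists_hom_perm (n := 4) ![a, b, c, d]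
      (fun i => by fin_cases i; exacts [a6, a1, a2, a10])
      (fun i j hij => by
        fin_cases i <;> fin_cases j <;> simp only [Nat.reduceAdd, Nat.reduceEqDiff] at hij
        exacts [a7, a3, a11])
      fun i j hij => by
        fin_cases i <;> fin_cases j <;> simp only [Nat.reduceAdd, Nat.reduceLT] at hij
        exacts [a4, had, a8]
    have hb := (Nat.bijective_iff_injective_and_card γ).2 ⟨H75.injective_of_perm_five_le
      le_rfl γ (i := 0) (j := 1) (k := 1) (l := 2) (by decide) (by decide)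
      fun e' => h.ne ((hγ 0).symm.trans (e'.trans (hγ 1))), (Nat.card_congr e.toEquiv).symm⟩
    refine ⟨had, fun T h1 h2 h3 h4 => top_le_iff.1 ?_⟩
    rw [← MonoidHom.range_eq_top.2 hb.2, H75.range_eq_closure_of_adjSwap, closure_le]
    rintro _ ⟨i, rfl⟩
    simp only [hγ]
    fin_cases i
    exacts [h1, h2, h3, h4]
  · exact absurd H19.sm_sl2 (six e)
  · exact absurd H19.sm_alt6 (six e)

end Five

variable {G : Type u} [Group G] [Finite G] {φ : M48 →* G} {lam : P6 × P3 →* G}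

omit [Finite G] in
theorem mem_V {M : Type*} [Group M] {l : M →* G} (hl : Function.Injective l) {x y m : M}
    (hx : x * x = 1) (hy : y * y = 1) (hc : x * y = y * x) :
    l m ∈ zpowers (l x) ⊔ zpowers (l y) ↔ m = 1 ∨ m = x ∨ m = y ∨ m = x * y := by
  rw [← l.map_zpowers, ← l.map_zpowers, ← Subgroup.map_sup, mem_map_iff_mem hl, H52.L3.mem_E hc]
  simp only [mem_zp hx, mem_zp hy]
  constructor
  · rintro ⟨_, rfl | rfl, _, rfl | rfl, rfl⟩ <;> simp
  · rintro (rfl | rfl | rfl | rfl)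
    exacts [⟨1, .inl rfl, 1, .inl rfl, by simp⟩, ⟨_, .inr rfl, 1, .inl rfl, by simp⟩,
      ⟨1, .inl rfl, _, .inr rfl, by simp⟩, ⟨_, .inr rfl, _, .inr rfl, rfl⟩]

/-- the conjugate of `lam` under `φ n` -/
def lc (φ : M48 →* G) (lam : P6 × P3 →* G) (n : M48) : P6 × P3 →* G :=
  (MulAut.conj (φ n)).toMonoidHom.comp lam

/-- a dihedral subgroup of `S₆` -/
def δ6 : DihedralGroup 4 →* P6 × P3 := MonoidHom.mk' (fun q => (match q with
  | .r i => (swap 2 3 * (swap 2 4 * swap 3 5)) ^ i.val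
  | .sr i => swap 2 3 * (swap 2 3 * (swap 2 4 * swap 3 5)) ^ i.val, 1)) (by decide +kernel)

namespace Ctx

variable (h : Ctx φ lam)
include h

omit [Finite G] in
theorem lc_inj (n : M48) : Function.Injective (lc φ lam n) :=
  (MulAut.conj (φ n)).injective.comp h.hB.inj

omit h [Finite G] in
theorem lc_eq {n m m' : M48} {x y : P6 × P3} (hx : φ m = lam x) (hy : φ m' = lam y)
    (e : n * m * n⁻¹ = m') : lc φ lam n x = lam y := by
  rw [← hy, ← e, map_mul, map_mul, map_inv, hx]; rfl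

omit h [Finite G] in
theorem lc_conj (n : M48) (x : P6 × P3) : IsConj (lam x) (lc φ lam n x) := isConj_iff.2 ⟨φ n, rfl⟩

omit [Finite G] in
theorem s1 : φ (vc 1 0 0 * K48.r1) = lam (swap 0 1, 1) := by
  rw [map_mul, h.hB.e1, h.hB.r1, ← map_mul]; exact congrArg lam (by decide)

omit [Finite G] in
theorem s4 : φ (vc 0 1 0 * K48.r2) = lam (swap 3 4, 1) := by
  rw [map_mul, h.hB.e2, h.hB.r2, ← map_mul]; exact congrArg lam (by decide)

omit [Finite G] in
theorem s7 : φ (vc 0 0 1 * K48.r3) = lam (1, swap 0 1) := by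
  rw [map_mul, h.hB.e3, h.hB.r3, ← map_mul]; exact congrArg lam (by decide)

local notation "λ₁" => lc φ lam K48.s
local notation "λ₂" => lc φ lam (K48.s * K48.s)

omit [Finite G] in
theorem l1 : λ₁ (swap 0 1, 1) = lam (swap 3 4, 1) ∧ λ₁ (swap 1 2, 1) = lam (swap 4 5, 1) ∧
    λ₁ (swap 3 4, 1) = lam (1, swap 0 1) ∧ λ₁ (swap 4 5, 1) = lam (1, swap 1 2) ∧
    λ₁ (1, swap 0 1) = lam (swap 0 1, 1) ∧ λ₁ (1, swap 1 2) = lam (swap 1 2, 1) :=
  ⟨lc_eq h.s1 h.s4 (by decide +kernel), lc_eq h.hB.r1 h.hB.r2 (by decide +kernel),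
    lc_eq h.s4 h.s7 (by decide +kernel), lc_eq h.hB.r2 h.hB.r3 (by decide +kernel),
    lc_eq h.s7 h.s1 (by decide +kernel), lc_eq h.hB.r3 h.hB.r1 (by decide +kernel)⟩

theorem cen_t' {x : P6 × P3} (hx : x * x = 1) (e : sp x = (6, 0)) : Ce (lam x) ≤ lam.range :=
  H49.cent_le_range_conj (isConj_of_sp (x := (τ6, 1)) (by decide) hx (e ▸ by decide))
    (h.hB.t ▸ h.cen_t)

theorem cen_F : Commute (lam (swap 2 3, 1)) (λ₁ (swap 2 3, 1)) ∧ ∀ H : Subgroup G,
    lam.range ≤ H → λ₁ (swap 2 3, 1) ∈ H →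
      Ce (lam (swap 0 1, 1)) ⊓ Ce (lam (1, swap 1 2)) ≤ H := by
  obtain ⟨-, -, -, a8, a1, -⟩ := h.l1
  have b1 : λ₂ (swap 3 4, 1) = lam (swap 0 1, 1) := lc_eq h.s4 h.s1 (by decide +kernel)
  have b8 : λ₂ (swap 1 2, 1) = lam (1, swap 1 2) := lc_eq h.hB.r1 h.hB.r3 (by decide +kernel)
  set X := Ce (lam (swap 0 1, 1)) ⊓ Ce (lam (1, swap 1 2)) with hX
  let F := zpowers (lam (swap 0 1, 1)) ⊔ zpowers (lam (1, swap 1 2))
  have F0 : ∀ {m}, lam m ∈ F ↔ _ := mem_V h.hB.inj (by decide) (by decide) (by decide)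
  have F1 : ∀ {m}, λ₁ m ∈ F ↔ _ := fun {m} => a1 ▸ a8 ▸
    mem_V (m := m) (x := (1, swap 0 1)) (y := (swap 4 5, 1)) (h.lc_inj K48.s) (by decide)
      (by decide) (by decide)
  have F2 : ∀ {m}, λ₂ m ∈ F ↔ _ := fun {m} => b1 ▸ b8 ▸
    mem_V (m := m) (x := (swap 3 4, 1)) (y := (swap 1 2, 1)) (h.lc_inj (K48.s * K48.s))
      (by decide) (by decide) (by decide)
  have FH : F ≤ lam.range := sup_le (zpowers_le.2 ⟨_, rfl⟩) (zpowers_le.2 ⟨_, rfl⟩)
  have X0 : ∀ {m}, lam m ∈ X ↔ m * (swap 0 1, 1) = (swap 0 1, 1) * m ∧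
      m * (1, swap 1 2) = (1, swap 1 2) * m :=
    and_congr (map_mem_Ce h.hB.inj) (map_mem_Ce h.hB.inj)
  have X1 : λ₁ (swap 2 3, 1) ∈ X := ⟨a1 ▸ (map_mem_Ce (h.lc_inj _)).2 (by decide),
    a8 ▸ (map_mem_Ce (h.lc_inj _)).2 (by decide)⟩
  have X2 : λ₂ (swap 0 5, c3) ∈ X := ⟨b1 ▸ (map_mem_Ce (h.lc_inj _)).2 (by decide),
    b8 ▸ (map_mem_Ce (h.lc_inj _)).2 (by decide)⟩
  have : (F.subgroupOf X).Normal := normal_subgroupOf_of_le_normalizer
    (le_normalizer_of_le_centralizer fun g hg f hf => mem_Ce.1 ((sup_le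
      (zpowers_le.2 (mem_Ce.2 (mem_Ce.1 hg.1).symm))
      (zpowers_le.2 (mem_Ce.2 (mem_Ce.1 hg.2).symm)) : F ≤ Ce g) hf))
  let q := QuotientGroup.mk' (F.subgroupOf X)
  have q1 : ∀ {g : X}, q g = 1 ↔ (g : G) ∈ F := QuotientGroup.eq_one_iff _
  have q2 : ∀ {g k : X}, q g = q k ↔ (g : G)⁻¹ * k ∈ F := QuotientGroup.eq
  let A : X := ⟨lam (swap 2 3, 1), X0.2 (by decide)⟩
  let B : X := ⟨lam (swap 3 4, 1), X0.2 (by decide)⟩
  let C : X := ⟨lam (swap 4 5, 1), X0.2 (by decide)⟩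
  let D : X := ⟨_, X1⟩
  have eB : (B : G) = λ₁ (swap 0 1, 1) := h.l1.1.symm
  have eC : (C : G) = λ₁ (swap 1 2, 1) := h.l1.2.1.symm
  have k0 : ∀ {x y : X} {m n}, (x : G) = lam m → (y : G) = lam n → m = n → q x = q y :=
    fun e1 e2 e => congrArg q (Subtype.ext (by rw [e1, e2, e]))
  have k1 : ∀ {x y : X} {m n}, (x : G) = λ₁ m → (y : G) = λ₁ n → m = n → q x = q y :=
    fun e1 e2 e => congrArg q (Subtype.ext (by rw [e1, e2, e]))
  have hR : R5 (q A) (q B) (q C) (q D) := by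
    simp only [R5, ← map_mul, ← map_pow, ← q.map_one]
    refine ⟨k0 (map_mul lam _ _).symm lam.map_one.symm (by decide),
      k0 (map_mul lam _ _).symm lam.map_one.symm (by decide),
      k0 (m := (_ * _) ^ 3) (by rw [map_pow, map_mul]; rfl) lam.map_one.symm (by decide),
      k0 (map_mul lam _ _).symm (map_mul lam _ _).symm (by decide), fun e => ?_,
      k0 (map_mul lam _ _).symm lam.map_one.symm (by decide),
      k0 (m := (_ * _) ^ 3) (by rw [map_pow, map_mul]; rfl) lam.map_one.symm (by decide),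
      k1 (by rw [coe_mul, eB, ← map_mul]) (by rw [coe_mul, eB, ← map_mul]) (by decide), fun e => ?_,
      k1 (map_mul λ₁ _ _).symm (map_one λ₁).symm (by decide),
      k1 (by rw [coe_pow, coe_mul, eC, ← map_mul, ← map_pow]) (map_one λ₁).symm (by decide)⟩
    · rw [q2, ← map_inv, ← map_mul, F0] at e
      exact absurd e (by decide)
    · rw [q2, eB, ← map_inv, ← map_mul, F1] at e
      exact absurd e (by decide)
  let δ : DihedralGroup 4 →* X ⧸ F.subgroupOf X :=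
    q.comp ((lam.comp δ6).codRestrict X fun x => X0.2 (by revert x; decide +kernel))
  have hδ : Function.Injective δ := (injective_iff_map_eq_one δ).2 fun x e =>
    (by clear e; revert x; decide +kernel : _ → x = 1) (F0.1 (q1.1 e))
  have hr : δ.range = centralizer {q A * q C} := by
    refine le_antisymm ?_ fun g hg => ?_
    · rintro _ ⟨x, rfl⟩
      rw [mem_centralizer_singleton_iff, ← map_mul]
      exact (map_mul q _ _).symm.trans ((k0 (m := δ6 x * (_ * _)) (n := _ * _ * δ6 x)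
        (by simp only [map_mul]; rfl) (by simp only [map_mul]; rfl)
        (by revert x; decide +kernel)).trans (map_mul q _ _))
    obtain ⟨g, rfl⟩ := QuotientGroup.mk'_surjective _ g
    have h1 : (lam (swap 2 3 * swap 4 5, 1))⁻¹ * (g * lam (swap 2 3 * swap 4 5, 1) * (g : G)⁻¹) ∈ F := by
      have := q2.1 (show q (A * C) = q (g * (A * C) * g⁻¹) by
        rw [map_mul q _ g⁻¹, map_mul q g, map_inv, map_mul q A, mem_Ce'.1 hg])
      rwa [show lam (swap 2 3 * swap 4 5, 1) = lam _ * lam _ from map_mul lam (_, 1) (_, 1)]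
    obtain ⟨f, hf⟩ := FH h1
    have h2 : g * lam (swap 2 3 * swap 4 5, 1) * (g : G)⁻¹ = lam ((swap 2 3 * swap 4 5, 1) * f) := by
      rw [map_mul, hf, mul_inv_cancel_left]
    have h3 : g * lam ((swap 0 1, 1) * (swap 2 3 * swap 4 5, 1)) * (g : G)⁻¹ =
        lam ((swap 0 1, 1) * ((swap 2 3 * swap 4 5, 1) * f)) := by
      rw [map_mul, map_mul, ← h2, ← conj_mul, mem_Ce'.1 g.2.1]
    have h4 := (h.ty_d (by decide) (by decide)).trans (isConj_iff.2 ⟨_, h2⟩)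
    rcases F0.1 (hf ▸ h1) with rfl | rfl | rfl | rfl
    · obtain ⟨⟨a, b⟩, e⟩ := h.cen_t' (by decide) (by decide) (mem_Ce'.2 (h3.trans (by rw [mul_one])))
      rw [← e, mul_one, ← map_inv, ← map_mul, ← map_mul, h.hB.inj.eq_iff] at h2
      have h5 := X0.1 (e ▸ g.2)
      obtain ⟨x, hx⟩ := (by decide +kernel : ∀ a : P6, a * swap 0 1 = swap 0 1 * a →
        a * (swap 2 3 * swap 4 5) * a⁻¹ = swap 2 3 * swap 4 5 → ∀ b : P3,
        b * swap 1 2 = swap 1 2 * b → ∃ x, (δ6 x)⁻¹ * (a, b) = 1 ∨ (δ6 x)⁻¹ * (a, b) = (swap 0 1, 1) ∨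
          (δ6 x)⁻¹ * (a, b) = (1, swap 1 2) ∨ (δ6 x)⁻¹ * (a, b) = (swap 0 1, 1) * (1, swap 1 2))
        a (congrArg Prod.fst h5.1) (congrArg Prod.fst h2) b (congrArg Prod.snd h5.2)
      have h6 := F0.2 hx
      rw [map_mul, map_inv, e] at h6
      exact ⟨x, q2.2 h6⟩
    · exact absurd ((h.ty_t (by decide) (by decide)).trans h4.symm) h.t_d
    · exact absurd (((h.ty_t (by decide) (by decide)).trans (isConj_iff.2 ⟨_, h3⟩)).trans
        (h.ty_w (by decide) (by decide)).symm) h.t_w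
    · exact absurd (h4.trans (h.ty_w (by decide) (by decide)).symm) h.d_w
  have y : ∀ n, q ⟨_, X2⟩ ^ n = 1 ↔ λ₂ ((swap 0 5, c3) ^ n) ∈ F := fun n => by
    rw [← map_pow, q1, map_pow]; rfl
  obtain ⟨h1, h2⟩ := hR.top (y := q ⟨_, X2⟩)
    ⟨(MulEquiv.subgroupCongr hr.symm).trans (MonoidHom.ofInjective hδ).symm⟩
    ((y 6).2 (F2.2 (by decide))) (fun e => absurd (F2.1 ((y 2).1 e)) (by decide))
    (fun e => absurd (F2.1 ((y 3).1 e)) (by decide)) fun e => by
      simp only [← map_mul] at e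
      have h1 : λ₁ (swap 2 3, 1) ∈ Nz (φ (vc 0 0 1)) := h.hB.nor.ge (by
        have := mul_mem (show ((C * B * A * B * C : X) : G) ∈ lam.range from mul_mem (mul_mem
          (mul_mem (mul_mem ⟨_, rfl⟩ ⟨_, rfl⟩) ⟨_, rfl⟩) ⟨_, rfl⟩) ⟨_, rfl⟩) (FH (q2.1 e.symm))
        rwa [mul_inv_cancel_left] at this)
      rw [mem_Nz, h.hB.e3, ← lc_eq (n := K48.s) h.hB.e2 h.hB.e3 (by decide +kernel), ← map_inv,
        ← map_mul, ← map_mul, ← MonoidHom.map_zpowers, mem_map_iff_mem (h.lc_inj _)] at h1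
      exact absurd (H52.L3.mem_zp3 (by decide) h1) (by decide)
  refine ⟨?_, fun H h3 h4 g hg => ?_⟩
  · have h3 := q2.1 (show q D = q (A * D * A⁻¹) by
      rw [map_mul, map_mul, map_inv, h1, mul_inv_cancel_right])
    obtain ⟨f, hf⟩ := (sup_le (zpowers_le.2 ⟨_, a1⟩) (zpowers_le.2 ⟨_, a8⟩) : F ≤ (λ₁).range) h3
    have h4 : lam (swap 2 3, 1) * λ₁ (swap 2 3, 1) * (lam (swap 2 3, 1))⁻¹ =
        λ₁ ((swap 2 3, 1) * f) := by
      rw [map_mul, hf]; exact (mul_inv_cancel_left _ _).symm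
    have h5 := (h.of_r ((((h.ty_r (by decide) (by decide)).trans (lc_conj _ _)).trans
      (isConj_iff.2 ⟨_, h4⟩)).trans (lc_conj _ _).symm)).2
    rcases F1.1 (hf ▸ h3) with rfl | rfl | rfl | rfl
    · exact mul_inv_eq_iff_eq_mul.1 (h4.trans (by rw [mul_one]))
    all_goals exact absurd h5 (by decide)
  · obtain ⟨k, hk, e⟩ := (h2 ((H.subgroupOf X).map q) ⟨A, h3 ⟨_, rfl⟩, rfl⟩ ⟨B, h3 ⟨_, rfl⟩, rfl⟩
      ⟨C, h3 ⟨_, rfl⟩, rfl⟩ ⟨D, h4, rfl⟩).ge (mem_top (q ⟨g, hg⟩))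
    simpa using H.mul_mem hk (h3 (FH (q2.1 e)))

end Ctx

end H21.L3
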