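import Cfsg.Agent.H21.L3E
import Cfsg.Agent.H59.CharAux

/-! `blueprints/LOCAL3.md`, §1.8: recognition of `S₉`. -/

set_option autoImplicit false
set_option maxRecDepth 100000
set_option synthInstance.maxSize 4096

namespace H21.L3

open Cfsg Subgroup H98 H44 H56.L3 H42.L3 Equiv H49

universe u

attribute [local instance 2000] List.decidableBAll List.decidableBEx

abbrev P9 := Perm (Fin 9)

scoped instance (priority := high) eq9 : DecidableEq P9 := fun a b =>
  decidable_of_iff (∀ i, a i = b i) Equiv.ext_iff.symm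

/-- `S₆ × S₃` in `S₉` -/
def ι9 : P6 × P3 →* P9 :=
  (finSumFinEquiv (m := 6) (n := 3)).permCongrHom.toMonoidHom.comp (Perm.sumCongrHom _ _)

def d9 : P9 := swap 0 1 * swap 2 3
def t9 : P9 := swap 0 1 * swap 2 3 * swap 4 5
def w9 : P9 := swap 0 1 * swap 2 3 * swap 4 5 * swap 6 7

theorem inv9 {x : P9} (hx : x * x = 1) : ∃ r ∈ [1, swap 0 1, d9, t9, w9], IsConj r x := by
  by_cases h1 : x = 1
  · exact ⟨1, by simp, h1 ▸ IsConj.refl _⟩
  obtain ⟨n, -, hn⟩ := card_support_of_prime Nat.prime_two (ord2.2 ⟨(pow_two _).trans hx, h1⟩)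
  have h6 : x.support.card ≤ 9 := Finset.card_le_univ _
  obtain ⟨r, hr, h2, h3⟩ := (by decide +kernel : ∀ n < 4, ∃ r ∈ [1, swap 0 1, d9, t9, w9], r * r = 1 ∧
    r.support.card = (n + 1) * 2) n (by omega)
  exact ⟨r, hr, isConj_of_sq h2 hx (h3.trans hn.symm)⟩

theorem exists_three {x : P9} (hx : x * x = 1) : ∃ e : P9, orderOf e = 3 ∧ e * x = x * e := by
  obtain ⟨r, hr, h⟩ := inv9 hx
  obtain ⟨g, rfl⟩ := isConj_iff.1 h
  obtain ⟨e, -, h1, h2⟩ := (by decide +kernel : ∀ r ∈ [1, swap 0 1, d9, t9, w9],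
    ∃ e ∈ [(swap 6 7 * swap 7 8 : P9), swap 0 2 * swap 2 4 * (swap 1 3 * swap 3 5)],
      (e ^ 3 = 1 ∧ e ≠ 1) ∧ e * r = r * e) r hr
  exact ⟨g * e * g⁻¹, (H83.orderOf_conj g e).trans (ord3.2 h1), by rw [conj_mul, h2, conj_mul]⟩

theorem sign9 {x : P9} (hx : x * x = 1) (h1 : x ≠ 1) :
    Perm.sign x = 1 ↔ x.support.card = 4 ∨ x.support.card = 8 := by
  obtain ⟨r, hr, h⟩ := inv9 hx
  rw [← isConj_iff_eq.1 (Perm.sign.map_isConj h), ← card_support_of_isConj h]
  exact (by decide +kernel : ∀ r ∈ [1, swap 0 1, d9, t9, w9], r ≠ 1 →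
    (Perm.sign r = 1 ↔ r.support.card = 4 ∨ r.support.card = 8)) r hr fun e =>
    h1 (isConj_one_right.1 (e ▸ h))

variable {G : Type u} [Group G] [Finite G] {φ : M48 →* G} {lam : P6 × P3 →* G} {j : P9 →* G}

omit [Finite G] in
theorem hom_ext6 {l l' : P6 × P3 →* G}
    (h1 : ∀ i : Fin 5, l (swap i.castSucc i.succ, 1) = l' (swap i.castSucc i.succ, 1))
    (h2 : ∀ i : Fin 2, l (1, swap i.castSucc i.succ) = l' (1, swap i.castSucc i.succ)) : l = l' := by
  have a := MonoidHom.eq_of_eqOn_dense (H75.adjSwap_closure 5) (f := l.comp (MonoidHom.inl _ _))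
    (g := l'.comp (MonoidHom.inl _ _)) (by rintro _ ⟨i, rfl⟩; exact h1 i)
  have b := MonoidHom.eq_of_eqOn_dense (H75.adjSwap_closure 2) (f := l.comp (MonoidHom.inr _ _))
    (g := l'.comp (MonoidHom.inr _ _)) (by rintro _ ⟨i, rfl⟩; exact h2 i)
  ext1 ⟨p, q⟩
  rw [show (p, q) = (p, 1) * (1, q) by simp, map_mul, map_mul]
  exact congrArg₂ _ (DFunLike.congr_fun a p) (DFunLike.congr_fun b q)

theorem Ctx.exists_j (h : Ctx φ lam) : ∃ j : P9 →* G, Function.Injective j ∧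
    (∀ x, lam x = j (ι9 x)) ∧ φ.range ≤ j.range ∧
    Ce (j (swap 0 1)) ⊓ Ce (j (swap 7 8)) ≤ j.range := by
  obtain ⟨a4, a5, a7, a8, a1, a2⟩ := h.l1
  have k1 : ∀ (l : P6 × P3 →* G) a, a * a = 1 → l a * l a = 1 := fun l a e => by
    rw [← map_mul, e, map_one]
  have k2 : ∀ (l : P6 × P3 →* G) a b, a * b = b * a → Commute (l a) (l b) := fun l a b e =>
    Commute.map e l
  have k3 : ∀ (l : P6 × P3 →* G) a b, (a * b) ^ 3 = 1 → (l a * l b) ^ 3 = 1 := fun l a b e => by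
    rw [← map_mul, ← map_pow, e, map_one]
  obtain ⟨j, hj⟩ := H75.exists_hom_perm (n := 8)
    ![lam (swap 0 1, 1), lam (swap 1 2, 1), lam (swap 2 3, 1), lam (swap 3 4, 1),
      lam (swap 4 5, 1), lc φ lam K48.s (swap 2 3, 1), lam (1, swap 0 1), lam (1, swap 1 2)]
    (fun i => by fin_cases i <;> exact k1 _ _ (by decide))
    (fun i j hij => by
      fin_cases i <;> fin_cases j <;> simp only [Nat.reduceAdd, Nat.reduceEqDiff] at hij
      exacts [k3 _ _ _ (by decide), k3 _ _ _ (by decide), k3 _ _ _ (by decide),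
        k3 _ _ _ (by decide), a5 ▸ k3 _ (swap 1 2, 1) _ (by decide),
        a7 ▸ k3 _ _ (swap 3 4, 1) (by decide), k3 _ _ _ (by decide)])
    fun i j hij => by
      fin_cases i <;> fin_cases j <;> simp only [Nat.reduceAdd, Nat.reduceLT] at hij
      exacts [k2 _ _ _ (by decide), k2 _ _ _ (by decide), k2 _ _ _ (by decide),
        a1 ▸ k2 _ (1, swap 0 1) _ (by decide), k2 _ _ _ (by decide), k2 _ _ _ (by decide),
        k2 _ _ _ (by decide), k2 _ _ _ (by decide), a2 ▸ k2 _ (1, swap 1 2) _ (by decide),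
        k2 _ _ _ (by decide), k2 _ _ _ (by decide), k2 _ _ _ (by decide), h.cen_F.1,
        k2 _ _ _ (by decide), k2 _ _ _ (by decide), a4 ▸ k2 _ (swap 0 1, 1) _ (by decide),
        k2 _ _ _ (by decide), k2 _ _ _ (by decide), k2 _ _ _ (by decide), k2 _ _ _ (by decide),
        a8 ▸ k2 _ _ (swap 4 5, 1) (by decide)]
  have e0 : lam = j.comp ι9 := hom_ext6
    (fun i => by
      fin_cases i
      exacts [(hj 0).symm.trans (congrArg j (by decide +kernel)), (hj 1).symm.trans (congrArg j (by decide +kernel)),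
        (hj 2).symm.trans (congrArg j (by decide +kernel)), (hj 3).symm.trans (congrArg j (by decide +kernel)),
        (hj 4).symm.trans (congrArg j (by decide +kernel))])
    fun i => by
      fin_cases i
      exacts [(hj 6).symm.trans (congrArg j (by decide +kernel)), (hj 7).symm.trans (congrArg j (by decide +kernel))]
  let σ : P9 := swap 0 3 * swap 1 4 * swap 2 5 * (swap 3 6 * swap 4 7 * swap 5 8)
  have e1 : lc φ lam K48.s = j.comp ((MulAut.conj σ).toMonoidHom.comp ι9) := hom_ext6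
    (fun i => by
      fin_cases i
      exacts [a4.trans ((hj 3).symm.trans (congrArg j (by decide +kernel))),
        a5.trans ((hj 4).symm.trans (congrArg j (by decide +kernel))),
        (hj 5).symm.trans (congrArg j (by decide +kernel)),
        a7.trans ((hj 6).symm.trans (congrArg j (by decide +kernel))),
        a8.trans ((hj 7).symm.trans (congrArg j (by decide +kernel)))])
    fun i => by
      fin_cases i
      exacts [a1.trans ((hj 0).symm.trans (congrArg j (by decide +kernel))),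
        a2.trans ((hj 1).symm.trans (congrArg j (by decide +kernel)))]
  have hl : lam.range ≤ j.range := fun _ ⟨x, hx⟩ => ⟨ι9 x, (DFunLike.congr_fun e0 x).symm.trans hx⟩
  have hs : φ K48.s ∈ j.range := by
    rw [(by decide +kernel : K48.s = K48.t * (K48.s * K48.t * K48.s⁻¹)), map_mul, map_mul, map_mul,
      map_inv, h.hB.t]
    exact mul_mem (hl ⟨_, rfl⟩) ⟨_, (DFunLike.congr_fun e1 _).symm⟩
  refine ⟨j, H75.injective_of_perm_five_le (by decide) j (i := 0) (j := 1) (k := 1) (l := 2)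
    (by decide) (by decide) fun e => ?_, DFunLike.congr_fun e0, ?_, ?_⟩
  · exact absurd (h.hB.inj ((hj 0).symm.trans (e.trans (hj 1)))) (by decide)
  · rintro _ ⟨m, rfl⟩
    obtain ⟨i, -, k, -, e⟩ := (by decide +kernel : ∀ m : M48, ∃ i < 3, ∃ k < 3,
      K48.s ^ i * m * vc 0 0 1 * (K48.s ^ i * m)⁻¹ = vc 0 0 1 ^ k) m
    have : φ (K48.s ^ i * m) ∈ j.range := hl (h.hB.nor.le (mem_Nz.2 (by
      rw [← map_inv, ← map_mul, ← map_mul, e, map_pow]
      exact pow_mem (mem_zpowers _) k)))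
    rwa [map_mul, map_pow, mul_mem_cancel_left (pow_mem hs i)] at this
  · rw [show j (swap 0 1) = _ from hj 0, show j (swap 7 8) = _ from hj 7]
    exact h.cen_F.2 _ hl ⟨_, hj 5⟩

theorem Ctx.se_j (h : Ctx φ lam) (hj : Function.Injective j) (hl : ∀ x, lam x = j (ι9 x))
    (hφ : φ.range ≤ j.range) : SE 3 ⊤ j.range := fun x hx ho g _ hg => by
  refine se_J wk48 h.loc hφ (fun x hx h1 => ?_) ?_ hx ho g hg
  · obtain ⟨n, -, y, hy, i, -, e⟩ := ((by decide +kernel : ∀ a : J3, a = 0 ∨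
      ∃ n ∈ [1, K48.s, K48.s⁻¹, K48.r1, K48.r2, K48.r3, K48.s * K48.r1, K48.s⁻¹ * K48.r1],
      ∃ y ∈ [vc 0 0 1, vc 1 1 0, vc 1 1 1], ∃ i < 3, n * y * n⁻¹ = ⟨a, 1⟩ ^ i) x.j).resolve_left
      fun e => h1 (SD.ext e hx)
    have h2 : Ce (φ y) ≤ j.range := by
      simp only [List.mem_cons, List.not_mem_nil, or_false] at hy
      rcases hy with rfl | rfl | rfl
      exacts [h.Ce_e3.trans fun _ ⟨x, hx⟩ => ⟨_, (hl x).symm.trans hx⟩, h.hu.trans hφ,
        h.hS.scen.trans hφ]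
    intro g hg
    have h3 : g ∈ Ce (φ (n * y * n⁻¹)) := by
      rw [e, map_pow, ← show x = ⟨x.j, 1⟩ from SD.ext rfl hx]
      exact mem_Ce.2 ((show Commute g _ from mem_Ce.1 hg).pow_right i)
    have h4 : (φ n)⁻¹ * g * φ n ∈ j.range := h2 (by
      simpa [mul_assoc] using conj_mem_Ce h3 (φ n)⁻¹)
    simpa [mul_assoc] using j.range.mul_mem (j.range.mul_mem (hφ ⟨n, rfl⟩) h4)
      (j.range.inv_mem (hφ ⟨n, rfl⟩))
  · rintro _ ⟨p, rfl⟩ ho
    rw [orderOf_injective j hj] at ho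
    obtain ⟨n, -, hn⟩ := card_support_of_prime Nat.prime_three ho
    have h6 : p.support.card ≤ 9 := Finset.card_le_univ _
    have m1 : lam (swap 0 1 * swap 1 2, 1) ∈ JI φ := ⟨_, rfl, h.hB.e1⟩
    have m2 : lam (swap 3 4 * swap 4 5, 1) ∈ JI φ := ⟨_, rfl, h.hB.e2⟩
    have m3 : lam (1, swap 0 1 * swap 1 2) ∈ JI φ := ⟨_, rfl, h.hB.e3⟩
    obtain ⟨a, -, b, -, h1, h2⟩ := (by decide +kernel : ∀ n < 3, ∃ a < 2, ∃ b < 2,
      let r := ι9 ((swap 0 1 * swap 1 2, 1) * (swap 3 4 * swap 4 5, 1) ^ a *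
        (1, swap 0 1 * swap 1 2) ^ b)
      (r ^ 3 = 1 ∧ r ≠ 1) ∧ r.support.card = (n + 1) * 3) n (by omega)
    obtain ⟨k, hk⟩ := isConj_iff.1 (isConj_of_prime Nat.prime_three ho (ord3.2 h1)
      (hn.trans h2.symm))
    refine ⟨j k, ⟨k, rfl⟩, ?_⟩
    rw [← map_inv, ← map_mul, ← map_mul, hk, ← hl, map_mul, map_mul, map_pow, map_pow]
    exact mul_mem (mul_mem m1 (pow_mem m2 a)) (pow_mem m3 b)

end H21.L3
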