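import Cfsg.Agent.H21.L3F

/-! `blueprints/LOCAL3.md`, §1.8: the endgame, `Job48BS`. -/

set_option autoImplicit false
set_option maxRecDepth 100000
set_option synthInstance.maxSize 4096

namespace H21.L3

open Cfsg Subgroup H98 H44 H56.L3 H42.L3 Equiv H49

attribute [local instance 2000] List.decidableBAll List.decidableBEx

universe u

variable {G : Type u} [Group G] [Finite G] {j : P9 →* G}

/-- `S₉` is strongly `3`-embedded and contains two centralisers. -/
structure End (j : P9 →* G) : Prop where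
  inj : Function.Injective j
  se : SE 3 ⊤ j.range
  ct : Ce (j t9) ≤ (j.comp ι9).range
  cF : Ce (j (swap 0 1)) ⊓ Ce (j (swap 7 8)) ≤ j.range

theorem pow_odd {M : Type*} [Group M] {x : M} {m : ℕ} (hx : x * x = 1) (hm : Odd m) : x ^ m = x := by
  obtain ⟨k, rfl⟩ := hm
  rw [pow_succ, pow_mul, pow_two, hx, one_pow, one_mul]

namespace End

variable (h : End j)
include h

theorem fus {x y : P9} (hx : x * x = 1) (e : IsConj (j x) (j y)) : IsConj x y := by
  obtain ⟨g, hg⟩ := isConj_iff.1 e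
  obtain ⟨a, h1, h2⟩ := exists_three hx
  obtain ⟨b, h3, h4⟩ := exists_three (x := y) (h.inj (by
    rw [map_mul, ← hg, conj_mul, ← map_mul, hx]; simp))
  obtain ⟨_, ⟨k, rfl⟩, hk⟩ := h.se.fus le_top (mem_top g) (a := j x) ⟨a, rfl⟩
    ((orderOf_injective j h.inj a).trans h1) (by rw [← map_mul, h2, map_mul]) ⟨b, rfl⟩
    ((orderOf_injective j h.inj b).trans h3) (by rw [hg, ← map_mul, h4, map_mul])
  exact isConj_iff.2 ⟨k, h.inj (by rw [map_mul, map_mul, map_inv, hk, hg])⟩

theorem conj_iff {x y : P9} (hx : x * x = 1) (hy : y * y = 1) :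
    IsConj (j x) (j y) ↔ y.support.card = x.support.card :=
  ⟨fun e => (card_support_of_isConj (h.fus hx e)).symm,
    fun e => j.map_isConj (isConj_of_sq hx hy e.symm)⟩

theorem uf {z : P9} (hz : z ^ 2 = 1 ∧ z ≠ 1) (hC : Ce (j z) ≤ j.range) :
    UF {d | IsConj (j z) d} j.range :=
  UF.of_hom h.inj (ord2.2 hz) hC fun _ => h.fus ((pow_two z).symm.trans hz.1)

omit [Finite G] in
theorem mem_of {g : G} (hg : g ∈ Ce (j d9)) (e : g * j (swap 0 1) * g⁻¹ = j (swap 0 1) ∨
    g * j (swap 0 1) * g⁻¹ = j (swap 0 1) * j d9) : g ∈ j.range := by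
  have key : ∀ g ∈ Ce (j d9), g ∈ Ce (j (swap 0 1)) → g ∈ j.range := fun g h1 h2 => by
    have h3 : g ∈ Ce (j (swap 0 1 * d9)) := by
      rw [map_mul]
      exact mem_Ce.2 ((show Commute g _ from mem_Ce.1 h2).mul_right (mem_Ce.1 h1))
    have k : ∀ x, g ∈ Ce (j x) → j (swap 2 7 * swap 3 8) * g * (j (swap 2 7 * swap 3 8))⁻¹ ∈
        Ce (j (swap 2 7 * swap 3 8 * x * (swap 2 7 * swap 3 8)⁻¹)) := fun x hx => by
      rw [map_mul j _ _⁻¹, map_mul j _ x, map_inv]
      exact conj_mem_Ce hx _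
    have h5 := k _ h2
    have h6 := k _ h3
    rw [(by decide +kernel : _ * (swap 0 1 : P9) * _ = swap 0 1)] at h5
    rw [(by decide +kernel : _ * (swap 0 1 * d9) * _ = swap 7 8)] at h6
    have h7 : j (swap 2 7 * swap 3 8) ∈ j.range := ⟨_, rfl⟩
    exact (mul_mem_cancel_left h7).1 ((mul_mem_cancel_right (inv_mem h7)).1 (h.cF ⟨h5, h6⟩))
  rcases e with e | e
  · exact key g hg (mem_Ce'.2 e)
  · refine (mul_mem_cancel_left (MonoidHom.mem_range.2 ⟨swap 0 2 * swap 1 3, rfl⟩)).1 (key _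
      (mul_mem ((map_mem_Ce h.inj).2 (by decide +kernel)) hg) (mem_Ce'.2 ?_))
    rw [mul_inv_rev, mul_assoc _ g, mul_assoc, ← mul_assoc (g * _), e, ← map_inv, ← map_mul,
      ← map_mul, ← map_mul]
    exact congrArg j (by decide +kernel)

theorem cen_d : Ce (j d9) ≤ j.range := by
  have sq : ∀ x : P9, x * x = 1 → j x * j x = 1 := fun x e => by rw [← map_mul, e, map_one]
  have cm : ∀ x : P9, x * d9 = d9 * x → j x ∈ Ce (j d9) := fun x => (map_mem_Ce h.inj).2
  have ht := cm (swap 0 1) (by decide +kernel)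
  obtain ⟨O, h1, h2, ⟨m, hm, h3⟩, h4⟩ := H59.zstar_mod (B := Ce (j d9)) (t := j (swap 0 1))
    (sq d9 (by decide +kernel)) (mem_Ce.2 rfl) (fun g hg => (mem_Ce.1 hg).symm)
    (sq _ (by decide +kernel)) ht
    (fun e => absurd (h.inj (e.trans j.map_one.symm)) (by decide +kernel))
    (fun e => absurd (h.inj e) (by decide +kernel)) fun g hg e => by
      obtain ⟨x, hx⟩ := h.mem_of (mul_mem (mul_mem hg ht) (inv_mem hg)) e
      obtain ⟨a, b, -, rfl⟩ := Perm.card_support_eq_two.1 ((card_support_of_isConj (h.fus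
        (by decide +kernel) (isConj_iff.2 ⟨g, hx.symm⟩))).symm.trans (by decide +kernel))
      have := card_support_of_isConj (h.fus (x := swap 0 1 * d9) (y := swap a b * d9)
        (by decide +kernel) (isConj_iff.2 ⟨g, by
          rw [map_mul, map_mul, hx, ← conj_mul, mem_Ce'.1 hg]⟩))
      rw [← hx, ← map_mul]
      exact ((by decide +kernel : ∀ a b : Fin 9, (swap 0 1 * d9).support.card =
        (swap a b * d9).support.card → swap a b = swap 0 1 ∨ swap a b = swap 0 1 * d9) a b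
        this).imp (congrArg j) (congrArg j)
  have t2 := sq t9 (by decide +kernel)
  have ti : (j t9)⁻¹ = j t9 := inv_eq_of_mul_eq_one_right t2
  have inv : ∀ o ∈ O, j t9 * o * (j t9)⁻¹ = o⁻¹ := fun o ho => by
    obtain ⟨i, hi, c, hc, rfl, h5, h6⟩ := H59.decomp t2 (sq d9 (by decide +kernel))
      (fun o ho => (mem_Ce.1 (h1 ho)).symm)
      (fun o ho => by simpa only [ti] using h2 _ (cm t9 (by decide +kernel)) o ho) hm h3 ho
    rcases h6 with h6 | h6
    · obtain ⟨⟨p, q⟩, rfl⟩ := h.ct (mem_Ce.2 (mul_inv_eq_iff_eq_mul.1 (by rwa [ti])).symm)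
      have hι : Function.Injective (j.comp ι9) := h.inj.comp
        ((finSumFinEquiv (m := 6) (n := 3)).permCongrHom.injective.comp Perm.sumCongrHom_injective)
      have e1 : j t9 = (j.comp ι9) (swap 0 1 * swap 2 3 * swap 4 5, 1) :=
        congrArg j (by decide +kernel)
      have e2 : j d9 = (j.comp ι9) (swap 0 1 * swap 2 3, 1) := congrArg j (by decide +kernel)
      have h7 := h1 hc
      have h8 := h3 _ hc
      rw [e1, ← map_mul, ← map_mul, hι.eq_iff] at h6
      rw [e2, map_mem_Ce hι] at h7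
      rw [e2, ← map_pow, ← (j.comp ι9).map_one, hι.eq_iff, hι.eq_iff] at h8
      have p4 := (by decide +kernel : ∀ p : P6, p * (swap 0 1 * swap 2 3) = swap 0 1 * swap 2 3 * p →
        swap 0 1 * swap 2 3 * swap 4 5 * p * (swap 0 1 * swap 2 3 * swap 4 5) = p → p ^ 4 = 1) p
        (congrArg Prod.fst h7) (congrArg Prod.fst h6)
      have hp : p ∈ [1, swap 0 1 * swap 2 3] := by
        have : (p ^ m) ^ m = p := by
          obtain ⟨k, rfl⟩ := hm
          rw [← pow_mul, show (2 * k + 1) * (2 * k + 1) = 4 * (k * k + k) + 1 by ring, pow_succ,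
            pow_mul, p4, one_pow, one_mul]
        rcases h8 with e | e <;> rw [← this, show p ^ m = _ from congrArg Prod.fst e]
        · simp
        · simp [pow_odd (by decide : (swap 0 1 * swap 2 3 : P6) * (swap 0 1 * swap 2 3) = 1) hm]
      have hq : q ^ 3 = 1 := ((by decide : ∀ q : P3, q * q = 1 ∨ q ^ 3 = 1) q).elim (fun e => by
        rw [← pow_odd e hm, show q ^ m = 1 from h8.elim (congrArg Prod.snd) (congrArg Prod.snd),
          one_pow]) id
      rcases (by decide +kernel : ∀ p ∈ [(1 : P6), swap 0 1 * swap 2 3], ∀ q : P3, q ^ 3 = 1 →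
        (ι9 (p, q) = 1 ∨ ι9 (p, q) = d9) ∨ ∀ o ∈ [ι9 (p, q) * (swap 5 6 * ι9 (p, q) * (swap 5 6)⁻¹)],
          o * o = 1 ∧ o ≠ 1 ∧ o ≠ d9) p hp q hq with (e | e) | e
      · rw [MonoidHom.comp_apply, e, map_one, mul_one, ti, h5]
      · rw [MonoidHom.comp_apply, e, ← conj_mul, mem_Ce'.1 (cm t9 (by decide +kernel)), ti, h5,
          mul_inv_rev, inv_eq_of_mul_eq_one_right (sq d9 (by decide +kernel))]
        exact mem_Ce.1 (inv_mem (h1 hi))
      · obtain ⟨a1, a2, a3⟩ := e _ (List.mem_singleton_self _)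
        have := h3 _ (mul_mem hc (h2 _ (cm (swap 5 6) (by decide +kernel)) _ hc))
        rw [MonoidHom.comp_apply, ← map_inv, ← map_mul, ← map_mul, ← map_mul, ← map_pow,
          pow_odd a1 hm, ← j.map_one, h.inj.eq_iff, h.inj.eq_iff] at this
        exact (this.elim a2 a3).elim
    · refine absurd ((h.conj_iff (x := t9) (y := d9 * t9) (by decide +kernel)
        (by decide +kernel)).1 (isConj_iff.2 ⟨c⁻¹, ?_⟩)) (by decide +kernel)
      calc _ = c⁻¹ * (j t9 * c * j t9) * (j t9)⁻¹ := by group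
        _ = _ := by rw [h6, ti, map_mul, inv_mul_cancel_left]
  intro g hg
  obtain ⟨c, hc, o, ho, rfl, e⟩ := h4 g hg
  refine mul_mem (h.mem_of hc e) (h.se.cen (x := j (t9 * (swap 4 6 * t9 * (swap 4 6)⁻¹))) ⟨_, rfl⟩
    ((orderOf_injective j h.inj _).trans (ord3.2 (by decide +kernel))) (mem_top _) ?_)
  have a := inv _ (h2 _ (inv_mem (cm (swap 4 6) (by decide +kernel))) o ho)
  have b := inv _ (inv_mem ho)
  simp only [map_mul, map_inv]
  generalize j (swap 4 6) = k at a ⊢
  rw [eq_comm, ← mul_inv_eq_iff_eq_mul]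
  calc _ = j t9 * (k * (j t9 * (k⁻¹ * o * k⁻¹⁻¹) * (j t9)⁻¹) * k⁻¹) * (j t9)⁻¹ := by group
    _ = j t9 * o⁻¹ * (j t9)⁻¹ := by rw [a]; group
    _ = _ := by rw [b, inv_inv]

omit [Finite G] in
theorem cen_t : Ce (j t9) ≤ j.range := h.ct.trans fun _ ⟨x, hx⟩ => ⟨ι9 x, hx⟩

theorem cen_w : Ce (j w9) ≤ j.range := by
  have mD : ∀ x : P9, x * x = 1 → (j x ∈ {d | IsConj (j t9) d} ∪ {d | IsConj (j d9) d} ↔
      x.support.card = t9.support.card ∨ x.support.card = d9.support.card) := fun x hx =>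
    or_congr (h.conj_iff (by decide +kernel) hx) (h.conj_iff (by decide +kernel) hx)
  refine ((h.uf (by decide +kernel) h.cen_t).union
    (h.uf (by decide +kernel) h.cen_d)).cent_le_of_no_bad (a := j t9)
    (by rw [← map_mul, (by decide +kernel : w9 * w9 = 1), map_one]) ⟨_, rfl⟩ (.inl (IsConj.refl _))
    ⟨_, rfl⟩ (Commute.map (show t9 * w9 = w9 * t9 by decide +kernel) j) (fun y _ h1 h2 h3 h4 => ?_)
    fun Y _ _ _ => ⟨j d9, .inr (IsConj.refl _), ⟨_, rfl⟩,
      Commute.map (show d9 * w9 = w9 * d9 by decide +kernel) j, fun y _ e => absurd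
        ((h.conj_iff (by decide +kernel) (by decide +kernel)).1 (isConj_iff.2 ⟨y, e⟩))
        (by decide +kernel)⟩
  obtain ⟨⟨p, q⟩, rfl⟩ := h.ct (mem_Ce.2 h3)
  rw [MonoidHom.comp_apply] at *
  rw [commute_j h.inj] at h1 h3
  rw [orderOf_injective j h.inj, ord2, pow_two] at h2
  obtain ⟨a1, a2, a3⟩ := (by decide +kernel : ∀ p : P6, p * p = 1 → ι9 (p, 1) * t9 = t9 * ι9 (p, 1) →
    ∀ q : P3, ∀ y ∈ [ι9 (p, q)], y ≠ 1 → y * w9 = w9 * y → t9 * y * (t9 * y) = 1 ∧ y * w9 * (y * w9) = 1 ∧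
      ((t9 * y).support.card = t9.support.card ∨ (t9 * y).support.card = d9.support.card →
      (y.support.card = t9.support.card ∨ y.support.card = d9.support.card) ∨
        (y * w9).support.card = t9.support.card ∨ (y * w9).support.card = d9.support.card)) p
    (congrArg Prod.fst (((finSumFinEquiv (m := 6) (n := 3)).permCongrHom.injective.comp
      Perm.sumCongrHom_injective) (((map_mul ι9 (p, q) (p, q)).trans h2.1).trans ι9.map_one.symm)))
    (by
      have := (show Commute (ι9 (p, q)) t9 from h3).mul_left (Commute.inv_left ((by decide +kernel :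
        ∀ q : P3, ι9 (1, q) * t9 = t9 * ι9 (1, q)) q))
      rwa [← map_inv, ← map_mul, show (p, q) * (1, q)⁻¹ = (p, 1) by simp] at this)
    q _ (List.mem_singleton_self _) h2.2 h1
  rw [← map_mul, mD _ a1] at h4
  rw [← map_mul, mD _ h2.1, mD _ a2]
  exact a3 h4

theorem top : j.range = ⊤ := by
  have mD : ∀ x : P9, x * x = 1 → (j x ∈ {d | IsConj (j d9) d} ∪ {d | IsConj (j w9) d} ↔
      x.support.card = 4 ∨ x.support.card = 8) := fun x hx =>
    (or_congr (h.conj_iff (by decide +kernel) hx) (h.conj_iff (by decide +kernel) hx)).trans (by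
      rw [(by decide +kernel : d9.support.card = 4), (by decide +kernel : w9.support.card = 8)])
  rcases ((h.uf (by decide +kernel) h.cen_d).union (h.uf (by decide +kernel) h.cen_w)).key'
    (K := ⊤) (W := ⊥) (a := j d9) bot_le (fun k _ w hw => by rw [mem_bot] at hw ⊢; simp [hw])
    (.inl (IsConj.refl _)) ⟨_, rfl⟩ trivial (by
      rintro _ ⟨x, rfl⟩ - h2 h3 h4
      rw [commute_j h.inj] at h3
      rw [orderOf_injective j h.inj, ord2, pow_two] at h2
      have h5 : d9 * x * (d9 * x) = 1 := by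
        rw [← pow_two, h3.symm.mul_pow, pow_two x, h2.1, mul_one]; decide +kernel
      rw [← map_mul, mD _ h5, ← sign9 h5 fun e => by rw [e] at h4; simp at h4, map_mul,
        (by decide +kernel : Perm.sign d9 = 1), one_mul, sign9 h2.1 h2.2] at h4
      exact ⟨1, one_mem _, (mul_one (j x)).symm ▸ (mD _ h2.1).2 h4⟩) with e | ⟨Y, -, -, -, e⟩
  · exact top_le_iff.1 e
  · obtain ⟨y, -, e⟩ := e (j w9) (.inr (IsConj.refl _)) ⟨_, rfl⟩ trivial
    exact absurd ((h.conj_iff (by decide +kernel) (by decide +kernel)).1 (isConj_iff.2 ⟨y, e⟩))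
      (by decide +kernel)

end End

/-- `LOCAL3.md`, §1.8. -/
theorem job48BS : Job48BS.{u} := fun _ _ _ φ lam hS hu hB => by
  have h : Ctx φ lam := ⟨hS, hu, hB⟩
  obtain ⟨j, hj, hl, hφ, hF⟩ := h.exists_j
  have e : End j := ⟨hj, h.se_j hj hl hφ, by
    rw [(by decide +kernel : t9 = ι9 (swap 0 1 * swap 2 3 * swap 4 5, 1)), ← hl,
      ← MonoidHom.ext (g := j.comp ι9) hl]
    exact h.cen_t' (by decide) (by decide), hF⟩
  exact ⟨(MulEquiv.ofBijective j ⟨hj, MonoidHom.range_eq_top.1 e.top⟩).symm⟩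

end H21.L3
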