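import Cfsg.Agent.H21.L3C2

/-! `blueprints/LOCAL3.md`, §1.8: the types of involutions. -/

set_option autoImplicit false
set_option maxRecDepth 100000
set_option synthInstance.maxSize 4096

namespace H21.L3

open Cfsg Subgroup H98 H44 H56.L3 H42.L3 Equiv

universe u

theorem isConj_of_sq {α : Type*} [Fintype α] [DecidableEq α] {σ τ : Perm α} (h : σ * σ = 1)
    (h' : τ * τ = 1) (e : σ.support.card = τ.support.card) : IsConj σ τ := by
  by_cases h1 : σ = 1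
  · rw [h1, Perm.support_one, Finset.card_empty, eq_comm, Perm.card_support_eq_zero] at e
    rw [h1, e]
  · refine isConj_of_prime Nat.prime_two (ord2.2 ⟨(pow_two _).trans h, h1⟩)
      (ord2.2 ⟨(pow_two _).trans h', fun h2 => h1 ?_⟩) e
    rwa [h2, Perm.support_one, Finset.card_empty, Perm.card_support_eq_zero] at e

/-- the number of moved points in both factors -/
def sp (x : P6 × P3) : ℕ × ℕ := (x.1.support.card, x.2.support.card)

theorem isConj_of_sp {x y : P6 × P3} (h : x * x = 1) (h' : y * y = 1) (e : sp x = sp y) :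
    IsConj x y := by
  obtain ⟨a, ha⟩ := isConj_iff.1 (isConj_of_sq (congrArg Prod.fst h) (congrArg Prod.fst h')
    (congrArg Prod.fst e))
  obtain ⟨b, hb⟩ := isConj_iff.1 (isConj_of_sq (congrArg Prod.snd h) (congrArg Prod.snd h')
    (congrArg Prod.snd e))
  exact isConj_iff.2 ⟨(a, b), Prod.ext ha hb⟩

/-- `t` in `S₆` -/
def τ6 : P6 := swap 0 3 * swap 1 4 * swap 2 5

/-- `w = t r₃` -/
def w48 : M48 := K48.t * K48.r3

instance : DecidablePred (· ∈ (DD : Subgroup M48)) :=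
  fun m => inferInstanceAs (Decidable (m.k = 1 ∧ m.j.1 = m.j.2.1))

instance : DecidablePred (· ∈ DD ⊓ E3) := fun m => inferInstanceAs (Decidable (m ∈ DD ∧ m ∈ E3))

variable {G : Type u} [Group G] [Finite G] {φ : M48 →* G} {lam : P6 × P3 →* G}

theorem isSyl_model (h : Loc φ) {S : Subgroup M48} {y : M48} (hJ : ∀ m ∈ S, m.k = 1)
    (hc : cn (S.map φ) ≤ φ.range) (h1 : ∀ m ∈ S, m * y = y * m)
    (h2 : ∀ m, m * y = y * m → m.k ^ 3 = 1 → m ∈ S) : IsSyl 3 (S.map φ) (Ce (φ y)) := by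
  have h3 : S.map φ ≤ JI φ := map_mono hJ
  refine isSyl_of_isSyl_normalizer ⟨le_inf ?_ le_normalizer, JI_isPGroup.to_le h3,
    fun Q hQ h4 h5 => le_antisymm (fun x hx => ?_) h4⟩
  · rintro _ ⟨m, hm, rfl⟩
    exact (map_mem_Ce h.inj).2 (h1 m hm)
  obtain ⟨n, hn⟩ := fus_sub wk48 h h3 ((cj_eq_self (h5 hx).2).le.trans h3)
  obtain ⟨m, rfl⟩ : x ∈ φ.range := by simpa using φ.range.mul_mem ⟨n, rfl⟩ (hc hn)
  obtain ⟨n, hn⟩ := isPGroup_iff_forall.1 hQ _ hx
  rw [← map_pow, ← φ.map_one, h.inj.eq_iff] at hn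
  exact ⟨m, h2 m ((map_mem_Ce h.inj).1 (h5 hx).1)
    (wk48.cube (n := n) ((map_pow SD.π m _).symm.trans (congrArg SD.k hn))), rfl⟩

omit [Finite G] in
theorem cn_le_Ce {S : Subgroup M48} {m : M48} (hm : m ∈ S) : cn (S.map φ) ≤ Ce (φ m) :=
  fun _ hg => mem_Ce.2 (hg _ ⟨m, hm, rfl⟩).symm

theorem isSyl_E3 (h : Loc φ) : IsSyl 3 (E3.map φ) (Ce (φ K48.r3)) :=
  isSyl_model h (fun _ hm => hm.1) ((le_inf (cn_le_Ce (by decide)) (cn_le_Ce (by decide))).trans
    (p2_E h)) (by decide +kernel) (by decide +kernel)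

theorem isSyl_D (h : Loc φ) (hu : Ce (φ (vc 1 1 0)) ≤ φ.range) :
    IsSyl 3 (DD.map φ) (Ce (φ K48.t)) :=
  isSyl_model h (fun _ hm => hm.1) ((cn_le_Ce (by decide)).trans hu) (by decide +kernel)
    (by decide +kernel)

theorem isSyl_w (h : Loc φ) (hu : Ce (φ (vc 1 1 0)) ≤ φ.range) :
    IsSyl 3 ((DD ⊓ E3).map φ) (Ce (φ w48)) :=
  isSyl_model h (fun _ hm => hm.1.1) ((cn_le_Ce (by decide)).trans hu) (by decide +kernel)
    (by decide +kernel)

theorem nc_t (h : Loc φ) (hu : Ce (φ (vc 1 1 0)) ≤ φ.range) : ¬ IsConj (φ K48.r3) (φ K48.t) :=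
  fun e => (isConj_iff.1 e).elim (not_conj wk48 h (isSyl_D h hu) D_le_J (a := vc 1 0 0)
    (b := vc 0 1 0) rfl rfl ((map_mem_Ce h.inj).2 (by decide +kernel))
    ((map_mem_Ce h.inj).2 (by decide +kernel)) fun n h1 h2 => (by decide +kernel : ∀ n : M48,
      n * vc 1 0 0 * n⁻¹ ∈ DD → n * vc 0 1 0 * n⁻¹ ∉ DD) n ((mem_map_iff_mem h.inj).1 h1)
      ((mem_map_iff_mem h.inj).1 h2))

theorem nc_w (h : Loc φ) (hu : Ce (φ (vc 1 1 0)) ≤ φ.range) {x : G} {a : M48} (ha : a.k = 1)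
    (hx : φ a ∈ Ce x) (hn : ∀ n : M48, n * a * n⁻¹ ∉ DD ⊓ E3) : ¬ IsConj x (φ w48) :=
  fun e => (isConj_iff.1 e).elim (not_conj wk48 h (isSyl_w h hu) (map_mono fun _ hm => hm.1.1)
    ha ha hx hx fun n h1 _ => hn n ((mem_map_iff_mem h.inj).1 h1))

theorem nc_i (h : LocS φ) : ¬ IsConj (φ K48.r3) (φ K48.i) := fun e => by
  obtain ⟨g, hg⟩ := isConj_iff.1 e.symm
  have zp : ∀ m : M48, m ^ 3 = 1 → IsPGroup 3 (zpowers (φ m)) := fun m hm =>
    isPGroup_zpowers (k := 1) (by rw [pow_one, ← map_pow, hm, map_one])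
  obtain ⟨k, hk⟩ := exists_cj_le (isSyl_E3 h.toLoc) (zp K48.s (by decide +kernel))
    (zpowers_le.2 ((map_mem_Ce h.inj).2 (by decide +kernel))) hg
  obtain ⟨y, hy, ey⟩ := hk (conj_mem_cj (mem_zpowers _))
  have y1 : y ≠ 1 := by
    rintro rfl
    rw [map_one, eq_comm, conj_eq_one_iff, ← φ.map_one, h.inj.eq_iff] at ey
    exact absurd ey (by decide +kernel)
  have hJ : IsSyl 3 (JI φ) (Ce (φ y)) := isSyl_J wk48 h.toLoc (JI_le_Ce hy.1) fun m hm h3 => by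
    have := congrArg SD.j ((map_mem_Ce h.inj).1 hm)
    simp only [SD.mul_j, hy.1, one_smul] at this
    rw [add_comm] at this
    exact (by decide +kernel : ∀ k : K48, k ^ 3 = 1 → ∀ j : J3, j.2.2 = 0 → k • j = j →
      j = 0 ∨ k = 1) m.k h3 y.j hy.2 (add_right_cancel this) |>.resolve_left fun e =>
        y1 (SD.ext e hy.1)
  obtain ⟨c, hc, h1⟩ := hJ.exists_cj_le (isPGroup_cj k (zp (vc 1 1 1) (by decide +kernel))) (by
    rw [ey, ← cj_Ce]
    exact cj_mono k (zpowers_le.2 ((map_mem_Ce h.inj).2 (by decide +kernel))))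
  have h2 := h1 (conj_mem_cj (conj_mem_cj (mem_zpowers _)))
  have h3 : (c * k)⁻¹ ∈ φ.range := wc wk48 h.toLoc (le_trans (cj_le_iff.2 fun x hx => by
    rw [inv_inv, cj_Ce]
    exact mem_Ce.2 (by simpa [mul_assoc] using JI_le_cn h2 x hx)) h.scen)
  have h4 := conj_mem_of_mem_normalizer (h.nor.ge h3) (show φ y ∈ JI φ from ⟨y, hy.1, rfl⟩)
  rw [← mem_Ce'.1 hc, ey] at h4
  exact absurd ((mem_map_iff_mem h.inj).1 (show φ K48.s ∈ JI φ by
    simpa [mul_assoc] using h4)) (show ¬ K48.s.k = 1 by decide)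

/-- The hypotheses of `Job48BS`. -/
structure Ctx (φ : M48 →* G) (lam : P6 × P3 →* G) : Prop where
  hS : LocS φ
  hu : Ce (φ (vc 1 1 0)) ≤ φ.range
  hB : CaseB φ lam

namespace Ctx

variable (h : Ctx φ lam)
include h

omit [Finite G] in
theorem loc : Loc φ := h.hS.toLoc

omit [Finite G] in
theorem d_eq : φ K48.d = lam (swap 1 2 * swap 4 5, 1) := by
  rw [(by decide +kernel : K48.d = K48.r1 * K48.r2), map_mul, h.hB.r1, h.hB.r2, ← map_mul]; rfl

omit [Finite G] in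
theorem i_eq : φ K48.i = lam (swap 1 2 * swap 4 5, swap 1 2) := by
  rw [(by decide +kernel : K48.i = K48.d * K48.r3), map_mul, h.d_eq, h.hB.r3, ← map_mul]; rfl

omit [Finite G] in
theorem w_eq : φ w48 = lam (τ6, swap 1 2) := by
  rw [w48, map_mul, h.hB.t, h.hB.r3, ← map_mul]; rfl

theorem Ce_e3 : Ce (φ (vc 0 0 1)) ≤ lam.range := Ce_le_nr.trans h.hB.nor.le

theorem isSyl_d : IsSyl 3 (zpowers (φ (vc 0 0 1))) (Ce (φ K48.d)) := by
  refine isSyl_zpowers ((map_mem_Ce h.loc.inj).2 (by decide +kernel))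
    ((orderOf_injective φ h.loc.inj _).trans (ord3.2 (by decide +kernel))) ?_
  rintro g ⟨h1, h2⟩ ⟨k, hk⟩
  obtain ⟨⟨p, q⟩, rfl⟩ := h.Ce_e3 h2
  rw [h.d_eq] at h1
  rw [h.hB.e3] at h2 ⊢
  rw [← map_pow, ← lam.map_one, h.hB.inj.eq_iff] at hk
  have h3 := (by decide +kernel : ∀ p : P6, p * (swap 1 2 * swap 4 5) = swap 1 2 * swap 4 5 * p →
    p ^ 4 = 1) p (congrArg Prod.fst ((map_mem_Ce h.hB.inj).1 h1))
  obtain rfl : p = 1 := orderOf_eq_one_iff.1 (Nat.eq_one_of_dvd_coprimes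
    (Nat.Coprime.pow_right k (by decide : Nat.Coprime 4 3)) (orderOf_dvd_of_pow_eq_one h3)
    (orderOf_dvd_of_pow_eq_one (congrArg Prod.fst hk)))
  obtain ⟨i, -, rfl⟩ := (by decide : ∀ q : P3, q * c3 = c3 * q → ∃ i < 3, q = c3 ^ i) q
    (congrArg Prod.snd ((map_mem_Ce h.hB.inj).1 h2))
  rw [show ((1, c3 ^ i) : P6 × P3) = (1, c3) ^ i by simp, map_pow]
  exact pow_mem (mem_zpowers _) i

theorem nc_d {x : G} {a b : M48} (ha : a.k = 1) (hb : b.k = 1) (h1 : φ a ∈ Ce x)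
    (h2 : φ b ∈ Ce x) (hn : ∀ n : M48, (n * a * n⁻¹).j.1 = 0 → (n * a * n⁻¹).j.2.1 = 0 →
      (n * b * n⁻¹).j.1 = 0 → (n * b * n⁻¹).j.2.1 ≠ 0) : ¬ IsConj x (φ K48.d) := fun e => by
  have key : ∀ m : M48, φ m ∈ zpowers (φ (vc 0 0 1)) → m.j.1 = 0 ∧ m.j.2.1 = 0 := fun m hm => by
    rw [← MonoidHom.map_zpowers, mem_map_iff_mem h.loc.inj] at hm
    rcases H52.L3.mem_zp3 (by decide +kernel) hm with rfl | rfl | rfl <;> decide +kernel
  exact (isConj_iff.1 e).elim (not_conj wk48 h.loc h.isSyl_d (zpowers_le.2 ⟨_, rfl, rfl⟩) ha hb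
    h1 h2 fun n h3 h4 => hn n (key _ h3).1 (key _ h3).2 (key _ h4).1 (key _ h4).2)

theorem r_d : ¬ IsConj (φ K48.r3) (φ K48.d) :=
  h.nc_d (a := vc 1 0 0) (b := vc 0 1 0) rfl rfl ((map_mem_Ce h.loc.inj).2 (by decide +kernel))
    ((map_mem_Ce h.loc.inj).2 (by decide +kernel)) (by decide +kernel)

theorem t_d : ¬ IsConj (φ K48.t) (φ K48.d) :=
  h.nc_d (a := vc 1 1 0) (b := vc 1 1 0) rfl rfl ((map_mem_Ce h.loc.inj).2 (by decide +kernel))
    ((map_mem_Ce h.loc.inj).2 (by decide +kernel)) (by decide +kernel)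

theorem r_w : ¬ IsConj (φ K48.r3) (φ w48) :=
  nc_w h.loc h.hu (a := vc 1 0 0) rfl ((map_mem_Ce h.loc.inj).2 (by decide +kernel))
    (by decide +kernel)

theorem t_w : ¬ IsConj (φ K48.t) (φ w48) :=
  nc_w h.loc h.hu (a := vc 0 0 1) rfl ((map_mem_Ce h.loc.inj).2 (by decide +kernel))
    (by decide +kernel)

theorem d_w : ¬ IsConj (φ K48.d) (φ w48) :=
  nc_w h.loc h.hu (a := vc 0 0 1) rfl ((map_mem_Ce h.loc.inj).2 (by decide +kernel))
    (by decide +kernel)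

omit [Finite G] in
theorem ty_t {x : P6 × P3} (hx : x * x = 1) (e : sp x = (6, 0)) : IsConj (φ K48.t) (lam x) :=
  h.hB.t ▸ lam.map_isConj (isConj_of_sp (by decide) hx (e ▸ by decide))

omit [Finite G] in
theorem ty_i {x : P6 × P3} (hx : x * x = 1) (e : sp x = (4, 2)) : IsConj (φ K48.i) (lam x) :=
  h.i_eq ▸ lam.map_isConj (isConj_of_sp (by decide) hx (e ▸ by decide))

omit [Finite G] in
theorem ty_w {x : P6 × P3} (hx : x * x = 1) (e : sp x = (6, 2)) : IsConj (φ w48) (lam x) :=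
  h.w_eq ▸ lam.map_isConj (isConj_of_sp (by decide) hx (e ▸ by decide))

omit [Finite G] in
theorem ty_d {x : P6 × P3} (hx : x * x = 1) (e : sp x = (4, 0) ∨ sp x = (2, 2)) :
    IsConj (φ K48.d) (lam x) := by
  rcases e with e | e
  · exact h.d_eq ▸ lam.map_isConj (isConj_of_sp (by decide) hx (e ▸ by decide))
  · refine (φ.map_isConj (b := K48.r1 * K48.r3) (isConj_iff.2 ⟨K48.s⁻¹, by decide +kernel⟩)).trans ?_
    rw [map_mul, h.hB.r1, h.hB.r3, ← map_mul]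
    exact lam.map_isConj (isConj_of_sp (by decide) hx (e ▸ by decide))

omit [Finite G] in
theorem ty_r {x : P6 × P3} (hx : x * x = 1) (e : sp x = (2, 0) ∨ sp x = (0, 2)) :
    IsConj (φ K48.r3) (lam x) := by
  rcases e with e | e
  · refine (φ.map_isConj (b := K48.r1) (isConj_iff.2 ⟨K48.s, by decide +kernel⟩)).trans ?_
    exact h.hB.r1 ▸ lam.map_isConj (isConj_of_sp (by decide) hx (e ▸ by decide))
  · exact h.hB.r3 ▸ lam.map_isConj (isConj_of_sp (by decide) hx (e ▸ by decide))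

/-- The conjugates of `r₃` in `S₆ × S₃` are the transpositions. -/
theorem of_r {x : P6 × P3} (e : IsConj (φ K48.r3) (lam x)) :
    x * x = 1 ∧ (sp x = (2, 0) ∨ sp x = (0, 2)) := by
  obtain ⟨g, hg⟩ := isConj_iff.1 e
  have hx : x * x = 1 := h.hB.inj (by
    rw [map_mul, ← hg, conj_mul, ← map_mul, (by decide +kernel : K48.r3 * K48.r3 = 1)]; simp)
  refine ⟨hx, ?_⟩
  have h1 := (by decide +kernel : ∀ p : P6, p * p = 1 → p.support.card = 0 ∨ p.support.card = 2 ∨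
    p.support.card = 4 ∨ p.support.card = 6) x.1 (congrArg Prod.fst hx)
  have h2 := (by decide : ∀ q : P3, q * q = 1 → q.support.card = 0 ∨ q.support.card = 2) x.2
    (congrArg Prod.snd hx)
  rcases h1 with a | a | a | a <;> rcases h2 with b | b
  · rw [show x = 1 from Prod.ext (Perm.card_support_eq_zero.1 a) (Perm.card_support_eq_zero.1 b),
      map_one, conj_eq_one_iff, ← φ.map_one, h.loc.inj.eq_iff] at hg
    exact absurd hg (by decide)
  · exact .inr (Prod.ext a b)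
  · exact .inl (Prod.ext a b)
  · exact absurd (e.trans (h.ty_d hx (.inr (Prod.ext a b))).symm) h.r_d
  · exact absurd (e.trans (h.ty_d hx (.inl (Prod.ext a b))).symm) h.r_d
  · exact absurd (e.trans (h.ty_i hx (Prod.ext a b)).symm) (nc_i h.hS)
  · exact absurd (e.trans (h.ty_t hx (Prod.ext a b)).symm) (nc_t h.loc h.hu)
  · exact absurd (e.trans (h.ty_w hx (Prod.ext a b)).symm) h.r_w

end Ctx

end H21.L3
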