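import Cfsg.Agent.H90.SL25
import Cfsg.Agent.H52.L3W
import Cfsg.Agent.H42.L3T
import Cfsg.Agent.H46.Prod

/-! `blueprints/LOCAL3C.md`, §1.1: facts on `SL₂(5)` and general lemmas. -/

set_option autoImplicit false
set_option maxRecDepth 100000
set_option synthInstance.maxSize 4096

namespace H21.MC

open Cfsg Subgroup H98 H56.L3 H42.L3 H90

attribute [local instance 2000] List.decidableBAll List.decidableBEx

def mk5 (a b c d : Fin 5) (h : a * d - b * c = 1) : SL5 :=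
  ⟨(!![a, b; c, d] : Matrix (Fin 2) (Fin 2) (ZMod 5)), (Matrix.det_fin_two_of _ _ _ _).trans h⟩

theorem eq_mk5 (x : SL5) : ∃ a b c d h, x = mk5 a b c d h :=
  ⟨x.1 0 0, x.1 0 1, x.1 1 0, x.1 1 1, (Matrix.det_fin_two x.1).symm.trans x.2,
    Subtype.ext (Matrix.eta_fin_two x.1)⟩

scoped instance (priority := high) allS (p : SL5 → Prop) [DecidablePred p] : Decidable (∀ x, p x) :=
  decidable_of_iff (∀ a b c d h, p (mk5 a b c d h))
    ⟨fun h x => by obtain ⟨a, b, c, d, e, rfl⟩ := eq_mk5 x; exact h a b c d e, fun h _ _ _ _ _ => h _⟩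

scoped instance (priority := high) exS (p : SL5 → Prop) [DecidablePred p] : Decidable (∃ x, p x) :=
  decidable_of_iff (∃ a b c d h, p (mk5 a b c d h))
    ⟨fun ⟨_, _, _, _, _, h⟩ => ⟨_, h⟩,
      fun ⟨x, h⟩ => by obtain ⟨a, b, c, d, e, rfl⟩ := eq_mk5 x; exact ⟨a, b, c, d, e, h⟩⟩

scoped instance (priority := high) eqS : DecidableEq SL5 := fun x y =>
  decidable_of_iff (x.1 0 0 = y.1 0 0 ∧ x.1 0 1 = y.1 0 1 ∧ x.1 1 0 = y.1 1 0 ∧ x.1 1 1 = y.1 1 1)
    ⟨fun h => Subtype.ext (by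
      rw [Matrix.eta_fin_two x.1, Matrix.eta_fin_two y.1, h.1, h.2.1, h.2.2.1, h.2.2.2]),
      fun h => by simp [h]⟩

theorem sl_ord : ∀ x : SL5, x ^ 3 = 1 ∨ (∃ k ∈ [1, 2, 3, 5], x ^ k = -1) ∨ (x ^ 5 = 1 ∧ x ≠ 1) := by
  decide +kernel

theorem sl_inv : ∀ x : SL5, x * x = 1 → x = 1 ∨ x = -1 := by decide +kernel

theorem sl_three : ∀ x : SL5, x ^ 3 = 1 → x ≠ 1 → (∃ y, y * x = x * x * y ∧ y * y = -1) ∧
    ∃ g, ∀ i < 3, g * x ≠ x ^ i * g := by decide +kernel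

theorem sl_nf : ∀ x : SL5, x ^ 3 = 1 → x ≠ 1 → ∀ y, y * y = -1 → y * x = x * x * y →
    ∀ y', y' * y' = -1 → y' * x = x * x * y' → ∃ i < 3, y' = x ^ i * y ∨ y' * y = x ^ i := by
  decide +kernel

variable {G : Type*} [Group G] {A B Q T X : Subgroup G} {a g q z : G}

theorem pow_conj (h : g * q * g⁻¹ = a * q) (hc : g * a = a * g) (n : ℕ) :
    g ^ n * q * (g ^ n)⁻¹ = a ^ n * q := by
  induction n with
  | zero => simp
  | succ n ih =>
    calc _ = g * (g ^ n * q * (g ^ n)⁻¹) * g⁻¹ := by group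
      _ = g * a ^ n * g⁻¹ * (g * q * g⁻¹) := by rw [ih]; group
      _ = _ := by rw [h, ((show Commute g a from hc).pow_right n).eq]; group

theorem comm_of_coprime (h : g * q * g⁻¹ = a * q) (hc : g * a = a * g) (h3 : a ^ 3 = 1) {n : ℕ}
    (hn : g ^ n = 1) (ho : n.Coprime 3) : g * q = q * g := by
  have h1 := pow_conj h hc n
  rw [hn, one_mul, inv_one, mul_one, eq_comm, mul_eq_right] at h1
  rwa [(pow_eq_one_iff_of_coprime ho).1 ⟨h1, h3⟩, one_mul, mul_inv_eq_iff_eq_mul] at h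

/-- the elements that fix `q` modulo `A` -/
def St (A : Subgroup G) (q : G) : Subgroup G where
  carrier := {l | l ∈ nr A ∧ l * q * l⁻¹ * q⁻¹ ∈ A}
  mul_mem' {l k} h h' := ⟨mul_mem h.1 h'.1, by
    convert A.mul_mem (conj_mem_of_mem_normalizer h.1 h'.2) h.2 using 1; group⟩
  one_mem' := ⟨one_mem _, by simp⟩
  inv_mem' {l} h := ⟨inv_mem h.1, by
    convert conj_mem_of_mem_normalizer (inv_mem h.1) (A.inv_mem h.2) using 1; group⟩

/-- the elements of `Q` that are fixed by `l` modulo `A` -/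
def Fx (Q A : Subgroup G) (l : G) : Subgroup G where
  carrier := {q | q ∈ Q ⊓ nr A ∧ l * q * l⁻¹ * q⁻¹ ∈ A}
  mul_mem' {q r} h h' := ⟨mul_mem h.1 h'.1, by
    convert A.mul_mem h.2 (conj_mem_of_mem_normalizer h.1.2 h'.2) using 1; group⟩
  one_mem' := ⟨one_mem _, by simp⟩
  inv_mem' {q} h := ⟨inv_mem h.1, by
    convert conj_mem_of_mem_normalizer (inv_mem h.1.2) (A.inv_mem h.2) using 1; group⟩

variable [Finite G]

theorem card_mul_le (h1 : A ≤ Q) (h2 : B ≤ Q) :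
    Nat.card A * Nat.card B ≤ Nat.card Q * Nat.card (B ⊓ A : Subgroup G) := by
  rw [← H46.card_inf_mul_relIndex B A, ← H46.card_mul_relIndex h2]
  have := relIndex_le_of_le_right h1 (show B.relIndex Q ≠ 0 from index_ne_zero_of_finite)
  nlinarith [Nat.mul_le_mul_left (Nat.card (B ⊓ A : Subgroup G) * Nat.card B) this]

theorem eq_of_index_three (h1 : A ≤ X) (h2 : X ≤ T) (h : Nat.card T = 3 * Nat.card A)
    (h3 : ¬ X ≤ A) : X = T := by
  have h4 := relIndex_mul_relIndex A X T h1 h2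
  have h5 := H46.card_mul_relIndex (h1.trans h2)
  rw [h, mul_comm 3, Nat.mul_right_inj Nat.card_pos.ne'] at h5
  rw [h5] at h4
  rcases (Nat.dvd_prime Nat.prime_three).1 (Dvd.intro _ h4) with e | e
  · exact absurd (relIndex_eq_one.1 e) h3
  · rw [e] at h4
    exact le_antisymm h2 (relIndex_eq_one.1 (by omega))

end H21.MC
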