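import Cfsg.Agent.H21.McA
import Cfsg.Agent.H2.CoreFree
import Cfsg.Agent.H47.McLSp

/-! `blueprints/LOCAL3C.md`, §1.1, steps 2 to 7. -/

set_option autoImplicit false
set_option maxRecDepth 100000

namespace H21.MC

open Cfsg Subgroup H98 H56.L3 H42.L3 H90

variable {G : Type*} [Group G] [Finite G]

/-- the structure of `N(⟨z⟩)` -/
structure Bas (S Q L : Subgroup G) (z : G) (π : L →* SL5) : Prop where
  ord : orderOf z = 3
  zQ : z ∈ Q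
  cm : ∀ a ∈ Q, ∀ b ∈ Q, a * b * a⁻¹ * b⁻¹ ∈ zpowers z
  Lz : L ≤ Ce z
  cQ : cn Q ≤ Q
  cardQ : Nat.card Q = 243
  expQ : ∀ a ∈ Q, a ^ 3 = 1
  ab : ∀ A ≤ Q, A ≤ cn A → Nat.card A ≤ 27
  QS : Q ≤ S
  SL : S ≤ L
  syl : IsSyl 3 S ⊤
  nQ : Nz z ≤ nr Q
  nL : Nz z ≤ nr L
  nS : nr S ≤ Nz z
  three : ∀ g ∈ Nz z, ∀ k, g ^ 3 ^ k = 1 → g ∈ L
  surj : Function.Surjective π
  ker : ∀ g, π g = 1 ↔ (g : G) ∈ Q

namespace Bas

variable {S Q L A B J P : Subgroup G} {z g j l q s : G} {π : L →* SL5} (h : Bas S Q L z π)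
include h

omit [Finite G] in
theorem QL : Q ≤ L := h.QS.trans h.SL

theorem LN : L ≤ Nz z := h.Lz.trans Ce_le_nr

omit [Finite G] in
theorem z3 : z ^ 3 = 1 := h.expQ z h.zQ

omit [Finite G] in
theorem ZQ : zpowers z ≤ Q := zpowers_le.2 h.zQ

omit [Finite G] in
theorem cardZ : Nat.card (zpowers z) = 3 := by rw [Nat.card_zpowers, h.ord]

omit [Finite G] in
theorem cardL : Nat.card L = 29160 := by
  have : π.ker = Q.subgroupOf L := Subgroup.ext h.ker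
  rw [← π.ker.card_mul_index, index_ker, MonoidHom.range_eq_top.2 h.surj, card_top, this,
    Nat.card_congr (subgroupOfEquivOfLe h.QL).toEquiv, h.cardQ, card_SL5]

omit [Finite G] in
theorem cube_of {l : L} {n : ℕ} (e : π l ^ n = 1) : ((l : G) ^ n) ^ 3 = 1 :=
  h.expQ _ ((h.ker (l ^ n)).1 ((map_pow π l n).trans e))

theorem sylL : IsSyl 3 S L := h.syl.of_le h.SL le_top

theorem cardS : Nat.card S = 729 := by
  rw [h.sylL.card_eq, h.cardL, ← Nat.primeFactorsList_count_eq]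
  simp

theorem gen (hs : s ∈ S) (h1 : s ∉ Q) (h2 : Q ≤ P) (h3 : s ∈ P) : S ≤ P :=
  (eq_of_index_three (le_inf h.QS h2) inf_le_left (by rw [h.cardS, h.cardQ])
    fun e => h1 (e ⟨hs, h3⟩)).ge.trans inf_le_right

omit [Finite G] in
theorem comm_Z (hl : l ∈ Ce z) (hq : q ∈ zpowers z) : l * q = q * l := by
  obtain ⟨k, rfl⟩ := hq
  exact (show Commute l z from mem_Ce.1 hl).zpow_right k

theorem Q_le_St (hq : q ∈ Q) : Q ≤ St (zpowers z) q := fun a ha =>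
  ⟨h.LN (h.QL ha), h.cm a ha q hq⟩

omit [Finite G] in
theorem comm_St (hl : l ∈ Ce z) (h1 : l ∈ St (zpowers z) q) {n : ℕ} (hn : l ^ n = 1)
    (ho : n.Coprime 3) : l * q = q * l :=
  comm_of_coprime (inv_mul_cancel_right _ _).symm (h.comm_Z hl h1.2) (h.expQ _ (h.ZQ h1.2)) hn ho

theorem inf_Ce_eq {U : Subgroup G} (h1 : zpowers z ≤ U) (h2 : U ≤ Q) (h3 : Nat.card U % 5 = 3)
    (h4 : ¬ Q ≤ U) : U ≤ zpowers z := by
  have h5 : Nat.card U ∣ 3 ^ 5 := (card_dvd_of_le h2).trans h.cardQ.dvd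
  obtain ⟨k, hk, e⟩ := (Nat.dvd_prime_pow Nat.prime_three).1 h5
  refine (eq_of_le_of_card_ge h1 ?_).ge
  have h6 : Nat.card U ≠ 243 := fun e => h4 (eq_of_le_of_card_ge h2 (by rw [h.cardQ, e])).ge
  rw [h.cardZ]
  rw [e] at h3 h6 ⊢
  interval_cases k <;> simp_all

omit [Finite G] in
theorem not_le_Ce {n : ℕ} (hn : l ^ n = 1) (ho : n.Coprime 3) (h1 : l ≠ 1) : ¬ Q ≤ Q ⊓ Ce l :=
  fun e => h1 ((pow_eq_one_iff_of_coprime ho).1
    ⟨hn, h.expQ l (h.cQ fun q hq => mem_Ce.1 (e hq).2)⟩)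

theorem modEq (h5 : l ^ 5 = 1) {U : Subgroup G} (hU : l ∈ nr U) :
    Nat.card U % 5 = Nat.card (U ⊓ Ce l : Subgroup G) % 5 := by
  have := Fact.mk Nat.prime_five
  have := H2.card_modEq_card_inf_centralizer (isPGroup_zpowers (p := 5) (k := 1) h5)
    (zpowers_le.2 hU)
  rwa [zpowers_eq_closure, centralizer_closure] at this

omit [Finite G] in
theorem Z_le (hl : l ∈ L) : zpowers z ≤ Q ⊓ Ce l :=
  zpowers_le.2 ⟨h.zQ, mem_Ce.2 (mem_Ce.1 (h.Lz hl)).symm⟩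

theorem five (hl : l ∈ L) (h5 : l ^ 5 = 1) (h1 : l ≠ 1) : Q ⊓ Ce l ≤ zpowers z :=
  h.inf_Ce_eq (h.Z_le hl) inf_le_left (by rw [← h.modEq h5 (h.nQ (h.LN hl)), h.cardQ])
    (h.not_le_Ce h5 (by decide) h1)

theorem two : ∃ t : L, (t : G) ^ 2 = 1 ∧ π t = -1 ∧ Q ⊓ Ce (t : G) ≤ zpowers z := by
  obtain ⟨c, hc⟩ := h.surj (mk5 4 4 0 4 (by decide))
  have h1 : ((c ^ 21 : L) : G) ^ 10 = 1 := by
    rw [coe_pow, ← pow_mul, show 21 * 10 = 10 * 3 * 7 by rfl, pow_mul, pow_mul,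
      h.cube_of (by rw [hc]; decide +kernel), one_pow]
  have h2 : π (c ^ 21) = mk5 4 4 0 4 (by decide) := by
    rw [map_pow, hc, show 21 = 10 * 2 + 1 by rfl, pow_succ, pow_mul,
      (by decide +kernel : mk5 4 4 0 4 (by decide) ^ 10 = 1), one_pow, one_mul]
  generalize c ^ 21 = d at h1 h2
  have h3 : ∀ k, π (d ^ k) ≠ 1 → ((d ^ k : L) : G) ≠ 1 := fun k e e' =>
    e (by rw [show d ^ k = 1 from Subtype.ext e', map_one])
  have h4 : ((d ^ 5 : L) : G) ^ 2 = 1 := (pow_mul (d : G) 5 2).symm.trans h1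
  have h5 : ((d ^ 2 : L) : G) ^ 5 = 1 := (pow_mul (d : G) 2 5).symm.trans h1
  have h6 := h.five (d ^ 2).2 h5 (h3 2 (by rw [map_pow, h2]; decide +kernel))
  refine ⟨d ^ 5, h4, by rw [map_pow, h2]; decide +kernel, h.inf_Ce_eq (h.Z_le (d ^ 5).2)
    inf_le_left ?_ (h.not_le_Ce h4 (by decide) (h3 5 (by rw [map_pow, h2]; decide +kernel)))⟩
  rw [h.modEq h5 (inf_normalizer_le_normalizer_inf ⟨h.nQ (h.LN (d ^ 2).2), le_normalizer
      (mem_Ce.2 (congrArg Subtype.val (Commute.pow_pow_self d 2 5).eq))⟩),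
    le_antisymm ((inf_le_inf_right _ inf_le_left).trans h6)
      (le_inf (h.Z_le (d ^ 5).2) ((h.Z_le (d ^ 2).2).trans inf_le_right)), h.cardZ]

/-- The stabiliser of a non-zero vector of `Q / Z` is a `3`-group. -/
theorem cube {l : L} (hq : q ∈ Q) (h1 : q ∉ zpowers z) (hl : (l : G) ∈ St (zpowers z) q) :
    π l ^ 3 = 1 := by
  rcases sl_ord (π l) with e | ⟨k, -, e⟩ | ⟨e, e'⟩
  · exact e
  · obtain ⟨t, h2, h3, h4⟩ := h.two
    have h5 := (h.ker (l ^ k * t⁻¹)).1 (by rw [map_mul, map_pow, map_inv, e, h3, mul_inv_cancel])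
    have h6 := (St _ q).inv_mem_iff.1 ((mul_mem_cancel_left (pow_mem hl k)).1 (h.Q_le_St hq h5))
    exact absurd (h4 ⟨hq, mem_Ce.2 (h.comm_St (h.Lz t.2) h6 h2 (by decide)).symm⟩) h1
  · have h2 : ((l : G) ^ 6) ^ 5 = 1 := by
      rw [← pow_mul, show 6 * 5 = 5 * 3 * 2 by rfl, pow_mul, pow_mul,
        h.cube_of e, one_pow]
    refine absurd (h.five (pow_mem l.2 6) h2 (fun e'' => e' ?_) ⟨hq, mem_Ce.2 (h.comm_St
      (h.Lz (pow_mem l.2 6)) (pow_mem hl 6) h2 (by decide)).symm⟩) h1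
    have := map_pow π l 6
    rwa [show l ^ 6 = 1 from Subtype.ext e'', map_one, pow_succ, e, one_mul, eq_comm] at this

theorem St_p (hq : q ∈ Q) (h1 : q ∉ zpowers z) : IsPGroup 3 (L ⊓ St (zpowers z) q : Subgroup G) :=
  isPGroup_iff_forall.2 fun l hl => ⟨2, by
    rw [pow_two, pow_mul, h.cube_of (l := ⟨l, hl.1⟩) (h.cube hq h1 hl.2)]⟩

theorem St_le (hq : q ∈ Q) (h1 : q ∉ zpowers z) (hs : s ∈ S) (h2 : s ∉ Q)
    (h3 : s ∈ St (zpowers z) q) : L ⊓ St (zpowers z) q = S :=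
  h.syl.eq_of_le (h.St_p hq h1) (h.gen hs h2 (le_inf h.QL (h.Q_le_St hq)) ⟨h.SL hs, h3⟩) le_top

theorem mem_Fx : q ∈ Fx Q (zpowers z) l ↔ q ∈ Q ∧ l * q * l⁻¹ * q⁻¹ ∈ zpowers z :=
  ⟨fun e => ⟨e.1.1, e.2⟩, fun e => ⟨⟨e.1, h.LN (h.QL e.1)⟩, e.2⟩⟩

theorem Z_le_Fx (hl : l ∈ L) : zpowers z ≤ Fx Q (zpowers z) l := fun q hq =>
  h.mem_Fx.2 ⟨h.ZQ hq, by rw [h.comm_Z (h.Lz hl) hq]; simp⟩

theorem π_cube (hs : s ∈ S) : π ⟨s, h.SL hs⟩ ^ 3 = 1 := by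
  obtain ⟨k, hk⟩ := isPGroup_iff_forall.1 h.syl.isPGroup s hs
  have h1 : π ⟨s, h.SL hs⟩ ^ 3 ^ k = 1 := by
    rw [← map_pow, show (⟨s, h.SL hs⟩ : L) ^ 3 ^ k = 1 from Subtype.ext hk, map_one]
  have h2 := pow_card_eq_one' (x := π ⟨s, h.SL hs⟩)
  rw [card_SL5] at h2
  obtain ⟨i, hi, e⟩ := (Nat.dvd_prime_pow Nat.prime_three).1 (orderOf_dvd_of_pow_eq_one h1)
  have h3 := orderOf_dvd_of_pow_eq_one h2
  rw [← orderOf_dvd_iff_pow_eq_one]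
  rw [e] at h3 ⊢
  rcases i with _ | _ | i
  · simp
  · simp
  · exact absurd ((Dvd.intro_left (3 ^ i) (by ring)).trans h3) (by decide : ¬ 9 ∣ 120)

theorem exists_pow (hs : s ∈ S) (h1 : s ∉ Q) (hg : g ∈ S) :
    ∃ i < 3, π ⟨g, h.SL hg⟩ = π ⟨s, h.SL hs⟩ ^ i := by
  obtain ⟨a, ha, _, ⟨k, rfl⟩, rfl⟩ := (mem_sup_right_norm (zpowers_le.2 (h.nQ (h.LN (h.SL hs))))).1
    (h.gen hs h1 le_sup_left (mem_sup_right (mem_zpowers s)) hg)
  have e : π ⟨a * s ^ k, h.SL hg⟩ = π ⟨s, h.SL hs⟩ ^ k := by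
    rw [show (⟨a * s ^ k, h.SL hg⟩ : L) = ⟨a, h.QL ha⟩ * ⟨s, h.SL hs⟩ ^ k from rfl, map_mul,
      (h.ker _).2 ha, one_mul, map_zpow]
  have h3 := h.π_cube hs
  rcases H52.L3.mem_zp3 h3 ⟨k, e.symm⟩ with e' | e' | e'
  exacts [⟨0, by decide, e'⟩, ⟨1, by decide, e'.trans (pow_one _).symm⟩, ⟨2, by decide,
    e'.trans (eq_inv_of_mul_eq_one_left ((pow_succ _ 2).symm.trans h3)).symm⟩]

theorem card_Fx (hs : s ∈ S) (h1 : s ∉ Q) : Nat.card (Fx Q (zpowers z) s) ≤ 27 := by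
  obtain ⟨g, hg⟩ := (sl_three _ (h.π_cube hs) fun e => h1 ((h.ker _).1 e)).2
  obtain ⟨g, rfl⟩ := h.surj g
  have h2 : cj (g : G) (Fx Q (zpowers z) s) ⊓ Fx Q (zpowers z) s ≤ zpowers z := by
    rintro _ ⟨⟨q, hq, rfl⟩, h3⟩
    by_contra h4
    have h6 := L.mul_mem (L.mul_mem g.2 (h.SL hs)) (L.inv_mem g.2)
    have h5 : g * s * (g : G)⁻¹ ∈ S := (h.St_le h3.1.1 h4 hs h1 ⟨h.LN (h.SL hs), h3.2⟩).le
      ⟨h6, h.LN h6, by
        convert conj_mem_of_mem_normalizer (h.LN g.2) hq.2 using 1; simp [mul_assoc]⟩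
    obtain ⟨i, hi, e⟩ := h.exists_pow hs h1 h5
    exact hg i hi (by rw [← e, ← map_mul, ← map_mul]; exact congrArg π (Subtype.ext (by simp)))
  have h3 : Fx Q (zpowers z) s ≤ Q := fun _ hq => hq.1.1
  have h4 := card_mul_le h3 (cj_le_of_le h3 (h.nQ (h.LN g.2)))
  have h5 := card_le_of_le h2
  rw [card_cj, h.cardQ] at h4
  rw [h.cardZ] at h5
  nlinarith

theorem ab81 (hB : B ≤ S) (hc : B ≤ cn B) (h81 : Nat.card B = 81) :
    Nat.card (B ⊓ Q : Subgroup G) = 27 ∧ ¬ B ≤ Q ∧ (∀ s ∈ S, s ∉ Q → B ⊓ Q = Fx Q (zpowers z) s) ∧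
      Q ⊓ cn (B ⊓ Q) ≤ B ∧ S ⊓ cn (B ⊓ Q) = B := by
  have c1 : B ⊓ Q ≤ cn (B ⊓ Q) := inf_le_left.trans (hc.trans (centralizer_anti inf_le_left))
  have h1 := card_mul_le h.QS hB
  have h2 := h.ab _ inf_le_right c1
  rw [h81, h.cardQ, h.cardS] at h1
  have h3 : Nat.card (B ⊓ Q : Subgroup G) = 27 := by omega
  have h4 : ¬ B ≤ Q := fun e => by rw [inf_eq_left.2 e] at h3; omega
  have h5 : Q ⊓ cn (B ⊓ Q) ≤ B ⊓ Q := fun c hc' => by
    have a1 : B ⊓ Q ⊔ zpowers c ≤ cn (B ⊓ Q) := sup_le c1 (zpowers_le.2 hc'.2)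
    have a2 : zpowers c ≤ cn (B ⊓ Q ⊔ zpowers c) := zpowers_le.2 fun x hx => mem_Ce.1
      ((sup_le (fun a ha => mem_Ce.2 (hc'.2 a ha)) (zpowers_le.2 (mem_Ce.2 rfl)) : _ ≤ Ce c) hx)
    have a3 := h.ab _ (sup_le inf_le_right (zpowers_le.2 hc'.1))
      (sup_le (le_centralizer_iff.1 a1) a2)
    exact (eq_of_le_of_card_ge le_sup_left (h3 ▸ a3)).ge (mem_sup_right (mem_zpowers c))
  refine ⟨h3, h4, fun s hs hs' => ?_, h5.trans inf_le_left, (eq_of_le_of_card_ge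
    (le_inf hB (hc.trans (centralizer_anti inf_le_left))) ?_).symm⟩
  · obtain ⟨b, hb, hb'⟩ := SetLike.not_le_iff_exists.1 h4
    refine eq_of_le_of_card_ge (fun q hq => h.mem_Fx.2 ⟨hq.2, ?_⟩) (h3 ▸ h.card_Fx hs hs')
    exact (h.gen (hB hb) hb' (h.Q_le_St hq.2) ⟨h.LN (h.SL (hB hb)), by
      rw [← hc hb q hq.1]; simp⟩ hs).2
  · have a1 := H46.card_inf_mul_relIndex Q (S ⊓ cn (B ⊓ Q))
    have a2 := relIndex_le_of_le_right (H := Q) (inf_le_left (b := cn (B ⊓ Q)))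
      (show Q.relIndex S ≠ 0 from index_ne_zero_of_finite)
    have a3 := H46.card_mul_relIndex h.QS
    have a4 := card_le_of_le ((inf_le_inf_left Q (inf_le_right (a := S))).trans h5)
    rw [h.cardQ, h.cardS] at a3
    rw [h81, ← a1]
    exact Nat.mul_le_mul (h3 ▸ a4 : _ ≤ 27) (by omega : _ ≤ 3)

theorem ab81_eq (hB : B ≤ S) (hc : B ≤ cn B) (h81 : Nat.card B = 81) (hJ : J ≤ S) (hc' : J ≤ cn J)
    (h81' : Nat.card J = 81) : B = J := by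
  obtain ⟨-, h1, h2, -, h3⟩ := h.ab81 hB hc h81
  obtain ⟨-, -, h4, -, h5⟩ := h.ab81 hJ hc' h81'
  obtain ⟨b, hb, hb'⟩ := SetLike.not_le_iff_exists.1 h1
  rw [← h3, ← h5, h2 b (hB hb) hb', h4 b (hB hb) hb']

theorem cj_eq (hc : B ≤ cn B) (h81 : Nat.card B = 81) (hg : cj g B ≤ S) (hJ : J ≤ S)
    (hc' : J ≤ cn J) (h81' : Nat.card J = 81) : cj g B = J :=
  h.ab81_eq hg (by rw [cn, ← cj_centralizer]; exact cj_mono g hc) (by rw [card_cj, h81]) hJ hc' h81'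

section J
variable (hJ : J ≤ S) (hc : J ≤ cn J) (h81 : Nat.card J = 81)
include hJ hc h81

theorem wc : H47.MC.WC J := fun P A hP h1 h2 h3 h4 => by
  obtain ⟨g, -, hg⟩ := h.syl.exists_cj_le hP le_top
  exact cj_inj.1 ((h.cj_eq (fun a ha b hb => h3 b hb a ha) h4 ((cj_mono g h2).trans hg) hJ hc
    h81).trans (h.cj_eq hc h81 ((cj_mono g h1).trans hg) hJ hc h81).symm)

theorem nS_le : nr S ≤ nr J := fun _ hg =>
  cj_eq_self_iff.1 (h.cj_eq hc h81 (cj_le_of_le hJ hg) hJ hc h81)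

theorem S_eq : S = Q ⊔ J := by
  obtain ⟨b, hb, hb'⟩ := SetLike.not_le_iff_exists.1 (h.ab81 hJ hc h81).2.1
  exact le_antisymm (h.gen (hJ hb) hb' le_sup_left (mem_sup_right hb)) (sup_le h.QS hJ)

theorem Z_le_J : zpowers z ≤ J := by
  obtain ⟨-, h1, h2, -⟩ := h.ab81 hJ hc h81
  obtain ⟨b, hb, hb'⟩ := SetLike.not_le_iff_exists.1 h1
  exact (h.Z_le_Fx (h.SL (hJ hb))).trans ((h2 b (hJ hb) hb').ge.trans inf_le_left)

theorem cJ : cn J ≤ J := by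
  obtain ⟨-, -, -, h1, h2⟩ := h.ab81 hJ hc h81
  have hP : IsPGroup 3 (cn J) := isPGroup_iff_forall.2 fun g hg => by
    obtain ⟨k, hk⟩ := exists_pow_coprime (p := 3) (isOfFinOrder_of_finite g)
    refine ⟨k, ?_⟩
    have h3 := pow_mem hg (3 ^ k)
    generalize g ^ 3 ^ k = u at hk h3
    have h4 : u ∈ Ce z := mem_Ce.2 (h3 z (h.Z_le_J hJ hc h81 (mem_zpowers z))).symm
    refine (pow_eq_one_iff_of_coprime hk).1 ⟨pow_orderOf_eq_one u, h.expQ u (h.cQ fun q hq => ?_)⟩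
    have h5 : u * q⁻¹ * u⁻¹ * q⁻¹⁻¹ ∈ Q := mul_mem (conj_mem_of_mem_normalizer
      (h.nQ (Ce_le_nr h4)) (inv_mem hq)) (inv_mem (inv_mem hq))
    have h6 := h1 ⟨h5, fun a ha => by
      have e1 := h.comm_Z h4 (h.cm q hq a ha.2)
      have e2 := h3 a ha.1
      have e3 : Commute u (q * a * q⁻¹) := by
        simpa using Commute.mul_right (show Commute u _ from e1) (show Commute u a from e2.symm)
      calc _ = a * u * q⁻¹ * u⁻¹ * q := by group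
        _ = u * q⁻¹ * (q * a * q⁻¹ * u⁻¹) * q := by rw [e2]; group
        _ = _ := by rw [← e3.inv_left.eq]; group⟩
    exact Commute.inv_right_iff.1 (comm_of_coprime (inv_mul_cancel_right _ _).symm (h3 _ h6).symm
      (h.expQ _ h5) (pow_orderOf_eq_one u) hk) |>.symm
  obtain ⟨g, -, hg⟩ := h.syl.exists_cj_le hP le_top
  have h3 := h.cj_eq hc h81 ((cj_mono g hc).trans hg) hJ hc h81
  rw [cj_centralizer, h3] at hg
  exact (le_inf hg (centralizer_anti inf_le_left)).trans h2.le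

theorem y3 (hg : g ∈ Nz z) (hj : j ∈ J) (h1 : j ∉ zpowers z) (e : g * j = j * g) : g ∈ nr J := by
  refine h.nS_le hJ hc h81 (mem_normalizer_of_cj_le ?_)
  by_cases h2 : j ∈ Q
  · obtain ⟨-, h3, h4, -⟩ := h.ab81 hJ hc h81
    obtain ⟨b, hb, hb'⟩ := SetLike.not_le_iff_exists.1 h3
    have h5 := h.St_le h2 h1 (hJ hb) hb' ⟨h.LN (h.SL (hJ hb)), ((h4 b (hJ hb) hb').le ⟨hj, h2⟩).2⟩
    rintro _ ⟨s, hs, rfl⟩
    have h6 := conj_mem_of_mem_normalizer (h.nL hg) (h.SL hs)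
    refine h5.le ⟨h6, h.LN h6, ?_⟩
    convert conj_mem_of_mem_normalizer hg (h5.ge hs).2.2 using 1
    calc _ = g * s * (g⁻¹ * (j * g)) * s⁻¹ * (j * g)⁻¹ := by simp [mul_assoc]
      _ = _ := by rw [← e]; group
  · refine (h.syl.eq_of_le (isPGroup_cj g h.syl.isPGroup) (h.gen (hJ hj) h2 ?_ ?_) le_top).le
    · rw [← cj_eq_self (h.nQ hg)]
      exact cj_mono g h.QS
    · rw [← mem_Ce'.1 (mem_Ce.2 e)]
      exact conj_mem_cj (hJ hj)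

theorem qconj (hq : q ∈ Q) : ∃ l ∈ Ce z, l * q * l⁻¹ ∈ J := by
  by_cases h1 : q ∈ zpowers z
  · exact ⟨1, one_mem _, by simpa using h.Z_le_J hJ hc h81 h1⟩
  have h2 : ¬ L ⊓ St (zpowers z) q ≤ Q := fun e => by
    choose l hl using h.surj
    have := Nat.card_le_card_of_injective (fun x => (QuotientGroup.mk ⟨l x * q * (l x : G)⁻¹,
      conj_mem_of_mem_normalizer (h.nQ (h.LN (l x).2)) hq⟩ : Q ⧸ (zpowers z).subgroupOf Q))
      fun x y e' => by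
        have h3 := QuotientGroup.eq.1 e'
        have h4 := (h.ker ((l x)⁻¹ * l y)).2 (e ⟨((l x)⁻¹ * l y).2, h.LN ((l x)⁻¹ * l y).2, by
          convert conj_mem_of_mem_normalizer (h.LN (mul_mem (h.QL hq) (inv_mem (l x).2))) h3 using 1
          simp [mul_assoc]⟩)
        rwa [map_mul, map_inv, hl, hl, inv_mul_eq_one] at h4
    have h5 := H46.card_mul_relIndex h.ZQ
    rw [h.cardZ, h.cardQ] at h5
    rw [card_SL5, ← index, ← relIndex] at this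
    omega
  obtain ⟨p, hp, hp'⟩ := SetLike.not_le_iff_exists.1 h2
  obtain ⟨l, hl, h3⟩ := h.sylL.exists_cj_le (h.St_p hq h1) inf_le_left
  have h4 := h.nQ (h.LN hl)
  refine ⟨l, h.Lz hl, (((h.ab81 hJ hc h81).2.2.1 _ (h3 (conj_mem_cj hp)) fun e => hp'
    ((mem_normalizer_iff.1 h4 p).2 e)).ge (h.mem_Fx.2 ⟨conj_mem_of_mem_normalizer h4 hq, ?_⟩)).1⟩
  convert conj_mem_of_mem_normalizer (h.LN hl) hp.2.2 using 1
  group

end J

end Bas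

end H21.MC
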