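import Cfsg.Agent.H21.NRL2
import Cfsg.Agent.S0219

/-! HKS tower, job NRL: lines of type L with `3 < q ≡ 3 (mod 4)`. -/

set_option autoImplicit false
set_option linter.unusedSectionVars false

namespace H21.NRL

open MulAction Cfsg Subgroup H89.K H65 H7.HKS

universe u

variable {G Ω : Type u} [Group G] [Finite G] [MulAction G Ω] {U : Ω → Subgroup G} {p : ℕ} {a b : Ω}
  {F : Type} [Field F] [Fintype F] {x y : F → G} {g k : G}

theorem card_rel {A B : Subgroup G} (h : A ≤ B) : A.relIndex B * Nat.card A = Nat.card B := by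
  rw [← relIndex_bot_left, ← relIndex_bot_left, mul_comm, relIndex_mul_relIndex ⊥ A B bot_le h]

/-- the character with kernel of index two -/
noncomputable def sgn {H : Type*} [Group H] (N : Subgroup H) (hN : N.index = 2) : H →* ℂˣ :=
  open Classical in MonoidHom.mk' (fun g => if g ∈ N then 1 else -1) fun g k => by
    by_cases h1 : g ∈ N <;> by_cases h2 : k ∈ N <;> simp [mul_mem_iff_of_index_two hN, h1, h2]

theorem sgn_eq {H : Type*} [Group H] {N : Subgroup H} (hN : N.index = 2) {g : H} :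
    sgn N hN g = 1 ↔ g ∈ N := by
  by_cases h1 : g ∈ N
  · simp [sgn, h1]
  · simp only [sgn, MonoidHom.mk'_apply, h1, if_false, iff_false, Units.ext_iff, Units.val_neg,
      Units.val_one]
    norm_num

namespace Fr

variable (h : Fr U p a b x y) (k2 : Kit2.{u}) (k1 : Kit1.{u})
include h k2 k1

theorem np' : ∃ e, Nat.card Ω = p ^ e + 1 ∧ p ^ e % 4 = 3 := by
  obtain ⟨e, he⟩ := h.np k2
  have := h.n4 k2 k1
  exact ⟨e, he, by omega⟩

omit k1 in
theorem oddp {j : ℕ} : Odd (p ^ j) := (h.nr.prime.odd_of_ne_two (h.podd k2)).pow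

omit k2 k1 in
theorem oddX (hg : g ∈ U a) : Odd (orderOf g) :=
  (h.nr.odd a).of_dvd_nat (Subgroup.orderOf_dvd_natCard _ hg)

theorem caseOdd (oc : JobOC.{u}) (r0 : JobReg0.{u}) (ho : Odd (Nat.card (St G a b))) : False := by
  have := Fact.mk h.nr.prime
  obtain ⟨M, hM⟩ := k1.soc h.nr.toPre
  have := hM.normal
  have := hM.simple
  obtain ⟨D, c, d, DL, c2, d2, eD, pD, hD⟩ := h.exD k2 k1
  obtain ⟨e, he, e4⟩ := h.np' k2 k1
  obtain ⟨o, oo, eo⟩ := hD e e4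
  have DM : D ≤ M := eD ▸ (closure_le _).2 (by rintro _ (rfl | rfl) <;> exact hM.inv _ ‹_›)
  have iD : Odd D.index := by
    have h1 := h.nr.t2.card_group h.ne
    rw [← D.card_mul_index, he, Nat.add_sub_cancel, eo, mul_assoc, mul_assoc] at h1
    rw [Nat.eq_of_mul_eq_mul_left Nat.card_pos h1]
    exact oo.mul ((h.oddp k2).mul ho)
  have XM : ∀ g ∈ Xs U a b, g ∈ M → g = 1 := fun g hg gM => congrArg Subtype.val
    (oc M (D.subgroupOf M) ⟨g, gM⟩ hM.nab (H98.isPGroup_subgroupOf pD M)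
      (iD.of_dvd_nat (relIndex_dvd_index_of_le DM))
      (.inl ⟨⟨c, hM.inv c c2⟩, ⟨d, hM.inv d d2⟩, Subtype.ext c2, Subtype.ext d2,
        map_injective M.subtype_injective (by
          rw [MonoidHom.map_closure, Set.image_pair, subgroupOf_map_subtype, inf_of_le_left DM]
          exact eD)⟩)
      (by rw [orderOf_mk]; exact h.oddX hg.1) fun s hs => Subtype.ext (h.LC (DL hs) g hg).symm)
  obtain ⟨r, c, hr, rd, c0, c1, cr⟩ := exists_ord h.q4 h.q3
  have tM : sl2h x y c ∈ M := mul_mem (hM.inv _ (h.n2 k2 c0)) (hM.inv _ (h.n2 k2 (by simp)))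
  have tS := h.hS k2 c0
  have CX : U a ⊓ centralizer {sl2h x y c} ≤ Xs U a b := by
    by_contra n
    obtain ⟨v, v1, v2, v3⟩ := H17.exists_mem_normalizer_of_lt ((h.pgU k2 a).to_le inf_le_left)
      (lt_of_le_not_ge (le_inf inf_le_left fun g hg =>
        mem_centralizer_singleton_iff.2 (h.LC (h.hL c) g hg)) n)
    obtain ⟨t, ht⟩ := h.NX v1.1 v3
    have m : sl2h x y c ∈ centralizer {x t} := by
      have := mul_mem (mem_centralizer_singleton_iff.2 (h.LC (h.hL c) _ ht)) (inv_mem (mem_inf.1 v1).2)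
      rw [mul_inv_cancel_right, inv_mem_iff, mem_centralizer_singleton_iff] at this
      exact mem_centralizer_singleton_iff.2 this.symm
    have := h.hx c0 t
    rw [mem_centralizer_singleton_iff.1 m, mul_inv_cancel_right] at this
    have t0 : t = 0 := by
      by_contra t0
      exact c1 (mul_right_cancel₀ t0 ((h.ld.inj this).symm.trans (one_mul t).symm))
    rw [t0, h.ld.rel.x_zero, inv_one, one_mul] at ht
    exact v2 ht
  have tr : ∀ u ∈ U a, ∃ w ∈ U a ⊓ M, w • b = u • b := fun u hu => by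
    have := Fact.mk hr
    have cd : {v | v ∈ U a ∧ v * u⁻¹ ∈ M}.ncard = Nat.card ↥(U a ⊓ M) := by
      rw [← Set.ncard_image_of_injective _ (mul_left_injective u⁻¹), ← Nat.card_coe_set_eq]
      congr 2
      ext w
      exact ⟨fun ⟨v, hv, e⟩ => e ▸ ⟨(U a).mul_mem hv.1 ((U a).inv_mem hu), hv.2⟩,
        fun hw => ⟨w * u, ⟨(U a).mul_mem hw.1 hu, by simpa using hw.2⟩, by simp⟩⟩
    obtain ⟨v, hv, m⟩ := H89.exists_fixed_of_not_dvd_ncard hr
      ((H98.isPGroup_zpowers (p := r) (x := sl2h x y c) (k := 1) (by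
        rw [pow_one, h.hpow c0, cr, h.ld.rel.h_one])).map MulAut.conj)
      {v | v ∈ U a ∧ v * u⁻¹ ∈ M} (Set.toFinite _) (by
        rintro ⟨_, g, hg, rfl⟩ v hv
        have g1 : g • a = a := (zpowers_le.2 tS hg).1
        have g2 : g ∈ M := zpowers_le.2 tM hg
        refine ⟨g1 ▸ h.nr.conj g a v hv.1, ?_⟩
        show g * v * g⁻¹ * u⁻¹ ∈ M
        rw [show g * v * g⁻¹ * u⁻¹ = g * (v * u⁻¹) * (u * g⁻¹ * u⁻¹) by group]
        exact mul_mem (mul_mem g2 hv.2) (hM.normal.conj_mem _ (inv_mem g2) u)) (fun d => by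
        obtain ⟨j, hj⟩ := IsPGroup.iff_card.1 ((h.pgU k2 a).to_le (inf_le_left : U a ⊓ M ≤ _))
        rw [cd, hj] at d
        obtain rfl := (Nat.prime_dvd_prime_iff_eq hr h.nr.prime).1 (hr.dvd_of_dvd_pow d)
        have := h.q3
        have := Nat.dvd_sub (h.pq k2) rd
        rw [Nat.sub_sub_self (by omega), Nat.dvd_one] at this
        exact hr.ne_one this)
    have := CX (x := v) ⟨hv.1, mem_centralizer_singleton_iff.2
      (mul_inv_eq_iff_eq_mul.1 (m ⟨_, _, mem_zpowers _, rfl⟩)).symm⟩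
    refine ⟨(v * u⁻¹)⁻¹, inv_mem ⟨(U a).mul_mem hv.1 ((U a).inv_mem hu), hv.2⟩, ?_⟩
    rw [mul_inv_rev, inv_inv, mul_smul, show v⁻¹ • b = b from (inv_mem this).2]
  have cj : ∀ (g : G) (c : Ω), ∀ u ∈ U c ⊓ M, g * u * g⁻¹ ∈ U (g • c) ⊓ M := fun g c u hu =>
    ⟨h.nr.conj g c u hu.1, hM.normal.conj_mem _ hu.2 g⟩
  refine r0 G Ω U (fun c => U c ⊓ M) p h.nr ⟨⟨h.nr.t2, fun c u hu => h.nr.fix c u hu.1, cj,
    fun c => ((h.pgU k2 c).to_le inf_le_left).isNilpotent, fun {c d w} n n' => ?_⟩,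
    fun c d n u hu e => ?_, fun c => (h.nr.odd c).of_dvd_nat (card_dvd_of_le inf_le_left)⟩
    fun c => inf_le_left
  · obtain ⟨g, rfl, rfl⟩ := h.nr.t2.two h.ne n.symm
    obtain ⟨u, hu, e⟩ := h.nr.tr (c := g⁻¹ • w) h.ne.symm fun e => n' (by rw [← e, smul_inv_smul])
    obtain ⟨v, hv, e'⟩ := tr u hu
    exact ⟨_, cj g a v hv, by rw [← smul_inv_smul g w, conj_smul_eq, e', e]⟩
  · obtain ⟨g, h1, h2⟩ := h.nr.t2.two n.symm h.ne
    have := cj g c u hu
    rw [h1] at this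
    simpa using XM _ ⟨this.1, show _ • b = b from h2 ▸ conj_smul_eq.2 e⟩ this.2

theorem loc (mn : Main.{u}) (hk : k ∈ St G a b) (o : orderOf k = 2) :
    (∀ v ∈ St G a b, v * v = 1 → v * k = k * v → ∀ c ∈ Fx Ω {k}, v • c = c) ∧
    ∃ j, p ^ j % 4 = 3 ∧ (Fx Ω {k}).ncard = p ^ j + 1 ∧
      (St G a b).relIndex (centralizer {k}) = (p ^ j + 1) * p ^ j := by
  have kk := sq_of_ord o
  have kn : k ≠ 1 := fun e => by simp [e] at o
  have kF := h.two k2 k1 (i := 1) hk ((pow_two k).trans kk)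
  obtain ⟨j, hj⟩ := h.fixc k2 (p2 kk) h.ne (Set.singleton_subset_iff.2 hk)
  have j4 : p ^ j % 4 = 3 := by
    have h1 := (k1.par h.nr.toPre).2.2 _ kk
    have := h.n4 k2 k1
    unfold Nat.ModEq at h1
    omega
  obtain ⟨Y, _, _, _, π, res, rg⟩ := h.nr.loc {k} (p2 kk) ⟨k, rfl, kn⟩ (by omega)
  have aF : a ∈ Fx Ω {k} := fun _ e => e ▸ hk.1
  have bF : b ∈ Fx Ω {k} := fun _ e => e ▸ hk.2
  have n' : (⟨a, aF⟩ : Fx Ω {k}) ≠ ⟨b, bF⟩ := fun e => h.ne (congrArg Subtype.val e)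
  have cu : ∀ c, CU (Quo U (Fx Ω {k}) π) ∅ c = Quo U (Fx Ω {k}) π c := fun c =>
    inf_eq_left.2 fun _ _ _ e => e.elim
  have LC : Zc U a ⊔ Zc U b ≤ centralizer {k} := fun l hl =>
    mem_centralizer_singleton_iff.2 (h.KC kF l hl).symm
  have cF : Nat.card (Fx Ω {k}) = p ^ j + 1 := hj
  have idx : (St G a b).relIndex (centralizer {k}) = (p ^ j + 1) * p ^ j := by
    have h1 := rg.t2.card_group n'
    rw [← (St Y (⟨a, aF⟩ : Fx Ω {k}) ⟨b, bF⟩).index_mul_card, cF, Nat.add_sub_cancel] at h1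
    rw [← Nat.eq_of_mul_eq_mul_right Nat.card_pos h1, ← index_comap_of_surjective _ res.surj]
    exact congrArg index (Subgroup.ext fun g =>
      (res.mem_St (g := g) (x := ⟨a, aF⟩) (y := ⟨b, bF⟩)).symm)
  let X : F → centralizer ({k} : Set G) := fun e => ⟨x e, LC (h.xL e)⟩
  let Z : F → centralizer ({k} : Set G) := fun e => ⟨y e, LC (mem_sup_right ((h.ld.ry _).2 ⟨e, rfl⟩))⟩
  have xQ : ∀ e, π (X e) ∈ Quo U (Fx Ω {k}) π ⟨a, aF⟩ := fun e => ⟨_, (h.xZ e).1, rfl⟩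
  have xZ : ∀ e, π (X e) ∈ ZU (Quo U (Fx Ω {k}) π) ∅ ⟨a, aF⟩ := fun e => by
    rw [ZU, cu]
    refine ⟨xQ e, ?_⟩
    rintro _ ⟨w, hw, rfl⟩
    rw [← map_mul, ← map_mul]
    exact congrArg π (Subtype.ext ((h.xZ e).2 _ hw))
  have inj : ∀ {c d : Ω}, d ≠ c → d ∈ Fx Ω {k} → ∀ {z z' : centralizer ({k} : Set G)},
      (z : G) ∈ Zc U c → (z' : G) ∈ Zc U c → π z = π z' → z = z' := fun e m z z' h1 h2 e' => by
    rw [← mul_inv_eq_one, ← map_inv, ← map_mul, res.eq_one_iff] at e'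
    exact mul_inv_eq_one.1 (Subtype.ext (h.nr.zsr.reg e _ (mul_mem h1 (inv_mem h2)) (e' _ m)))
  have x1 : π (X 1) ≠ 1 := fun e => one_ne_zero (h.xinj
    ((res.eq_one_iff.1 e b bF).trans h.x0.symm))
  have en : ∀ t, sl2n (fun e => π (X e)) (fun e => π (Z e)) t = π ⟨_, LC (h.nL t)⟩ := fun t => by
    simp only [sl2n, ← map_mul]; rfl
  have ld : LD (fun e => π (X e)) (fun e => π (Z e)) (((Zc U a).subgroupOf _).map π)
      (((Zc U b).subgroupOf _).map π) (⟨a, aF⟩ : Fx Ω {k}) ⟨b, bF⟩ := by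
    refine ⟨H57.St2.sl2Rel ⟨fun s t => ?_, fun s t => ?_, fun t s t0 => ?_⟩, fun s t e => h.ld.inj
      (congrArg Subtype.val (inj h.ne.symm bF (h.xZ s) (h.xZ t) e)), fun g => ⟨?_, ?_⟩,
      fun g => ⟨?_, ?_⟩, fun c c0 => ?_⟩
    · rw [← map_mul]; exact congrArg π (Subtype.ext (h.ld.rel.x_add s t))
    · rw [← map_mul]; exact congrArg π (Subtype.ext (h.ld.rel.y_add s t))
    · rw [en, ← map_mul, ← map_mul]; exact congrArg π (Subtype.ext (h.ld.rel.n_mul_x t0 s))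
    · rintro ⟨w, hw, rfl⟩
      obtain ⟨c, e⟩ := (h.ld.rx w).1 hw
      exact ⟨c, congrArg π (Subtype.ext e)⟩
    · rintro ⟨c, rfl⟩
      exact ⟨_, h.xZ c, rfl⟩
    · rintro ⟨w, hw, rfl⟩
      obtain ⟨c, e⟩ := (h.ld.ry w).1 hw
      exact ⟨c, congrArg π (Subtype.ext e)⟩
    · rintro ⟨c, rfl⟩
      exact ⟨_, (h.ld.ry _).2 ⟨c, rfl⟩, rfl⟩
    · rw [en]
      exact ⟨res.smul_eq_iff.2 (h.ld.sw c c0).1, res.smul_eq_iff.2 (h.ld.sw c c0).2⟩
  have Aa : ((Zc U a).subgroupOf _).map π ≤ Quo U (Fx Ω {k}) π ⟨a, aF⟩ := map_mono fun _ e => e.1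
  have Ab : ((Zc U b).subgroupOf _).map π ≤ Quo U (Fx Ω {k}) π ⟨b, bF⟩ := map_mono fun _ e => e.1
  refine ⟨fun v hv v2 vk => ?_, j, j4, hj, idx⟩
  rcases (mn Y _ _ rg).2 _ _ n' with ⟨-, E, ad⟩ | ⟨F', _, _, x', y', ld'⟩ |
    ⟨F', _, _, x', y', ld', c3, cz, -⟩ | ⟨q, w, rd⟩
  · obtain ⟨r, c, -, -, c0, c1, -⟩ := exists_ord h.q4 h.q3
    have m : ∀ c : Fx Ω {k}, Quo U (Fx Ω {k}) π c ≤ LX (Quo U (Fx Ω {k}) π) ∅ := fun c =>
      (cu c).ge.trans (le_iSup₂_of_le c (fun _ e => e.elim) le_rfl)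
    have m' : ∀ t, sl2n (fun e => π (X e)) (fun e => π (Z e)) t ∈ LX (Quo U (Fx Ω {k}) π) ∅ :=
      fun t => mul_mem (mul_mem (m _ (xQ _)) (m _ (Ab ((ld.ry _).2 ⟨_, rfl⟩)))) (m _ (xQ _))
    have e := mul_mem (m' c) (m' (-1))
    rw [en, en, ← map_mul] at e
    have : sl2h x y c • x 1 • b = x 1 • b := res.eq_one_iff.1
      ((k2.aa rg n' (Set.empty_subset _) ad).2.2.1 _ e (res.mem_St.2 (h.hS k2 c0))) (x 1 • b)
      fun _ e => e ▸ kF _ (h.xb 1)
    exact absurd ((mul_one _).symm.trans (h.xinj ((h.act (h.hS k2 c0) (h.hx c0 1)).symm.trans this))) c1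
  · rw [cu, cu] at ld'
    let V : centralizer ({k} : Set G) := ⟨v, mem_centralizer_singleton_iff.2 vk⟩
    have vS : π V ∈ St Y (⟨a, aF⟩ : Fx Ω {k}) ⟨b, bF⟩ := res.mem_St.2 hv
    obtain ⟨l, σ, l0, m, -⟩ := k2.semi rg.sr n' le_rfl le_rfl ld' _ vS (nor_of rg.conj vS.1)
      (nor_of rg.conj vS.2)
    have q' : Fintype.card F' % 4 = 3 := by
      have h1 := k1.card rg ⟨a, aF⟩
      rw [cF, (k2.bas rg.sr n' le_rfl le_rfl ld').2.1] at h1
      omega
    have h3 := aut_one' q' σ (l := l) fun c => ld'.inj (by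
      rw [← m, ← m, show π V * (π V * x' c * (π V)⁻¹) * (π V)⁻¹ = π V * π V * x' c * (π V * π V)⁻¹ by
        group, ← map_mul, show V * V = 1 from Subtype.ext v2]
      simp)
    obtain ⟨c, hc⟩ := (ld'.rx _).1 (xQ 1)
    have l1 : l = 1 := by
      have := m c
      rw [hc, ← map_inv, ← map_mul, ← map_mul, show V * X 1 * V⁻¹ = X 1 from Subtype.ext
        (mul_inv_eq_iff_eq_mul.2 (h.KC (h.two k2 k1 (i := 1) hv ((pow_two v).trans v2)) _ (h.xL 1))),
        ← hc, h3] at this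
      refine mul_right_cancel₀ (fun c0 => x1 ?_) ((ld'.inj this).symm.trans (one_mul c).symm)
      rw [← hc, c0, ld'.rel.x_zero]
    intro d hd
    refine (res.smul_eq_iff (g := V) (x := ⟨d, hd⟩) (y := ⟨d, hd⟩)).1 ?_
    by_cases e : (⟨d, hd⟩ : Fx Ω {k}) = ⟨a, aF⟩
    · rw [e]; exact vS.1
    · obtain ⟨u, hu, e'⟩ := rg.tr n'.symm e
      obtain ⟨t, rfl⟩ := (ld'.rx _).1 hu
      rw [← e']
      refine fix_of_comm (mul_inv_eq_iff_eq_mul.1 ?_).symm vS.2
      rw [m, h3, l1, one_mul]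
  · obtain ⟨c, hc⟩ := (ld'.rx _).1 (xZ 1)
    have c0 : c ≠ 0 := fun c0 => x1 (by rw [← hc, c0, ld'.rel.x_zero])
    have Za : ∀ c, ZU (Quo U (Fx Ω {k}) π) ∅ c ≤ Quo U (Fx Ω {k}) π c := fun c =>
      inf_le_left.trans inf_le_left
    obtain ⟨-, b1, -, -, -, b2, -⟩ := k2.bas rg.sr n' (Za _) (Za _) ld'
    have := b2 c c0
    rw [← k2.mu rg.sr n' Aa Ab (Za _) (Za _) ld ld' 1 c one_ne_zero hc.symm, en, ← map_mul,
      show (⟨_, LC (h.nL 1)⟩ * ⟨_, LC (h.nL 1)⟩ : centralizer ({k} : Set G)) = 1 from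
        Subtype.ext (h.n2 k2 one_ne_zero), map_one] at this
    rw [← cz, ← this, inf_eq_left.2 fun _ _ => mem_centralizer_singleton_iff.2 (by simp), c3] at b1
    have := Fintype.one_lt_card (α := F')
    have := Nat.pow_lt_pow_right this (show 1 < 3 by omega)
    rw [pow_one, b1] at this
    omega
  · obtain ⟨g, rfl⟩ := res.surj w
    obtain ⟨i, m, mo, e⟩ := Nat.exists_eq_two_pow_mul_odd (orderOf_pos (g : G)).ne'
    have gS : (g : G) ∈ St G a b := res.mem_St.1 rd.st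
    have h1 := h.KC (h.two k2 k1 (i := i) (pow_mem gS m) (by
      rw [← pow_mul, mul_comm, ← e, pow_orderOf_eq_one])) _ (h.xL 1)
    have h2 : π (g ^ m) = π g := by
      obtain ⟨t, rfl⟩ := mo
      rw [map_pow, pow_succ, pow_mul, pow_two, sq_of_ord rd.ord, one_pow, one_mul]
    refine absurd (mem_bot.1 (rd.disj.le ⟨xZ 1, mem_centralizer_singleton_iff.2 ?_⟩)) x1
    rw [← h2, ← map_mul, ← map_mul]
    exact congrArg π (Subtype.ext h1.symm)

theorem four (mn : Main.{u}) {v : G} (hk : k ∈ St G a b) (o : orderOf k = 2) (hv : v ∈ St G a b)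
    (o' : orderOf v = 2) (c : v * k = k * v) : v = k := by
  by_contra n
  have := h.nr.t2.finite
  have kk := sq_of_ord o
  have vv := sq_of_ord o'
  have o3 : orderOf (k * v) = 2 := ord2 (by rw [mul_assoc, ← mul_assoc v, c, mul_assoc, vv, mul_one, kk])
    fun e => n (by rw [← mul_left_cancel_iff (a := k), e, kk])
  obtain ⟨h1, j, -, hj, -⟩ := h.loc k2 k1 mn hk o
  have h2 := (h.loc k2 k1 mn hv o').1 k hk kk c.symm
  have h3 := (h.loc k2 k1 mn (mul_mem hk hv) o3).1 k hk kk (by rw [mul_assoc, c])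
  have h4 := h1 v hv vv c
  have e1 : Fx Ω {v} = Fx Ω {k} := Set.ext fun d =>
    ⟨fun e _ m => m ▸ h2 d e, fun e _ m => m ▸ h4 d e⟩
  have e2 : Fx Ω {k * v} = Fx Ω {k} := Set.ext fun d => ⟨fun e _ m => m ▸ h3 d e,
    fun e _ m => by rw [m, mul_smul, h4 d e, e k rfl]⟩
  have e3 : Fx Ω {k, v} = Fx Ω {k} := Set.ext fun d => ⟨fun e _ m => e _ (.inl m),
    fun e _ m => m.elim (e _) fun m => m ▸ h4 d e⟩
  have w := h.nr.wie k v h.ne hk hv kk vv c.symm
  rw [e1, e2, e3, hj, Nat.add_sub_cancel, pow_two, ← mul_assoc] at w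
  have p0 : 0 < p ^ j := pow_pos h.nr.prime.pos j
  have w' := Nat.eq_of_mul_eq_mul_right p0 (Nat.eq_of_mul_eq_mul_right p0 w)
  have := h.nr.t2.card_fix_lt (x := k) fun e => by simp [e] at o
  have e4 : Nat.card {c : Ω // k • c = c} = (Fx Ω {k}).ncard := by
    rw [← Nat.card_coe_set_eq]
    exact Nat.card_congr (Equiv.subtypeEquivRight fun d => by simp)
  omega

theorem caseEven (mn : Main.{u}) (re : JobNRE.{u}) (hk : k ∈ St G a b) (o : orderOf k = 2)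
    (alt : IsConj (sl2n x y 1) (sl2n x y 1 * k) ∨ ∀ k ∈ St G a b, orderOf k = 2 →
      ¬ IsConj (sl2n x y 1) (sl2n x y 1 * k)) : False := by
  have kk := sq_of_ord o
  have kF := h.two k2 k1 (i := 1) hk ((pow_two k).trans kk)
  obtain ⟨R, hR, kR⟩ := H98.exists_isSyl_le (H98.isPGroup_zpowers (p := 2) (k := 1)
    ((pow_two k).trans kk)) (zpowers_le.2 hk)
  replace kR := zpowers_le.1 kR
  have RF : ∀ r ∈ R, ∀ c ∈ Ln U a b, r • c = c := fun r hr =>
    let ⟨_, e⟩ := H98.isPGroup_iff_forall.1 hR.isPGroup r hr; h.two k2 k1 (hR.le hr) e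
  have kn : k ≠ 1 := fun e => by simp [e] at o
  have cen : ∀ r ∈ R, r * k = k * r := by
    have : Nontrivial R := ⟨⟨k, kR⟩, 1, fun e => kn (congrArg Subtype.val e)⟩
    have := hR.isPGroup.center_nontrivial
    obtain ⟨n, n0, hn⟩ := (hR.isPGroup.to_subgroup (center R)).nontrivial_iff_card.1 this
    obtain ⟨z, hz⟩ := exists_prime_orderOf_dvd_card' (G := center R) 2 (hn ▸ dvd_pow_self 2 n0.ne')
    have c : ∀ r ∈ R, r * z.1.1 = z.1.1 * r := fun r hr =>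
      congrArg Subtype.val (mem_center_iff.1 z.2 ⟨r, hr⟩)
    rw [← h.four k2 k1 mn hk o (hR.le z.1.2) (by rw [orderOf_coe, orderOf_coe, hz]) (c k kR).symm]
    exact c
  obtain ⟨D, c, d, DL, c2, d2, eD, pD, hD⟩ := h.exD k2 k1
  have RD : R ≤ centralizer (D : Set G) := fun r hr l hl => (h.KC (RF r hr) l (DL hl)).symm
  have nc : ∀ {s t : G}, IsConj (sl2n x y 1) t → s • a = a → ¬ IsConj s t := fun e m e' =>
    fpf_conj (h.fpf k2 k1) (e.trans e'.symm) a m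
  refine re G D R k (k1.zst h.nr.toPre k o) o kR (fun r hr r2 => or_iff_not_imp_left.2 fun n =>
    h.four k2 k1 mn hk o (hR.le hr) (ord2 r2 n) (cen r hr)) pD hR.isPGroup RD
    (le_antisymm ((closure_le _).2 fun _ e => e.1) (eD.ge.trans (closure_mono ?_))) ?_
    (fun d hd e => ?_) (fun d hd e he o1 o2 => ?_) ?_
  · rintro _ (rfl | rfl)
    exacts [⟨eD ▸ subset_closure (.inl rfl), c2⟩, ⟨eD ▸ subset_closure (.inr rfl), d2⟩]
  · obtain ⟨-, j, j4, -, idx⟩ := h.loc k2 k1 mn hk o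
    obtain ⟨w, wo, ew⟩ := hD j j4
    have RC : R ≤ centralizer {k} := fun r hr => mem_centralizer_singleton_iff.2 (cen r hr)
    have h1 := card_rel (sup_le (fun l hl => mem_centralizer_singleton_iff.2 (h.KC kF l (DL hl)).symm)
      RC : D ⊔ R ≤ centralizer {k})
    have h2 := H12.card_sup_mul_card_inf
      (H98.le_normalizer_of_le_centralizer (le_centralizer_iff.1 RD))
    have h3 : D ⊓ R = ⊥ := eq_bot_iff.2 fun g hg => by
      have := (k2.grp h.nr.zsr h.ne le_rfl le_rfl h.ld).2.2.1 g (DL hg.1) (h.KC (RF g hg.2))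
      rwa [h.zeta k2, or_self] at this
    have h4 := card_rel (inf_le_right : St G a b ⊓ centralizer {k} ≤ _)
    have h5 := card_rel (le_inf hR.le RC)
    have h6 : ¬ 2 ∣ R.relIndex (St G a b ⊓ centralizer {k}) :=
      (hR.of_le (le_inf hR.le RC) inf_le_left).not_dvd_relIndex
    rw [h3, card_bot, mul_one] at h2
    rw [inf_relIndex_right, idx, ← h5, ← h1, h2, ew] at h4
    have h7 : (D ⊔ R).relIndex (centralizer {k}) =
        w * p ^ j * R.relIndex (St G a b ⊓ centralizer {k}) :=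
      Nat.eq_of_mul_eq_mul_right (Nat.mul_pos (Nat.card_pos (α := D)) (Nat.card_pos (α := R)))
        (by rw [← h4]; ring)
    rw [h7]
    exact (wo.mul (h.oddp k2)).mul (Nat.odd_iff.2 (by omega))
  · obtain ⟨g, rfl⟩ := isConj_iff.1 e
    obtain ⟨l, -, m⟩ := h.Lc k2 (h.nL 1) (DL hd) (h.os k2) (((MulAut.conj g).orderOf_eq k).trans o)
    exact nc (isConj_iff.2 ⟨l, m⟩) hk.1 e
  · obtain ⟨l, hl, m⟩ := h.Lc k2 (DL hd) (DL he) o1 o2
    exact ⟨l, (h.KC kF l hl).symm, m⟩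
  · refine alt.imp (fun e d hd o1 => nc (e.trans (h.sk k2 k1 (DL hd) o1 kF)) hk.1) fun e cy => ?_
    obtain ⟨P, hP⟩ := hR.exists_sylow
    obtain ⟨N, hN⟩ := Cfsg.Agent.S0219.result
      (even_iff_two_dvd.2 (o ▸ Subgroup.orderOf_dvd_natCard _ hk)) P
      (hP ▸ isCyclic_subgroupOf R _)
    have od : ∀ g : St G a b, Odd (orderOf (g : G)) → sgn N hN g = 1 := fun g m =>
      (sgn_eq hN).2 (odd_mem hN (by rwa [orderOf_coe] at m))
    have := h.eta k2 k1 (sgn N hN) (fun g m => od g (h.oddX m)) (fun g c c0 m => od g ?_)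
      fun g _ g2 m => ?_
    · rw [show N = ⊤ from eq_top_iff.2 fun g _ => (sgn_eq hN).1 (this g), index_top] at hN
      omega
    · have q4 := h.q4
      refine (Nat.odd_iff.2 (by omega : (Fintype.card F - 1) / 2 % 2 = 1)).of_dvd_nat
        (orderOf_dvd_of_pow_eq_one ?_)
      have : c ^ ((Fintype.card F - 1) / 2) * c ^ ((Fintype.card F - 1) / 2) = 1 := by
        rw [← pow_add, ← FiniteField.pow_card_sub_one_eq_one c c0]
        congr 1
        omega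
      rw [m, h.hpow c0]
      rcases mul_self_eq_one_iff.1 this with e | e <;> rw [e]
      exacts [h.ld.rel.h_one, h.zeta k2]
    · by_cases n : (g : G) = 1
      · rw [show g = 1 from Subtype.ext n, map_one]
      · exact absurd m (e g g.2 (ord2 g2 n))

end Fr

theorem jobNRL (k1 : Kit1.{u}) (k2 : Kit2.{u}) (mn : Main.{u}) (re : JobNRE.{u}) (oc : JobOC.{u})
    (r0 : JobReg0.{u}) : JobNRL.{u} := fun G Ω _ _ _ U p a b _ _ _ _ _ _ _ h n ea eb res rg tl h4 h3 => by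
  obtain ⟨F, _, _, x, y, f⟩ := frame k2 h n ea eb res rg tl h4 h3
  by_cases c : ∃ k ∈ St G a b, orderOf k = 2 ∧ IsConj (sl2n x y 1) (sl2n x y 1 * k)
  · obtain ⟨k, hk, o, e⟩ := c
    exact f.caseEven k2 k1 mn re hk o (.inl e)
  · rcases Nat.even_or_odd (Nat.card (St G a b)) with e | e
    · obtain ⟨k, hk⟩ := exists_prime_orderOf_dvd_card' 2 (even_iff_two_dvd.1 e)
      exact f.caseEven k2 k1 mn re k.2 (by rwa [orderOf_coe]) (.inr fun k hk o e => c ⟨k, hk, o, e⟩)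
    · exact f.caseOdd k2 k1 oc r0 e

end H21.NRL
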