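import Cfsg.Agent.H21.NRL1
import Cfsg.Agent.H89.Generous
import Cfsg.Agent.H17.SylowIn
import Cfsg.Agent.H12.Basic

/-! HKS tower, job NRL, part 2: the two-point stabiliser and the involution `s = n(1)`. -/

set_option autoImplicit false
set_option linter.unusedSectionVars false

namespace H21.NRL

open MulAction Cfsg Subgroup H89.K H65 H7.HKS

universe u

variable {G Ω : Type u} [Group G] [Finite G] [MulAction G Ω] {U : Ω → Subgroup G} {p : ℕ} {a b : Ω}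
  {F : Type} [Field F] [Fintype F] {x y : F → G} {g k : G}

theorem nor_of {A : Ω → Subgroup G} (h : ∀ (g : G) (a : Ω), ∀ u ∈ A a, g * u * g⁻¹ ∈ A (g • a))
    (e : g • a = a) : g ∈ normalizer (A a : Set G) :=
  H98.mem_normalizer_of_cj_le (by rintro _ ⟨u, hu, rfl⟩; exact e ▸ h g a u hu)

theorem fpf_conj {s t : G} (h : ∀ c : Ω, s • c ≠ c) (e : IsConj s t) (c : Ω) : t • c ≠ c := by
  obtain ⟨g, rfl⟩ := isConj_iff.1 e
  rw [← smul_inv_smul g c, Ne, conj_smul_eq]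
  exact h _

theorem ord2 (e : k * k = 1) (n : k ≠ 1) : orderOf k = 2 := orderOf_eq_prime ((pow_two k).trans e) n

theorem sq_of_ord (e : orderOf k = 2) : k * k = 1 := by rw [← pow_two, ← e, pow_orderOf_eq_one]

theorem p2 (e : k * k = 1) : IsPGroup 2 (closure ({k} : Set G)) :=
  zpowers_eq_closure k ▸ H98.isPGroup_zpowers (k := 1) ((pow_two k).trans e)

theorem odd_mem {H : Type*} [Group H] [Finite H] {N : Subgroup H} (hN : N.index = 2) {g : H}
    (o : Odd (orderOf g)) : g ∈ N := by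
  obtain ⟨i, hi⟩ := o
  have := pow_mem (mul_self_mem_of_index_two hN g) (i + 1)
  rwa [← pow_two, ← pow_mul, show 2 * (i + 1) = orderOf g + 1 by omega, pow_succ,
    pow_orderOf_eq_one, one_mul] at this

namespace Fr

variable (h : Fr U p a b x y)
include h

theorem xZ (e : F) : x e ∈ Zc U a := (h.ld.rx _).2 ⟨e, rfl⟩

theorem xL (e : F) : x e ∈ Zc U a ⊔ Zc U b := mem_sup_left (h.xZ e)

theorem nL (e : F) : sl2n x y e ∈ Zc U a ⊔ Zc U b :=
  mul_mem (mul_mem (h.xL _) (mem_sup_right ((h.ld.ry _).2 ⟨_, rfl⟩))) (h.xL _)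

theorem hL (e : F) : sl2h x y e ∈ Zc U a ⊔ Zc U b := mul_mem (h.nL _) (h.nL _)

theorem LC : Zc U a ⊔ Zc U b ≤ centralizer (Xs U a b : Set G) := sup_le ZaC (ZbC h.nr h.ne)

theorem xinj {e e' : F} (m : x e • b = x e' • b) : e = e' := by
  refine h.ld.inj (inv_mul_eq_one.1 (h.nr.zsr.reg h.ne.symm _
    (mul_mem (inv_mem (h.xZ e)) (h.xZ e')) ?_))
  rw [mul_smul, ← m, inv_smul_smul]

theorem xb (e : F) : x e • b ∈ Ln U a b := fun g hg =>
  fix_of_comm (ZaC (b := b) (h.xZ e) g hg).symm hg.2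

theorem x0 : x 0 • b = b := by rw [h.ld.rel.x_zero, one_smul]

theorem KC (hk : ∀ c ∈ Ln U a b, k • c = c) : ∀ l ∈ Zc U a ⊔ Zc U b, k * l = l * k := fun l hl =>
  (h.nr.ls h.ne).2.2.1 k hk l ((sup_le (le_iSup₂_of_le a (aL h.nr) le_rfl)
    (le_iSup₂_of_le b bL le_rfl) : _ ≤ LS U a b) hl)

theorem fixF (hg : g ∈ St G a b) (e : ∀ c, g * x c * g⁻¹ = x c) : ∀ c ∈ Ln U a b, g • c = c := by
  intro c hc
  obtain rfl | ⟨t, rfl⟩ := h.ln c hc
  · exact hg.1
  · exact fix_of_comm (mul_inv_eq_iff_eq_mul.1 (e t)).symm hg.2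

theorem act {t : F} (hg : g ∈ St G a b) {c : F} (e : g * x c * g⁻¹ = x t) : g • x c • b = x t • b := by
  rw [← e, mul_smul, mul_smul, show g⁻¹ • b = b from (inv_mem hg).2]

theorem hx {c : F} (c0 : c ≠ 0) (e : F) : sl2h x y c * x e * (sl2h x y c)⁻¹ = x (c ^ 2 * e) := by
  rw [h.ld.rel.h_mul_x c0, mul_inv_cancel_right]

theorem hpow {c : F} (c0 : c ≠ 0) (n : ℕ) : sl2h x y c ^ n = sl2h x y (c ^ n) := by
  induction n with
  | zero => rw [pow_zero, pow_zero, h.ld.rel.h_one]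
  | succ n ih => rw [pow_succ, ih, h.ld.rel.h_mul' (pow_ne_zero _ c0) c0, pow_succ]

variable (k2 : Kit2.{u})
include k2

theorem hS {c : F} (c0 : c ≠ 0) : sl2h x y c ∈ St G a b :=
  (k2.bas h.nr.zsr h.ne le_rfl le_rfl h.ld).2.2.2.1 c c0

theorem nx {c d : F} (c0 : c ≠ 0) (d0 : d ≠ 0) : sl2n x y d • x c • b = x (-(d ^ 2 / c)) • b :=
  (k2.bas h.nr.zsr h.ne le_rfl le_rfl h.ld).2.2.2.2.1 c d c0 d0

theorem zeta : sl2h x y (-1) = 1 := by
  have n : (-1 : F) ≠ 0 := by simp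
  refine h.nr.nr2 h.ne _ (h.LC (h.hL _)) (by rw [h.ld.rel.h_mul' n n]; simp [h.ld.rel.h_one])
    (h.fixF (h.hS k2 n) fun c => by rw [h.hx n]; simp)

theorem n2 {c : F} (c0 : c ≠ 0) : sl2n x y c * sl2n x y c = 1 :=
  ((k2.bas h.nr.zsr h.ne le_rfl le_rfl h.ld).2.2.2.2.2.1 c c0).trans (h.zeta k2)

omit k2 in
theorem n1 {c : F} (c0 : c ≠ 0) : sl2n x y c ≠ 1 := fun e => h.ne (by
  rw [← (h.ld.sw c c0).1, e, one_smul])

theorem Lc {s t : G} (hs : s ∈ Zc U a ⊔ Zc U b) (ht : t ∈ Zc U a ⊔ Zc U b) (o : orderOf s = 2)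
    (o' : orderOf t = 2) : ∃ l ∈ Zc U a ⊔ Zc U b, l * s * l⁻¹ = t :=
  ((k2.grp h.nr.zsr h.ne le_rfl le_rfl h.ld).2.1 (h.zeta k2)).2 s hs t ht o o'

theorem os : orderOf (sl2n x y 1) = 2 := ord2 (h.n2 k2 one_ne_zero) (h.n1 one_ne_zero)

theorem semi (hg : g ∈ St G a b) : ∃ (l : F) (σ : F ≃+* F), l ≠ 0 ∧
    (∀ c, g * x c * g⁻¹ = x (l * σ c)) ∧ g * sl2n x y 1 * g⁻¹ = sl2n x y l := by
  obtain ⟨l, σ, h1, h2, -, h3, -⟩ := k2.semi h.nr.zsr h.ne le_rfl le_rfl h.ld g hg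
    (nor_of h.nr.zsr.conj hg.1) (nor_of h.nr.zsr.conj hg.2)
  exact ⟨l, σ, h1, h2, by rw [h3 1 one_ne_zero, map_one, mul_one]⟩

theorem cZ : Nat.card (Zc U a) = Fintype.card F := (k2.bas h.nr.zsr h.ne le_rfl le_rfl h.ld).2.1

theorem pq : p ∣ Fintype.card F := h.cZ k2 ▸ h.nr.zne a

theorem podd : p ≠ 2 := fun e => by
  have : 2 ∣ Fintype.card F := e ▸ h.pq k2
  have := h.q4
  omega

omit k2 in
theorem NX {u : G} (hu : u ∈ U a) (n : u ∈ normalizer (Xs U a b : Set G)) :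
    ∃ e, (x e)⁻¹ * u ∈ Xs U a b := by
  have : u • b ∈ Ln U a b := fun g hg => by
    have : (u⁻¹ * g * u) • b = b := (H98.conj_mem_of_mem_normalizer' n hg).2
    rwa [mul_smul, mul_smul, inv_smul_eq_iff] at this
  rcases h.ln _ this with e | ⟨e, m⟩
  · exact absurd (smul_left_cancel u ((h.nr.fix a u hu).trans e.symm)) h.ne
  · exact ⟨e, (U a).mul_mem ((U a).inv_mem (h.xZ e).1) hu,
      show _ • b = b by rw [mul_smul, m, inv_smul_smul]⟩

theorem pgU (c : Ω) : IsPGroup p (U c) := by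
  have := Fact.mk h.nr.prime
  have p0 : (p : F) = 0 := by simpa using not_isUnit_prime_of_dvd_card (h.pq k2)
  have key : ∀ u ∈ U a, ∃ n, u ^ p ^ n = 1 := fun u hu => by
    obtain ⟨i, o, ho, e⟩ := Nat.exists_eq_pow_mul_and_not_dvd (orderOf_pos u).ne' p h.nr.prime.ne_one
    have hv := pow_mem hu (p ^ i)
    obtain ⟨t, ht⟩ := h.NX hv (h.nr.cop h.ne _ hv fun d => ho (d.trans
      (orderOf_dvd_of_pow_eq_one (by rw [← pow_mul, ← e, pow_orderOf_eq_one]))))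
    obtain ⟨j, hj⟩ := H98.isPGroup_iff_forall.1 (h.nr.pg h.ne) _ ht
    have h1 : ∀ n : ℕ, x t ^ n = x (n * t) := fun n => by
      induction n with
      | zero => simp [h.ld.rel.x_zero]
      | succ n ih => rw [pow_succ, ih, h.ld.rel.x_add]; congr 1; push_cast; ring
    refine ⟨i + (j + 1), ?_⟩
    rw [pow_add, pow_mul, ← mul_inv_cancel_left (x t) (u ^ p ^ i),
      (show Commute _ _ from (ZaC (h.xZ t) _ ht).symm).mul_pow, h1, pow_succ, pow_mul, hj, one_pow,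
      mul_one, Nat.cast_mul, p0, mul_zero, zero_mul, h.ld.rel.x_zero]
  obtain ⟨g, rfl⟩ := h.nr.t2.trans c a
  refine H98.isPGroup_iff_forall.2 fun u hu => (key _ (h.nr.conj g c u hu)).imp fun n e => ?_
  rwa [conj_pow, mul_inv_eq_one, mul_eq_left] at e

theorem fixc {V : Set G} (hV : IsPGroup 2 (closure V)) {c d : Ω} (n : c ≠ d) (m : V ⊆ St G c d) :
    ∃ j, (Fx Ω V).ncard = p ^ j + 1 := by
  have := Fact.mk h.nr.prime
  obtain ⟨i, e1, e2, -⟩ := (h.nr.fx V n hV m).2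
  obtain ⟨j, hj⟩ := IsPGroup.iff_card.1 ((h.pgU k2 c).to_le (inf_le_left : CU U V c ≤ _))
  obtain ⟨j, -, e⟩ := (Nat.dvd_prime_pow h.nr.prime).1 (Dvd.intro _ (e2.trans hj))
  exact ⟨j, e ▸ e1⟩

theorem qp : ∃ f, Fintype.card F = p ^ f := by
  have := Fact.mk h.nr.prime
  exact h.cZ k2 ▸ IsPGroup.iff_card.1 ((h.pgU k2 a).to_le inf_le_left)

theorem np : ∃ e, Nat.card Ω = p ^ e + 1 := by
  obtain ⟨j, e⟩ := h.fixc k2 (V := ∅) (by rw [Subgroup.closure_empty]; exact .of_bot) h.ne (Set.empty_subset _)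
  exact ⟨j, by rw [← e, ← Set.ncard_univ]; congr 1; ext; simp⟩

variable (k1 : Kit1.{u})
include k1

theorem fpf (c : Ω) : sl2n x y 1 • c ≠ c := fun hc => by
  have := h.nr.t2.finite
  have s2 := h.n2 k2 one_ne_zero
  have po := h.nr.prime.odd_of_ne_two (h.podd k2)
  obtain ⟨e, he⟩ := h.np k2
  have h1 := (k1.par h.nr.toPre).2.2 _ s2
  have h2 : (Fx Ω {sl2n x y 1}).ncard % 2 = 0 := by
    obtain ⟨i, hi⟩ := po.pow (n := e)
    unfold Nat.ModEq at h1
    omega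
  have hc' : c ∈ Fx Ω {sl2n x y 1} := fun _ e => e ▸ hc
  have h3 := (Set.ncard_pos (Set.toFinite _)).2 ⟨c, hc'⟩
  obtain ⟨c, d, h4, h5, n⟩ := (Set.one_lt_ncard_iff (s := Fx Ω {sl2n x y 1}) (Set.toFinite _)).1 (by omega)
  obtain ⟨j, hj⟩ := h.fixc k2 (p2 s2) n fun g e => ⟨h4 g e, h5 g e⟩
  obtain ⟨w, hw, m⟩ := H89.exists_fixed_of_not_dvd_ncard h.nr.prime (h.nr.pg h.ne)
    (Fx Ω {sl2n x y 1}) (Set.toFinite _) (fun g w hw _ e => e ▸
      fix_of_comm (h.LC (h.nL 1) g g.2) (hw _ rfl)) (fun d => by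
      rw [hj] at d
      rcases j with _ | j
      · exact h.podd k2 ((Nat.prime_dvd_prime_iff_eq h.nr.prime Nat.prime_two).1 d)
      · exact h.nr.prime.ne_one (Nat.dvd_one.1
          ((Nat.dvd_add_right (dvd_pow_self p j.succ_ne_zero)).1 d)))
  have sw := h.ld.sw 1 one_ne_zero
  replace hw := hw _ rfl
  obtain rfl | ⟨t, rfl⟩ := h.ln w fun g hg => m ⟨g, hg⟩
  · exact h.ne (hw.symm.trans sw.1)
  · by_cases t0 : t = 0
    · rw [t0, h.x0] at hw
      exact h.ne (sw.2.symm.trans hw)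
    · rw [h.nx k2 t0 one_ne_zero] at hw
      refine FiniteField.isSquare_neg_one_iff.1 ⟨t, ?_⟩ h.q4
      have := h.xinj hw
      field_simp at this
      linear_combination this

theorem n4 : Nat.card Ω % 4 = 0 := by
  have h1 := (k1.par h.nr.toPre).2.2 _ (h.n2 k2 one_ne_zero)
  rwa [show Fx Ω {sl2n x y 1} = ∅ from Set.eq_empty_of_forall_notMem fun c hc =>
    h.fpf k2 k1 c (hc _ rfl), Set.ncard_empty] at h1

theorem sk {d : G} (hd : d ∈ Zc U a ⊔ Zc U b) (o : orderOf d = 2) (hk : ∀ c ∈ Ln U a b, k • c = c) :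
    IsConj (sl2n x y 1 * k) (d * k) := by
  obtain ⟨l, hl, rfl⟩ := h.Lc k2 (h.nL 1) hd (h.os k2) o
  exact isConj_iff.2 ⟨l, by rw [mul_assoc _ _ k, ← h.KC hk _ (inv_mem hl)]; group⟩

theorem swp (hg : g ∈ St G a b) (e : IsConj (sl2n x y 1) (sl2n x y 1 * g)) :
    ∃ f, f ≠ 0 ∧ ∃ k ∈ St G a b, (∀ c ∈ Ln U a b, k • c = c) ∧ k * k = 1 ∧
      IsConj (sl2n x y 1) (sl2n x y 1 * k) ∧ g = sl2h x y f * k := by
  obtain ⟨l, σ, l0, h1, -⟩ := h.semi k2 hg
  have j2 : sl2n x y 1 * g * (sl2n x y 1 * g) = 1 := by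
    obtain ⟨w, hw⟩ := isConj_iff.1 e
    rw [← hw, ← pow_two, conj_pow, pow_two, h.n2 k2 one_ne_zero, mul_one, mul_inv_cancel]
  have ac : ∀ c, c ≠ 0 → (sl2n x y 1 * g) • x c • b = x (-(1 ^ 2 / (l * σ c))) • b := fun c c0 => by
    rw [mul_smul, h.act hg (h1 c), h.nx k2 (mul_ne_zero l0 (by simpa using c0)) one_ne_zero]
  have h2 : ∀ c, c ≠ 0 → σ l * σ (σ c) = l * c := fun c c0 => by
    have c1 : σ c ≠ 0 := by simpa using c0
    have := ac (-(1 ^ 2 / (l * σ c))) (by simp [l0, c0])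
    rw [← ac c c0, ← mul_smul, j2, one_smul] at this
    have := h.xinj this
    have c2 : σ (σ c) ≠ 0 := by simpa using c0
    have c3 : σ l ≠ 0 := by simpa using l0
    simp only [map_neg, map_div₀, map_mul, map_one, one_pow] at this
    field_simp at this
    linear_combination -this
  have h3 : ∀ c, σ c = c := aut_one h.q4 σ fun c => by
    by_cases c0 : c = 0
    · simp [c0]
    · have := h2 1 one_ne_zero
      rw [map_one, map_one, mul_one, mul_one] at this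
      exact mul_left_cancel₀ l0 ((congrArg (· * σ (σ c)) this).symm.trans (h2 c c0))
  obtain ⟨f, rfl⟩ : IsSquare l := (sq_or h.q4 l0).2 fun ⟨i, hi⟩ => by
    have i0 : i ≠ 0 := fun e => l0 (by simpa [e] using hi)
    refine fpf_conj (h.fpf k2 k1) e (x i⁻¹ • b) ?_
    rw [ac _ (inv_ne_zero i0), h3, show l = -(i * i) by rw [← hi, neg_neg]]
    congr 2
    field_simp
  have f0 : f ≠ 0 := fun e => l0 (by rw [e, mul_zero])
  have kS := mul_mem (h.hS k2 (inv_ne_zero f0)) hg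
  have kF := h.fixF kS fun c => by
    rw [show ∀ t : G, t * g * x c * (t * g)⁻¹ = t * (g * x c * g⁻¹) * t⁻¹ from fun t => by group, h1,
      h.hx (inv_ne_zero f0), h3]
    congr 1
    field_simp
  have eg : g = sl2h x y f * (sl2h x y f⁻¹ * g) := by
    rw [← mul_assoc, h.ld.rel.h_mul' f0 (inv_ne_zero f0), mul_inv_cancel₀ f0, h.ld.rel.h_one, one_mul]
  generalize sl2h x y f⁻¹ * g = k at kS kF eg
  subst eg
  have en : sl2n x y 1 * sl2h x y f = sl2n x y f⁻¹ := by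
    have := (k2.bas h.nr.zsr h.ne le_rfl le_rfl h.ld).2.2.2.2.2.2.1 f 1 f0 one_ne_zero
    rw [mul_inv_eq_iff_eq_mul.1 this, ← h.ld.rel.n_eq]
  rw [← mul_assoc (sl2n x y 1), en] at e j2
  refine ⟨f, f0, k, kS, kF, ?_, e.trans (h.sk k2 k1 (h.nL _)
    (ord2 (h.n2 k2 (inv_ne_zero f0)) (h.n1 (inv_ne_zero f0))) kF).symm, rfl⟩
  rwa [mul_assoc, ← mul_assoc k, h.KC kF _ (h.nL _), ← mul_assoc, ← mul_assoc,
    h.n2 k2 (inv_ne_zero f0), one_mul] at j2

theorem eta (χ : St G a b →* ℂˣ) (h1 : ∀ g : St G a b, (g : G) ∈ U a → χ g = 1)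
    (h2 : ∀ (g : St G a b) c, c ≠ 0 → (g : G) = sl2h x y c → χ g = 1)
    (h3 : ∀ g : St G a b, (∀ c ∈ Ln U a b, (g : G) • c = c) → (g : G) * g = 1 →
      IsConj (sl2n x y 1) (sl2n x y 1 * g) → χ g = 1) (g : St G a b) : χ g = 1 := by
  refine k1.eta h.nr.toPre (sl2n x y 1) χ h.ne (h.n2 k2 one_ne_zero) (h.ld.sw 1 one_ne_zero).1
    (h.fpf k2 k1) h1 (fun g k e => ?_) (fun g e => ?_) g
  · obtain ⟨l, σ, l0, -, m⟩ := h.semi k2 g.2
    obtain ⟨c, c0, e'⟩ := (k2.bas h.nr.zsr h.ne le_rfl le_rfl h.ld).2.2.2.2.2.2.2.2.1 (k * g⁻¹ : St G a b)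
      (by
        rw [coe_mul, coe_inv, e, mul_assoc, mul_assoc, ← mul_assoc g.1, m]
        exact mul_mem (h.nL _) (h.nL _)) (k * g⁻¹).2
    have := h2 _ c c0 e'
    rwa [map_mul, map_inv, mul_inv_eq_one] at this
  · obtain ⟨f, f0, k, kS, kF, k2', c, e'⟩ := h.swp k2 k1 g.2 e
    rw [show g = ⟨_, h.hS k2 f0⟩ * ⟨k, kS⟩ from Subtype.ext e', map_mul, h2 _ f f0 rfl,
      h3 _ kF k2' c, one_mul]

theorem sqr (hg : g ∈ St G a b) {l : F} (e : g * x 1 * g⁻¹ = x l) : IsSquare l := by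
  classical
  choose L σ L0 hL _ using fun g : St G a b => h.semi k2 g.2
  have L1 : ∀ (g : St G a b) {l}, g * x 1 * (g : G)⁻¹ = x l → L g = l := fun g l e => by
    rw [hL, map_one, mul_one] at e
    exact h.ld.inj e
  have q : ∀ {t : F}, t ≠ 0 → ∀ σ : F ≃+* F, quadraticChar F (σ t) = quadraticChar F t :=
    fun {t} t0 σ => by
      by_cases m : IsSquare t
      · rw [(quadraticChar_one_iff_isSquare t0).2 m,
          (quadraticChar_one_iff_isSquare (by simpa using t0)).2 ((aut_sq σ t).2 m)]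
      · rw [quadraticChar_neg_one_iff_not_isSquare.2 m,
          quadraticChar_neg_one_iff_not_isSquare.2 (mt (aut_sq σ t).1 m)]
  let χ : St G a b →* ℂ :=
    { toFun := fun g => (quadraticChar F (L g) : ℤ)
      map_one' := by rw [L1 1 (l := 1) (by simp)]; simp
      map_mul' := fun g k => by
        rw [L1 (g * k) (l := L g * σ g (L k)) (by
          have e := hL k 1
          rw [map_one, mul_one] at e
          rw [← hL, ← e, coe_mul]; group), map_mul, q (L0 k)]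
        simp }
  have one : ∀ g : St G a b, χ.toHomUnits g = 1 ↔ IsSquare (L g) := fun g => by
    rw [← quadraticChar_one_iff_isSquare (L0 g), Units.ext_iff]
    exact Int.cast_eq_one
  have triv : ∀ g : St G a b, (g : G) * x 1 = x 1 * g → χ.toHomUnits g = 1 := fun g e => by
    rw [one, L1 g (mul_inv_eq_iff_eq_mul.2 e)]
    exact IsSquare.one
  rw [← L1 ⟨g, hg⟩ e, ← one]
  refine h.eta k2 k1 _ (fun g m => triv g ((h.xZ 1).2 _ m)) (fun g c c0 m => ?_)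
    (fun g m _ _ => triv g (h.KC m _ (h.xL 1))) _
  rw [one, L1 g (m ▸ h.hx c0 1), mul_one]
  exact IsSquare.sq c

theorem two {i : ℕ} (hg : g ∈ St G a b) (e : g ^ 2 ^ i = 1) : ∀ c ∈ Ln U a b, g • c = c := by
  induction i generalizing g with
  | zero => rw [pow_zero, pow_one] at e; simp [e]
  | succ i ih =>
    have h1 := h.KC (ih (mul_mem hg hg) (by rwa [← pow_two, ← pow_mul, ← pow_succ']))
    obtain ⟨l, σ, l0, m, -⟩ := h.semi k2 hg
    have h2 : ∀ c, l * σ (l * σ c) = c := fun c => h.ld.inj (by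
      rw [← m, ← m, show g * (g * x c * g⁻¹) * g⁻¹ = g * g * x c * (g * g)⁻¹ by group,
        h1 _ (h.xL c), mul_inv_cancel_right])
    have h3 := aut_one' h.q4 σ h2
    have h4 := h2 1
    rw [h3, h3, mul_one, mul_self_eq_one_iff] at h4
    refine h.fixF hg fun c => ?_
    rw [m, h3, h4.resolve_right fun e => FiniteField.isSquare_neg_one_iff.1
      (h.sqr k2 k1 hg (by rw [m, h3, e, mul_one])) h.q4, one_mul]

/-- the dihedral group -/
theorem exD : ∃ (D : Subgroup G) (c d : G), D ≤ Zc U a ⊔ Zc U b ∧ c * c = 1 ∧ d * d = 1 ∧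
    closure {c, d} = D ∧ IsPGroup 2 D ∧
    ∀ j, p ^ j % 4 = 3 → ∃ o, Odd o ∧ p ^ j + 1 = Nat.card D * o := by
  obtain ⟨c, d, s, s2, h1, h2, cL, dL, e1, e2, e3, n, -⟩ :=
    k2.syl h.nr.zsr h.ne le_rfl le_rfl h.ld h.q4
  rw [h.zeta k2] at e3
  obtain ⟨s, rfl⟩ := Nat.exists_eq_add_of_le' s2
  rw [Nat.add_sub_cancel] at e1
  have oc : orderOf c = 2 ^ (s + 1) := orderOf_eq_prime_pow (e1 ▸ h.n1 one_ne_zero)
    (by rw [pow_succ, pow_mul, e1, pow_two, h.n2 k2 one_ne_zero])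
  have od : orderOf d = 2 := ord2 e3 fun e => n (e ▸ one_mem _)
  have h3 := H12.card_sup_mul_card_inf (A := zpowers d) (B := zpowers c) (zpowers_le.2
    (H98.mem_normalizer_of_cj_le (by
      rw [H98.cj, MonoidHom.map_zpowers, zpowers_le]
      exact show d * c * d⁻¹ ∈ _ from e2 ▸ inv_mem (mem_zpowers c))))
  have h4 : zpowers d ⊓ zpowers c = ⊥ := eq_bot_iff.2 fun g hg => by
    classical
    obtain ⟨i, hi, rfl⟩ := Finset.mem_image.1 (mem_zpowers_iff_mem_range_orderOf.1 hg.1)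
    rw [od, Finset.mem_range] at hi
    interval_cases i
    · simp
    · exact absurd (pow_one d ▸ hg.2) n
  rw [h4, card_bot, mul_one, Nat.card_zpowers, Nat.card_zpowers, oc, od, ← pow_succ'] at h3
  have e4 : c * d * (c * d) = 1 := by
    rw [mul_assoc, ← mul_assoc d, mul_inv_eq_iff_eq_mul.1 e2, mul_assoc, e3, mul_one, mul_inv_cancel]
  refine ⟨zpowers d ⊔ zpowers c, c * d, d, sup_le (zpowers_le.2 dL) (zpowers_le.2 cL), e4, e3,
    le_antisymm ((closure_le _).2 ?_) ?_, .of_card h3, fun j hj => ?_⟩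
  · rintro _ (rfl | rfl)
    exacts [mul_mem (mem_sup_right (mem_zpowers _)) (mem_sup_left (mem_zpowers _)),
      mem_sup_left (mem_zpowers _)]
  · have m : d ∈ closure ({c * d, d} : Set G) := subset_closure (.inr rfl)
    exact sup_le (zpowers_le.2 m) (zpowers_le.2 ((mul_mem_cancel_right m).1 (subset_closure (.inl rfl))))
  · obtain ⟨f, hf⟩ := h.qp k2
    rw [h3]
    exact two_part hj (hf ▸ h.q4) (hf ▸ h1) (hf ▸ h2)

end Fr

end H21.NRL
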