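import Cfsg.Agent.H93.DGSpec
import Cfsg.Agent.H3.Pairing
import Cfsg.Agent.H18.Elt
import Cfsg.Agent.H18.FpfHom
import Cfsg.Agent.H90.Zass
import Cfsg.Agent.H34.TameGrp
import Cfsg.Agent.H2.MinNormal
import Cfsg.Agent.H38.Ito
import Cfsg.Agent.H98.Coprime

/-! Palfy's Lemma M, part 1: cyclic and quaternion groups, linear characters of normal subgroups. -/

set_option autoImplicit false
set_option linter.style.haveILetI false

open Cfsg Subgroup H28 H32

namespace H21.PM

/-- cyclic or generalized quaternion -/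
def CQ (s : ℕ) (X : Type*) [Group X] : Prop :=
  IsCyclic X ∨ (s = 2 ∧ ∃ n : ℕ, Nonempty (X ≃* QuaternionGroup (2 ^ n)))

theorem CQ.cases {s : ℕ} {X : Type*} [Group X] (h : CQ s X) :
    IsCyclic X ∨ (s = 2 ∧ ∃ (m : ℕ) (a b : X), H3.DSQ m a b) := by
  rcases h with h | ⟨h2, n, ⟨e⟩⟩
  · exact Or.inl h
  rcases n with _ | n
  · haveI : IsCyclic (QuaternionGroup (2 ^ 0)) := QuaternionGroup.quaternionGroup_one_isCyclic
    exact Or.inl (isCyclic_of_surjective e.symm e.symm.surjective)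
  · exact Or.inr ⟨h2, _, _, _, (H3.dsq_quaternion n).of_mulEquiv e.symm⟩

section
variable {G : Type*} [Group G] [Finite G]

omit [Finite G] in
theorem mem_centralizer_of_hom_eq_one {X : Subgroup G} {g : G} (hg : g ∈ normalizer (X : Set G))
    (h : X.normalizerMonoidHom ⟨g, hg⟩ = 1) : g ∈ centralizer (X : Set G) := fun x hx => by
  have : g * x * g⁻¹ = x := congrArg Subtype.val (DFunLike.congr_fun h (⟨x, hx⟩ : X))
  rw [mul_inv_eq_iff_eq_mul] at this
  exact this.symm

omit [Finite G] in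
theorem orderOf_hom_dvd {X : Subgroup G} {g : G} (hg : g ∈ normalizer (X : Set G)) :
    orderOf (X.normalizerMonoidHom ⟨g, hg⟩) ∣ orderOf g :=
  (orderOf_map_dvd _ _).trans (orderOf_mk g hg).dvd

/-- Lemma D. -/
theorem CQ.mem_centralizer {s : ℕ} [Fact s.Prime] {X : Subgroup G} (hX : IsPGroup s X) (h : CQ s X)
    {g : G} (hg : g ∈ normalizer (X : Set G)) (hc : (orderOf g).Coprime s)
    (h2 : s = 2 → (orderOf g).Coprime 3) (hy : s ≠ 2 → ∃ y ∈ X, y ≠ 1 ∧ g * y = y * g) :
    g ∈ centralizer (X : Set G) := by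
  rcases h.cases with h' | ⟨rfl, m, a, b, h⟩
  · by_cases hs : s = 2
    · subst hs
      exact H34.mem_centralizer_of_cyclic_two hX h'
        ((Nat.Prime.coprime_iff_not_dvd Nat.prime_two).1 hc.symm) hg
    · obtain ⟨y, hy, hy1, e⟩ := hy hs
      exact H90.mem_centralizer_of_cyclic hX hg hc hy hy1 e
  · refine mem_centralizer_of_hom_eq_one hg (orderOf_eq_one_iff.1 ?_)
    have h1 := (orderOf_dvd_natCard (X.normalizerMonoidHom ⟨g, hg⟩)).trans
      (H3.card_mulAut_dvd h.card h.index_frattini)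
    refine Nat.eq_one_of_dvd_coprimes ?_ (orderOf_hom_dvd hg) h1
    refine Nat.Coprime.mul_right (hc.pow_right _) ?_
    have : ∏ i ∈ Finset.range 2, (2 ^ 2 - 2 ^ i) = 2 * 3 := by decide
    rw [this]
    exact hc.mul_right (h2 rfl)

/-- Lemma Q. -/
theorem CQ.exists_lin {X : Subgroup G} [hn : X.Normal] (hX : IsPGroup 2 X) (h : CQ 2 X) :
    ∃ l : X →* ℂˣ, ∀ g : G, (orderOf g).Coprime 2 → g ∈ inertia (homToFun X l) →
      g ∈ centralizer (X : Set G) := by
  have hN : ∀ g : G, g ∈ normalizer (X : Set G) := fun g => by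
    rw [normalizer_eq_top]; exact mem_top g
  rcases h.cases with h | ⟨-, m, a, b, h⟩
  · exact ⟨1, fun g hc _ => H34.mem_centralizer_of_cyclic_two hX h
      ((Nat.Prime.coprime_iff_not_dvd Nat.prime_two).1 hc.symm) (hN g)⟩
  · haveI := h.normal
    obtain ⟨l, hl, hb⟩ := H44.exists_hom_ne_one_of_commutator_le (zpowers a)
      (by rw [h.commutator_eq]; exact zpowers_le.2 (pow_mem (mem_zpowers a) 2)) h.notMem
    refine ⟨l, fun g hc hg => mem_centralizer_of_hom_eq_one (hN g) (orderOf_eq_one_iff.1 ?_)⟩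
    obtain ⟨k, hk⟩ := h.exists_pow_eq_one_of_map_mem (X.normalizerMonoidHom ⟨g, hN g⟩) (by
      by_contra hm
      obtain ⟨i, hi⟩ := h.exists_eq_zpow_mul hm
      have h1 : l (X.normalizerMonoidHom ⟨g, hN g⟩ a) = l a :=
        Units.ext (mem_inertia_iff.1 hg a)
      rw [hi, map_mul, hl _ (zpow_mem (mem_zpowers a) i), one_mul, hl _ (mem_zpowers a)] at h1
      exact hb h1)
    exact Nat.eq_one_of_dvd_coprimes (hc.pow_right k) (orderOf_hom_dvd _)
      (orderOf_dvd_of_pow_eq_one hk)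

theorem exists_lin_of_cyclic {X : Subgroup G} [hn : X.Normal] (h : IsCyclic X) :
    ∃ l : X →* ℂˣ, inertia (homToFun X l) ≤ centralizer (X : Set G) := by
  obtain ⟨l, hl⟩ := H3.exists_injective_hom_complex X
  refine ⟨l, fun g hg x hx => ?_⟩
  have h1 : g * x * g⁻¹ = x :=
    congrArg Subtype.val (hl (Units.ext (mem_inertia_iff.1 hg ⟨x, hx⟩)))
  rw [mul_inv_eq_iff_eq_mul] at h1
  exact h1.symm

theorem exists_cd (N : Subgroup G) [N.Normal] (l : N →* ℂˣ) :
    ∃ d ∈ charDegrees G, (inertia (homToFun N l)).index ∣ d := by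
  haveI := Fintype.ofFinite G
  haveI := Fintype.ofFinite N
  have hθ : IsIrrCharacter N (homToFun N l) := isIrrCharacter_of_hom l
  obtain ⟨χ, hχ, hc⟩ := exists_irr_over hθ
  exact ⟨_, H44.mem_cd hχ, (Dvd.intro _ rfl).trans (H38.charDegree_dvd_of_over hχ hθ hc)⟩

omit [Finite G] in
theorem exists_lin_prod (A B : Subgroup G) [hA : A.Normal] [hB : B.Normal] (hd : Disjoint A B)
    (a : A →* ℂˣ) (b : B →* ℂˣ) : ∃ (N : Subgroup G) (_ : N.Normal) (l : N →* ℂˣ),
      inertia (homToFun N l) ≤ inertia (homToFun A a) ⊓ inertia (homToFun B b) := by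
  have hc : ∀ (x : A) (y : B), Commute (A.subtype x) (B.subtype y) := fun x y =>
    commute_of_normal_of_disjoint A B hA hB hd x y x.2 y.2
  let f := A.subtype.noncommCoprod B.subtype hc
  have hf : Function.Injective f := (MonoidHom.noncommCoprod_injective _ _ hc).2
    ⟨A.subtype_injective, B.subtype_injective, by simpa using hd⟩
  have hr : f.range = A ⊔ B := by
    rw [MonoidHom.noncommCoprod_range, range_subtype, range_subtype]
  haveI hn : f.range.Normal := hr ▸ inferInstance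
  let l : f.range →* ℂˣ := (a.coprod b).comp (MonoidHom.ofInjective hf).symm.toMonoidHom
  have hl : ∀ (z : A × B) (y : f.range), (y : G) = z.1 * z.2 → l y = a z.1 * b z.2 := by
    intro z y hy
    have : y = MonoidHom.ofInjective hf z := Subtype.ext hy
    rw [this]
    change (a.coprod b) ((MonoidHom.ofInjective hf).symm (MonoidHom.ofInjective hf z)) = _
    rw [MulEquiv.symm_apply_apply]
    rfl
  refine ⟨f.range, hn, l, fun g hg => ⟨mem_inertia_iff.2 fun x => ?_, mem_inertia_iff.2 fun x => ?_⟩⟩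
  · have h1 : l _ = l _ := Units.ext (mem_inertia_iff.1 hg ⟨x, hr ▸ mem_sup_left x.2⟩)
    rw [hl (⟨_, hA.conj_mem x x.2 g⟩, 1) _ (by simp), hl (x, 1) _ (by simp)] at h1
    exact congrArg Units.val (by simpa using h1)
  · have h1 : l _ = l _ := Units.ext (mem_inertia_iff.1 hg ⟨x, hr ▸ mem_sup_right x.2⟩)
    rw [hl (1, ⟨_, hB.conj_mem x x.2 g⟩) _ (by simp), hl (1, x) _ (by simp)] at h1
    exact congrArg Units.val (by simpa using h1)

theorem sylow_le_of_normal {p : ℕ} [Fact p.Prime] {C : Subgroup G} [hC : C.Normal] {P : Sylow p G}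
    (h : (P : Subgroup G) ≤ C) (Q : Sylow p G) : (Q : Subgroup G) ≤ C := by
  obtain ⟨g, rfl⟩ := MulAction.exists_smul_eq G P Q
  rintro _ ⟨x, hx, rfl⟩
  exact hC.conj_mem x (h hx) g

omit [Finite G] in
theorem mem_smul_sylow {p : ℕ} {P : Sylow p G} {g x : G} :
    x ∈ ((g • P : Sylow p G) : Subgroup G) ↔ g⁻¹ * x * g ∈ (P : Subgroup G) := by
  rw [Sylow.coe_subgroup_smul, Subgroup.mem_pointwise_smul_iff_inv_smul_mem]
  simp

end

end H21.PM
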