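import Cfsg.Agent.H21.PM1

/-! Palfy's Lemma M, part 2: faithful irreducible action with unique fixing Sylow subgroups. -/

set_option autoImplicit false
set_option linter.style.haveILetI false
set_option linter.unusedSectionVars false

open Cfsg Subgroup

namespace H21.PM

variable {H : Type*} [Group H] {V : Type*} [CommGroup V]

/-- stabilizer of a vector -/
def St (φ : H →* MulAut V) (v : V) : Subgroup H where
  carrier := {x | φ x v = v}
  one_mem' := by simp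
  mul_mem' := fun {a b} ha hb => by
    change φ (a * b) v = v
    rw [map_mul, MulAut.mul_apply, show φ b v = v from hb, show φ a v = v from ha]
  inv_mem' := fun {a} ha => by
    change φ a⁻¹ v = v
    rw [map_inv, MulAut.inv_apply, MulEquiv.symm_apply_eq]
    exact (show φ a v = v from ha).symm

/-- fixed points of a subgroup -/
def Fx (φ : H →* MulAut V) (D : Subgroup H) : Subgroup V where
  carrier := {v | D ≤ St φ v}
  one_mem' := fun x _ => map_one (φ x)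
  mul_mem' := fun {a b} ha hb x hx => by
    change φ x (a * b) = a * b
    rw [map_mul, show φ x a = a from ha hx, show φ x b = b from hb hx]
  inv_mem' := fun {a} ha x hx => by
    change φ x a⁻¹ = a⁻¹
    rw [map_inv, show φ x a = a from ha hx]

variable {φ : H →* MulAut V}

theorem mem_St {v : V} {x : H} : x ∈ St φ v ↔ φ x v = v := Iff.rfl
theorem mem_Fx {v : V} {D : Subgroup H} : v ∈ Fx φ D ↔ D ≤ St φ v := Iff.rfl

theorem app_mul (x y : H) (v : V) : φ (x * y) v = φ x (φ y v) := by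
  rw [map_mul, MulAut.mul_apply]

theorem app_inv (x : H) (v : V) : φ x⁻¹ (φ x v) = v := by
  rw [← app_mul, inv_mul_cancel, map_one, MulAut.one_apply]

theorem app_inv' (x : H) (v : V) : φ x (φ x⁻¹ v) = v := by
  rw [← app_mul, mul_inv_cancel, map_one, MulAut.one_apply]

theorem mem_St_app {v : V} {g x : H} : x ∈ St φ (φ g v) ↔ g⁻¹ * x * g ∈ St φ v := by
  rw [mem_St, mem_St, app_mul, app_mul]
  constructor
  · intro h; rw [h, app_inv]
  · intro h; rw [← app_inv' (φ := φ) g (φ x (φ g v)), h]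

theorem app_ne_one {v : V} (h : v ≠ 1) (g : H) : φ g v ≠ 1 := (φ g).map_ne_one_iff.2 h

/-- faithful irreducible action on a nontrivial `l`-group -/
structure Hy (φ : H →* MulAut V) (l : ℕ) : Prop where
  inj : Function.Injective φ
  irr : ∀ W : Subgroup V, (∀ g : H, ∀ w ∈ W, φ g w ∈ W) → W = ⊥ ∨ W = ⊤
  nt : ∃ v : V, v ≠ 1
  pl : l.Prime
  pg : IsPGroup l V

/-- every nontrivial vector is fixed by exactly one Sylow `u`-subgroup -/
structure UQ (φ : H →* MulAut V) (u : ℕ) : Prop where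
  pr : u.Prime
  dvd : u ∣ Nat.card H
  ex : ∀ v : V, v ≠ 1 → ∃ Q : Sylow u H, (Q : Subgroup H) ≤ St φ v
  un : ∀ v : V, v ≠ 1 → ∀ Q R : Sylow u H, (Q : Subgroup H) ≤ St φ v → (R : Subgroup H) ≤ St φ v →
    Q = R

variable {l u : ℕ}

theorem Hy.eq_one (h : Hy φ l) {x : H} (hx : ∀ v, φ x v = v) : x = 1 :=
  h.inj (by rw [map_one]; exact MulEquiv.ext hx)

theorem Hy.eq_bot (h : Hy φ l) {N : Subgroup H} [hN : N.Normal] {v : V} (hv : v ≠ 1)
    (hf : N ≤ St φ v) : N = ⊥ := by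
  rcases h.irr (Fx φ N) (fun g w hw x hx => mem_St_app.2 (hw (hN.conj_mem' x hx g))) with e | e
  · exact absurd (mem_bot.1 (e ▸ (hf : v ∈ Fx φ N))) hv
  · exact (eq_bot_iff_forall _).2 fun x hx => h.eq_one fun w => (e ▸ mem_top w : w ∈ Fx φ N) hx

variable [Finite H] [Finite V]

theorem Hy.eq_bot_of_pgroup (h : Hy φ l) {N : Subgroup H} [N.Normal] (hp : IsPGroup l N) :
    N = ⊥ := by
  haveI := Fact.mk h.pl
  letI : MulAction N V := MulAction.compHom V (φ.comp N.subtype)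
  obtain ⟨v, hv⟩ := h.nt
  haveI : Nontrivial V := ⟨v, 1, hv⟩
  obtain ⟨n, hn, e⟩ := h.pg.nontrivial_iff_card.1 inferInstance
  obtain ⟨w, hw, hw1⟩ := hp.exists_fixed_point_of_prime_dvd_card_of_fixed_point V
    (e ▸ dvd_pow_self l hn.ne') (a := 1) (fun x => map_one (φ x))
  exact h.eq_bot hw1.symm fun x hx => hw ⟨x, hx⟩

theorem UQ.eq_bot (h : Hy φ l) (q : UQ φ u) {N : Subgroup H} [N.Normal] (hp : IsPGroup u N) :
    N = ⊥ := by
  obtain ⟨v, hv⟩ := h.nt
  obtain ⟨Q, hQ⟩ := q.ex v hv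
  exact h.eq_bot hv ((hp.le_sylow_of_normal Q).trans hQ)

theorem UQ.ne_bot (q : UQ φ u) (Q : Sylow u H) : (Q : Subgroup H) ≠ ⊥ :=
  haveI := Fact.mk q.pr
  Q.ne_bot_of_dvd_card q.dvd

theorem UQ.one_lt (h : Hy φ l) (q : UQ φ u) : 1 < Nat.card (Sylow u H) := by
  haveI := Fact.mk q.pr
  by_contra hc
  haveI : Subsingleton (Sylow u H) := Finite.card_le_one_iff_subsingleton.1 (not_lt.1 hc)
  obtain ⟨Q⟩ : Nonempty (Sylow u H) := inferInstance
  haveI := Q.normal_of_subsingleton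
  exact q.ne_bot Q (q.eq_bot h Q.2)

theorem Hy.pow_inj (h : Hy φ l) {n : ℕ} (hn : n.Coprime l) {v w : V} (e : v ^ n = w ^ n) :
    v = w := by
  haveI := Fact.mk h.pl
  obtain ⟨k, hk⟩ := h.pg.exists_card_eq
  exact (powCoprime (G := V) (n := n) (hk ▸ (hn.symm.pow_left k))).injective e

/-- maximal stabilizer in `N` -/
def Mx (φ : H →* MulAut V) (N : Subgroup H) (v : V) : Prop :=
  v ≠ 1 ∧ ∀ w : V, w ≠ 1 → N ⊓ St φ v ≤ St φ w → N ⊓ St φ w ≤ St φ v

theorem exists_mx (N : Subgroup H) {v : V} (hv : v ≠ 1) :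
    ∃ w, Mx φ N w ∧ N ⊓ St φ v ≤ St φ w := by
  obtain ⟨D, hle, hD⟩ := Finite.exists_le_maximal
    (p := fun D : Subgroup H => ∃ w : V, w ≠ 1 ∧ D = N ⊓ St φ w) (a := N ⊓ St φ v) ⟨v, hv, rfl⟩
  obtain ⟨w, hw, rfl⟩ := hD.prop
  exact ⟨w, ⟨hw, fun y hy hh => (hD.le_of_ge ⟨y, hy, rfl⟩ (le_inf inf_le_left hh)).trans
    inf_le_right⟩, hle.trans inf_le_right⟩

theorem Mx.app {N : Subgroup H} [hN : N.Normal] {v : V} (h : Mx φ N v) (g : H) :
    Mx φ N (φ g v) := by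
  refine ⟨app_ne_one h.1 g, fun w hw hh x hx => mem_St_app.2 ?_⟩
  refine h.2 (φ g⁻¹ w) (app_ne_one hw _) (fun y hy => mem_St_app.2 (hh ⟨?_, mem_St_app.2 ?_⟩))
    ⟨hN.conj_mem' x hx.1 g, mem_St_app.2 ?_⟩
  · exact hN.conj_mem' y hy.1 g⁻¹
  · simpa [mul_assoc] using hy.2
  · simpa [mul_assoc] using hx.2

theorem inf_St_app {N : Subgroup H} [hN : N.Normal] {v w : V} (g : H)
    (h : N ⊓ St φ (φ g v) = N ⊓ St φ (φ g w)) : N ⊓ St φ v = N ⊓ St φ w := by
  have key : ∀ {v w : V}, N ⊓ St φ (φ g v) = N ⊓ St φ (φ g w) → N ⊓ St φ v ≤ N ⊓ St φ w :=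
    fun {v w} h x hx => by
      have h1 : g * x * g⁻¹ ∈ N ⊓ St φ (φ g v) :=
        ⟨hN.conj_mem x hx.1 g, mem_St_app.2 (by simpa [mul_assoc] using hx.2)⟩
      rw [h] at h1
      exact ⟨hx.1, by simpa [mul_assoc] using mem_St_app.1 h1.2⟩
  exact le_antisymm (key h) (key h.symm)

/-- the norm operator -/
noncomputable def T (φ : H →* MulAut V) (B : Subgroup H) (v : V) : V :=
  haveI := Fintype.ofFinite B
  ∏ b : B, φ b v

theorem T_mul (B : Subgroup H) (v w : V) : T φ B (v * w) = T φ B v * T φ B w := by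
  simp [T, Finset.prod_mul_distrib]

theorem T_of_le {B : Subgroup H} {v : V} (h : B ≤ St φ v) : T φ B v = v ^ Nat.card B := by
  letI := Fintype.ofFinite B
  rw [T, Finset.prod_congr rfl (g := fun _ => v) (fun b _ => h b.2), Finset.prod_const,
    Nat.card_eq_fintype_card, Finset.card_univ]

theorem le_St_T (B : Subgroup H) (v : V) : B ≤ St φ (T φ B v) := fun x hx => by
  letI := Fintype.ofFinite B
  rw [mem_St, T, map_prod]
  exact Fintype.prod_equiv (Equiv.mulLeft (⟨x, hx⟩ : B)) _ _ fun b => (app_mul x b v).symm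

theorem mem_St_T {B : Subgroup H} {v : V} {x : H} (hx : x ∈ St φ v) (hc : ∀ b ∈ B, x * b = b * x) :
    x ∈ St φ (T φ B v) := by
  rw [mem_St, T, map_prod]
  exact Finset.prod_congr rfl fun b _ => by rw [← app_mul, hc b b.2, app_mul, hx]

theorem T_eq_one {A : Subgroup H} (hA : ∀ a ∈ A, ∀ b ∈ A, a * b = b * a) {v w : V} (hv : Mx φ A v)
    (hw : Mx φ A w) (hne : A ⊓ St φ v ≠ A ⊓ St φ w) : T φ (A ⊓ St φ v) w = 1 := by
  by_contra h1
  have h2 : A ⊓ St φ w ≤ St φ (T φ (A ⊓ St φ v) w) := fun x hx =>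
    mem_St_T hx.2 fun b hb => hA x hx.1 b hb.1
  exact hne (le_antisymm
    (le_inf inf_le_left ((le_inf inf_le_left (le_St_T _ w)).trans (hw.2 _ h1 h2)))
    (le_inf inf_le_left ((le_inf inf_le_left h2).trans (hv.2 _ h1 (le_St_T _ w)))))

theorem Hy.fix_of_odd (h : Hy φ l) {A : Subgroup H} [A.Normal]
    (hA : ∀ a ∈ A, ∀ b ∈ A, a * b = b * a) (hc : (Nat.card A).Coprime l) {v w : V}
    (hv : Mx φ A v) (hw : Mx φ A w) (hne : A ⊓ St φ v ≠ A ⊓ St φ w) {x : H}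
    (hx : (orderOf x).Coprime 2) (hf : x ∈ St φ (v * w)) : x ∈ St φ v := by
  have hn : (Nat.card ↥(A ⊓ St φ v)).Coprime l :=
    hc.coprime_dvd_left (card_dvd_of_le inf_le_left)
  have e : φ x v * φ x w = v * w := by rw [← map_mul]; exact hf
  have e1 := congrArg (T φ (A ⊓ St φ v)) e
  rw [T_mul, T_mul, T_eq_one hA hv hw hne, T_of_le (v := v) inf_le_right, mul_one] at e1
  by_cases c1 : A ⊓ St φ v = A ⊓ St φ (φ x v)
  · rw [T_eq_one hA hv (hw.app x) (fun c => hne (inf_St_app x (c1.symm.trans c))), mul_one,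
      T_of_le (c1.le.trans inf_le_right)] at e1
    exact h.pow_inj hn e1
  rw [T_eq_one hA hv (hv.app x) c1, one_mul] at e1
  by_cases c2 : A ⊓ St φ v = A ⊓ St φ (φ x w)
  · rw [T_of_le (c2.le.trans inf_le_right)] at e1
    have e2 := h.pow_inj hn e1
    rw [e2, mul_comm] at e
    have e3 : x ^ 2 ∈ St φ v := by
      rw [mem_St, pow_two, app_mul, mul_left_cancel e, e2]
    exact H98.mem_of_pow_mem_of_coprime e3 hx
  · rw [T_eq_one hA hv (hw.app x) c2, ← one_pow (Nat.card ↥(A ⊓ St φ v))] at e1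
    exact absurd (h.pow_inj hn e1).symm hv.1

/-- Step 1: abelian normal subgroups act semiregularly. -/
theorem Hy.semireg_of_comm (h : Hy φ l) (q : UQ φ u) (hu : u ≠ 2) {A : Subgroup H} [hN : A.Normal]
    (hA : ∀ a ∈ A, ∀ b ∈ A, a * b = b * a) (hc : (Nat.card A).Coprime l) {a : H} (ha : a ∈ A)
    {v : V} (hv : v ≠ 1) (hf : a ∈ St φ v) : a = 1 := by
  haveI := Fact.mk q.pr
  obtain ⟨v1, h1, hle⟩ := exists_mx (φ := φ) A hv
  have same : ∀ {v w : V}, Mx φ A v → Mx φ A w → A ⊓ St φ v ≠ A ⊓ St φ w → ∀ Q : Sylow u H,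
      (Q : Subgroup H) ≤ St φ v → (Q : Subgroup H) ≤ St φ w := fun {v w} hv hw hne Q hQ => by
    have hvw : v * w ≠ 1 := fun e => hne (by
      rw [eq_inv_of_mul_eq_one_left e]
      congr 1
      ext x
      simp [mem_St])
    obtain ⟨R, hR⟩ := q.ex _ hvw
    have ho : ∀ x ∈ (R : Subgroup H), (orderOf x).Coprime 2 := fun x hx => by
      obtain ⟨k, hk⟩ := (IsPGroup.iff_orderOf.1 R.2) ⟨x, hx⟩
      rw [← orderOf_mk x hx, hk]
      exact ((Nat.coprime_primes q.pr Nat.prime_two).2 hu).pow_left k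
    rw [q.un v hv.1 Q R hQ fun x hx => h.fix_of_odd hA hc hv hw hne (ho x hx) (hR hx)]
    exact fun x hx => h.fix_of_odd hA hc hw hv hne.symm (ho x hx) (mul_comm v w ▸ hR hx)
  by_cases hall : ∀ g : H, A ⊓ St φ v1 = A ⊓ St φ (φ g v1)
  · haveI : (A ⊓ St φ v1).Normal := ⟨fun x hx g => ⟨hN.conj_mem x hx.1 g, by
      have := mem_St_app.1 (hall g⁻¹ ▸ hx : x ∈ A ⊓ St φ (φ g⁻¹ v1)).2
      simpa using this⟩⟩
    have := h.eq_bot h1.1 (N := A ⊓ St φ v1) inf_le_right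
    exact mem_bot.1 (this ▸ (⟨ha, hle ⟨ha, hf⟩⟩ : a ∈ A ⊓ St φ v1))
  exfalso
  push Not at hall
  obtain ⟨g0, hg0⟩ := hall
  obtain ⟨Q, hQ⟩ := q.ex v1 h1.1
  have hQg : ∀ g : H, (Q : Subgroup H) ≤ St φ (φ g v1) := fun g => by
    by_cases c : A ⊓ St φ v1 = A ⊓ St φ (φ g v1)
    · exact same (h1.app g0) (h1.app g) (fun e => hg0 (c.trans e.symm)) Q
        (same h1 (h1.app g0) hg0 Q hQ)
    · exact same h1 (h1.app g) c Q hQ
  refine q.ne_bot Q (le_bot_iff.1 ?_)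
  rw [← h.eq_bot h1.1 (normalCore_le (St φ v1))]
  intro x hx g
  simpa using mem_St_app.1 (hQg g⁻¹ hx)

end H21.PM
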