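import Cfsg.Agent.H21.PM2

/-! Palfy's Lemma M (`H93.DG.JobPM`). -/

set_option autoImplicit false
set_option linter.style.haveILetI false
set_option linter.unusedSectionVars false

open Cfsg Subgroup H32
open scoped commutatorElement

namespace H21.PM

variable {H : Type*} [Group H] {V : Type*} [CommGroup V] {φ : H →* MulAut V} {l u : ℕ}

/-- restriction of the action to an invariant subgroup -/
def resA (φ : H →* MulAut V) (Y : Subgroup H) (W : Subgroup V) (h : ∀ y ∈ Y, ∀ w ∈ W, φ y w ∈ W) :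
    Y →* MulAut W where
  toFun y :=
    { toFun := fun w => ⟨φ y w, h _ y.2 _ w.2⟩
      invFun := fun w => ⟨φ (y : H)⁻¹ w, h _ (inv_mem y.2) _ w.2⟩
      left_inv := fun w => Subtype.ext (app_inv _ _)
      right_inv := fun w => Subtype.ext (app_inv' _ _)
      map_mul' := fun a b => Subtype.ext (map_mul (φ y) _ _) }
  map_one' := MulEquiv.ext fun w => Subtype.ext (by simp)
  map_mul' a b := MulEquiv.ext fun w => Subtype.ext (app_mul _ _ _)

variable [Finite H] [Finite V]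

theorem coprime_of_mem {p s : ℕ} (hp : p.Prime) (hs : s.Prime) (hne : p ≠ s) {P : Subgroup H}
    (hP : IsPGroup p P) {x : H} (hx : x ∈ P) : (orderOf x).Coprime s := by
  haveI := Fact.mk hp
  obtain ⟨k, hk⟩ := (IsPGroup.iff_orderOf.1 hP) ⟨x, hx⟩
  rw [← orderOf_mk x hx, hk]
  exact ((Nat.coprime_primes hp hs).2 hne).pow_left k

/-- Lemma C: the `A × B` argument. -/
theorem Hy.le_centralizer (h : Hy φ l) (q : UQ φ u) {s : ℕ} (hs : s.Prime) (hne : u ≠ s)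
    {S : Subgroup H} [hN : S.Normal] (hS : IsPGroup s S) (h2 : s = 2 → u ≠ 3)
    (hz : s ≠ 2 → ∃ z ∈ S, z ∈ centralizer (S : Set H) ∧ (∀ v, v ≠ 1 → z ∉ St φ v) ∧
      ∀ Q : Sylow u H, z ∈ centralizer (Q : Set H)) (P : Sylow u H) :
    (P : Subgroup H) ≤ centralizer (S : Set H) := by
  haveI := Fact.mk q.pr
  haveI := Fact.mk hs
  obtain ⟨v0, hv0⟩ := h.nt
  obtain ⟨v, hv, -⟩ := exists_mx (φ := φ) S hv0
  obtain ⟨Q, hQ⟩ := q.ex v hv.1
  refine sylow_le_of_normal (P := Q) ?_ P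
  set D := S ⊓ St φ v with hD
  have hDQ : ⁅D, (Q : Subgroup H)⁆ = ⊥ := by
    rw [eq_bot_iff, commutator_le]
    intro d hd x hx
    have e : d⁻¹ • Q = Q := q.un v hv.1 _ _ (fun y hy => by
      have := mul_mem (mul_mem (inv_mem (mem_inf.1 hd).2) (hQ (mem_smul_sylow.1 hy)))
        (mem_inf.1 hd).2
      simpa [mul_assoc] using this) hQ
    have h1 : d * x * d⁻¹ ∈ (Q : Subgroup H) := by
      simpa using mem_smul_sylow.1 (e.symm ▸ hx : x ∈ ((d⁻¹ • Q : Sylow u H) : Subgroup H))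
    refine (IsPGroup.disjoint_of_ne u s hne _ _ Q.2 hS).le_bot ⟨Q.1.mul_mem h1 (Q.1.inv_mem hx), ?_⟩
    have := S.mul_mem hd.1 (hN.conj_mem _ (S.inv_mem hd.1) x)
    simpa [commutatorElement_def, mul_assoc] using this
  have hQD : (Q : Subgroup H) ≤ normalizer (D : Set H) :=
    (le_centralizer_iff.1 (commutator_eq_bot_iff_le_centralizer.1 hDQ)).trans
      (centralizer_le_normalizer _)
  have hinv : ∀ y ∈ normalizer (D : Set H), ∀ w ∈ Fx φ D, φ y w ∈ Fx φ D := fun y hy w hw x hx =>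
    mem_St_app.2 (hw (by simpa using ((mem_normalizer_iff.1 (inv_mem hy)) x).1 hx))
  set ψ := resA φ _ _ hinv
  set X := (S.subgroupOf (normalizer (D : Set H))).map ψ
  have hvD : v ∈ Fx φ D := mem_Fx.2 inf_le_right
  haveI : Nontrivial (Fx φ D) := ⟨⟨v, hvD⟩, 1, fun e => hv.1 (congrArg Subtype.val e)⟩
  have hX : IsPGroup s X := hS.comap_subtype.map _
  have hcq : CQ s X := H18.isCyclic_or_quaternion_of_fpf_hom X.subtype (by
    rintro ⟨_, y, hy, rfl⟩ h1 w hw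
    by_contra hw1
    have h3 : (y : H) ∈ D := ⟨hy, hv.2 w (fun e => hw1 (Subtype.ext e)) w.2
      ⟨hy, congrArg Subtype.val hw⟩⟩
    exact h1 (Subtype.ext (MulEquiv.ext fun w' => Subtype.ext (w'.2 h3)))) hX
  have hcen : ∀ x (hx : x ∈ (Q : Subgroup H)), ψ ⟨x, hQD hx⟩ ∈ centralizer (X : Set _) := by
    intro x hx
    have ho : orderOf (ψ ⟨x, hQD hx⟩) ∣ orderOf x :=
      (orderOf_map_dvd _ _).trans (orderOf_mk x _).dvd
    refine hcq.mem_centralizer hX ?_ ((coprime_of_mem q.pr hs hne Q.2 hx).coprime_dvd_left ho)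
      (fun e => (coprime_of_mem q.pr Nat.prime_three (h2 e) Q.2 hx).coprime_dvd_left ho) fun e => ?_
    · exact le_normalizer_map ψ
        ⟨_, (normalizer_eq_top (S.subgroupOf (normalizer (D : Set H)))).ge (mem_top _), rfl⟩
    · obtain ⟨z, hzS, hzc, hzv, hzQ⟩ := hz e
      have hzD : z ∈ normalizer (D : Set H) :=
        centralizer_le_normalizer _ (centralizer_le (show (D : Set H) ⊆ S from inf_le_left) hzc)
      refine ⟨ψ ⟨z, hzD⟩, ⟨_, hzS, rfl⟩, fun e1 => hzv v hv.1 ?_, ?_⟩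
      · exact congrArg Subtype.val (DFunLike.congr_fun e1 (⟨v, hvD⟩ : Fx φ D))
      · rw [← map_mul, ← map_mul]
        exact congrArg ψ (Subtype.ext (hzQ Q x hx))
  have hQN : (Q : Subgroup H) ≤ normalizer ((S ⊓ normalizer (D : Set H) : Subgroup H) : Set H) :=
    (le_inf (by rw [normalizer_eq_top]; exact le_top) (hQD.trans le_normalizer)).trans
      inf_normalizer_le_normalizer_inf
  have hND : ⁅S ⊓ normalizer (D : Set H), (Q : Subgroup H)⁆ ≤ D := by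
    rw [commutator_le]
    intro n hn x hx
    refine ⟨?_, ?_⟩
    · have := S.mul_mem hn.1 (hN.conj_mem _ (S.inv_mem hn.1) x)
      simpa [commutatorElement_def, mul_assoc] using this
    · have e1 : ψ ⁅(⟨n, hn.2⟩ : normalizer (D : Set H)), ⟨x, hQD hx⟩⁆ = 1 := by
        rw [map_commutatorElement, commutatorElement_eq_one_iff_mul_comm]
        exact hcen x hx _ ⟨_, hn.1, rfl⟩
      exact congrArg Subtype.val (DFunLike.congr_fun e1 (⟨v, hvD⟩ : Fx φ D))
  have hN0 : ⁅S ⊓ normalizer (D : Set H), (Q : Subgroup H)⁆ = ⊥ := by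
    rw [← H98.commutator_commutator_eq Q.2 (H98.not_dvd_card_of_isPGroup_ne q.pr hne
      (hS.to_inf_left (K := normalizer (D : Set H)))) hQN, eq_bot_iff, ← hDQ]
    exact commutator_mono hND le_rfl
  refine le_centralizer_iff.1 (H98.thompson_AB hS hS.to_inf_left
    (H98.res_eq_self_of_isPGroup_prime q.pr hne Q.2) ?_ ?_ hDQ ?_)
  · rw [normalizer_eq_top]; exact le_top
  · rw [normalizer_eq_top]; exact le_top
  · exact (inf_le_inf_left _ (centralizer_le_normalizer _)).trans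
      (commutator_eq_bot_iff_le_centralizer.1 hN0)

theorem card_ne_one (W : Subgroup V) : Nat.card {w : V // w ∈ W ∧ w ≠ 1} = Nat.card W - 1 := by
  have : Nat.card {w : V // w ∈ W ∧ w ≠ 1} = ((W : Set V) \ {1}).ncard := rfl
  rw [this, Set.ncard_sdiff_singleton_of_mem W.one_mem]
  rfl

theorem UQ.count (q : UQ φ u) {C : Subgroup H} [C.Normal] (P : Sylow u H)
    (hP : (P : Subgroup H) ≤ C) (W : Subgroup V) (hW : ∀ c ∈ C, ∀ w ∈ W, φ c w ∈ W) :
    Nat.card W - 1 = Nat.card (Sylow u H) * (Nat.card ↥(W ⊓ Fx φ P) - 1) := by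
  haveI := Fact.mk q.pr
  haveI := Fintype.ofFinite (Sylow u H)
  choose f hf using fun w : {w : V // w ∈ W ∧ w ≠ 1} => q.ex w.1 w.2.2
  rw [← card_ne_one, ← Nat.card_congr (Equiv.sigmaFiberEquiv f), Nat.card_sigma,
    Finset.sum_congr rfl (g := fun _ => Nat.card ↥(W ⊓ Fx φ P) - 1), Finset.sum_const,
    Nat.card_eq_fintype_card (α := Sylow u H), Finset.card_univ, smul_eq_mul]
  intro Q _
  obtain ⟨g, rfl⟩ := MulAction.exists_smul_eq H P Q
  obtain ⟨c, hc, n, hn, rfl⟩ := mem_sup_of_normal_left.1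
    ((sup_comm _ C).symm.trans (Sylow.normalizer_sup_eq_top' P hP) ▸ mem_top g)
  rw [mul_smul, Sylow.smul_eq_iff_mem_normalizer.2 hn, ← card_ne_one]
  refine Nat.card_congr ⟨fun w => ⟨φ c⁻¹ w.1.1, ⟨hW _ (inv_mem hc) _ w.1.2.1, fun x hx =>
    mem_St_app.2 (hf w.1 (w.2.symm ▸ mem_smul_sylow.2 (by simpa [mul_assoc] using hx)))⟩,
      app_ne_one w.1.2.2 _⟩, fun w => ⟨⟨φ c w.1, hW _ hc _ w.2.1.1, app_ne_one w.2.2 _⟩,
      q.un _ (app_ne_one w.2.2 c) _ _ (hf _) fun x hx =>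
        mem_St_app.2 (w.2.1.2 (mem_smul_sylow.1 hx))⟩,
    fun w => Subtype.ext (Subtype.ext (app_inv' _ _)), fun w => Subtype.ext (app_inv _ _)⟩

/-- Lemma E. -/
theorem Hy.semireg_of_cent (h : Hy φ l) (q : UQ φ u) {S : Subgroup H} [S.Normal] (P : Sylow u H)
    (hP : (P : Subgroup H) ≤ centralizer (S : Set H)) {x : H} (hx : x ∈ S) {v : V} (hv : v ≠ 1)
    (hf : x ∈ St φ v) : x = 1 := by
  haveI := Fact.mk h.pl
  have e1 := q.count P le_top ⊤ fun _ _ _ _ => mem_top _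
  have e2 := q.count P hP (Fx φ (zpowers x)) fun c hc w hw => zpowers_le.2 (mem_St_app.2 (by
    rw [mul_assoc, hc x hx, inv_mul_cancel_left]; exact hw (mem_zpowers x)))
  have hp : ∀ W : Subgroup V, ∃ k, Nat.card W = l ^ k := fun W => (h.pg.to_subgroup W).exists_card_eq
  have hpos : ∀ (W : Subgroup V) (k : ℕ), v ∈ W → Nat.card W = l ^ k → 0 < k := fun W k hw e =>
    Nat.pos_of_ne_zero fun e0 => hv (mem_bot.1 (card_eq_one.1 (by rw [e, e0, pow_zero]) ▸ hw))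
  obtain ⟨a, ha⟩ := hp ⊤
  obtain ⟨b, hb⟩ := hp (⊤ ⊓ Fx φ P)
  obtain ⟨c, hc⟩ := hp (Fx φ (zpowers x))
  obtain ⟨d, hd⟩ := hp (Fx φ (zpowers x) ⊓ Fx φ P)
  rw [ha, hb] at e1
  rw [hc, hd] at e2
  have e := H93.DG.pow_eq_of_count h.pl (q.one_lt h) (hpos _ _ (mem_top v) ha)
    (hpos _ _ (zpowers_le.2 hf) hc) e1 e2
  have e3 : Fx φ (zpowers x) = ⊤ := eq_of_le_of_card_ge le_top (by rw [ha, hc, e])
  exact h.eq_one fun w => (e3 ▸ mem_top w : w ∈ Fx φ (zpowers x)) (mem_zpowers x)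

theorem Hy.cq (h : Hy φ l) {s : ℕ} [Fact s.Prime] {S : Subgroup H} (hS : IsPGroup s S)
    (hf : ∀ x ∈ S, ∀ v, v ≠ 1 → x ∈ St φ v → x = 1) : CQ s S :=
  haveI : Nontrivial V := let ⟨v, hv⟩ := h.nt; ⟨v, 1, hv⟩
  H18.isCyclic_or_quaternion_of_fpf_hom (φ.comp S.subtype)
    (fun a ha w hw => by_contra fun hw1 => ha (Subtype.ext (hf a a.2 w hw1 hw))) hS

/-- Lemma F. -/
theorem Hy.exists_lin (h : Hy φ l) {q r s : ℕ} (hq : UQ φ q) (hr : UQ φ r) (hqr : q ≠ r)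
    (hs : s.Prime) {S : Subgroup H} [hN : S.Normal] (hS : IsPGroup s S) (h0 : S ≠ ⊥) :
    ∃ (N : Subgroup H) (_ : N.Normal) (a : N →* ℂˣ), IsPGroup s N ∧ ∀ u, UQ φ u →
      ∀ P : Sylow u H, (P : Subgroup H) ≤ inertia (homToFun N a) →
        (P : Subgroup H) ≤ centralizer (S : Set H) := by
  haveI := Fact.mk hs
  have hne : ∀ u, UQ φ u → u ≠ s := fun u hu e => h0 (hu.eq_bot h (e ▸ hS))
  by_cases h2 : s = 2
  · subst h2
    obtain ⟨t, ht, h3⟩ : ∃ t, UQ φ t ∧ t ≠ 3 := by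
      by_cases c : q = 3
      · exact ⟨r, hr, fun e => hqr (c.trans e.symm)⟩
      · exact ⟨q, hq, c⟩
    obtain ⟨T⟩ : Nonempty (Sylow t H) := inferInstance
    have h4 := h.le_centralizer ht hs (hne t ht) hS (fun _ => h3) (fun e => absurd rfl e) T
    obtain ⟨a, ha⟩ := (h.cq hS fun x hx v hv hf => h.semireg_of_cent ht T h4 hx hv hf).exists_lin hS
    exact ⟨S, hN, a, hS, fun u hu P hP x hx =>
      ha x (coprime_of_mem hu.pr hs (hne u hu) P.2 hx) (hP hx)⟩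
  obtain ⟨t, ht, h3⟩ : ∃ t, UQ φ t ∧ t ≠ 2 := by
    by_cases c : q = 2
    · exact ⟨r, hr, fun e => hqr (c.trans e.symm)⟩
    · exact ⟨q, hq, c⟩
  have hZ : IsPGroup s ↥(S ⊓ centralizer (S : Set H)) := hS.to_inf_left
  have hsl : s ≠ l := fun e => h0 (h.eq_bot_of_pgroup (e ▸ hS))
  have hreg : ∀ x ∈ S ⊓ centralizer (S : Set H), ∀ v, v ≠ 1 → x ∈ St φ v → x = 1 :=
    fun x hx v hv hf => h.semireg_of_comm ht h3 (A := S ⊓ centralizer (S : Set H))
      (fun a ha b hb => hb.2 a ha.1) (by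
      obtain ⟨k, hk⟩ := hZ.exists_card_eq
      rw [hk]
      exact ((Nat.coprime_primes hs h.pl).2 hsl).pow_left k) hx hv hf
  obtain ⟨a, ha⟩ := exists_lin_of_cyclic ((h.cq hZ hreg).resolve_right fun e => h2 e.1)
  refine ⟨_, inferInstance, a, hZ, fun u hu P hP => ?_⟩
  haveI := Fact.mk hu.pr
  obtain ⟨z, hz, hz1⟩ := (bot_or_exists_ne_one _).resolve_left
    (H98.inf_centralizer_ne_bot hS hS le_normalizer h0)
  exact h.le_centralizer hu hs (hne u hu) hS (fun e => absurd e h2) (fun _ => ⟨z, hz.1, hz.2,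
    fun v hv hf => hz1 (hreg z hz v hv hf),
    fun Q => le_centralizer_iff.1 (sylow_le_of_normal (hP.trans ha) Q) hz⟩) P

theorem Hy.exists_core [Group.IsSolvable H] (h : Hy φ l) (q : UQ φ u) : ∃ s : ℕ, s.Prime ∧
    pCore s H ≠ ⊥ ∧ ∀ P : Sylow u H, ¬ (P : Subgroup H) ≤ centralizer (pCore s H : Set H) := by
  haveI := Fact.mk q.pr
  obtain ⟨Q⟩ : Nonempty (Sylow u H) := inferInstance
  obtain ⟨s, hs⟩ : ∃ s : Nat.Primes, ¬ (Q : Subgroup H) ≤ centralizer (pCore s H : Set H) := by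
    by_contra hc
    push Not at hc
    have h1 : (Q : Subgroup H) ≤ fittingSubgroup H := by
      refine le_trans (le_centralizer_iff.1 ?_) (H2.centralizer_fitting_le H)
      rw [H2.fitting_eq_iSup_pCore]
      exact iSup_le fun s => le_centralizer_iff.1 (hc s)
    exact q.ne_bot Q (le_bot_iff.1 ((H2.le_pCore_of_le_fitting Q.2 h1).trans
      (q.eq_bot h (H98.isPGroup_pCore u H)).le))
  refine ⟨s, s.2, fun e => hs ?_, fun P hP => hs (sylow_le_of_normal hP Q)⟩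
  rw [le_centralizer_iff, e]
  exact bot_le

theorem Hy.main [Group.IsSolvable H] (h : Hy φ l) {q r : ℕ} (hq : UQ φ q) (hr : UQ φ r)
    (hqr : q ≠ r) : ∃ d ∈ charDegrees H, q * r ∣ d := by
  obtain ⟨s1, p1, n1, c1⟩ := h.exists_core hq
  obtain ⟨s2, p2, n2, c2⟩ := h.exists_core hr
  obtain ⟨A, _, a, hA, ha⟩ := h.exists_lin hq hr hqr p1 (H98.isPGroup_pCore s1 H) n1
  obtain ⟨N, _, c, h1, h2⟩ : ∃ (N : Subgroup H) (_ : N.Normal) (c : N →* ℂˣ),
      (∀ P : Sylow q H, ¬ (P : Subgroup H) ≤ inertia (homToFun N c)) ∧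
      ∀ P : Sylow r H, ¬ (P : Subgroup H) ≤ inertia (homToFun N c) := by
    by_cases e : s1 = s2
    · subst e
      exact ⟨A, inferInstance, a, fun P hP => c1 P (ha q hq P hP), fun P hP => c2 P (ha r hr P hP)⟩
    · obtain ⟨B, _, b, hB, hb⟩ := h.exists_lin hq hr hqr p2 (H98.isPGroup_pCore s2 H) n2
      haveI := Fact.mk p1
      haveI := Fact.mk p2
      obtain ⟨N, _, c, hc⟩ := exists_lin_prod A B (IsPGroup.disjoint_of_ne s1 s2 e _ _ hA hB) a b
      exact ⟨N, inferInstance, c, fun P hP => c1 P (ha q hq P ((hP.trans hc).trans inf_le_left)),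
        fun P hP => c2 P (hb r hr P ((hP.trans hc).trans inf_le_right))⟩
  obtain ⟨d, hd, e⟩ := exists_cd N c
  haveI := Fact.mk hq.pr
  haveI := Fact.mk hr.pr
  refine ⟨d, hd, (((Nat.coprime_primes hq.pr hr.pr).2 hqr).mul_dvd_of_dvd_of_dvd ?_ ?_).trans e⟩
  · by_contra hc
    obtain ⟨P, hP⟩ := H18.exists_sylow_le_of_not_dvd hc
    exact h1 P hP
  · by_contra hc
    obtain ⟨P, hP⟩ := H18.exists_sylow_le_of_not_dvd hc
    exact h2 P hP

theorem uq_of_nq (hu : u.Prime) (hd : u ∣ φ.ker.index) (h : H93.DG.NQ φ u) :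
    UQ (QuotientGroup.kerLift φ) u := by
  haveI := Fact.mk hu
  have hs := QuotientGroup.mk'_surjective φ.ker
  refine ⟨hu, hd, fun v hv => ?_, fun v hv Q R hQ hR => ?_⟩
  · obtain ⟨Q, hQ, -⟩ := h v hv
    refine ⟨Q.mapSurjective hs, ?_⟩
    rintro _ ⟨x, hx, rfl⟩
    exact hQ x hx
  · obtain ⟨P, -, hP⟩ := h v hv
    obtain ⟨Q, rfl⟩ := Sylow.mapSurjective_surjective hs u Q
    obtain ⟨R, rfl⟩ := Sylow.mapSurjective_surjective hs u R
    have e := (hP Q fun x hx => hQ ⟨x, hx, rfl⟩).trans (hP R fun x hx => hR ⟨x, hx, rfl⟩).symm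
    have e2 := congrArg (map (QuotientGroup.mk' φ.ker)) e
    rw [Subgroup.map_sup, Subgroup.map_sup, QuotientGroup.map_mk'_self, sup_bot_eq,
      sup_bot_eq] at e2
    exact Sylow.ext e2

theorem jobPM : H93.DG.JobPM := by
  intro G _ _ _ V _ _ φ q r hq hr hqr hirr dq dr nq nr
  have hirr' : ∀ W : Subgroup V, (∀ g, ∀ w ∈ W, QuotientGroup.kerLift φ g w ∈ W) → W = ⊥ ∨ W = ⊤ :=
    fun W hW => hirr W fun g => hW (g : G ⧸ φ.ker)
  obtain ⟨v, hv⟩ : ∃ v : V, v ≠ 1 := by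
    by_contra hc
    push Not at hc
    have : φ.ker = ⊤ := eq_top_iff.2 fun g _ => MulEquiv.ext fun w => (hc _).trans (hc _).symm
    rw [this, index_top] at dq
    exact hq.one_lt.ne' (Nat.dvd_one.1 dq)
  haveI : Nontrivial V := ⟨v, 1, hv⟩
  obtain ⟨l, hl, hd⟩ := Nat.exists_prime_and_dvd (Finite.one_lt_card (α := V)).ne'
  haveI := Fact.mk hl
  obtain ⟨w, hw⟩ := exists_prime_orderOf_dvd_card' l hd
  have hpg : IsPGroup l V := fun x => ⟨1, by
    rcases hirr (powMonoidHom l : V →* V).ker (fun g w hw => by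
      rw [MonoidHom.mem_ker, powMonoidHom_apply] at hw ⊢
      rw [← map_pow, hw, map_one]) with e | e
    · have : w ∈ (powMonoidHom l : V →* V).ker := by
        rw [MonoidHom.mem_ker, powMonoidHom_apply, ← hw, pow_orderOf_eq_one]
      rw [e, mem_bot] at this
      rw [this, orderOf_one] at hw
      exact absurd hw hl.one_lt.ne
    · rw [pow_one]
      exact (e ▸ mem_top x : x ∈ (powMonoidHom l : V →* V).ker)⟩
  obtain ⟨d, hd, e⟩ := Hy.main ⟨QuotientGroup.kerLift_injective φ, hirr', ⟨v, hv⟩, hl, hpg⟩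
    (uq_of_nq hq dq nq) (uq_of_nq hr dr nr) hqr
  exact ⟨d, H44.cd_quot _ hd, e⟩

end H21.PM
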