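/- The Schur multiplier of a direct product. -/
import Cfsg.Agent.H21.Multiplier
import Cfsg.Agent.H21.BiExt

namespace H21

open Subgroup Cfsg
open scoped commutatorElement TensorProduct

universe u v w

/-- `Q₁ᵃᵇ ⊗ Q₂ᵃᵇ`, written multiplicatively -/
abbrev AbTensor (Q₁ : Type u) (Q₂ : Type v) [Group Q₁] [Group Q₂] : Type (max u v) :=
  Multiplicative (TensorProduct ℤ (Additive (Abelianization Q₁)) (Additive (Abelianization Q₂)))

section

variable {Q₁ : Type u} {Q₂ : Type v} [Group Q₁] [Group Q₂]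

/-- the pure tensor of two group elements -/
def abTmul (x : Q₁) (y : Q₂) : AbTensor Q₁ Q₂ :=
  Multiplicative.ofAdd (Additive.ofMul (Abelianization.of x) ⊗ₜ Additive.ofMul (Abelianization.of y))

theorem abTmul_mul_left (x x' : Q₁) (y : Q₂) : abTmul (x * x') y = abTmul x y * abTmul x' y := by
  simp only [abTmul, map_mul, ofMul_mul, TensorProduct.add_tmul, ofAdd_add]

theorem abTmul_mul_right (x : Q₁) (y y' : Q₂) : abTmul x (y * y') = abTmul x y * abTmul x y' := by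
  simp only [abTmul, map_mul, ofMul_mul, TensorProduct.tmul_add, ofAdd_add]

theorem abTmul_one_left (y : Q₂) : abTmul (1 : Q₁) y = 1 := by simp [abTmul]

theorem abTmul_one_right (x : Q₁) : abTmul x (1 : Q₂) = 1 := by simp [abTmul]

theorem abTensor_induction {P : AbTensor Q₁ Q₂ → Prop} (h1 : P 1) (h2 : ∀ x y, P (abTmul x y))
    (h3 : ∀ s t, P s → P t → P (s * t)) (t : AbTensor Q₁ Q₂) : P t := by
  have : ∀ t, P (Multiplicative.ofAdd t) := by
    intro t
    induction t using TensorProduct.induction_on with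
    | zero => exact h1
    | tmul a b =>
      obtain ⟨x, hx⟩ := QuotientGroup.mk_surjective (s := commutator Q₁) a.toMul
      obtain ⟨y, hy⟩ := QuotientGroup.mk_surjective (s := commutator Q₂) b.toMul
      have e1 : a = Additive.ofMul (Abelianization.of x) := congrArg Additive.ofMul hx.symm
      have e2 : b = Additive.ofMul (Abelianization.of y) := congrArg Additive.ofMul hy.symm
      rw [e1, e2]
      exact h2 x y
    | add s t hs ht => exact h3 _ _ hs ht
  exact this t.toAdd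

theorem exists_abTensor_lift {K : Type*} [CommGroup K] (c : Q₁ → Q₂ → K)
    (h1 : ∀ x x' y, c (x * x') y = c x y * c x' y) (h2 : ∀ x y y', c x (y * y') = c x y * c x y') :
    ∃ κ : AbTensor Q₁ Q₂ →* K, ∀ x y, κ (abTmul x y) = c x y := by
  let c1 : Q₁ → Abelianization Q₂ →* K := fun x => Abelianization.lift (MonoidHom.mk' (c x) (h2 x))
  let c2 : Q₁ →* Abelianization Q₂ →* K := MonoidHom.mk' c1 (fun x x' => by
    ext y
    simp [c1, h1])
  let c3 : Abelianization Q₁ →* Abelianization Q₂ →* K := Abelianization.lift c2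
  let b : Additive (Abelianization Q₁) →+ Additive (Abelianization Q₂) →+ Additive K :=
    AddMonoidHom.mk' (fun a => MonoidHom.toAdditive (c3 a.toMul)) (fun a a' => by
      ext y
      simp)
  let l := TensorProduct.liftAddHom (R := ℤ) b (fun r m n => by
    rw [map_zsmul, map_zsmul]; rfl)
  exact ⟨AddMonoidHom.toMultiplicativeLeft l, fun x y => rfl⟩

instance abTensorFinite [Finite Q₁] [Finite Q₂] : Finite (AbTensor Q₁ Q₂) := by
  have h1 : Module.Finite ℤ (Additive (Abelianization Q₁)) := Module.Finite.of_finite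
  have h2 : Module.Finite ℤ (Additive (Abelianization Q₂)) := Module.Finite.of_finite
  have hf : Module.Finite ℤ (TensorProduct ℤ (Additive (Abelianization Q₁))
    (Additive (Abelianization Q₂))) := by
    convert Module.Finite.tensorProduct ℤ (Additive (Abelianization Q₁))
      (Additive (Abelianization Q₂))
    · rfl
    · exact Subsingleton.elim _ _
  have hg : Group.FG (AbTensor Q₁ Q₂) := by
    have := Module.Finite.iff_addGroup_fg.mp hf
    infer_instance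
  refine CommGroup.finite_of_fg_isMulTorsion _ ?_
  intro t
  induction t using abTensor_induction with
  | h1 => exact IsOfFinOrder.one
  | h2 x y =>
    exact (MonoidHom.mk' (fun x => abTmul x y) (fun x x' => abTmul_mul_left x x' y)).isOfFinOrder
      (isOfFinOrder_of_finite x)
  | h3 s t hs ht => exact hs.mul ht

theorem abTensor_subsingleton [Finite Q₁] [Finite Q₂]
    (hcop : Nat.Coprime (Nat.card (Abelianization Q₁)) (Nat.card (Abelianization Q₂))) :
    Subsingleton (AbTensor Q₁ Q₂) := by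
  refine subsingleton_of_forall_eq 1 (fun t => ?_)
  induction t using abTensor_induction with
  | h1 => rfl
  | h2 x y =>
    have h1 : abTmul x y ^ Nat.card (Abelianization Q₁) = 1 := by
      rw [abTmul, ← ofAdd_nsmul, TensorProduct.smul_tmul', ← ofMul_pow, pow_card_eq_one']
      simp
    have h2 : abTmul x y ^ Nat.card (Abelianization Q₂) = 1 := by
      rw [abTmul, ← ofAdd_nsmul, ← TensorProduct.tmul_smul, ← ofMul_pow, pow_card_eq_one']
      simp
    have := (pow_gcd_eq_one.mpr ⟨h1, h2⟩ : abTmul x y ^ Nat.gcd _ _ = 1)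
    rwa [hcop, pow_one] at this
  | h3 s t hs ht => rw [hs, ht, mul_one]

/-- upper bound for the kernel of a stem extension of a direct product -/
theorem exists_surj_ker_prod {A B : Type*} [CommGroup A] [CommGroup B]
    (hA : HasSchurMultiplier Q₁ A) (hB : HasSchurMultiplier Q₂ B) {Γ : Type*} [Group Γ]
    (σ : Γ →* Q₁ × Q₂) (hσ : IsStemExtension σ) :
    ∃ Θ : A × B × AbTensor Q₁ Q₂ →* σ.ker, Function.Surjective Θ := by
  let _ : CommGroup σ.ker := { (inferInstance : Group σ.ker) with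
    mul_comm := fun a b => Subtype.ext (mem_center_iff.mp (hσ.2.1 b.2) a.1) }
  let Γ₁ := ((MonoidHom.snd Q₁ Q₂).comp σ).ker
  let Γ₂ := ((MonoidHom.fst Q₁ Q₂).comp σ).ker
  let ρ₁ : Γ₁ →* Q₁ := ((MonoidHom.fst Q₁ Q₂).comp σ).comp Γ₁.subtype
  let ρ₂ : Γ₂ →* Q₂ := ((MonoidHom.snd Q₁ Q₂).comp σ).comp Γ₂.subtype
  have k₁ : ∀ x : Γ₁, x ∈ ρ₁.ker → (x : Γ) ∈ σ.ker := fun x hx => Prod.ext hx x.2
  have k₂ : ∀ x : Γ₂, x ∈ ρ₂.ker → (x : Γ) ∈ σ.ker := fun x hx => Prod.ext x.2 hx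
  have h₁ : IsCentralExt ρ₁ := by
    refine ⟨fun q => ?_, fun x hx => mem_center_iff.mpr fun y =>
      Subtype.ext (mem_center_iff.mp (hσ.2.1 (k₁ x hx)) y.1)⟩
    obtain ⟨g, hg⟩ := hσ.1 (q, 1)
    exact ⟨⟨g, congrArg Prod.snd hg⟩, congrArg Prod.fst hg⟩
  have h₂ : IsCentralExt ρ₂ := by
    refine ⟨fun q => ?_, fun x hx => mem_center_iff.mpr fun y =>
      Subtype.ext (mem_center_iff.mp (hσ.2.1 (k₂ x hx)) y.1)⟩
    obtain ⟨g, hg⟩ := hσ.1 (1, q)
    exact ⟨⟨g, congrArg Prod.fst hg⟩, congrArg Prod.snd hg⟩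
  obtain ⟨θ₁, hθ₁⟩ := multiplier_surj_central hA ρ₁ h₁
  obtain ⟨θ₂, hθ₂⟩ := multiplier_surj_central hB ρ₂ h₂
  obtain ⟨c, c1, c2, c3⟩ := exists_commutator_pairing σ (isCentralExt_of_stem hσ)
    (MonoidHom.inl Q₁ Q₂) (MonoidHom.inr Q₁ Q₂) (fun x y => MonoidHom.commute_inl_inr x y)
  obtain ⟨κ, hκ⟩ := exists_abTensor_lift c c1 c2
  let t₁ : A →* σ.ker := ((Γ₁.subtype.comp (Subgroup.subtype _)).comp θ₁).codRestrict _
    (fun a => k₁ _ (θ₁ a).2.1)
  let t₂ : B →* σ.ker := ((Γ₂.subtype.comp (Subgroup.subtype _)).comp θ₂).codRestrict _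
    (fun a => k₂ _ (θ₂ a).2.1)
  let Θ : A × B × AbTensor Q₁ Q₂ →* σ.ker := t₁.coprod (t₂.coprod κ)
  refine ⟨Θ, ?_⟩
  let N : Subgroup Γ := Θ.range.map σ.ker.subtype
  have hNk : N ≤ σ.ker := by rintro _ ⟨x, -, rfl⟩; exact x.2
  have hN : N.Normal := normal_of_le_center (hNk.trans hσ.2.1)
  let m : Γ₁ × Γ₂ →* Γ ⧸ N := MonoidHom.noncommCoprod ((QuotientGroup.mk' N).comp Γ₁.subtype)
    ((QuotientGroup.mk' N).comp Γ₂.subtype) (fun a b => by
      rw [← commutatorElement_eq_one_iff_commute]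
      simp only [MonoidHom.comp_apply]
      rw [← map_commutatorElement, QuotientGroup.mk'_apply, QuotientGroup.eq_one_iff]
      refine ⟨c (ρ₁ a) (ρ₂ b), ⟨(1, 1, abTmul (ρ₁ a) (ρ₂ b)), by simp [Θ, hκ]⟩, ?_⟩
      exact c3 _ _ _ _ (Prod.ext rfl a.2) (Prod.ext b.2 rfl))
  have hm : Function.Surjective m := by
    intro g
    obtain ⟨g, rfl⟩ := QuotientGroup.mk'_surjective N g
    obtain ⟨a, ha⟩ := hσ.1 ((σ g).1, 1)
    refine ⟨(⟨a, congrArg Prod.snd ha⟩, ⟨a⁻¹ * g, ?_⟩), ?_⟩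
    · simp [Γ₂, ha]
    · simp [m]
  rintro ⟨k, hk⟩
  have h3 : QuotientGroup.mk' N k ∈ (commutator (Γ₁ × Γ₂)).map m := by
    rw [map_commutator_of_surjective m hm]
    exact map_mem_commutator _ (hσ.2.2 hk)
  rw [commutator_def, ← top_prod_top, commutator_prod_prod] at h3
  obtain ⟨⟨a, b⟩, ⟨ha, hb⟩, e⟩ := h3
  have e' : ((a : Γ) * b)⁻¹ * k ∈ N := QuotientGroup.eq.mp e
  have e1 : σ ((a : Γ) * b) = 1 := by
    have := hNk e'
    rw [MonoidHom.mem_ker, map_mul, MonoidHom.mem_ker.mp hk, mul_one, map_inv, inv_eq_one] at this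
    exact this
  have ha1 : a ∈ ρ₁.ker := by
    have h4 := congrArg Prod.fst e1
    have h5 : (σ b).1 = 1 := b.2
    rw [map_mul, Prod.fst_mul, h5, mul_one] at h4
    exact h4
  have hb1 : b ∈ ρ₂.ker := by
    have h4 := congrArg Prod.snd e1
    have h5 : (σ a).2 = 1 := a.2
    rw [map_mul, Prod.snd_mul, h5, one_mul] at h4
    exact h4
  obtain ⟨a', ha'⟩ := hθ₁ ⟨a, ha1, ha⟩
  obtain ⟨b', hb'⟩ := hθ₂ ⟨b, hb1, hb⟩
  obtain ⟨n, ⟨z, rfl⟩, hn⟩ := e'
  refine ⟨(a', b', 1) * z, Subtype.ext ?_⟩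
  have e2 : ((Θ (a', b', 1) : σ.ker) : Γ) = a * b := by
    have e4 : ((t₁ a' : σ.ker) : Γ) = a := congrArg (fun x => (x.1.1 : Γ)) ha'
    have e5 : ((t₂ b' : σ.ker) : Γ) = b := congrArg (fun x => (x.1.1 : Γ)) hb'
    simp [Θ, e4, e5]
  have e3 : ((Θ z : σ.ker) : Γ) = ((a : Γ) * b)⁻¹ * k := hn
  rw [map_mul, coe_mul, e2, e3]
  group

/-- the Schur multiplier of a direct product -/
theorem hasSchurMultiplier_prod {A B : Type*} [CommGroup A] [CommGroup B]
    (hA : HasSchurMultiplier Q₁ A) (hB : HasSchurMultiplier Q₂ B) :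
    HasSchurMultiplier (Q₁ × Q₂) (A × B × AbTensor Q₁ Q₂) := by
  have := finite_of_hasSchurMultiplier hA
  have := finite_of_hasSchurMultiplier hB
  have := multiplier_finite hA
  have := multiplier_finite hB
  refine ⟨?_, fun Γ _ _ σ hσ => exists_surj_ker_prod hA hB σ hσ⟩
  obtain ⟨Γ₁, _, _, σ₁, h₁, ⟨e₁⟩⟩ := hA.1
  obtain ⟨Γ₂, _, _, σ₂, h₂, ⟨e₂⟩⟩ := hB.1
  let β : Γ₁ × Γ₂ →* Γ₁ × Γ₂ →* AbTensor Q₁ Q₂ := MonoidHom.mk'
    (fun g => MonoidHom.mk' (fun h => abTmul (σ₁ g.1) (σ₂ h.2))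
      (fun h h' => by simp [abTmul_mul_right]))
    (fun g g' => by ext h; simp [abTmul_mul_left])
  have hβ : ∀ g h, β g h = abTmul (σ₁ g.1) (σ₂ h.2) := fun _ _ => rfl
  let σ : BiExt β →* Q₁ × Q₂ := (σ₁.prodMap σ₂).comp (biExtProj β)
  have hker : ∀ a : BiExt β, a ∈ σ.ker ↔ σ₁ a.1.1 = 1 ∧ σ₂ a.1.2 = 1 := fun a => Prod.ext_iff
  let i₁ : Γ₁ →* BiExt β := biExtSection β (MonoidHom.inl _ _)
    (fun x y => by simp [hβ, abTmul_one_right])
  let i₂ : Γ₂ →* BiExt β := biExtSection β (MonoidHom.inr _ _)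
    (fun x y => by simp [hβ, abTmul_one_left])
  refine ⟨BiExt β, inferInstance, inferInstance, σ, ⟨fun q => ?_, fun a ha => ?_, fun a ha => ?_⟩,
    ⟨?_⟩⟩
  · obtain ⟨x, hx⟩ := h₁.1 q.1
    obtain ⟨y, hy⟩ := h₂.1 q.2
    exact ⟨⟨(x, y), 1⟩, Prod.ext hx hy⟩
  · rw [hker] at ha
    refine biExt_mem_center β (mem_center_iff.mpr fun g => Prod.ext
      (mem_center_iff.mp (h₁.2.1 ha.1) g.1) (mem_center_iff.mp (h₂.2.1 ha.2) g.2)) (fun g => ?_)
    rw [hβ, hβ, ha.1, ha.2, abTmul_one_left, abTmul_one_right]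
  · rw [hker] at ha
    have e : a = i₁ a.1.1 * i₂ a.1.2 * biExtInr β a.2 := by
      ext <;> simp [i₁, i₂, biExtSection, biExtInr, hβ, ha.1, abTmul_one_left, abTmul_one_right]
    rw [e]
    refine mul_mem (mul_mem (map_mem_commutator i₁ (h₁.2.2 ha.1))
      (map_mem_commutator i₂ (h₂.2.2 ha.2))) ?_
    generalize a.2 = t
    induction t using abTensor_induction with
    | h1 => rw [map_one]; exact one_mem _
    | h2 x y =>
      obtain ⟨x, rfl⟩ := h₁.1 x
      obtain ⟨y, rfl⟩ := h₂.1 y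
      have : biExtInr β (abTmul (σ₁ x) (σ₂ y)) = ⁅i₁ x, i₂ y⁆ := by
        rw [biExt_commutator]
        ext <;> simp [i₁, i₂, biExtSection, biExtInr, hβ, abTmul_one_left, commutatorElement_def]
      rw [this]
      exact commutator_mem_commutator (mem_top _) (mem_top _)
    | h3 s t hs ht => rw [map_mul]; exact mul_mem hs ht
  · refine MulEquiv.trans ?_ (e₁.prodCongr (e₂.prodCongr (MulEquiv.refl _)))
    exact
      { toFun := fun a => (⟨a.1.1.1, ((hker _).mp a.2).1⟩, ⟨a.1.1.2, ((hker _).mp a.2).2⟩, a.1.2)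
        invFun := fun p => ⟨⟨(p.1, p.2.1), p.2.2⟩, (hker _).mpr ⟨p.1.2, p.2.1.2⟩⟩
        left_inv := fun _ => rfl
        right_inv := fun _ => rfl
        map_mul' := fun a b => by
          refine Prod.ext rfl (Prod.ext rfl ?_)
          simp [hβ, ((hker _).mp a.2).1, abTmul_one_left] }

end

end H21
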