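import Cfsg.Agent.H34.R5Spec

/-! Tower R5 (S3194), slot S6: the Burnside transfer step. -/

set_option autoImplicit false

namespace H21.R5S6
open Cfsg Subgroup H41.IT H34.R5

universe u

theorem mem_sylow {G : Type*} [Group G] [Finite G] {p : ℕ} [Fact p.Prime] (P : Sylow p G) {g : G}
    (hg : g ∈ normalizer ((P : Subgroup G) : Set G)) {k : ℕ} (hk : g ^ p ^ k = 1) :
    g ∈ (P : Subgroup G) := by
  have h1 : IsPGroup p (zpowers g) := by
    rintro ⟨_, i, rfl⟩
    exact ⟨k, Subtype.ext (by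
      show (g ^ i) ^ p ^ k = 1
      rw [← zpow_natCast, ← zpow_mul, mul_comm, zpow_mul, zpow_natCast, hk, one_zpow])⟩
  exact ((h1.inf_normalizer_sylow P).le ⟨mem_zpowers g, hg⟩).2

theorem jobS6 : JobS6.{u} := by
  intro G _ _ _ hna x y e s hs P M bs t1 gf mf hM z zP z1 zM u gu uz h
  have zL : z ∈ C u := mem_C.2 uz.symm
  have Lz : C u ≤ C z := fun a ha => mem_C.2 (gf.ab u gu a ha z zL)
  have NL : normalizer (C u : Set G) ≤ C u := fun n hn => by
    have h1 : n * z * n⁻¹ ∈ C u := (mem_normalizer_iff.1 hn z).1 zL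
    obtain ⟨k, hk⟩ := P.isPGroup' ⟨z, zP⟩
    have hk' : z ^ s ^ k = 1 := congrArg Subtype.val hk
    have h2 : n * z * n⁻¹ ∈ (P : Subgroup G) :=
      mem_sylow P (hM (zM (Lz h1))) (k := k) (by rw [conj_pow, hk']; group)
    obtain ⟨μ, hμ, e1⟩ := mf.fus z zP n h2
    have h3 : μ⁻¹ * n ∈ C z := mem_C.2 (by
      show μ⁻¹ * n * z = z * (μ⁻¹ * n)
      calc μ⁻¹ * n * z = μ⁻¹ * (n * z * n⁻¹) * n := by group
        _ = z * (μ⁻¹ * n) := by rw [← e1]; group)
    have h4 : n ∈ M := by simpa using mul_mem hμ (zM h3)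
    exact h ⟨hM h4, hn⟩
  obtain ⟨qp, qs, qb⟩ := id gu
  have : Fact (orderOf u).Prime := ⟨qp⟩
  obtain ⟨R⟩ : Nonempty (Sylow (orderOf u) (C u)) := inferInstance
  obtain ⟨Q0⟩ : Nonempty (Sylow (orderOf u) G) := inferInstance
  have hc : Nat.card ((R : Subgroup (C u)).map (C u).subtype) =
      orderOf u ^ (Nat.card G).factorization (orderOf u) := by
    obtain ⟨j, -, hj⟩ := t1.pw
    have e0 : e ≠ 0 := fun m => (Nat.card_pos (α := C y)).ne' (by
      show c y = 0
      rw [hj, m, zero_mul])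
    rw [card_map_of_injective (C u).subtype_injective, R.card_eq_multiplicity,
      ← Q0.card_eq_multiplicity, bs.sylow_card qb Q0, hj,
      Nat.factorization_mul e0 (pow_ne_zero _ hs.1.ne_zero), Finsupp.add_apply,
      Nat.factorization_eq_zero_of_not_dvd (n := s ^ j) (fun m =>
        qs ((Nat.prime_dvd_prime_iff_eq qp hs.1).1 (qp.dvd_of_dvd_pow m))), add_zero, ← gf.ce u gu]
  let Q : Sylow (orderOf u) G := Sylow.ofCard _ hc
  have QL : (Q : Subgroup G) ≤ C u := map_subtype_le _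
  have LQ : C u ≤ centralizer ((Q : Subgroup G) : Set G) := fun a ha b hb =>
    (gf.ab u gu b (QL hb) a ha).eq
  have uQ : u ∈ (Q : Subgroup G) :=
    mem_sylow Q (centralizer_le_normalizer _ (LQ (mem_C.2 (Commute.refl u)))) (k := 1)
      (by rw [pow_one, pow_orderOf_eq_one])
  have hN : normalizer ((Q : Subgroup G) : Set G) ≤ centralizer ((Q : Subgroup G) : Set G) :=
    fun n hn => by
    have h1 : n * u * n⁻¹ ∈ C u := QL ((mem_normalizer_iff.1 hn u).1 uQ)
    have h2 : C (n * u * n⁻¹) = C u := gf.ti u gu _ h1 (by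
      rintro ⟨k, hk⟩
      have h3 : orderOf (n * u * n⁻¹) = orderOf u :=
        MulEquiv.orderOf_eq (MulAut.conj n) u
      exact qs ((Nat.prime_dvd_prime_iff_eq qp hs.1).1
        (qp.dvd_of_dvd_pow (hk ▸ h3 ▸ dvd_rfl : orderOf u ∣ s ^ k))))
    refine LQ (NL (mem_normalizer_iff.2 fun a => ?_))
    conv_rhs => rw [← h2]
    rw [mem_C, mem_C]
    exact ⟨fun m => (m.map (MulAut.conj n) :), fun m => by
      simpa [mul_assoc] using m.map (MulAut.conj n⁻¹)⟩
  have hB := MonoidHom.ker_transferSylow_isComplement' Q hN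
  rcases (MonoidHom.normal_ker (MonoidHom.transferSylow Q hN)).eq_bot_or_eq_top with m | m
  · rw [m, isComplement'_bot_left] at hB
    exact hna ⟨⟨fun a b => (gf.ab u gu a (QL (hB ▸ mem_top a)) b (QL (hB ▸ mem_top b))).eq⟩⟩
  · rw [m, isComplement'_top_left] at hB
    rw [hB, mem_bot] at uQ
    exact qp.one_lt.ne' (by rw [uQ, orderOf_one])

end H21.R5S6
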