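import Cfsg.Agent.H21.TwPair
import Cfsg.Agent.H81.Pc
import Cfsg.Agent.S1156

/-! The Schur multiplier of the small Ree groups is trivial. -/

set_option autoImplicit false
set_option linter.unusedSectionVars false

namespace H21

open Subgroup Function
open scoped commutatorElement

universe u

/-- It suffices to consider stem extensions whose kernel has exponent `p`. -/
theorem not_dvd_multCard_of_exp {G : Type u} [Group G] [Finite G] {p : ℕ} (hp : p.Prime)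
    (H : Subgroup G) (hH : ¬ p ∣ H.index)
    (h : ∀ (E : Type u) [Group E] [Finite E] (π : E →* G), Cfsg.IsStemExtension π →
      (∀ z, π z = 1 → z ^ p = 1) → ∀ z, π z = 1 → z ∈ ⁅H.comap π, H.comap π⁆ → z = 1) :
    ¬ p ∣ multCard G := by
  obtain ⟨E, _, _, π, hπ, e⟩ := exists_stem_card_eq G
  rw [← e, ← pow_one p]
  refine H81.noStem_of_exp hp (fun E _ _ π hπ hz => ?_) E π hπ
  rw [pow_one] at hz ⊢
  refine lt_of_eq_of_lt (card_eq_one.2 (eq_bot_iff.2 fun z hz' => ?_)) hp.one_lt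
  have h1 := pow_index_mem_commutator (H.comap π) (hπ.2.1 hz') (hπ.2.2 hz')
  rw [index_comap_of_surjective _ hπ.1] at h1
  exact eq_one_of_pow_of_coprime ((Nat.Prime.coprime_iff_not_dvd hp).2 hH) (hz z hz')
    (h E π hπ hz _ (pow_mem hz' _ :) h1)

theorem not_two_dvd_multCard_of_elem {G : Type u} [Group G] [Finite G] (S : Subgroup G)
    (h1 : ¬ 2 ∣ S.index) (h2 : ∀ x ∈ S, x * x = 1) (h3 : 4 < Nat.card S)
    (h4 : ∀ a ∈ S, ∀ b ∈ S, a ≠ 1 → b ≠ 1 → ∃ g, g * a * g⁻¹ = b) : ¬ 2 ∣ multCard G := by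
  classical
  refine not_dvd_multCard_of_exp Nat.prime_two S h1 fun E _ _ π hπ hz z _ hz' => ?_
  have ex : ∀ T : Finset G, T.card ≤ 4 → ∃ x, π x ∈ S ∧ π x ∉ T := fun T hT => by
    by_contra! hc
    have := Set.ncard_le_ncard (s := (S : Set G)) (t := T) fun g hg => by
      obtain ⟨x, rfl⟩ := hπ.1 g
      exact hc x hg
    rw [Set.ncard_coe_finset] at this
    exact absurd (h3.trans_le (this.trans hT)) (lt_irrefl _)
  have k0 : ∀ x, π x ∈ S → π (x * x) = 1 := fun x hx => by rw [map_mul, h2 _ hx]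
  have k1 : ∀ x y, π x ∈ S → π y ∈ S → π x ≠ 1 → π y ≠ 1 → y * y = x * x := fun x y hx hy a b => by
    obtain ⟨g, hg⟩ := h4 _ hx _ hy a b
    obtain ⟨g, rfl⟩ := hπ.1 g
    obtain ⟨c, hc, hc', rfl⟩ := eq_mul_central hπ.2.1 (a := y) (b := g * x * g⁻¹) (by simp [hg])
    rw [mul_assoc, ← mul_assoc c, ← mem_center_iff.1 hc, mul_assoc _ c, ← pow_two c, hz c hc', mul_one,
      conj_mul, mem_center_iff.1 (hπ.2.1 (k0 x hx)), mul_inv_cancel_right]
  have k2 : ∀ x y, π x ∈ S → π y ∈ S → π x ≠ 1 → π y ≠ 1 → π x ≠ π y → x * y = y * x * (x * x) :=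
    fun x y hx hy a b c => by
      have e1 := k1 x (x * y) hx (by simpa using mul_mem hx hy) a fun h => c (by
        rw [map_mul] at h
        exact mul_left_cancel ((h2 _ hx).trans h.symm))
      rw [mul_assoc, mul_right_inj, ← mul_assoc] at e1
      rw [← k1 x y hx hy a b, ← mul_assoc, e1]
  obtain ⟨a, ha, a1⟩ := ex {1} (by simp)
  obtain ⟨b, hb, b1⟩ := ex {1, π a} (Finset.card_le_two.trans (by norm_num))
  obtain ⟨d, hd, d1⟩ := ex {1, π a, π b, π b * π a} Finset.card_le_four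
  simp only [Finset.mem_insert, Finset.mem_singleton, not_or] at a1 b1 d1
  have k3 : a * a = 1 := by
    have e1 := k2 a b ha hb a1 b1.1 (Ne.symm b1.2)
    have e2 := k2 a d ha hd a1 d1.1 (Ne.symm d1.2.1)
    have e3 := k2 a (b * d) ha (by simpa using mul_mem hb hd) a1 (fun h => d1.2.2.1 (by
      rw [map_mul] at h
      exact mul_left_cancel (h.trans (h2 _ hb).symm))) fun h => d1.2.2.2 (by
        rw [h, map_mul, ← mul_assoc, h2 _ hb, one_mul])
    rw [← mul_assoc, e1, mul_assoc, ← mem_center_iff.1 (hπ.2.1 (k0 a ha)), ← mul_assoc, mul_assoc b, e2] at e3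
    simpa [mul_assoc] using e3
  rw [(commutator_eq_bot_iff_le_centralizer.2 fun x hx y hy => ?_ : ⁅S.comap π, S.comap π⁆ = ⊥)] at hz'
  · exact hz'
  by_cases e1 : π y = 1
  · exact (mem_center_iff.1 (hπ.2.1 e1) x).symm
  by_cases e2 : π x = 1
  · exact mem_center_iff.1 (hπ.2.1 e2) y
  by_cases e3 : π y = π x
  · exact cm_self hπ.1 hπ.2.1 _ _ _ e3 rfl
  rw [k2 y x hy hx e1 e2 e3, k1 a y ha hy a1 e1, k3, mul_one]

variable {K : Type*} [Field K] {m : ℕ} {G : Type u} [Group G] (R : H30.Ree K m G)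

/-- The filtration of the unipotent subgroup of a Ree group. -/
def reeU (i : ℕ) : Subgroup G where
  carrier := {g | ∃ t u v, g = R.x t u v ∧ (0 < i → t = 0) ∧ (1 < i → u = 0) ∧ (2 < i → v = 0)}
  one_mem' := ⟨0, 0, 0, R.x_zero.symm, by simp⟩
  mul_mem' := by
    rintro _ _ ⟨t, u, v, rfl, h⟩ ⟨T, U, V, rfl, h'⟩
    refine ⟨_, _, _, R.x_mul _ _ _ _ _ _, fun _ => ?_, fun _ => ?_, fun _ => ?_⟩ <;>
      simp (disch := omega) [h.1, h.2.1, h.2.2, h'.1, h'.2.1, h'.2.2]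
  inv_mem' := by
    rintro _ ⟨t, u, v, rfl, h⟩
    refine ⟨_, _, _, R.x_inv _ _ _, fun _ => ?_, fun _ => ?_, fun _ => ?_⟩ <;>
      simp (disch := omega) [h.1, h.2.1, h.2.2]

theorem x_mem_reeU {i : ℕ} {t u v : K} :
    R.x t u v ∈ reeU R i ↔ (0 < i → t = 0) ∧ (1 < i → u = 0) ∧ (2 < i → v = 0) :=
  ⟨fun ⟨_, _, _, h, h'⟩ => by obtain ⟨rfl, rfl, rfl⟩ := R.x_inj h; exact h', fun h => ⟨_, _, _, rfl, h⟩⟩

theorem reeU_filt : Filt R.H (reeU R) := by
  refine ⟨?_, ?_, ?_, fun _ ha _ hb => R.H_comm ha hb⟩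
  · rintro i _ ⟨t, u, v, rfl, h⟩
    exact ⟨t, u, v, rfl, fun _ => h.1 (by omega), fun _ => h.2.1 (by omega), fun _ => h.2.2 (by omega)⟩
  · rintro i _ ⟨t, u, v, rfl, -⟩ _ ⟨T, U, V, rfl, h⟩
    rw [commutatorElement_def, R.x_inv, R.x_inv, R.x_mul, R.x_mul, R.x_mul, x_mem_reeU]
    refine ⟨fun _ => by ring, fun _ => ?_, fun _ => ?_⟩
    · simp (disch := omega) [h.1]
      ring
    · simp (disch := omega) [h.1, h.2.1]
      linear_combination (t ^ 2 * R.σ t) * R.three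
  · rintro i _ ⟨k, rfl⟩ _ ⟨t, u, v, rfl, h⟩
    rw [R.h_conj, x_mem_reeU]
    exact ⟨fun e => by simp [h.1 e], fun e => by simp [h.2.1 e], fun e => by simp [h.2.2 e]⟩

theorem exists_coord : ∃ t χ : ℕ → G → K, (∀ i < 3, Coord R.H (reeU R i) (reeU R (i + 1)) (t i) (χ i)) ∧
    ∀ k : Kˣ, χ 0 (R.h k) = k ∧ χ 1 (R.h k) = k * R.σ k ∧ χ 2 (R.h k) = k ^ 2 * R.σ k := by
  obtain ⟨c, hc⟩ := Injective.hasLeftInverse (f := fun p : K × K × K => R.x p.1 p.2.1 p.2.2)
    fun a b h => Prod.ext (R.x_inj h).1 (Prod.ext (R.x_inj h).2.1 (R.x_inj h).2.2)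
  replace hc : ∀ t u v, c (R.x t u v) = (t, u, v) := fun t u v => hc (t, u, v)
  obtain ⟨k, hk⟩ := R.h_injective.hasLeftInverse
  replace hk : ∀ a, k (R.h a) = a := hk
  refine ⟨fun i g => [(c g).1, (c g).2.1, (c g).2.2].getD i 0,
    fun i g => [(k g : K), k g * R.σ (k g), k g ^ 2 * R.σ (k g)].getD i 0, fun i hi => ⟨?_, ?_,
      (reeU_filt R).norm i, ?_⟩, fun a => by simp [hk]⟩
  · rintro _ ⟨t, u, v, rfl, h⟩ _ ⟨T, U, V, rfl, h'⟩
    interval_cases i <;> simp_all [R.x_mul]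
  · rintro _ ⟨t, u, v, rfl, h⟩
    interval_cases i <;> simp_all [x_mem_reeU]
  · rintro _ ⟨a, rfl⟩ _ ⟨t, u, v, rfl, h⟩
    interval_cases i <;> simp [R.h_conj, hc, hk]

include R in
theorem ree_not_three_dvd (hm : 1 ≤ m) : ¬ 3 ∣ multCard G := by
  have := R.finite_G
  have := R.finite_K
  have F := reeU_filt R
  have h27 : 27 ≤ Nat.card K := R.card_K ▸ H30.le_three_pow hm
  obtain ⟨t, χ, c, hχ⟩ := exists_coord R
  have hn : (-1 : K) ≠ 1 := fun h => R.two_ne (by linear_combination -h)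
  have h1 : ∀ s : K, s ≠ 0 → ∃ h ∈ R.H, χ 1 h = s ^ 2 := fun s hs =>
    ⟨_, R.h_mem (Units.mk0 (R.σ s / s) (div_ne_zero (R.σ_ne hs) hs)), by
      have := R.σ_ne hs
      simp only [hχ, Units.val_mk0, map_div₀, R.σσ]
      field_simp⟩
  have h2 : ∀ s : K, s ≠ 0 → ∃ h ∈ R.H, χ 2 h = s := fun s hs =>
    ⟨_, R.h_mem (Units.mk0 (s ^ 2 / R.σ s) (div_ne_zero (pow_ne_zero _ hs) (R.σ_ne hs))), by
      have := R.σ_ne hs
      simp only [hχ, Units.val_mk0, map_div₀, map_pow, R.σσ]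
      field_simp⟩
  have h0 : ∀ s : K, s ≠ 0 → ∃ h ∈ R.H, χ 0 h = s := fun s hs =>
    ⟨_, R.h_mem (Units.mk0 s hs), (hχ _).1⟩
  have h5 : ∃ s : Finset K, 4 < s.card := exists_finset_card_of_lt (by omega)
  refine not_dvd_multCard_of_lift Nat.prime_three (reeU R 0) ?_ fun E _ _ π hπ hZ => ?_
  · rw [show reeU R 0 = R.U from Subgroup.ext fun g => by simp [reeU, R.mem_U]]
    exact R.not_three_dvd_index
  obtain ⟨N, hN⟩ := exists_good (π := π) (H := R.H) (U := reeU R) (n := 3) (P := fun _ _ => True)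
    (eq_bot_iff.2 (by rintro _ ⟨t, u, v, rfl, h⟩; simp_all [R.x_zero])) trivial fun i hi N hN _ => by
      obtain ⟨h, hh, e⟩ : ∃ h ∈ R.H, χ i h ≠ 1 := by
        interval_cases i
        · exact ⟨_, R.h_mem (-1), by simpa [hχ] using hn⟩
        · obtain ⟨s, hs, e⟩ := exists_pow_ne_one (K := K) two_ne_zero (exists_finset_card_of_lt (by omega))
          exact (h1 s hs).imp fun _ h => ⟨h.1, fun h' => e (h.2.symm.trans h')⟩
        · exact ⟨_, R.h_mem (-1), by simpa [hχ] using hn⟩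
      refine (F.step_tor hπ hZ hN (fun _ _ => F.comm_mem hπ hZ hN fun A _ g hg j hj ht => ?_) hh
        ((c i hi).fpf hh e)).imp fun _ h => ⟨h.1, trivial⟩
      have cj := c j (by omega)
      have ci := c i hi
      interval_cases i <;> interval_cases j
      · exact F.triv_of_units hπ hZ hN hg ht h5 cj ci fun s hs => (h0 s hs).imp fun _ h => ⟨h.1, h.2, h.2⟩
      · exact F.triv_of_chi hπ hZ hN hg ht cj ci (R.h_mem (-1)) (.inr (by simpa [hχ] using hn))
      · exact F.triv_of_sq hπ hZ hN hg ht ⟨by omega, .inr (by omega)⟩ cj ci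
          fun s hs => (h1 s hs).imp fun _ h => ⟨h.1, h.2, h.2⟩
      · refine F.triv_of_field hπ hZ hN hg ht cj ci h0 h2 fun f hf _ h => ?_
        have key : ∀ s : K, s ≠ 0 → ∀ a b, f (s • a) b = f a ((s ^ 2 * R.σ s)⁻¹ • b) := fun s hs a b => by
          have := h _ (R.h_mem (Units.mk0 s hs)) a ((s ^ 2 * R.σ s)⁻¹ * b)
          rwa [(hχ _).1, (hχ _).2.2, Units.val_mk0,
            mul_inv_cancel_left₀ (mul_ne_zero (pow_ne_zero _ hs) (R.σ_ne hs))] at this
        obtain ⟨s, hs, e⟩ := exists_pow_ne_one (K := K) (d := 8) (by omega)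
          (exists_finset_card_of_lt (by omega))
        have e1 : 1 + s ≠ 0 := fun h => e (by rw [← neg_eq_of_add_eq_zero_right h]; ring)
        have e2 : 1 + -s ≠ 0 := fun h => e (by rw [← add_neg_eq_zero.1 h, one_pow])
        by_cases e3 : (1 ^ 2 * R.σ 1)⁻¹ + (s ^ 2 * R.σ s)⁻¹ = ((1 + s) ^ 2 * R.σ (1 + s))⁻¹
        · refine hf.eq_one_of_triple (key 1 one_ne_zero) (key _ (neg_ne_zero.2 hs)) (key _ e2) fun e4 => e ?_
          have f0 := R.σ_ne hs
          have f1 := R.σ_ne e1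
          have f2 := R.σ_ne e2
          simp only [map_add, map_neg, map_one] at *
          field_simp at e3 e4
          have e5 : R.σ s * ((1 + s ^ 2) * (1 + s ^ 4)) = 0 := by
            linear_combination -(1 - s) ^ 2 * e3 - (1 + s) ^ 2 * e4 +
              R.σ s * (1 + s ^ 2) * (1 + s ^ 4 - 2 * s ^ 2) * R.three
          linear_combination (s ^ 2 - 1) * (mul_eq_zero.1 e5).resolve_left f0
        · exact hf.eq_one_of_triple (key 1 one_ne_zero) (key _ hs) (key _ e1) e3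
      · exact F.triv_of_chi hπ hZ hN hg ht cj ci (R.h_mem (-1)) (.inl (by simpa [hχ] using hn))
      · exact F.triv_of_units hπ hZ hN hg ht h5 cj ci fun s hs => (h2 s hs).imp fun _ h => ⟨h.1, h.2, h.2⟩
  exact ⟨N, hN.lift⟩

theorem ree_mult [Fintype K] (hm : 1 ≤ m) (hK : Fintype.card K = 3 ^ (2 * m + 1)) :
    multCard (Cfsg.Lie.twistedG2 K (3 ^ m)) = 1 := by
  have R := H30.reeG2 hK
  have := (H68.simple_G2 hK hm).1
  refine multCard_eq_one_of_forall fun p hp => ?_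
  have := Fact.mk hp
  obtain ⟨P⟩ : Nonempty (Sylow p (Cfsg.Lie.twistedG2 K (3 ^ m))) := inferInstance
  obtain rfl | rfl | h : p = 2 ∨ p = 3 ∨ 3 < p := by have := hp.two_le; omega
  · have h := fun x hx => R.mul_self_of_isPGroup (y := x) P.isPGroup' hx
    exact not_two_dvd_multCard_of_elem P P.not_dvd_index h (by rw [R.card_sylow_two]; decide)
      fun a ha b hb h1 h2 => R.isConj_inv h1 (h a ha) h2 (h b hb)
  · exact ree_not_three_dvd R hm
  · exact not_dvd_multCard_of_cyclic_or P (.inl (Cfsg.Agent.S1156.result hm hK h P))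

end H21
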