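import Cfsg.Agent.H66.RITSpec
import Cfsg.Agent.H51.GoldHub
import Cfsg.Agent.H66.OT5
import Cfsg.Agent.H66.HubS
import Cfsg.Agent.H70.R2S
import Cfsg.Agent.H61.SL2Lift

/-! Tower RIT (S5056), slot Deg: odd transpositions give rank one pairs. -/

set_option autoImplicit false

namespace H21.RitDeg
open Cfsg H70 H66.RST H66.RIT

universe u

theorem card_E {G : Type u} [Group G] [Finite G] {D : Set G} (hD : IsRootInvolutionSet D) (a g : G) :
    Nat.card (EE D a) ≤ Nat.card (EE D (g * a * g⁻¹)) :=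
  Nat.card_le_card_of_injective (fun w => ⟨g * w * g⁻¹, H66.RI.conj_mem_E hD w.2 g⟩)
    fun w w' h => Subtype.ext (by simpa using congrArg Subtype.val h)

theorem jobDeg : JobDeg.{u} := by
  intro G _ _ D hD hcl hO hZ hDD hc
  have S := fun d (hd : d ∈ D) => H66.RI.s5052_of (fun M a z b c d e f => H51.asch M a z b c d e f)
    H66.RI.hubSimple hD hcl hO hDD hc hd
  have oc : H66.RI.OC D := ⟨hD, hcl.2.2, H66.RI.lined_of hD.1 hcl.2.2 hDD,
    fun a ha b hb => H66.RI.mul_mem_of_se hD hcl.2.2 hO ha hb⟩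
  refine ⟨⟨⟨hD.1, hcl.2.2, fun a ha => ?_⟩, fun d hd => (S d hd).1⟩, fun a ha b hb o => ?_⟩
  · by_contra hn
    have h1 := ri_pgroup_closure hD.1 (T := D) subset_rfl
      (fun s hs t ht => ri_conj' hD.1 ht (ri_sq hD.1 hs)) fun s hs t ht o => by
        obtain ⟨g, rfl⟩ := hcl.2.2 s hs a ha
        exact hn ⟨_, ri_conj hD.1 ht g, o.conj g⟩
    rw [hD.1.generates] at h1
    have h2 : (⊤ : Subgroup G) ≤ pCore 2 G := le_sSup ⟨inferInstance, h1⟩
    exact ri_ne_one hD.1 ha (Subgroup.mem_bot.1 (hO ▸ h2 trivial))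
  · obtain ⟨F, _, _, _, -, h3, ⟨e⟩⟩ := (S a ha).2 b (mem_oddPartners.2 ⟨hb, o⟩)
    have h2 : (2 : F) = 0 := CharTwo.two_eq_zero
    have aX : EE D a ≤ H66.RI.XX D a b := Subgroup.closure_mono Set.subset_union_left
    have bX : EE D b ≤ H66.RI.XX D a b := (Subgroup.closure_le _).2 fun w hw =>
      oc.mem_X_of_se ha hb o hb H66.RI.mem_XX_right (H66.RI.mem_scc.1 hw).1 (H66.RI.mem_scc.1 hw).2
    have cab : Nat.card (EE D b) = Nat.card (EE D a) := by
      obtain ⟨g, e1⟩ := hcl.2.2 a ha b hb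
      obtain ⟨g', e2⟩ := hcl.2.2 b hb a ha
      have k1 := card_E hD.1 b g'
      have k2 := card_E hD.1 a g
      rw [← e2] at k1
      rw [← e1] at k2
      exact le_antisymm k1 k2
    have ne : EE D a ≠ EE D b := fun m => H66.RI.ot_nc hD ha hb o (by
      have h4 : a ∈ EE D b := m ▸ H66.RI.mem_E ha (.refl a)
      exact (H66.RI.commute_of_mem_closure
        (fun t ht => (H66.RI.mem_scc.1 ht).2.commute (H66.RI.mem_scc.1 ht).1) h4).symm)
    obtain ⟨φ, hφ, u1, u2⟩ := H70.R2.of_equiv (A := (EE D a).subgroupOf (H66.RI.XX D a b))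
      (B := (EE D b).subgroupOf (H66.RI.XX D a b)) h2 (e.trans (H61.slEquivPslOfTwo h2).symm)
      (fun m => ne (by
        rw [← Subgroup.map_subgroupOf_eq_of_le aX, m, Subgroup.map_subgroupOf_eq_of_le bX]))
      (by rw [Nat.card_congr (Subgroup.subgroupOfEquivOfLe aX).toEquiv, ← h3, Nat.card_eq_fintype_card])
      (by rw [Nat.card_congr (Subgroup.subgroupOfEquivOfLe bX).toEquiv, cab, ← h3,
        Nat.card_eq_fintype_card])
    have inj : Function.Injective ((H66.RI.XX D a b).subtype.comp φ) :=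
      Subtype.val_injective.comp hφ
    have v1 : (upperUnipotentSL2 F).map ((H66.RI.XX D a b).subtype.comp φ) = EE D a := by
      rw [← Subgroup.map_map, ← H70.R2.up_eq, u1, Subgroup.map_subgroupOf_eq_of_le aX]
    have v2 : (lowerUnipotentSL2 F).map ((H66.RI.XX D a b).subtype.comp φ) = EE D b := by
      rw [← Subgroup.map_map, ← H70.R2.lo_eq, u2, Subgroup.map_subgroupOf_eq_of_le bX]
    have := r1_map_of_injOn ((H66.RI.XX D a b).subtype.comp φ) (sl2_r1 (K := F))
      (fun x _ m => inj (m.trans (map_one _).symm)) (fun x _ m => inj (m.trans (map_one _).symm))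
      (by rw [v1, v2]; exact ne)
    rwa [v1, v2] at this

end H21.RitDeg
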