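import Cfsg.Agent.H32.M24SC

/-! A criterion for the strong closure of a weakly closed elementary abelian `2`-subgroup
(the argument of `H32.M24SC` with the counting step as a hypothesis). -/

set_option autoImplicit false

namespace H21.SC

open Cfsg Subgroup H98 H32.M24
open scoped commutatorElement

variable {G : Type*} [Group G] [Finite G] {S A H : Subgroup G} {s a n : G}

/-- `A` is weakly closed in `S`, and a certain configuration does not occur -/
structure Cf {G : Type*} [Group G] (S A : Subgroup G) : Prop where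
  le : A ≤ S
  nor : S ≤ normalizer (A : Set G)
  sq' : ∀ a ∈ A, a * a = 1
  wc : ∀ g, cj g A ≤ S → cj g A = A
  fin : ∀ B ≤ S, ∀ A' ≤ A, ∀ u ∈ B, u ∉ A → (∀ b ∈ B, b * b = 1) → Nat.card B = Nat.card A' →
    (∀ e ∈ A, ⁅u, e⁆ ∈ B ↔ e ∈ A') → False

namespace Cf

variable (h : Cf S A)
include h

omit [Finite G] in
theorem sq (ha : a ∈ A) : a * a = 1 := h.sq' a ha
omit [Finite G] in
theorem comm {a b : G} (ha : a ∈ A) (hb : b ∈ A) : a * b = b * a := by
  rw [← inv_eq_of_mul_eq_one_right (h.sq (mul_mem ha hb)), mul_inv_rev,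
    inv_eq_of_mul_eq_one_right (h.sq ha), inv_eq_of_mul_eq_one_right (h.sq hb)]
omit [Finite G] in
theorem cmem (hs : s ∈ S) (ha : a ∈ A) : ⁅s, a⁆ ∈ A :=
  mul_mem (conj_mem_of_mem_normalizer (h.nor hs) ha) (inv_mem ha)

theorem core (hS : IsPGroup 2 S) (hH : H ≤ S)
    (hf : IsSyl 2 (S ⊓ normalizer (H : Set G)) (normalizer (H : Set G)))
    (ih : ∀ P ≤ S, Nat.card H < Nat.card P → Good S A P) (hn : n ∈ normalizer (H : Set G)) :
    n ∈ normalizer ((A ⊓ H : Subgroup G) : Set G) := by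
  have : Fact (Nat.Prime 2) := ⟨Nat.prime_two⟩
  by_contra hn'
  have hG : ∀ x ∈ normalizer (H : Set G), ∀ t ∈ S, t ∉ H → x * t * x⁻¹ ∈ S →
      x ∈ normalizer ((A ⊓ H : Subgroup G) : Set G) := fun x hx t ht h1 h2 => by
    refine mem_normalizer_of_cj_le fun y hy => ?_
    have h3 := mem_cj.1 hy
    have h4 := ih (H ⊔ zpowers t) (sup_le hH (zpowers_le.2 ht))
      (card_lt_of_lt' (lt_of_le_of_ne le_sup_left fun e => h1 (e ▸ mem_sup_right (mem_zpowers t)))) x
      (by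
        rw [cj_sup, cj_eq_self hx, cj, MonoidHom.map_zpowers]
        exact sup_le hH (zpowers_le.2 h2)) _ h3.1 (mem_sup_left h3.2)
    have h5 := conj_mem_of_mem_normalizer hx h3.2
    simp only [mul_assoc, mul_inv_cancel_left, mul_inv_cancel, mul_one] at h4 h5
    exact ⟨h4, h5⟩
  have pH := hS.to_le hH
  have hHA : H ≤ normalizer ((A ⊓ H : Subgroup G) : Set G) :=
    le_normalizer_inf (hH.trans h.nor) le_normalizer
  obtain ⟨B, hB⟩ : ∃ B, B = cj n (A ⊓ H) := ⟨_, rfl⟩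
  have hBH : B ≤ H := hB ▸ cj_le_of_le inf_le_right hn
  have hHB : H ≤ normalizer (B : Set G) := by
    rw [hB, ← cj_normalizer]
    exact (cj_eq_self hn).ge.trans (cj_mono n hHA)
  have mB : ∀ {u}, u ∈ B → n⁻¹ * u * n ∈ A ⊓ H := fun hu => mem_cj.1 (hB ▸ hu)
  have cB : ∀ {u v : G}, u ∈ B → n⁻¹ * v * n ∈ A → u * v = v * u := fun {u v} hu hv => by
    calc u * v = n * ((n⁻¹ * u * n) * (n⁻¹ * v * n)) * n⁻¹ := by group
      _ = v * u := by rw [h.comm (mB hu).1 hv]; group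
  have sB : ∀ {u : G}, n⁻¹ * u * n ∈ A → u * u = 1 := fun {u} hu => by
    calc u * u = n * ((n⁻¹ * u * n) * (n⁻¹ * u * n)) * n⁻¹ := by group
      _ = 1 := by rw [h.sq hu]; group
  have cardB : Nat.card B = Nat.card (A ⊓ H : Subgroup G) := by rw [hB, card_cj]
  have hBA : ¬ B ≤ A := fun e => hn' (mem_normalizer_of_cj_le (hB ▸ le_inf e hBH))
  have hK : ∀ a ∈ A, a ∈ normalizer (H : Set G) → a ∉ H → ∀ u ∈ B, ⁅u, a⁆ ∈ B → u ∈ A := by
    intro a ha haN haH u hu hc
    obtain ⟨b, hb⟩ : ∃ b, b = n * a * n⁻¹ := ⟨_, rfl⟩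
    have hbA : n⁻¹ * b * n ∈ A := by simpa [hb, mul_assoc] using ha
    have hbN : b ∈ normalizer (H : Set G) := hb ▸ mul_mem (mul_mem hn haN) (inv_mem hn)
    have ia := inv_eq_of_mul_eq_one_right (h.sq ha)
    have ib := inv_eq_of_mul_eq_one_right (sB hbA)
    have ra : a * (a * b) * a⁻¹ = (a * b)⁻¹ := by rw [← mul_assoc, h.sq ha, mul_inv_rev, ib, one_mul]
    have rb : b * (a * b) * b⁻¹ = (a * b)⁻¹ := by rw [mul_inv_rev, ib, ia]; nth_rewrite 2 [← ib]; group
    obtain ⟨j, k, hw2, hy⟩ := dih (h.sq ha) (sB hbA)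
    have hwN := pow_mem (mul_mem haN hbN) (2 * j + 1)
    have hw : (a * b) ^ (2 * j + 1) ∈ H := by
      by_contra hwH
      have key : ∀ c ∈ normalizer (H : Set G), c * c = 1 → c * (a * b) * c⁻¹ = (a * b)⁻¹ →
          ∃ y ∈ normalizer (H : Set G), y * c * y⁻¹ ∈ S ∧ y * (a * b) ^ (2 * j + 1) * y⁻¹ ∈ S :=
        fun c hc h2 hi => by
        obtain ⟨y, hy, hle⟩ := hf.exists_cj_le (IsPGroup.to_sup_of_normal_left'
          (isPGroup_zpowers hw2) (isPGroup_zpowers (k := 1) (by simpa [pow_two] using h2))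
          (inv_pow_mul (by rw [← conj_pow, hi, inv_pow])))
          (sup_le (zpowers_le.2 hwN) (zpowers_le.2 hc))
        exact ⟨y, hy, (hle (conj_mem_cj (mem_sup_right (mem_zpowers _)))).1,
          (hle (conj_mem_cj (mem_sup_left (mem_zpowers _)))).1⟩
      obtain ⟨y1, n1, a1, w1⟩ := key a haN (h.sq ha) ra
      obtain ⟨y2, n2, a2, w2⟩ := key b hbN (sB hbA) rb
      have k1 := hG y1 n1 a (h.le ha) haH a1
      have k2 := hG _ (mul_mem n2 hn) a (h.le ha) haH (by simpa [hb, mul_assoc] using a2)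
      have k3 := hG _ (mul_mem n2 (inv_mem n1)) _ w1
        (fun e' => hwH (by simpa [mul_assoc] using conj_mem_of_mem_normalizer' n1 e'))
        (by simpa [mul_assoc] using w2)
      exact hn' (by simpa using mul_mem (inv_mem (mul_mem k3 k1)) k2)
    have k1 := hG _ (mul_mem (inv_mem hn) (pow_mem (mul_mem haN hbN) j)) a (h.le ha) haH (by
      have : n⁻¹ * (a * b) ^ j * a * (n⁻¹ * (a * b) ^ j)⁻¹ =
          n⁻¹ * (a * b) ^ (2 * j + 1) * n * (n⁻¹ * b * n)⁻¹ := by
        calc _ = n⁻¹ * ((a * b) ^ j * a * ((a * b) ^ j)⁻¹) * n := by group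
          _ = _ := by rw [hy]; group
      rw [this]
      exact mul_mem (hH (conj_mem_of_mem_normalizer' hn hw)) (inv_mem (h.le hbA)))
    have k2 := (conj_mem_of_mem_normalizer' k1 (mB hu)).1
    have k3 : (a * b) ^ j ∈ stab (zpowers u) (A ⊓ B) := by
      have z : ∀ c ∈ zpowers u, c = 1 ∨ c = u := fun c hc => by
        have : Fact (Nat.Prime 2) := ⟨Nat.prime_two⟩
        obtain ⟨i, rfl⟩ := (mem_powers_iff_mem_zpowers.2 hc : c ∈ Submonoid.powers u)
        rcases Nat.even_or_odd' i with ⟨l, rfl | rfl⟩ <;>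
          simp [pow_succ, pow_mul, sB (mB hu).1]
      refine pow_mem (mul_mem (mem_stab.2 ⟨centralizer_le_normalizer _
        fun d (hd : d ∈ A ⊓ B) => h.comm hd.1 ha, fun c hc' => ?_⟩)
        (mem_stab.2 ⟨centralizer_le_normalizer _ fun d (hd : d ∈ A ⊓ B) => cB hd.2 hbA,
        fun c hc' => ?_⟩)) j <;> rcases z c hc' with rfl | rfl
      · simp
      · exact ⟨h.cmem (hH (hBH hu)) ha, hc⟩
      · simp
      · rw [commutatorElement_eq_one_iff_mul_comm.2 (cB hu hbA)]; exact one_mem _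
    have k4 := ((mem_stab.1 (inv_mem k3)).2 u (mem_zpowers u)).1
    simpa [commutatorElement_def, mul_assoc] using mul_mem k4 k2
  obtain ⟨a, ha, haN, haH⟩ : ∃ a ∈ A, a ∈ normalizer (H : Set G) ∧ a ∉ H := by
    by_contra hc
    push Not at hc
    have := le_of_nrm (hS.to_le h.le) pH (hH.trans h.nor) hc
    exact hBA (hB ▸ (cj_mono n inf_le_left).trans (h.wc _ ((cj_le_of_le this hn).trans hH)).le)
  obtain ⟨u, hu, huA, hc⟩ := exists_fix_mod (pH.to_le hBH) pH hHB hBA
  have huS := hH (hBH hu)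
  have hE : ∀ e ∈ A, ⁅u, e⁆ ∈ B → e ∈ H := by
    let E : Subgroup G :=
      { carrier := {e | e ∈ A ∧ ⁅u, e⁆ ∈ B}
        one_mem' := ⟨one_mem _, by simp⟩
        mul_mem' := fun {x y} hx hy => ⟨mul_mem hx.1 hy.1, by
          have : ⁅u, x * y⁆ = ⁅u, x⁆ * (x * ⁅u, y⁆) * x⁻¹ := by
            simp only [commutatorElement_def]; group
          rw [this, h.comm hx.1 (h.cmem huS hy.1), ← mul_assoc, mul_inv_cancel_right]
          exact mul_mem hx.2 hy.2⟩
        inv_mem' := fun {x} hx => by rwa [inv_eq_of_mul_eq_one_right (h.sq hx.1)] }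
    have : E ≤ H := le_of_nrm (hS.to_le fun e he => h.le he.1) pH (fun x hx =>
      mem_normalizer_of_cj_le fun y hy => by
        have h1 := mem_cj.1 hy
        refine ⟨by simpa [mul_assoc] using conj_mem_of_mem_normalizer (h.nor (hH hx)) h1.1, ?_⟩
        have h2 := hc _ (inv_mem hx)
        have h3 := h.comm h2 (h.cmem huS h1.1)
        have h4 := h.comm h2 h1.1
        have : ⁅u, y⁆ = x * ⁅u, x⁻¹ * y * x⁆ * x⁻¹ := by
          calc ⁅u, y⁆ = x * (⁅u, x⁻¹⁆⁻¹ * ⁅u, x⁻¹ * y * x⁆ * (x⁻¹ * y * x * ⁅u, x⁻¹⁆) *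
                (x⁻¹ * y * x)⁻¹) * x⁻¹ := by simp only [commutatorElement_def]; group
            _ = x * (⁅u, x⁻¹⁆⁻¹ * (⁅u, x⁻¹ * y * x⁆ * ⁅u, x⁻¹⁆)) * x⁻¹ := by rw [← h4]; group
            _ = _ := by rw [← h3]; group
        rw [this]
        exact conj_mem_of_mem_normalizer (hHB hx) h1.2)
      fun e he hN => by_contra fun e' => huA (hK e he.1 hN e' u hu he.2)
    exact fun e he h1 => this ⟨he, h1⟩
  exact h.fin B (hBH.trans hH) _ inf_le_left u hu huA (fun b hb => sB (mB hb).1) cardB fun e he =>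
    ⟨fun h1 => ⟨he, hE e he h1⟩, fun h1 => by
      have := mul_mem hu (conj_mem_of_mem_normalizer (hHB h1.2) (inv_mem hu))
      simpa [commutatorElement_def, mul_assoc] using this⟩

theorem good (hS : IsSyl 2 S ⊤) {P : Subgroup G} (hP : P ≤ S) : Good S A P := by
  have : Fact (Nat.Prime 2) := ⟨Nat.prime_two⟩
  induction hc : Nat.card S - Nat.card P using Nat.strong_induction_on generalizing P with
  | _ m ih =>
  have ih' : ∀ Q ≤ S, Nat.card P < Nat.card Q → Good S A Q := fun Q hQ hlt =>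
    ih _ (by have := card_le_of_le hQ; omega) hQ rfl
  intro g hg a ha haP
  rcases hP.eq_or_lt with rfl | hlt
  · exact (h.wc _ ((cj_mono g h.le).trans hg)).le (conj_mem_cj ha)
  have big : ∀ Q ≤ S, Nat.card Q = Nat.card P →
      Nat.card P < Nat.card (S ⊓ normalizer (Q : Set G) : Subgroup G) := fun Q hQ e =>
    e ▸ card_lt_of_lt' (lt_inf_normalizer hS.isPGroup (hQ.lt_of_ne fun e' => by
      have := card_lt_of_lt' hlt
      rw [← e, e'] at this; omega))
  obtain ⟨T, hT, hle⟩ := exists_isSyl_le (hS.isPGroup.to_le inf_le_left)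
    (inf_le_right : S ⊓ normalizer (P : Set G) ≤ _)
  obtain ⟨k, -, hk⟩ := hS.exists_cj_le hT.isPGroup le_top
  have hPT : P ≤ T := (le_inf hP le_normalizer).trans hle
  have hT' := hT.cj k
  rw [cj_normalizer] at hT'
  have hf : IsSyl 2 (S ⊓ normalizer (cj k P : Set G)) (normalizer (cj k P : Set G)) :=
    hT'.eq_of_le (hS.isPGroup.to_le inf_le_left) (le_inf hk hT'.le) inf_le_right ▸ hT'
  have h1 := ih' _ inf_le_left (big P hP rfl) k ((cj_mono k hle).trans hk) a ha ⟨hP haP, le_normalizer haP⟩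
  obtain ⟨l, hl, hle'⟩ := hf.exists_cj_le (Q := cj (k * g⁻¹) (S ⊓ normalizer (cj g P : Set G)))
    ((hS.isPGroup.to_le inf_le_left).map _) (by
      refine (cj_mono _ inf_le_right).trans ?_
      rw [cj_normalizer, cj_cj, inv_mul_cancel_right])
  have h2 := (conj_mem_of_mem_normalizer (h.core hS.isPGroup ((cj_mono k hPT).trans hk) hf
    (fun Q hQ e => ih' Q hQ (by rwa [card_cj] at e)) hl) ⟨h1, conj_mem_cj haP⟩).1
  rw [cj_cj] at hle'
  have h3 := ih' _ (hle'.trans inf_le_left) (by rw [card_cj]; exact big _ hg (card_cj _ _))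
    (l * (k * g⁻¹))⁻¹ (by rw [cj_cj, inv_mul_cancel, cj_one]; exact inf_le_left) _ h2 (by
      have := conj_mem_cj (g := l * (k * g⁻¹)) (H := S ⊓ normalizer (cj g P : Set G))
        ⟨hg (conj_mem_cj haP), le_normalizer (conj_mem_cj haP)⟩
      simpa [mul_assoc] using this)
  simpa [mul_assoc] using h3

theorem stronglyClosed (hS : IsSyl 2 S ⊤) : IsStronglyClosed A S := ⟨h.le, fun a ha g hg =>
  h.good hS (zpowers_le.2 (h.le ha)) g (by rw [cj, MonoidHom.map_zpowers]; exact zpowers_le.2 hg)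
    a ha (mem_zpowers a)⟩

end Cf

end H21.SC
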