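import Cfsg.Agent.H21.SWWr2

/-! STD-S kit, part 5: `2`-subgroups of `Aut X` (tricks A, B, C of `blueprints/STDS.md`, sec 3). -/

set_option autoImplicit false
set_option linter.unusedSectionVars false

namespace H21.SW

open H64.SG Subgroup
open H67.SA (cm mem_cjs conj_mem_cjs card_cjs cm_eq_one)

/-- (C) `β` centralises `U`, `H` is perfect and normalises `U`, `C(U)` is abelian and centralises `H`. -/
theorem le_fx_of_perf {X : Type*} [Group X] {β : MulAut X} {U H : Subgroup X} (hU : U ≤ fx β)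
    (hH : H ≤ Ns U) (hp : H ≤ ⁅H, H⁆) (hc : Cs U ≤ Cs H) (hab : Cs U ≤ Cs (Cs U)) : H ≤ fx β := by
  have key : ∀ a ∈ H, a⁻¹ * β a ∈ Cs U := fun a ha u hu => by
    have h1 := mem_fx.1 (hU (H98.conj_mem_of_mem_normalizer (hH ha) hu))
    rw [map_mul, map_mul, map_inv, mem_fx.1 (hU hu)] at h1
    rw [mul_assoc a⁻¹, mul_inv_eq_iff_eq_mul.1 h1]; group
  refine hp.trans (commutator_le.2 fun a ha b hb => mem_fx.2 ?_)
  have c1 : Commute (a⁻¹ * β a) b := (hc (key a ha) b hb).symm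
  have c2 : Commute a (b⁻¹ * β b) := hc (key b hb) a ha
  have c3 : Commute (a⁻¹ * β a) (b⁻¹ * β b) := hab (key b hb) _ (key a ha)
  have c4 : Commute b (b⁻¹ * β b) := hc (key b hb) b hb
  rw [map_commutatorElement, ← mul_inv_cancel_left a (β a), ← mul_inv_cancel_left b (β b)]
  generalize a⁻¹ * β a = x at c1 c3
  generalize b⁻¹ * β b = y at c2 c3 c4
  rw [commutatorElement_def, commutatorElement_def, mul_assoc a x, (c1.mul_right c3).eq, mul_inv_rev a,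
    c4.eq, mul_inv_rev y]
  simp only [mul_assoc, mul_inv_cancel_left]
  rw [← mul_assoc a y, c2.eq, mul_assoc, ← mul_assoc a b, ← mul_assoc _ a⁻¹, ← mul_assoc _ b⁻¹,
    ← mul_assoc y, ← (((c2.mul_left c4).mul_left c2.inv_left).mul_left c4.inv_left).eq,
    mul_inv_cancel_right]
  simp only [mul_assoc]

theorem fx_pow {X : Type*} [Group X] {β : MulAut X} {u : X} (h : u ∈ fx β) (i : ℕ) :
    u ∈ fx (β ^ i) := by
  induction i with
  | zero => rfl
  | succ n ih => rw [mem_fx, pow_succ, MulAut.mul_apply, mem_fx.1 h, mem_fx.1 ih]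

variable {X : Type} [Group X] {S U : Subgroup X} {θ β : MulAut X}

/-- `θ` is an outer automorphism normalising the Sylow `2`-subgroup `S`, `θ² ∈ S`. -/
structure Th (S : Subgroup X) (θ : MulAut X) : Prop where
  syl : Syl S ⊤
  out : ¬ Inn θ
  nor : mp θ S = S
  sq : θ * θ ∈ cI S

/-- The Sylow `2`-subgroup `⟨S, θ⟩` of `Aut X`. -/
abbrev Sh (S : Subgroup X) (θ : MulAut X) : Subgroup (MulAut X) := cI S ⊔ zpowers θ

theorem cjs_cI (γ : MulAut X) (A : Subgroup X) : cjs γ (cI A) = cI (mp γ A) := by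
  rw [cjs, cI, cI, mp, Subgroup.map_map, Subgroup.map_map]
  congr 1
  ext1 g
  exact aut_conj γ g

theorem isPGroup_cI (h : IsPGroup 2 S) : IsPGroup 2 (cI S) := h.map _

theorem F0.conj_mem_cI (hF : F0 X) {A : Subgroup X} {g : X} : MulAut.conj g ∈ cI A ↔ g ∈ A :=
  mem_map_iff_mem hF.conj_inj

namespace Th

variable (h : Th S θ)
include h

theorem mem_Ns : θ ∈ Ns (cI S) := mem_Ns_iff.2 (by rw [cjs_cI, h.nor])

theorem mem_Sh : β ∈ Sh S θ ↔ ∃ s ∈ S, β = MulAut.conj s ∨ β = MulAut.conj s * θ := by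
  refine ⟨fun k => ?_, ?_⟩
  · obtain ⟨_, ⟨s, hs, rfl⟩, _, ⟨n, rfl⟩, rfl⟩ :=
      (H98.mem_sup_right_norm (zpowers_le.2 h.mem_Ns)).1 k
    obtain ⟨m, rfl | rfl⟩ := Int.even_or_odd' n
    · obtain ⟨s', hs', e⟩ := mul_mem (mem_map_of_mem MulAut.conj hs) (zpow_mem h.sq m)
      exact ⟨s', hs', Or.inl (by simp only [e, zpow_mul, zpow_two])⟩
    · obtain ⟨s', hs', e⟩ := mul_mem (mem_map_of_mem MulAut.conj hs) (zpow_mem h.sq m)
      exact ⟨s', hs', Or.inr (by simp only [e, zpow_add, zpow_mul, zpow_two, zpow_one, mul_assoc])⟩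
  · rintro ⟨s, hs, rfl | rfl⟩
    exacts [mem_sup_left (mem_map_of_mem _ hs),
      mul_mem (mem_sup_left (mem_map_of_mem _ hs)) (mem_sup_right (mem_zpowers θ))]

theorem is2 : Is2 θ :=
  Is2.of_pow (k := 1) (by rw [pow_one, pow_two]; exact isPGroup_iff_is2.1 (isPGroup_cI h.syl.2.1) _ h.sq)

theorem isPGroup : IsPGroup 2 (Sh S θ) :=
  (isPGroup_cI h.syl.2.1).to_sup_of_normal_left' h.is2.zpowers (zpowers_le.2 h.mem_Ns)

variable (hF : F0 X)
include hF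

omit h in
/-- A `2`-group of automorphisms over `S` has inner part `S`. -/
theorem mem_cI (hS : Syl S ⊤) {N : Subgroup (MulAut X)} (hN : IsPGroup 2 N) (h1 : cI S ≤ N)
    (hβ : β ∈ N) (hi : Inn β) : β ∈ cI S := by
  have := hF.fin
  have := hF.finite_aut
  exact (((syl_iff.1 hS).map MulAut.conj).eq_of_le (hN.to_le inf_le_left)
    (le_inf h1 (map_mono le_top)) inf_le_right).le ⟨hβ, inn_iff.1 hi⟩

theorem isSyl : H98.IsSyl 2 (Sh S θ) ⊤ := by
  obtain ⟨T, hT, k⟩ := H98.exists_isSyl_le h.isPGroup le_top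
  rwa [le_antisymm k fun β hβ => ?_]
  have k1 := fun {β} => mem_cI (β := β) hF h.syl hT.isPGroup (le_sup_left.trans k)
  have k2 : θ ∈ Sh S θ := mem_sup_right (mem_zpowers θ)
  by_cases hi : Inn β
  · exact mem_sup_left (k1 hβ hi)
  · exact (mul_mem_cancel_right k2).1 (mem_sup_left (k1 (mul_mem hβ (k k2)) (hF.out _ _ hi h.out)))

/-- (A) Every `2`-subgroup of `Aut X` is conjugate into `⟨S, θ⟩` by an inner automorphism. -/
theorem conj_le {Y : Subgroup (MulAut X)} (hY : IsPGroup 2 Y) :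
    ∃ g : X, cjs (MulAut.conj g) Y ≤ Sh S θ := by
  have := hF.finite_aut
  obtain ⟨γ, -, k⟩ := (h.isSyl hF).exists_cj_le hY le_top
  by_cases hi : Inn γ
  · obtain ⟨g, rfl⟩ := hi
    exact ⟨g, k⟩
  obtain ⟨g, hg⟩ := hF.out _ _ h.out hi
  refine ⟨g, ?_⟩
  rw [← hg, cjs_mul, ← mem_Ns_iff.1 (le_normalizer (mem_sup_right (mem_zpowers θ)) : θ ∈ Ns (Sh S θ))]
  exact map_mono k

/-- (A) for a `2`-automorphism `β` and a `2`-subgroup `U` normalised by it. -/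
theorem conj_pair (hU : IsPGroup 2 U) (h2 : Is2 β) (hn : mp β U = U) : ∃ g : X, cjs g U ≤ S ∧
    ∃ s ∈ S, MulAut.conj g * β * (MulAut.conj g)⁻¹ = MulAut.conj s ∨
      MulAut.conj g * β * (MulAut.conj g)⁻¹ = MulAut.conj s * θ := by
  obtain ⟨g, hg⟩ := h.conj_le hF ((isPGroup_cI hU).to_sup_of_normal_left' h2.zpowers
    (zpowers_le.2 (mem_Ns_iff.2 (by rw [cjs_cI, hn]))))
  refine ⟨g, fun x hx => hF.conj_mem_cI.1 (mem_cI hF h.syl h.isPGroup le_sup_left (hg ?_) (inn_conj x)),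
    h.mem_Sh.1 (hg (conj_mem_cjs.2 (mem_sup_right (mem_zpowers β))))⟩
  exact map_mono le_sup_left ((cjs_cI _ U).ge (mem_map_of_mem _ hx))

/-- (A) for an outer `2`-automorphism. -/
theorem conj_out (h2 : Is2 β) (ho : ¬ Inn β) :
    ∃ g : X, ∃ s ∈ S, MulAut.conj g * β * (MulAut.conj g)⁻¹ = MulAut.conj s * θ := by
  obtain ⟨g, -, s, hs, k | k⟩ := h.conj_pair hF (U := ⊥) IsPGroup.of_bot h2 (mp_bot _)
  exacts [absurd (inn_conj_iff.1 (k ▸ inn_conj s)) ho, ⟨g, s, hs, k⟩]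

/-- (B) An outer automorphism centralising the `2`-group `U`. -/
theorem outer (hU : IsPGroup 2 U) (ho : ¬ Inn β) (hle : U ≤ fx β) :
    ∃ g : X, ∃ s ∈ S, cjs g U ≤ S ⊓ fx (MulAut.conj s * θ) := by
  have := hF.finite_aut
  obtain ⟨i, j, e1, e2, e3⟩ := exists_two_odd β
  have k1 : U ≤ fx (β ^ i) := fun u hu => fx_pow (hle hu) i
  have k2 : ¬ Inn (β ^ i) := fun k => ho (e1 ▸ k.mul (hF.inn_odd e3))
  obtain ⟨g, k3, s, hs, k | k⟩ := h.conj_pair hF hU e2 (le_antisymm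
    (by rintro _ ⟨u, hu, rfl⟩; exact (mem_fx.1 (k1 hu)).symm ▸ hu)
    fun u hu => ⟨u, hu, mem_fx.1 (k1 hu)⟩)
  · exact absurd (inn_conj_iff.1 (k ▸ inn_conj s)) k2
  · exact ⟨g, s, hs, le_inf k3 (by rw [← k, ← mp_fx]; exact map_mono k1)⟩

/-- (B) with a bound on the fixed points in `S`. -/
theorem inn_of_card {n : ℕ} (hn : ∀ s ∈ S, Nat.card ↥(S ⊓ fx (MulAut.conj s * θ)) ≤ n)
    (hU : IsPGroup 2 U) (hc : n < Nat.card U) (hle : U ≤ fx β) : Inn β := by_contra fun ho => by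
  have := hF.fin
  obtain ⟨g, s, hs, k⟩ := h.outer hF hU ho hle
  exact absurd ((card_cjs g U).ge.trans ((card_le_of_le k).trans (hn s hs))) (by omega)

/-- The `2`-groups of automorphisms over `S`. -/
theorem above {N : Subgroup (MulAut X)} (hN : IsPGroup 2 N) (h1 : cI S ≤ N) :
    N = cI S ∨ ∃ g ∈ Ns S, cjs (MulAut.conj g) N = Sh S θ := by
  have := hF.fin
  have := hF.finite_aut
  by_cases k : ∀ β ∈ N, Inn β
  · exact Or.inl (le_antisymm (fun β hβ => mem_cI hF h.syl hN h1 hβ (k β hβ)) h1)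
  obtain ⟨β, hβ, ho⟩ : ∃ β ∈ N, ¬ Inn β := by simpa using k
  obtain ⟨g, hg⟩ := h.conj_le hF hN
  have k1 : cjs g S = S := eq_of_le_of_card_ge (fun x hx => hF.conj_mem_cI.1 (mem_cI hF h.syl h.isPGroup
    le_sup_left (hg (map_mono h1 ((cjs_cI _ S).ge (mem_map_of_mem _ hx)))) (inn_conj x)))
    (card_cjs g S).ge
  have k2 : cI S ≤ cjs (MulAut.conj g) N := by
    rw [← k1, cjs_eq g, ← cjs_cI]; exact map_mono h1
  refine Or.inr ⟨g, mem_Ns_iff.2 k1, le_antisymm hg (sup_le k2 (zpowers_le.2 ?_))⟩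
  have k3 := conj_mem_cjs (g := MulAut.conj g).2 hβ
  obtain ⟨s, hs, e | e⟩ := h.mem_Sh.1 (hg k3)
  · exact absurd (inn_conj_iff.1 (e ▸ inn_conj s)) ho
  · exact (mul_mem_cancel_left (k2 (mem_map_of_mem _ hs))).1 (e ▸ k3)

/-- Reduction of the field `oi` of `FEd` to `S` and `⟨S, θ⟩`. -/
theorem oi (hn : Ns S ≤ Ns U)
    (h1 : ∀ α : MulAut (cI S), Odd (orderOf α) → mp α (cN U (cI S)) = cN U (cI S))
    (h2 : ∀ α : MulAut (Sh S θ), Odd (orderOf α) → mp α (cN U (Sh S θ)) = cN U (Sh S θ))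
    (N : Subgroup (MulAut X)) (hN : IsPGroup 2 N) (hS : cI S ≤ N) (α : MulAut N)
    (ho : Odd (orderOf α)) : (cN U N).map α.toMonoidHom = cN U N := by
  rcases h.above hF hN hS with rfl | ⟨g, hg, e⟩
  · exact h1 α ho
  let φ : N ≃* Sh S θ := ((MulAut.conj (MulAut.conj g)).subgroupMap N).trans (MulEquiv.subgroupCongr e)
  have k : mp φ (cN U N) = cN U (Sh S θ) := by
    ext x
    obtain ⟨x, rfl⟩ := φ.surjective x
    rw [map_mem_mp, mem_subgroupOf, mem_subgroupOf, ← conj_mem_cjs (g := MulAut.conj g), cjs_cI,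
      ← cjs_eq, mem_Ns_iff.1 (hn hg)]
    rfl
  have := h2 (MulAut.congr φ α) (by rwa [MulEquiv.orderOf_eq])
  rw [← k] at this
  refine (mp_inj φ).1 (Eq.trans ?_ this)
  rw [mp, mp, mp, Subgroup.map_map, Subgroup.map_map]
  congr 1
  ext x
  simp

end Th

/-- `Th` from an outer automorphism. -/
theorem exists_th (hF : F0 X) (hS : Syl S ⊤) (ho : ¬ Inn β) : ∃ θ, Th S θ := by
  have := hF.fin
  have := hF.finite_aut
  obtain ⟨T, hT, k⟩ := H98.exists_isSyl_le (isPGroup_cI hS.2.1) le_top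
  have k1 := fun {β} => Th.mem_cI (β := β) hF hS hT.isPGroup k
  obtain ⟨a, ha, r, hr, e⟩ := hT.exists_mul_res (mem_top β)
  have k2 : Inn r := inn_iff.2 ((closure_le (cI ⊤)).2 (fun x hx => inn_iff.1 (hF.inn_odd hx.2))
    ((O2_eq ⊤).ge hr))
  refine ⟨a, hS, fun k => ho (e ▸ k.mul k2), eq_of_le_of_card_ge ?_ (card_mp a S).ge,
    k1 (mul_mem ha ha) (hF.inn_sq a)⟩
  rintro _ ⟨s, hs, rfl⟩
  refine hF.conj_mem_cI.1 (k1 ?_ (inn_conj _))
  exact aut_conj a s ▸ mul_mem (mul_mem ha (k (mem_map_of_mem _ hs))) (inv_mem ha)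

end H21.SW
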