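import Cfsg.Agent.H53.SzSpec

/-! ITO tower, part 2: the combinatorial job. -/

set_option autoImplicit false
set_option linter.unusedSectionVars false

namespace H21.Sz

open H53.Sz Finset
open scoped Classical

universe u

section
variable {I : Type u} {s : Finset I} {g : I → ℤ}

theorem single (h : ∑ i ∈ s, g i ^ 2 ≤ 1) {φ ψ : I} (h1 : φ ∈ s) (h2 : g φ ≠ 0) (h3 : ψ ∈ s)
    (h4 : ψ ≠ φ) : g ψ = 0 := by
  have := sum_le_sum_of_subset_of_nonneg (f := fun i => g i ^ 2) (s := {ψ, φ}) (t := s)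
    (by simp [insert_subset_iff, h1, h3]) fun _ _ _ => sq_nonneg _
  rw [sum_pair h4] at this
  have := sq_pos_of_ne_zero h2
  exact pow_eq_zero_iff two_ne_zero |>.1 (by linarith [sq_nonneg (g ψ)])

theorem van (h : ∑ i ∈ s, g i ^ 2 ≤ 1) {B : I → ℤ} (hB : ∑ i ∈ s, g i * B i = 0) {φ : I}
    (h1 : φ ∈ s) (h2 : g φ ≠ 0) : B φ = 0 := by
  rw [sum_eq_single_of_mem φ h1 fun ψ h3 h4 => by rw [single h h1 h2 h3 h4, zero_mul]] at hB
  exact (mul_eq_zero.1 hB).resolve_left h2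

theorem exists_one (h : ∑ i ∈ s, g i ^ 2 = 1) :
    ∃ φ ∈ s, g φ ^ 2 = 1 ∧ ∀ ψ ∈ s, ψ ≠ φ → g ψ = 0 := by
  obtain ⟨φ, h1, h2⟩ := exists_ne_zero_of_sum_ne_zero (h.trans_ne one_ne_zero)
  have h3 := fun ψ => single h.le h1 (fun e => h2 (by rw [e]; rfl)) (ψ := ψ)
  rw [sum_eq_single_of_mem φ h1 fun ψ h4 h5 => by rw [h3 ψ h4 h5]; rfl] at h
  exact ⟨φ, h1, h, h3⟩

theorem card_supp : (#{i ∈ s | g i ≠ 0} : ℤ) ≤ ∑ i ∈ s, g i ^ 2 := by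
  rw [card_filter]
  push_cast
  exact sum_le_sum fun i _ => by
    split_ifs with h
    exacts [sq_pos_of_ne_zero h, sq_nonneg _]

theorem two_sq (h : #s ≤ 2) : ∑ i ∈ s, g i ^ 2 ≠ 3 := fun e => by
  have k : ∀ x y : ℤ, x ^ 2 + y ^ 2 ≠ 3 := fun x y e => by
    obtain ⟨h1, h2⟩ := abs_le_of_sq_le_sq' (by nlinarith [sq_nonneg y] : x ^ 2 ≤ 2 ^ 2) (by norm_num)
    obtain ⟨h3, h4⟩ := abs_le_of_sq_le_sq' (by nlinarith [sq_nonneg x] : y ^ 2 ≤ 2 ^ 2) (by norm_num)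
    interval_cases x <;> interval_cases y <;> simp at e
  obtain h | h | h : #s = 0 ∨ #s = 1 ∨ #s = 2 := by omega
  · rw [card_eq_zero.1 h] at e; simp at e
  · obtain ⟨a, rfl⟩ := card_eq_one.1 h
    exact k (g a) 0 (by simpa using e)
  · obtain ⟨a, b, hab, rfl⟩ := card_eq_two.1 h
    exact k _ _ (by rwa [sum_pair hab] at e)

theorem sum_cst {X : I} (h : ∀ Y ∈ s, g X = g Y) : ∑ i ∈ s, g i = #s * g X := by
  rw [← sum_congr rfl h, sum_const, nsmul_eq_mul]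

end

/-- the arithmetic of the norm equation for `e = 2` -/
theorem norm2 {N a t k d : ℤ} (hN : 1 ≤ N) (ht : 2 ≤ t) (h : N + (a - 1) ^ 2 + (t - 1) * a ^ 2 = 2 + 1)
    (hk : k ^ 2 = (t * a - 1) ^ 2) (hd : N = 1 → 1 + k * d = 0) : N = 2 ∧ k ^ 2 = 1 := by
  have h1 : a ≤ 1 := by nlinarith [mul_nonneg (sub_nonneg.2 ht) (sq_nonneg a)]
  have h2 : 0 ≤ a := by nlinarith [mul_nonneg (sub_nonneg.2 ht) (sq_nonneg a)]
  interval_cases a
  · exact ⟨by linarith, by simpa using hk⟩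
  obtain rfl | rfl : t = 2 ∨ t = 3 := by omega
  · exact ⟨by linarith, by simpa using hk⟩
  · have := hd (by linarith)
    rcases sq_eq_sq_iff_eq_or_eq_neg.1 hk with rfl | rfl <;> omega

theorem norm4 {N a t k : ℤ} (hN : 1 ≤ N) (ht : 3 ≤ t) (h : N + (a - 1) ^ 2 + (t - 1) * a ^ 2 = 4 + 1)
    (hk : k ^ 2 = (t * a - 1) ^ 2) : N ≤ 4 ∧ k ≠ 0 ∧ (N = 4 → k ^ 2 = 1) := by
  have h1 : a ≤ 1 := by nlinarith [mul_nonneg (sub_nonneg.2 ht) (sq_nonneg a)]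
  have h2 : 0 ≤ a := by nlinarith [mul_nonneg (sub_nonneg.2 ht) (sq_nonneg a)]
  interval_cases a
  · exact ⟨by linarith, fun e => by simp [e] at hk, fun _ => by simpa using hk⟩
  · exact ⟨by linarith, fun e => by rw [e] at hk; nlinarith, fun _ => by omega⟩

theorem ab {b x y z r s tj tk d k0 k : ℤ} (hd : d ^ 2 = 1) (h0 : k0 ^ 2 = 1) (hk : k ^ 2 = 1)
    (hj : 3 ≤ tj) (ht : 3 ≤ tk) (c0 : 0 + d * b + k0 * x = 0)
    (c2 : 0 + 0 * b + 2 * (-k0 * x) + s + k * z = 0)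
    (e : 3 = 0 ^ 2 + b ^ 2 + 2 * x ^ 2 + tj * y ^ 2 + tk * z ^ 2 + r) (hs : s ^ 2 ≤ r) :
    b = 0 ∧ x = 0 ∧ z = 0 ∧ s = 0 ∧ (y ≠ 0 → r = 0) := by
  have pj := mul_nonneg (sub_nonneg.2 hj) (sq_nonneg y)
  have pk := mul_nonneg (sub_nonneg.2 ht) (sq_nonneg z)
  have x1 : x ^ 2 = b ^ 2 := by linear_combination (k0 * x - d * b) * c0 - x ^ 2 * h0 + b ^ 2 * hd
  have z0 : ∀ {a : ℤ}, a ^ 2 < 1 → a = 0 := fun h => by nlinarith
  have y0 := sq_nonneg y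
  have s0 := sq_nonneg s
  have x2 : b = 0 := by
    by_contra x2
    have := sq_pos_of_ne_zero x2
    obtain rfl : z = 0 := z0 (by linarith)
    obtain rfl : s = 0 := z0 (by linarith)
    exact x2 (by linear_combination d * c0 - b * hd + d * (by linarith : -k0 * x = 0))
  subst x2
  obtain rfl : x = 0 := z0 (by linarith)
  have x4 : s ^ 2 = z ^ 2 := by linear_combination (s - k * z) * c2 + z ^ 2 * hk
  obtain rfl : z = 0 := z0 (by linarith)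
  exact ⟨rfl, rfl, rfl, z0 (by linarith), fun h => by linarith [sq_pos_of_ne_zero h]⟩

variable {I : Type u} [Fintype I] {o : I} {E : Fin 3 → Finset I} {c : Fin 3 → I → ℤ} {κ : Fin 3 → ℤ}

theorem ex0 {s : Finset I} {g : I → ℤ} {a t k : ℤ} (h1 : o ∈ s) (h2 : g o = 1) (ht : 2 ≤ t)
    (h : ∑ i ∈ s, g i ^ 2 + (a - 1) ^ 2 + (t - 1) * a ^ 2 = 2 + 1) (hk : k ^ 2 = (t * a - 1) ^ 2)
    (hd : (∀ φ ∈ s, φ ≠ o → g φ = 0) → ∃ d, 1 + k * d = 0) :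
    k ^ 2 = 1 ∧ ∃ χ ∈ s, χ ≠ o ∧ g χ ^ 2 = 1 ∧ ∀ φ ∈ s, φ ≠ o → φ ≠ χ → g φ = 0 := by
  have e := add_sum_erase s (fun i => g i ^ 2) h1
  rw [h2, one_pow] at e
  have p : 0 ≤ ∑ i ∈ s.erase o, g i ^ 2 := sum_nonneg fun _ _ => sq_nonneg _
  obtain ⟨d, hd⟩ : ∃ d, ∑ i ∈ s, g i ^ 2 = 1 → 1 + k * d = 0 := by
    by_cases e' : ∑ i ∈ s, g i ^ 2 = 1
    · exact (hd fun φ h3 h4 => single e'.le h1 (h2.trans_ne one_ne_zero) h3 h4).imp fun _ h _ => h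
    · exact ⟨0, fun h => absurd h e'⟩
  obtain ⟨h3, h4⟩ := norm2 (by linarith) ht h hk hd
  obtain ⟨χ, h5, h6, h7⟩ := exists_one (s := s.erase o) (g := g) (by linarith)
  exact ⟨h4, χ, mem_of_mem_erase h5, ne_of_mem_erase h5, h6, fun φ a b => h7 φ (mem_erase.2 ⟨b, a⟩)⟩

/-- the data after the first step -/
structure D (o : I) (E : Fin 3 → Finset I) (c : Fin 3 → I → ℤ) (κ : Fin 3 → ℤ) (χ : I) : Prop
    extends Tri o E c κ where
  ne : χ ≠ o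
  out : ∀ i, χ ∉ E i
  d : c 0 χ ^ 2 = 1
  k : κ 0 ^ 2 = 1
  z : ∀ φ, φ ∉ E 0 → φ ≠ o → φ ≠ χ → c 0 φ = 0

theorem three (T : Tri o E c κ) (i : Fin 3) : 2 ≤ #(E i) := by
  have := T.big
  fin_cases i <;> simp only [Fin.zero_eta, Fin.mk_one, Fin.reduceFinMk] <;> omega

theorem exD (T : Tri o E c κ) : ∃ χ, D o E c κ χ := by
  obtain ⟨a, h1, h2⟩ := T.norm 0
  obtain ⟨f, h3, h4⟩ := T.deg
  obtain ⟨X, hX⟩ := card_pos.1 (by linarith [T.big.1] : 0 < #(E 0))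
  obtain ⟨h5, χ, h6, h7, h8, h9⟩ := ex0 (mem_compl.2 (T.one 0).1) (T.one 0).2
    (by exact_mod_cast T.big.1) h1 h2 fun h => ⟨f X, by
      have := (h3 0 X hX).2
      rwa [sum_eq_single_of_mem o (mem_compl.2 (T.one 0).1) fun φ a b => by simp [h φ a b],
        (T.one 0).2, h4] at this⟩
  refine ⟨χ, T, h7, fun i hi => ?_, h8, h5, fun φ a => h9 φ (mem_compl.2 a)⟩
  have i0 : 0 ≠ i := fun e => mem_compl.1 h6 (e ▸ hi)
  obtain ⟨Y, hY, ne⟩ := exists_mem_ne (three T i) χ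
  rw [T.cst 0 i i0 χ hi Y hY, h9 Y (mem_compl.2 (disjoint_right.1 (T.disj 0 i i0) hY))
    (fun e => (T.one i).1 (e ▸ hY)) ne] at h8
  simp at h8

/-- the rest -/
noncomputable def RR (o : I) (E : Fin 3 → Finset I) (χ : I) : Finset I :=
  {φ | (∀ i, φ ∉ E i) ∧ φ ≠ o ∧ φ ≠ χ}

/-- `{j, k} = {1, 2}` -/
def JK (j k : Fin 3) : Prop := (j = 1 ∧ k = 2) ∨ (j = 2 ∧ k = 1)

namespace D
variable {χ : I} (T : D o E c κ χ) {j k : Fin 3} (h : JK j k)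
include T

theorem dec0 (g : I → ℤ) : ∑ i, g i = g o + g χ + ∑ i ∈ E 0, g i + ∑ i ∈ E 1, g i + ∑ i ∈ E 2, g i +
    ∑ i ∈ RR o E χ, g i := by
  rw [← sum_ite_mem_eq (E 0), ← sum_ite_mem_eq (E 1), ← sum_ite_mem_eq (E 2), RR, sum_filter,
    ← Fintype.sum_ite_eq' o (fun _ => g o), ← Fintype.sum_ite_eq' χ (fun _ => g χ)]
  simp only [← sum_add_distrib]
  refine sum_congr rfl fun i _ => ?_
  have d := fun a b h => @disjoint_left.1 (T.disj a b h) i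
  have d1 := d 0 1 (by decide)
  have d2 := d 0 2 (by decide)
  have d3 := d 1 2 (by decide)
  by_cases h1 : i = o
  · simp [h1, fun i => (T.one i).1, T.ne.symm]
  by_cases h2 : i = χ
  · simp [h2, T.out, T.ne]
  by_cases a : i ∈ E 0 <;> by_cases b : i ∈ E 1 <;> by_cases c : i ∈ E 2 <;>
    simp_all [Fin.forall_fin_succ]

include h

theorem dec (g : I → ℤ) : ∑ i, g i = g o + g χ + ∑ i ∈ E 0, g i + ∑ i ∈ E j, g i + ∑ i ∈ E k, g i +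
    ∑ i ∈ RR o E χ, g i := by
  rcases h with ⟨rfl, rfl⟩ | ⟨rfl, rfl⟩ <;> rw [T.dec0] ; ring

omit T in
theorem jk : 0 ≠ j ∧ 0 ≠ k ∧ j ≠ k ∧ JK k j ∧ ∀ i, i = 0 ∨ i = j ∨ i = k := by
  unfold JK at *; rcases h with ⟨rfl, rfl⟩ | ⟨rfl, rfl⟩ <;> decide

theorem c0 {Y : I} (hY : Y ∈ E j) : c 0 Y = 0 :=
  T.z Y (disjoint_right.1 (T.disj 0 j (jk h).1) hY) (fun e => (T.one j).1 (e ▸ hY))
    fun e => T.out j (e ▸ hY)

omit h in
theorem col0 {f : I → ℤ} (hf : Col E c κ f) {X : I} (hX : X ∈ E 0) :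
    f o + c 0 χ * f χ + κ 0 * f X = 0 := by
  have := (hf 0 X hX).2
  rw [← sum_subset (s₁ := {o, χ}) (by simp [insert_subset_iff, T.out, (T.one 0).1])
    (fun φ a b => by simp at a b; simp [T.z φ a b.1 b.2]), sum_pair T.ne.symm, (T.one 0).2] at this
  simpa using this

theorem typ {X : I} (hX : X ∈ E 0) : κ j ≠ 0 ∧ (∀ Z ∈ E k, c j Z = 0) ∧
    ((c j X = 0 ∧ c j χ = -c 0 χ ∧ ∑ i ∈ RR o E χ, c j i ^ 2 ≤ 2 ∧
      (∑ i ∈ RR o E χ, c j i ^ 2 = 2 → κ j ^ 2 = 1)) ∨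
    (c j X = -κ 0 ∧ c j χ = 0 ∧ ∑ i ∈ RR o E χ, c j i ^ 2 + #(E 0) ≤ 3 ∧
      (∑ i ∈ RR o E χ, c j i ^ 2 + #(E 0) = 3 → κ j ^ 2 = 1))) := by
  obtain ⟨j0, k0, jk, -⟩ := jk h
  obtain ⟨a, h1, h2⟩ := T.norm j
  obtain ⟨Y, hY⟩ := card_pos.1 (by linarith [three T.toTri j] : 0 < #(E j))
  obtain ⟨Z, hZ⟩ := card_pos.1 (by linarith [three T.toTri k] : 0 < #(E k))
  have t0 : (2 : ℤ) ≤ #(E 0) := by exact_mod_cast T.big.1
  have tj : (3 : ℤ) ≤ #(E j) ∧ (3 : ℤ) ≤ #(E k) ∧ (![2, 4, 4] j : ℤ) = 4 := by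
    have := T.big
    rcases h with ⟨rfl, rfl⟩ | ⟨rfl, rfl⟩ <;> exact ⟨by omega, by omega, rfl⟩
  have e1 := T.dec h fun i => c j i ^ 2
  rw [← sum_add_sum_compl (E j), (T.one j).2,
    sum_cst (s := E 0) fun Y hY => congrArg (· ^ 2) (T.cst j 0 j0.symm X hX Y hY),
    sum_cst (s := E k) fun Y hY => congrArg (· ^ 2) (T.cst j k jk Z hZ Y hY)] at e1
  have e2 := T.orth 0 j j0 X hX Y hY
  rw [← sum_subset (s₁ := {o, χ}) (by simp [insert_subset_iff, T.out, fun i => (T.one i).1])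
    (fun φ a b => by simp at a b; simp [T.z φ a.1 b.1 b.2]), sum_pair T.ne.symm, (T.one 0).2,
    (T.one j).2, T.c0 h hY] at e2
  have p : 0 ≤ ∑ i ∈ RR o E χ, c j i ^ 2 := sum_nonneg fun _ _ => sq_nonneg _
  have p0 := mul_nonneg (sub_nonneg.2 t0) (sq_nonneg (c j X))
  have pk := mul_nonneg (sub_nonneg.2 tj.2.1) (sq_nonneg (c j Z))
  rw [tj.2.2] at h1
  obtain ⟨n1, n2, n3⟩ := norm4 (by nlinarith [sq_nonneg (c j χ)]) tj.1 h1 h2
  have q : c j X = 0 ∧ c j χ = -c 0 χ ∨ c j X = -κ 0 ∧ c j χ = 0 := by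
    have b : c j χ ^ 2 + 2 * c j X ^ 2 ≤ 3 := by nlinarith [sq_nonneg (c j Z)]
    have b1 : c j X ≤ 1 := by nlinarith [sq_nonneg (c j χ)]
    have b2 : -1 ≤ c j X := by nlinarith [sq_nonneg (c j χ)]
    have b3 : c j χ ≤ 1 := by nlinarith [sq_nonneg (c j X)]
    have b4 : -1 ≤ c j χ := by nlinarith [sq_nonneg (c j X)]
    rcases sq_eq_one_iff.1 T.d with d | d <;> rcases sq_eq_one_iff.1 T.k with e | e <;>
      rw [d, e] at e2 ⊢ <;> omega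
  have z : c j Z = 0 := by
    have : 1 ≤ c j χ ^ 2 + 2 * c j X ^ 2 := by
      rcases q with ⟨q, q'⟩ | ⟨q, q'⟩ <;> rw [q, q', neg_sq] <;> linarith [T.d, T.k]
    nlinarith
  refine ⟨n2, fun Z' hZ' => T.cst j k jk Z hZ Z' hZ' ▸ z, q.imp (fun ⟨q, q'⟩ => ?_) fun ⟨q, q'⟩ => ?_⟩
  · rw [q, q', z, neg_sq, T.d] at e1
    exact ⟨q, q', by linarith, fun e => n3 (by linarith)⟩
  · rw [q, q', z, neg_sq, T.k] at e1
    exact ⟨q, q', by linarith, fun e => n3 (by linarith)⟩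

theorem col {f : I → ℤ} (hf : Col E c κ f) {X Y : I} (hX : X ∈ E 0) (hY : Y ∈ E j) :
    f o + c j χ * f χ + #(E 0) * (c j X * f X) + ∑ i ∈ RR o E χ, c j i * f i + κ j * f Y = 0 := by
  have e1 := T.dec h fun i => c j i * f i
  have e2 := (hf j Y hY).2
  rw [← sum_add_sum_compl (E j), (T.one j).2, sum_cst (s := E 0) fun Y hY => by
      rw [T.cst j 0 (jk h).1.symm X hX Y hY, (hf 0 X hX).1 Y hY],
    sum_eq_zero (s := E k) fun Z hZ => by rw [(T.typ h hX).2.1 Z hZ, zero_mul]] at e1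
  simp only [Int.cast_id] at e2
  linarith

theorem orth12 {X : I} (hX : X ∈ E 0) :
    1 + c j χ * c k χ + #(E 0) * (c j X * c k X) + ∑ i ∈ RR o E χ, c j i * c k i = 0 := by
  obtain ⟨j0, k0, jk, h', -⟩ := jk h
  obtain ⟨Y, hY⟩ := card_pos.1 (by linarith [three T.toTri j] : 0 < #(E j))
  obtain ⟨Z, hZ⟩ := card_pos.1 (by linarith [three T.toTri k] : 0 < #(E k))
  have e1 := T.dec h fun i => c j i * c k i
  have e2 := T.orth j k jk Y hY Z hZ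
  rw [← sum_add_sum_compl (E j ∪ E k), sum_union (T.disj j k jk), (T.one j).2, (T.one k).2,
    sum_cst (s := E 0) fun Y hY => by rw [T.cst j 0 j0.symm X hX Y hY, T.cst k 0 k0.symm X hX Y hY]] at e1
  rw [(T.typ h hX).2.1 Z hZ, (T.typ h' hX).2.1 Y hY] at e2
  linarith

theorem sq {f : I → ℤ} (hf : Col E c κ f) {X Y Z : I} (hX : X ∈ E 0) (hY : Y ∈ E j) (hZ : Z ∈ E k) :
    ∑ i, f i ^ 2 = f o ^ 2 + f χ ^ 2 + #(E 0) * f X ^ 2 + #(E j) * f Y ^ 2 + #(E k) * f Z ^ 2 +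
      ∑ i ∈ RR o E χ, f i ^ 2 := by
  rw [T.dec h, sum_cst fun W hW => congrArg (· ^ 2) ((hf 0 X hX).1 W hW),
    sum_cst fun W hW => congrArg (· ^ 2) ((hf j Y hY).1 W hW),
    sum_cst fun W hW => congrArg (· ^ 2) ((hf k Z hZ).1 W hW)]

theorem four (h1 : ∑ i ∈ RR o E χ, c j i ^ 2 ≤ 2) (h2 : ∀ φ ∈ RR o E χ, c k φ ≠ 0 → c j φ ≠ 0) :
    #{φ | (∀ i, φ ∉ E i) ∧ ∃ i, c i φ ≠ 0} ≤ 4 := by
  have := card_supp.trans h1
  refine (card_le_card (t := insert o (insert χ {φ ∈ RR o E χ | c j φ ≠ 0})) fun φ hφ => ?_).trans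
    ((card_insert_le _ _).trans (by linarith [card_insert_le χ {φ ∈ RR o E χ | c j φ ≠ 0}]))
  obtain ⟨a, i, b⟩ := (mem_filter.1 hφ).2
  by_contra e
  simp only [mem_insert, not_or] at e
  have m : φ ∈ RR o E χ := mem_filter.2 ⟨mem_univ _, a, e.1, e.2.1⟩
  refine e.2.2 (mem_filter.2 ⟨m, ?_⟩)
  rcases (jk h).2.2.2.2 i with rfl | rfl | rfl
  exacts [absurd (T.z φ (a 0) e.1 e.2.1) b, b, h2 φ m b]

/-- types `A`, `B` -/
theorem AB {X : I} (hX : X ∈ E 0) (a1 : c j X = 0) (a3 : ∑ i ∈ RR o E χ, c j i ^ 2 ≤ 2)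
    (b1 : c k X = -κ 0) (b2 : c k χ = 0) (b3 : ∑ i ∈ RR o E χ, c k i ^ 2 + #(E 0) ≤ 3)
    (b4 : ∑ i ∈ RR o E χ, c k i ^ 2 + #(E 0) = 3 → κ k ^ 2 = 1) :
    #{φ | (∀ i, φ ∉ E i) ∧ ∃ i, c i φ ≠ 0} ≤ 4 ∧ (#{φ | ∀ i, φ ∉ E i ∧ c i φ = 0} ≤ 2 →
      ∀ B : I → ℤ, Col E c κ B → B o = 0 → ∑ φ, B φ ^ 2 ≠ 3) := by
  obtain ⟨j0, k0, jk, h', hi⟩ := jk h
  have t0 : (2 : ℤ) ≤ #(E 0) := by exact_mod_cast T.big.1
  have e := T.orth12 h hX
  rw [a1, b2] at e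
  obtain ⟨ψ, p1, p2⟩ := exists_ne_zero_of_sum_ne_zero
    (by linarith : ∑ i ∈ RR o E χ, c j i * c k i ≠ 0)
  obtain ⟨p2, p3⟩ := mul_ne_zero_iff.1 p2
  have m1 : ∑ i ∈ RR o E χ, c k i ^ 2 ≤ 1 := by linarith
  have m2 := single_le_sum (f := fun i => c k i ^ 2) (fun _ _ => sq_nonneg _) p1
  have m3 := sq_pos_of_ne_zero p3
  have m4 : (#(E 0) : ℤ) = 2 := by linarith
  have u : ∀ φ ∈ RR o E χ, c k φ ≠ 0 → φ = ψ := fun φ a b => by_contra fun e => b (single m1 p1 p3 a e)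
  refine ⟨T.four h a3 fun φ a b => u φ a b ▸ p2, fun hT B hB B0 e3 => two_sq (g := B) hT ?_⟩
  obtain ⟨Y, hY⟩ := card_pos.1 (by linarith [three T.toTri j] : 0 < #(E j))
  obtain ⟨Z, hZ⟩ := card_pos.1 (by linarith [three T.toTri k] : 0 < #(E k))
  have tj : (3 : ℤ) ≤ #(E j) ∧ (3 : ℤ) ≤ #(E k) := by
    have := T.big
    rcases h with ⟨rfl, rfl⟩ | ⟨rfl, rfl⟩ <;> exact ⟨by omega, by omega⟩
  have c0 := T.col0 hB hX
  have c1 := T.col h hB hX hY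
  have c2 := T.col h' hB hX hZ
  have s := T.sq h hB hX hY hZ
  have cs := fun i => sum_mul_sq_le_sq_mul_sq (RR o E χ) (c i) B
  have p : 0 ≤ ∑ i ∈ RR o E χ, B i ^ 2 := sum_nonneg fun _ _ => sq_nonneg _
  rw [e3, B0, m4] at s
  rw [B0, b1, b2, m4] at c2
  rw [B0] at c0
  obtain ⟨x2, x3, x5, x4, z1⟩ := ab T.d T.k (b4 (by linarith)) tj.1 tj.2 c0 c2 s
    ((cs k).trans (mul_le_of_le_one_left p m1))
  have x6 : B ψ = 0 := van m1 x4 p1 p3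
  rw [B0, x2, a1] at c1
  have x7 : B Y = 0 := by
    by_contra x7
    have z2 := cs j
    rw [z1 x7, mul_zero] at z2
    rw [pow_eq_zero_iff two_ne_zero |>.1 (le_antisymm z2 (sq_nonneg _))] at c1
    exact mul_ne_zero (T.typ h hX).1 x7 (by linarith)
  have x8 : ∀ φ ∈ (RR o E χ).erase ψ, c j φ ≠ 0 → B φ = 0 := fun φ => van (by
      linarith [add_sum_erase _ (fun i => c j i ^ 2) p1, sq_pos_of_ne_zero p2]) (by
      have := add_sum_erase _ (fun i => c j i * B i) p1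
      rw [x6] at this; rw [x7] at c1; linarith)
  rw [← e3]
  refine sum_subset (subset_univ _) fun φ _ hφ => pow_eq_zero_iff two_ne_zero |>.2 ?_
  clear e
  by_contra e
  refine hφ (mem_filter.2 ⟨mem_univ _, ?_⟩)
  have a : ∀ i, φ ∉ E i := fun i a => e (by
    rcases hi i with rfl | rfl | rfl
    exacts [(hB _ X hX).1 φ a ▸ x3, (hB _ Y hY).1 φ a ▸ x7, (hB _ Z hZ).1 φ a ▸ x5])
  have b : φ ≠ o := fun b => e (b ▸ B0)
  have d : φ ≠ χ := fun b => e (b ▸ x2)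
  have m : φ ∈ RR o E χ := mem_filter.2 ⟨mem_univ _, a, b, d⟩
  have n : φ ≠ ψ := fun b => e (b ▸ x6)
  refine fun i => ⟨a i, by_contra fun q => ?_⟩
  rcases hi i with rfl | rfl | rfl
  exacts [q (T.z φ (a 0) b d), e (x8 φ (mem_erase.2 ⟨n, m⟩) q), n (u φ m q)]

end D

theorem aa {α U W t0 t1 t2 r : ℤ} (h0 : 2 ≤ t0) (h1 : 3 ≤ t1) (h2 : 3 ≤ t2) (h3 : 7 ≤ t1 + t2)
    (hr : 0 ≤ r) (h : U + W = 2 - 2 * α)
    (e : 9 = 1 + α ^ 2 + t0 * (1 + α) ^ 2 + t1 * U ^ 2 + t2 * W ^ 2 + r) : False := by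
  have p0 := mul_nonneg (sub_nonneg.2 h0) (sq_nonneg (1 + α))
  have p1 := mul_nonneg (sub_nonneg.2 h1) (sq_nonneg U)
  have p2 := mul_nonneg (sub_nonneg.2 h2) (sq_nonneg W)
  have b1 : U ≤ 1 := by nlinarith [sq_nonneg α, sq_nonneg (1 + α), sq_nonneg W]
  have b2 : W ≤ 1 := by nlinarith [sq_nonneg α, sq_nonneg (1 + α), sq_nonneg U]
  have b3 : α ≤ 0 := by nlinarith [sq_nonneg W, sq_nonneg U]
  obtain ⟨rfl, rfl, rfl⟩ : α = 0 ∧ U = 1 ∧ W = 1 := by omega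
  omega

theorem jobComb : JobComb.{u} := fun I _ o E c κ T0 => by
  obtain ⟨χ, T⟩ := exD T0
  obtain ⟨X, hX⟩ := card_pos.1 (by linarith [three T0 0] : 0 < #(E 0))
  obtain ⟨Y, hY⟩ := card_pos.1 (by linarith [three T0 1] : 0 < #(E 1))
  obtain ⟨Z, hZ⟩ := card_pos.1 (by linarith [three T0 2] : 0 < #(E 2))
  have h : JK 1 2 := .inl ⟨rfl, rfl⟩
  have h' : JK 2 1 := .inr ⟨rfl, rfl⟩
  refine (fun (a : _ ∧ _) b => ⟨a.1, b, a.2⟩) ?_ fun f hf h0 => ?_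
  · have e := T.orth12 h hX
    have t0 : (2 : ℤ) ≤ #(E 0) := by exact_mod_cast T.big.1
    have p : ∑ i ∈ RR o E χ, (c 1 i + c 2 i) ^ 2 = ∑ i ∈ RR o E χ, c 1 i ^ 2 +
        2 * ∑ i ∈ RR o E χ, c 1 i * c 2 i + ∑ i ∈ RR o E χ, c 2 i ^ 2 := by
      simp only [add_sq, sum_add_distrib, mul_sum, mul_assoc]
    have p' : 0 ≤ ∑ i ∈ RR o E χ, (c 1 i + c 2 i) ^ 2 := sum_nonneg fun _ _ => sq_nonneg _
    rcases (T.typ h hX).2.2 with ⟨a1, a2, a3, a4⟩ | ⟨a1, a2, a3, a4⟩ <;>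
      rcases (T.typ h' hX).2.2 with ⟨b1, b2, b3, b4⟩ | ⟨b1, b2, b3, b4⟩
    · rw [a1, a2, b2, neg_mul_neg, ← sq, T.d] at e
      have n : ∀ φ ∈ RR o E χ, c 2 φ = -c 1 φ := fun φ m => by
        have := (sum_eq_zero_iff_of_nonneg fun _ _ => sq_nonneg _).1
          (le_antisymm (by linarith) p') φ m
        linarith [pow_eq_zero_iff two_ne_zero |>.1 this]
      refine ⟨T.four h a3 fun φ m q => by simpa [n φ m] using q, fun _ A _ hA _ A1 _ A9 _ => ?_⟩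
      have c0 := T.col0 hA hX
      have c1 := T.col h hA hX hY
      have c2 := T.col h' hA hX hZ
      have s := T.sq h hA hX hY hZ
      rw [sum_congr rfl fun φ m => by rw [n φ m, neg_mul], sum_neg_distrib, b1, b2] at c2
      rw [a1, a2] at c1
      rw [A1] at c0 c1 c2 s
      refine aa (α := c 0 χ * A χ) (U := -κ 1 * A Y) (W := -κ 2 * A Z) (t1 := #(E 1)) (t2 := #(E 2))
        (r := ∑ i ∈ RR o E χ, A i ^ 2) t0
        (by exact_mod_cast T.big.2.1) (by exact_mod_cast T.big.2.2.1) (by exact_mod_cast T.big.2.2.2)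
        (sum_nonneg fun _ _ => sq_nonneg _) (by linarith) ?_
      rw [← A9, s, show 1 + c 0 χ * A χ = -(κ 0 * A X) by linarith]
      simp only [mul_pow, neg_sq, T.d, T.k, a4 (by linarith), b4 (by linarith), one_mul, one_pow]
    · exact (T.AB h hX a1 a3 b1 b2 b3 b4).imp_right fun q t _ B _ hB _ B0 _ => q t B hB B0
    · exact (T.AB h' hX b1 b3 a1 a2 a3 a4).imp_right fun q t _ B _ hB _ B0 _ => q t B hB B0
    · rw [a1, a2, b1, neg_mul_neg, ← sq, T.k] at e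
      linarith
  · have k : ∀ i, κ i ≠ 0 → (∀ φ, φ ∉ E i → c i φ = 0 ∨ f φ = 0) → ∀ X ∈ E i, f X = 0 :=
      fun i hi h1 X hX => by
        have := (hf i X hX).2
        rw [sum_eq_zero fun φ m => by rcases h1 φ (mem_compl.1 m) with e | e <;> simp [e]] at this
        simpa [hi] using this
    have f0 := k 0 (fun e => by simpa [e] using T.k) fun φ a => by
      by_cases b : φ ∈ E 1
      · exact .inl (T.c0 h b)
      by_cases d : φ ∈ E 2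
      · exact .inl (T.c0 h' d)
      exact .inr (h0 φ fun i => by fin_cases i <;> assumption)
    have f1 : ∀ {j k}, JK j k → ∀ X ∈ E j, f X = 0 := fun {j k'} h => k j (T.typ h hX).1 fun φ a => by
      by_cases b : φ ∈ E 0
      · exact .inr (f0 φ b)
      by_cases d : φ ∈ E k'
      · exact .inl ((T.typ h hX).2.1 φ d)
      exact .inr (h0 φ fun i => by rcases (D.jk h).2.2.2.2 i with rfl | rfl | rfl <;> assumption)
    funext φ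
    by_contra e
    exact e (h0 φ fun i m => e (by fin_cases i; exacts [f0 φ m, f1 h φ m, f1 h' φ m]))

end H21.Sz
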