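import Cfsg.Agent.H53.SzSpec
import Cfsg.Agent.H36.FrobCol

/-! ITO tower, part 2: exceptional characters of a self-centralising subgroup. -/

set_option autoImplicit false
set_option linter.unusedSectionVars false

namespace H21.Sz

open H53.Sz Cfsg Subgroup Finset H28 H66 H36 H35
open scoped ComplexConjugate

universe u

variable {G : Type u} [Group G] [Fintype G] {A : Subgroup G} [Fintype A] {E : Subgroup (MulAut A)}

theorem bF_univ : bF (Set.univ : Set (IrrCharacter G)) = univ := by ext; simp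

theorem off (ψ ψ' : A →* ℂˣ) {g : G} (hg : Off A g) :
    ∑ χ, ((mult A χ ψ - mult A χ ψ' : ℤ) : ℂ) * (χ : G → ℂ) g = 0 := by
  have h1 := sum_mul_mult_sub_eq_zero univ (fun χ => conj ((χ : G → ℂ) g)) ψ ψ' fun a ha => by
    simpa only [mul_comm] using column_orthogonality_of_not_isConj (g := (a : G)) (h := g) fun hc => by
      obtain ⟨x, hx⟩ := isConj_iff.1 hc
      rw [hg x (by rw [← hx]; simp [mul_assoc]), conj_eq_one_iff,
        OneMemClass.coe_eq_one] at hx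
      simp [hx] at ha
  simpa [mul_comm] using congrArg conj h1

/-- `E` acts freely on the abelian group `A` and controls fusion, `A` is self-centralising -/
structure FC (A : Subgroup G) (E : Subgroup (MulAut A)) : Prop where
  cc : IsCC A
  free : ∀ e ∈ E, ∀ a, a ≠ 1 → e a = a → e = 1
  fus : ∀ a a' : A, a ≠ 1 → (IsConj (a : G) a' ↔ ∃ e ∈ E, e a = a')

namespace FC
variable (h : FC A E)
include h

theorem comm (a b : A) : a * b = b * a := Subtype.ext (h.cc.comm b.2 a.2)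

open Classical in
theorem gram (ψ₁ ψ₂ ψ₃ : A →* ℂˣ) :
    ∑ χ, mult A χ ψ₃ * (mult A χ ψ₁ - mult A χ ψ₂) =
      (if ERel E ψ₁ ψ₃ then (if ψ₁ = 1 then (Nat.card E : ℤ) else 1) else 0) -
        if ERel E ψ₂ ψ₃ then (if ψ₂ = 1 then (Nat.card E : ℤ) else 1) else 0 := by
  have := Fintype.ofFinite E
  have h1 := gram_mult (fun e : E => e.1) Set.univ (Nat.card A) (fun a a' ha => by
    rw [H34.bker_eq_sum_bF, bF_univ]
    by_cases h1 : IsConj (a : G) a'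
    · obtain ⟨e, he, h2⟩ := (h.fus a a' ha).1 h1
      rw [column_orthogonality_of_isConj h1, h.cc _ a.2 (by simpa using ha),
        sum_eq_single (⟨e, he⟩ : E), if_pos h2, mul_one]
      · refine fun e' _ h' => if_neg fun h3 => h' (Subtype.ext ?_)
        rw [← inv_mul_eq_one]
        refine h.free _ (mul_mem (inv_mem e'.2) he) a ha ?_
        rw [MulAut.mul_apply, h2, ← h3]; simp
      · simp
    · rw [column_orthogonality_of_not_isConj h1, sum_eq_zero fun (e : E) _ =>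
        if_neg fun h' => h1 ((h.fus a a' ha).2 ⟨e, e.2, h'⟩), mul_zero]) ψ₁ ψ₂ ψ₃
  rw [mul_right_inj' (card_ne_zero' A), bF_univ] at h1
  rw [← sum_ite_comp_eq h.comm h.free, ← sum_ite_comp_eq h.comm h.free, ← sum_sub_distrib]
  exact_mod_cast h1

open Classical in
theorem gram' {ψ₁ ψ₂ ψ₃ ψ₄ : A →* ℂˣ} (h1 : ψ₁ ≠ 1) (h2 : ψ₂ ≠ 1) :
    ∑ χ, (mult A χ ψ₃ - mult A χ ψ₄) * (mult A χ ψ₁ - mult A χ ψ₂) =
      ((if ERel E ψ₁ ψ₃ then 1 else 0) - if ERel E ψ₂ ψ₃ then 1 else 0) -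
      ((if ERel E ψ₁ ψ₄ then 1 else 0) - if ERel E ψ₂ ψ₄ then 1 else 0) := by
  simp only [sub_mul, sum_sub_distrib, h.gram, if_neg h1, if_neg h2]

theorem mult_eq {ψ ψ' : A →* ℂˣ} (hr : ERel E ψ ψ') (χ : IrrCharacter G) :
    mult A χ ψ = mult A χ ψ' := by
  by_cases h1 : ψ = 1
  · subst h1
    rw [eRel_one_left.1 hr]
  have := h.gram' (ψ₃ := ψ) (ψ₄ := ψ') h1 (hr.ne_one h1)
  simp only [hr, hr.symm, ERel.refl, if_true, sub_self] at this
  exact sub_eq_zero.1 (mul_self_eq_zero.1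
    ((sum_eq_zero_iff_of_nonneg fun _ _ => mul_self_nonneg _).1 this χ (mem_univ _)))

theorem exists_exc {ψ₀ : A →* ℂˣ} (h0 : ψ₀ ≠ 1) : ∃ ζ ε, Exc Set.univ A E ζ ε := by
  classical
  let s : Setoid {ψ : A →* ℂˣ // ψ ≠ 1} :=
    ⟨fun a b => ERel E a.1 b.1, fun _ => ERel.refl _, ERel.symm, ERel.trans⟩
  let i₀ : Quotient s := Quotient.mk s ⟨ψ₀, h0⟩
  have hout : ∀ i j : Quotient s, ERel E i.out.1 j.out.1 ↔ i = j := fun i j =>
    Quotient.out_equiv_out (x := i) (y := j)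
  obtain ⟨ε, hε, μ, hinj, -, hv⟩ := exists_exceptional i₀ (Set.univ : Set (IrrCharacter G))
    (fun i χ => mult A χ i.out.1 - mult A χ i₀.out.1) (by simp)
    (fun i => by rw [bF_univ]; exact off _ _ fun _ _ => rfl) fun i j hi hj => by
      rw [bF_univ, h.gram' j.out.2 i₀.out.2]
      simp only [hout, hi.symm, hj, if_false, if_true, eq_comm (a := j)]
      split_ifs <;> rfl
  have hζ : ∀ ψ (hψ : ψ ≠ 1), (if hψ : ψ = 1 then μ i₀ else μ (Quotient.mk s ⟨ψ, hψ⟩)) =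
    μ (Quotient.mk s ⟨ψ, hψ⟩) := fun ψ hψ => dif_neg hψ
  have hm : ∀ χ ψ (hψ : ψ ≠ 1), mult A χ ψ = mult A χ (Quotient.mk s ⟨ψ, hψ⟩).out.1 :=
    fun χ ψ hψ => (h.mult_eq (Quotient.mk_out (s := s) ⟨ψ, hψ⟩) χ).symm
  refine ⟨fun ψ => if hψ : ψ = 1 then μ i₀ else μ (Quotient.mk s ⟨ψ, hψ⟩), ε, hε,
    fun ψ hψ => trivial, fun ψ ψ' hψ hψ' => ?_, fun χ hχ ψ ψ' hψ hψ' => ?_⟩
  · rw [hζ ψ hψ, hζ ψ' hψ', hinj.eq_iff]
    exact Quotient.eq
  · rw [hζ ψ hψ, hζ ψ' hψ', hm χ ψ hψ, hm χ ψ' hψ']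
    linear_combination hv (Quotient.mk s ⟨ψ, hψ⟩) χ hχ - hv (Quotient.mk s ⟨ψ', hψ'⟩) χ hχ

variable {ζ : (A →* ℂˣ) → IrrCharacter G} {ε : ℤ} (hx : Exc Set.univ A E ζ ε)
include hx

open Classical in
theorem exists_d {ψ₀ : A →* ℂˣ} (h0 : ψ₀ ≠ 1) : ∃ d : ℤ, ∀ ψ ψ', ψ ≠ 1 → ψ' ≠ 1 →
    mult A (ζ ψ) 1 - mult A (ζ ψ) ψ' = d - ε * if ζ ψ = ζ ψ' then 1 else 0 := by
  refine ⟨mult A (ζ ψ₀) 1 - mult A (ζ ψ₀) ψ₀ + ε, fun ψ ψ' h1 h2 => ?_⟩
  have h3 := h.gram' (ψ₃ := 1) (ψ₄ := ψ') h1 h0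
  rw [sum_congr rfl fun χ _ => by rw [hx.sub χ trivial ψ ψ₀ h1 h0]] at h3
  simp only [mul_sub, mul_ite, mul_one, mul_zero, sum_sub_distrib, sum_ite_eq', mem_univ, if_true,
    eRel_one_right, h1, h0, if_false, ← hx.eq_iff _ _ h1 h2, ← hx.eq_iff _ _ h0 h2] at h3
  have h4 := hx.sub (ζ ψ₀) trivial ψ₀ ψ' h0 h2
  rw [if_pos rfl] at h4
  rcases hx.sign with rfl | rfl <;> split_ifs at h3 h4 ⊢ <;> omega

theorem ex [DecidableEq (IrrCharacter G)] {ψ₀ : A →* ℂˣ} (h0 : ψ₀ ≠ 1) :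
    ∃ (F : Finset (IrrCharacter G)) (c : IrrCharacter G → ℤ) (d : ℤ),
      Nat.card E * #F + 1 = Nat.card A ∧ (∀ χ, χ ∉ F → ∀ a ∈ A, a ≠ 1 → (χ : G → ℂ) a = c χ) ∧
      (∀ (m : IrrCharacter G → ℂ) (k : ℂ), (∀ a ∈ A, a ≠ 1 → ∑ χ ∈ F, m χ * (χ : G → ℂ) a = k) →
        ∀ X ∈ F, ∀ Y ∈ F, m X = m Y) ∧
      (∀ a ∈ A, a ≠ 1 → ∑ χ ∈ F, (χ : G → ℂ) a = (#F * d - ε : ℤ)) ∧
      (∀ g, Off A g → ∀ X ∈ F, ∀ Y ∈ F, (X : G → ℂ) g = (Y : G → ℂ) g) ∧
      (∀ g, Off A g → ∀ X ∈ F, ∑ χ ∈ Fᶜ, c χ * (χ : G → ℂ) g + (#F * d - ε : ℤ) * (X : G → ℂ) g = 0) ∧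
      ∑ χ ∈ Fᶜ, c χ ^ 2 + (d - ε) ^ 2 + (#F - 1) * d ^ 2 = Nat.card E + 1 := by
  classical
  have : Finite (A →* ℂˣ) := Nat.finite_of_card_ne_zero (H83.card_hom h.comm ▸ Nat.card_pos.ne')
  have := Fintype.ofFinite (A →* ℂˣ)
  obtain ⟨d, hd⟩ := h.exists_d hx h0
  have e0 : (ε : ℂ) ≠ 0 := by rcases hx.sign with rfl | rfl <;> simp
  obtain ⟨F, hF⟩ : ∃ F, F = (univ.erase 1).image ζ := ⟨_, rfl⟩
  have mF : ∀ {χ}, χ ∈ F ↔ ∃ ψ, ψ ≠ 1 ∧ ζ ψ = χ := by simp [hF]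
  have m0 : ∀ {ψ}, ψ ≠ 1 → ζ ψ ∈ F := fun h => mF.2 ⟨_, h, rfl⟩
  have sub : ∀ {s : Finset (IrrCharacter G)} (f : IrrCharacter G → ℂ) {ψ ψ'}, ψ ≠ 1 → ψ' ≠ 1 → F ⊆ s →
      ∑ χ ∈ s, f χ * ((mult A χ ψ - mult A χ ψ' : ℤ) : ℂ) = 0 → f (ζ ψ) = f (ζ ψ') :=
    fun f ψ ψ' h1 h2 hs h3 => by
      rw [sum_congr rfl fun χ _ => by rw [hx.sub χ trivial ψ ψ' h1 h2]] at h3
      simp only [Int.cast_sub, Int.cast_ite, Int.cast_zero, mul_sub,
        mul_ite, mul_one, mul_zero, sum_sub_distrib, sum_ite_eq', hs (m0 h1), hs (m0 h2), if_true] at h3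
      exact mul_right_cancel₀ e0 (sub_eq_zero.1 h3)
  have eq : ∀ g, Off A g → ∀ X ∈ F, ∀ Y ∈ F, (X : G → ℂ) g = (Y : G → ℂ) g := fun g hg X hX Y hY => by
    obtain ⟨ψ, h1, rfl⟩ := mF.1 hX
    obtain ⟨ψ', h2, rfl⟩ := mF.1 hY
    exact sub (fun χ => χ.1 g) h1 h2 (subset_univ _) (by simpa only [mul_comm] using off ψ ψ' hg)
  have col : ∀ χ ∈ F, mult A χ 1 - mult A χ ψ₀ = d - ε * if χ = ζ ψ₀ then 1 else 0 := fun χ hχ => by
    obtain ⟨ψ, h1, rfl⟩ := mF.1 hχ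
    convert hd ψ ψ₀ h1 h0
  refine ⟨F, fun χ => mult A χ 1 - mult A χ ψ₀, d, ?_, fun χ hχ a ha a1 => ?_,
    fun m k hk X hX Y hY => ?_, fun a ha a1 => ?_, eq, fun g hg X hX => ?_, ?_⟩
  · have h1 := card_eq_sum_card_image ζ (univ.erase 1)
    rw [sum_const_nat (m := Nat.card E) fun η hη => ?_] at h1
    · rw [← H83.card_hom h.comm, Nat.card_eq_fintype_card (α := A →* ℂˣ), ← card_univ,
        ← card_erase_add_one (mem_univ 1), h1, hF, mul_comm]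
    · obtain ⟨ψ, hψ, rfl⟩ := mem_image.1 hη
      have h2 := ne_of_mem_erase hψ
      rw [← card_eRel h.comm h.free h2, Nat.card_coe_set_eq, ← Set.ncard_coe_finset]
      congr 1
      ext ψ'
      simp only [coe_filter, mem_erase, mem_univ, and_true, Set.mem_ofPred_eq]
      exact ⟨fun h3 => (hx.eq_iff _ _ h2 h3.1).1 h3.2.symm,
        fun h3 => ⟨h3.ne_one h2, ((hx.eq_iff _ _ h2 (h3.ne_one h2)).2 h3).symm⟩⟩
  · refine (fourier_mult h.comm χ (a := ⟨a, ha⟩) (by simpa using a1) (mult A χ ψ₀)).trans ?_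
    rw [sum_eq_single 1 (fun ψ _ hψ => by
      rw [hx.sub χ trivial ψ ψ₀ hψ h0, if_neg fun e : χ = _ => hχ (e ▸ m0 hψ),
        if_neg fun e : χ = _ => hχ (e ▸ m0 h0)]
      simp) (by simp)]
    simp
  · obtain ⟨ψ, h1, rfl⟩ := mF.1 hX
    obtain ⟨ψ', h2, rfl⟩ := mF.1 hY
    have z : ∀ ψ : A →* ℂˣ, ψ ≠ 1 → classInner (fun _ => k) (fun a => (ψ a : ℂ)) = 0 := fun ψ h1 => by
      have := classInner_smul_left k (fun a => ((1 : A →* ℂˣ) a : ℂ)) fun a => (ψ a : ℂ)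
      rw [H33.classInner_hom, if_neg h1.symm, mul_zero] at this
      rw [← this]; congr 1; ext; simp
    refine sub m h1 h2 subset_rfl ?_
    rw [sum_mul_mult_sub F m ψ ψ' (fun _ => k) fun a ha => hk a a.2 fun e => ha (by
      rw [show a = 1 from Subtype.ext e, map_one, map_one]), z ψ h1, z ψ' h2, sub_zero]
  · have a1' : (⟨a, ha⟩ : A) ≠ 1 := by simpa using a1
    have s := H83.sum_hom_apply h.comm ⟨a, ha⟩
    rw [if_neg a1', ← add_sum_erase _ _ (mem_univ 1)] at s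
    rw [sum_congr rfl (g := fun χ => d + ε * ∑ ψ ∈ univ.erase (1 : A →* ℂˣ),
      if χ = ζ ψ then (ψ ⟨a, ha⟩ : ℂ) else 0) fun χ hχ => by
        obtain ⟨φ, h1, rfl⟩ := mF.1 hχ
        refine (fourier_mult h.comm _ a1' (mult A (ζ φ) 1 - d)).trans ?_
        rw [← add_sum_erase _ _ (mem_univ 1), mul_sum]
        congr 1
        · simp
        refine sum_congr rfl fun ψ hψ => ?_
        have := hd φ ψ h1 (ne_of_mem_erase hψ)
        split_ifs at this ⊢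
        · rw [show mult A (ζ φ) ψ - (mult A (ζ φ) 1 - d) = ε by omega]
        · rw [show mult A (ζ φ) ψ - (mult A (ζ φ) 1 - d) = 0 by omega]; simp,
      sum_add_distrib, ← mul_sum, sum_comm, sum_congr (s₁ := univ.erase 1) rfl fun ψ hψ => by
        rw [sum_ite_eq', if_pos (m0 (ne_of_mem_erase hψ))], sum_const, nsmul_eq_mul]
    simp only [MonoidHom.one_apply, Units.val_one] at s
    push_cast
    linear_combination ε * s
  · have := off 1 ψ₀ hg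
    rw [← sum_add_sum_compl F, sum_congr rfl (g := fun χ => (d - if χ = ζ ψ₀ then (ε : ℂ) else 0) * X.1 g)
      fun χ hχ => by rw [col χ hχ, eq g hg X hX χ hχ]; split_ifs <;> simp, ← sum_mul,
      sum_sub_distrib, sum_ite_eq', if_pos (m0 h0), sum_const, nsmul_eq_mul] at this
    push_cast at this ⊢
    linear_combination this
  · have : ∑ χ, (mult A χ 1 - mult A χ ψ₀) ^ 2 = Nat.card E + 1 := by
      simp only [sq, sub_mul, sum_sub_distrib, h.gram, eRel_one_left, eRel_one_right, h0,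
        ERel.refl, if_true, if_false]
      simp
    rw [← sum_add_sum_compl F, ← add_sum_erase _ _ (m0 h0), col _ (m0 h0), if_pos rfl,
      sum_congr rfl (g := fun _ => d ^ 2) fun χ hχ => by
        rw [col χ (mem_of_mem_erase hχ), if_neg (ne_of_mem_erase hχ), mul_zero, sub_zero],
      sum_const, nsmul_eq_mul, card_erase_of_mem (m0 h0), Nat.cast_pred (card_pos.2 ⟨_, m0 h0⟩)] at this
    linear_combination this

end FC

theorem jobEx : JobEx.{u} := fun G _ _ A e hA he hlt => by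
  classical
  have := Fintype.ofFinite G
  have := Fintype.ofFinite A
  have h : FC A A.normalizerMonoidHom.range := ⟨hA, by
    rintro _ ⟨n, rfl⟩ a a1 h
    have : (n : G) ∈ A := hA.mem_of_commute a.2 (by simpa using a1)
      (mul_inv_eq_iff_eq_mul.1 (congrArg Subtype.val h))
    exact MulEquiv.ext fun b => Subtype.ext (mul_inv_eq_iff_eq_mul.2 (hA.comm b.2 this)),
    fun a a' a1 => ⟨fun hc => by
      obtain ⟨x, hx⟩ := isConj_iff.1 hc
      exact ⟨_, ⟨⟨x, hA.mem_normalizer a.2 (by simpa using a1) (hx ▸ a'.2)⟩, rfl⟩, Subtype.ext hx⟩, by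
      rintro ⟨_, ⟨n, rfl⟩, rfl⟩
      exact isConj_iff.2 ⟨n, rfl⟩⟩⟩
  have : Nontrivial (A →* ℂˣ) :=
    Finite.one_lt_card_iff_nontrivial.1 (H83.card_hom h.comm ▸ (by omega : 1 < Nat.card A))
  obtain ⟨ψ₀, h0⟩ := exists_ne (1 : A →* ℂˣ)
  obtain ⟨ζ, ε, hx⟩ := h.exists_exc h0
  have hc : Nat.card A.normalizerMonoidHom.range = e := by
    have := Finite.one_lt_card_iff_nontrivial.1 (by omega : 1 < Nat.card A)
    obtain ⟨a, a1⟩ := exists_ne (1 : A)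
    rw [← index_ker, normalizerMonoidHom_ker, ← he, relIndex]
    congr 2
    exact le_antisymm ((centralizer_le (Set.singleton_subset_iff.2 a.2)).trans
      (hA _ a.2 (by simpa using a1)).le) fun x hx y hy => hA.comm hx hy
  obtain ⟨F, c, d, h1, h2, h3, h4, h5, h6, h7⟩ := @FC.ex _ _ _ _ _ _ h _ _ hx
    (@Subtype.instDecidableEq _ _ fun a b => Classical.propDecidable (a = b)) _ h0
  rw [hc] at h1 h7
  refine ⟨F, c, _, h1, h2, h3, h4, h5, h6, ε * d, ?_⟩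
  rcases hx.sign with rfl | rfl <;> exact ⟨by linear_combination h7, by ring⟩

end H21.Sz
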