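import Cfsg.Agent.H21.SzComb

/-! ITO tower, part 2: one class of involutions. -/

set_option autoImplicit false

namespace H21.Sz

open H53.Sz Cfsg Subgroup Finset H28 H66
open scoped Classical ComplexConjugate

universe u

variable {G : Type u} [Group G] [Finite G] {A : Subgroup G} {E : Finset (IrrCharacter G)}
  {c : IrrCharacter G → ℤ} {κ : ℤ}

theorem not_mem (h : Ex A 2 E c κ) {s : G} (hs : orderOf s = 2) : s ∉ A := fun m => by
  have := A.orderOf_dvd_natCard m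
  rw [hs, ← h.card] at this
  omega

theorem cls (s a : G) (h : ∀ u v, IsConj s u → IsConj s v → u * v ≠ a) :
    ∑ χ : IrrCharacter G, χ.1 s * χ.1 s * conj (χ.1 a) / χ.1 1 = 0 := by
  have := Fintype.ofFinite G
  have : IsEmpty {p : G × G // IsConj s p.1 ∧ IsConj s p.2 ∧ p.1 * p.2 = a} :=
    ⟨fun p => h _ _ p.2.1 p.2.2.1 p.2.2.2⟩
  have e := H30.card_class_mul_eq_sum s s a
  have n0 : (Nat.card {x : G // IsConj s x} : ℂ) ≠ 0 :=
    Nat.cast_ne_zero.2 (Nat.card_pos_iff.2 ⟨⟨⟨s, IsConj.refl s⟩⟩, inferInstance⟩).ne'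
  rwa [Nat.card_of_isEmpty, Nat.cast_zero, eq_comm,
    mul_eq_zero_iff_left (div_ne_zero (mul_ne_zero n0 n0) (card_ne_zero' G))] at e

theorem ex_prod [IsSimpleGroup G] (h5 : 5 ≤ Nat.card A) (h : Ex A 2 E c κ) {s : G}
    (hs : orderOf s = 2) : ∃ u v, IsConj s u ∧ IsConj s v ∧ u * v ∈ A ∧ u * v ≠ 1 := by
  have ht : 2 ≤ #E := by have := h.card; omega
  have := Finite.one_lt_card_iff_nontrivial.1 (by omega : 1 < Nat.card A)
  obtain ⟨⟨a, ha⟩, a1⟩ := exists_ne (1 : A)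
  replace a1 : a ≠ 1 := fun e => a1 (Subtype.ext e)
  have o1 : irrOne G ∉ E := fun m => by
    obtain ⟨X, hX, ne⟩ := exists_mem_ne ht (irrOne G)
    simpa [ne] using h.ind (fun χ => if χ = irrOne G then 1 else 0) 1
      (fun a _ _ => by simp [m]; rfl) X hX _ m
  have o2 : c (irrOne G) = 1 := by exact_mod_cast show _ = (1 : ℂ) from (h.val _ o1 a ha a1).symm
  have off1 : Off A 1 := fun _ _ => rfl
  have offs : Off A s := fun x hx => absurd hx (not_mem h (by
    rw [← hs]; simpa using (MulAut.conj x⁻¹).orderOf_eq s))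
  obtain ⟨X, hX⟩ := card_pos.1 (by omega : 0 < #E)
  obtain ⟨b, h1, h2⟩ := h.norm
  obtain ⟨k1, χ, m, ne, d1, z⟩ := ex0 (mem_compl.2 o1) o2 (by exact_mod_cast ht) h1 h2 fun z => by
    obtain ⟨n, -, hn⟩ := X.2.exists_degree_pos
    have := h.rel 1 off1 X hX
    rw [sum_eq_single_of_mem _ (mem_compl.2 o1) fun φ a b => by simp [z φ a b], o2, hn] at this
    exact ⟨n, by exact_mod_cast (show 1 + (κ : ℂ) * n = 0 by simpa [irrOne] using this)⟩
  have two : ∀ f : IrrCharacter G → ℂ, ∑ φ ∈ Eᶜ, c φ * f φ = f (irrOne G) + c χ * f χ := fun f => by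
    rw [← sum_subset (s₁ := {irrOne G, χ}) (by simp [insert_subset_iff, o1, mem_compl.1 m])
      (fun φ a b => by simp at b; simp [z φ a b.1 b.2]), sum_pair ne.symm, o2]
    simp
  have r1 := h.rel 1 off1 X hX
  have rs := h.rel s offs X hX
  rw [two fun φ => φ.1 1] at r1
  rw [two fun φ => φ.1 s] at rs
  by_contra hn
  have e := cls s a⁻¹ fun u v h1 h2 h3 => hn ⟨u, v, h1, h2, h3 ▸ inv_mem ha, h3 ▸ inv_ne_one.2 a1⟩
  rw [← sum_add_sum_compl E,
    sum_congr rfl (g := fun φ => X.1 s ^ 2 / X.1 1 * φ.1 a) fun φ hφ => by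
      rw [φ.2.isCharacter.apply_inv, Complex.conj_conj, h.eq s offs X hX φ hφ, h.eq 1 off1 X hX φ hφ]
      ring,
    sum_congr rfl (g := fun φ => c φ * (φ.1 s ^ 2 / φ.1 1)) (s₁ := Eᶜ) fun φ hφ => by
      rw [φ.2.isCharacter.apply_inv, Complex.conj_conj, h.val φ (mem_compl.1 hφ) a ha a1]; ring,
    ← mul_sum, h.sum a ha a1, two] at e
  have x1 := X.2.apply_one_ne_zero
  have x2 := χ.2.apply_one_ne_zero
  have k2 : (κ : ℂ) ^ 2 = 1 := by exact_mod_cast k1
  have d2 : (c χ : ℂ) ^ 2 = 1 := by exact_mod_cast d1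
  simp only [irrOne] at e r1 rs
  field_simp at e
  have e1 : X.1 1 = -κ * (1 + c χ * χ.1 1) := by linear_combination κ * r1 - X.1 1 * k2
  have e2 : X.1 s = -κ * (1 + c χ * χ.1 s) := by linear_combination κ * rs - X.1 s * k2
  rw [e1, e2] at e
  have e3 : χ.1 s = χ.1 1 := sub_eq_zero.1 (pow_eq_zero_iff two_ne_zero |>.1 (by
    rcases sq_eq_one_iff.1 k2 with k | k <;> rcases sq_eq_one_iff.1 d2 with d | d <;>
      rw [k, d] at e <;> first | linear_combination e | linear_combination -e))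
  rcases χ.2.charKer_normal.eq_bot_or_eq_top with t | t
  · rw [mem_bot.1 (t.le (χ.2.mem_charKer.2 e3)), orderOf_one] at hs
    omega
  have e4 : ∀ g, χ.1 g = χ.1 1 := fun g => apply_of_mem_charKer (t ▸ mem_top g)
  obtain ⟨n, n1, hn⟩ := χ.2.exists_degree_pos
  have e5 : (n : ℤ) = c χ := by
    exact_mod_cast hn.symm.trans ((e4 a).symm.trans (h.val χ (mem_compl.1 m) a ha a1))
  obtain rfl : n = 1 := by rcases sq_eq_one_iff.1 d1 with d | d <;> omega
  exact ne (Subtype.ext (funext fun g => (e4 g).trans (hn.trans Nat.cast_one)))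

theorem jobInv : JobInv.{u} := fun G _ _ _ A E c κ _ hA hi h5 h => by
  have sq : ∀ {u : G}, orderOf u = 2 → u * u = 1 := fun e => by rw [← pow_two, ← e, pow_orderOf_eq_one]
  have od : ∀ {s u : G}, orderOf s = 2 → IsConj s u → orderOf u = 2 := fun e hc => by
    obtain ⟨x, rfl⟩ := isConj_iff.1 hc
    rw [← e]; exact (MulAut.conj x).orderOf_eq _
  have key : ∀ s : G, orderOf s = 2 → ∃ u ∈ normalizer (A : Set G), IsConj s u := fun s hs => by
    obtain ⟨u, v, h1, h2, h3, h4⟩ := ex_prod h5 h hs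
    refine ⟨u, hA.mem_normalizer h3 h4 ?_, h1⟩
    rw [← mul_assoc, sq (od hs h1), one_mul, ← inv_eq_of_mul_eq_one_right (sq (od hs h2)), ← mul_inv_rev]
    exact inv_mem h3
  intro t s ht hs
  obtain ⟨u, hu, h1⟩ := key t ht
  obtain ⟨v, hv, h2⟩ := key s hs
  have u2 := od ht h1
  have v2 := od hs h2
  have hb : v * u ∈ A := (mul_mem_iff_of_index_two hi (a := ⟨v, hv⟩) (b := ⟨u, hu⟩)).2
    (iff_of_false (not_mem h v2) (not_mem h u2))
  have iu := inv_eq_of_mul_eq_one_right (sq u2)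
  have e1 : u * (v * u)⁻¹ * u⁻¹ = v * u := by
    rw [mul_inv_rev, mul_inv_cancel_left, iu, inv_eq_of_mul_eq_one_right (sq v2)]
  have e2 : (v * u) ^ (#E + 1) * (v * u) ^ (#E + 1) = v * u := by
    rw [← pow_add, show #E + 1 + (#E + 1) = Nat.card A + 1 by have := h.card; omega, pow_succ,
      orderOf_dvd_iff_pow_eq_one.1 (A.orderOf_dvd_natCard hb), one_mul]
  refine h1.trans (IsConj.trans (isConj_iff.2 ⟨(v * u) ^ (#E + 1), ?_⟩) h2.symm)
  calc _ = (v * u) ^ (#E + 1) * (u * (v * u)⁻¹ ^ (#E + 1) * u⁻¹) * u := by rw [inv_pow]; group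
    _ = _ := by rw [← conj_pow, e1, e2, mul_assoc, sq u2, mul_one]

end H21.Sz
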