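import Cfsg.Agent.H53.SzSpec

/-! ITO tower, part 2: from the three subgroups to the local hypothesis. -/

set_option autoImplicit false
set_option linter.unusedSectionVars false

namespace H21.Sz

open H53.Sz Cfsg Subgroup Finset H28 H66
open scoped Classical ComplexConjugate

universe u

section
variable {I : Type u} [Fintype I] (E : Fin 3 → Finset I) (c : Fin 3 → I → ℤ) (κ : Fin 3 → ℤ)

/-- the columns form a subspace -/
def colS : Submodule ℂ (I → ℂ) where
  carrier := {f | Col E c κ f}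
  zero_mem' i X _ := ⟨fun _ _ => rfl, by simp⟩
  add_mem' {f g} hf hg i X hX := ⟨fun Y hY => congrArg₂ (· + ·) ((hf i X hX).1 Y hY) ((hg i X hX).1 Y hY), by
    simp only [Pi.add_apply, mul_add, sum_add_distrib]
    linear_combination (hf i X hX).2 + (hg i X hX).2⟩
  smul_mem' a f hf i X hX := ⟨fun Y hY => congrArg (a * ·) ((hf i X hX).1 Y hY), by
    simp only [Pi.smul_apply, smul_eq_mul, mul_left_comm _ a, ← mul_sum]
    linear_combination a * (hf i X hX).2⟩

variable {E c κ}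

theorem col_int {f : I → ℤ} (h : (fun χ => (f χ : ℂ)) ∈ colS E c κ) : Col E c κ f := fun i X hX =>
  ⟨fun Y hY => Int.cast_injective ((h i X hX).1 Y hY), by
    have := (h i X hX).2
    beta_reduce at this
    exact_mod_cast this⟩

end

variable {G : Type u} [Group G] [Finite G]

noncomputable local instance (priority := high) decIrr : DecidableEq (IrrCharacter G) :=
  fun a b => Classical.propDecidable (a = b)

section
variable {A B : Subgroup G} {e e' : ℕ} {E F : Finset (IrrCharacter G)} {c d : IrrCharacter G → ℤ}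
  {κ κ' : ℤ}

theorem rel' (h : Ex A e E c κ) : ∀ g, Off A g → ∀ X ∈ E,
    ∑ χ ∈ Eᶜ, c χ * (χ : G → ℂ) g + κ * (X : G → ℂ) g = 0 := by convert h.rel

theorem norm' (h : Ex A e E c κ) : ∃ a : ℤ, ∑ χ ∈ Eᶜ, c χ ^ 2 + (a - 1) ^ 2 + (#E - 1) * a ^ 2 = e + 1 ∧
    κ ^ 2 = (#E * a - 1) ^ 2 := by convert h.norm

theorem not_cst (h : Ex A e E c κ) (ht : 2 ≤ #E) {X : IrrCharacter G} (hX : X ∈ E) (k : ℂ) :
    ¬ ∀ a ∈ A, a ≠ 1 → X.1 a = k := fun hk => by
  obtain ⟨Y, hY, ne⟩ := exists_mem_ne ht X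
  simpa [ne] using h.ind (fun χ => if χ = X then 1 else 0) k
    (fun a ha a1 => by simp [hX, hk a ha a1]) Y hY _ hX

theorem off_of (hc : (Nat.card A).Coprime (Nat.card B)) {a : G} (ha : a ∈ A) : Off B a := fun x hx =>
  orderOf_eq_one_iff.1 (Nat.eq_one_of_dvd_coprimes hc (A.orderOf_dvd_natCard ha) (by
    simpa using (MulAut.conj x⁻¹).orderOf_eq a ▸ B.orderOf_dvd_natCard (x := MulAut.conj x⁻¹ a)
      (by simpa using hx)))

theorem disj_of (h : Ex A e E c κ) (h' : Ex B e' F d κ') (hc : (Nat.card A).Coprime (Nat.card B))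
    (ht : 2 ≤ #E) (ht' : 2 ≤ #F) : Disjoint E F := disjoint_left.2 fun X h1 h2 => by
  obtain ⟨Y, hY, ne⟩ := exists_mem_ne ht' X
  have q := fun a ha => h'.eq a (off_of hc ha) X h2 Y hY
  by_cases m : Y ∈ E
  · have := h.ind (fun χ => (if χ = X then 1 else 0) - if χ = Y then 1 else 0) 0
      (fun a ha _ => by simp [sub_mul, h1, m, q a ha]) Y m _ h1
    norm_num [ne, ne.symm] at this
  · exact not_cst h ht h1 _ fun a ha a1 => (q a ha).trans (h.val Y m a ha a1)

theorem orth_of (h : Ex A e E c κ) (h' : Ex B e' F d κ') (hc : (Nat.card A).Coprime (Nat.card B))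
    (hd : Disjoint E F) {a : G} (ha : a ∈ A) (a1 : a ≠ 1) {X Y : IrrCharacter G} (hX : X ∈ E)
    (hY : Y ∈ F) : (∀ Z ∈ E, d X = d Z) ∧ ∑ χ ∈ (E ∪ F)ᶜ, c χ * d χ + κ * d X + κ' * c Y = 0 := by
  have k : ∀ a ∈ A, a ≠ 1 → ∑ χ ∈ E, d χ * χ.1 a = -(∑ χ ∈ (E ∪ F)ᶜ, c χ * d χ + κ' * c Y : ℤ) :=
    fun a ha a1 => by
      have := rel' h' a (off_of hc ha) Y hY
      rw [show Fᶜ = E ∪ (E ∪ F)ᶜ from Finset.ext fun χ => by
        have := @disjoint_left.1 hd χ
        simp only [mem_compl, mem_union]; tauto,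
        sum_union (disjoint_left.2 fun χ m m' => mem_compl.1 m' (mem_union_left _ m)),
        h.val Y (disjoint_right.1 hd hY) a ha a1, sum_congr (s₁ := (E ∪ F)ᶜ) rfl fun χ m => by
          rw [h.val χ (fun m' => mem_compl.1 m (mem_union_left _ m')) a ha a1, mul_comm]] at this
      push_cast
      linear_combination this
  have k1 : ∀ Z ∈ E, d X = d Z := fun Z hZ => Int.cast_injective (h.ind (fun χ => d χ) _ k X hX Z hZ)
  have k2 := k a ha a1
  rw [sum_congr rfl fun Z hZ => by rw [← k1 Z hZ], ← mul_sum, h.sum a ha a1] at k2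
  exact ⟨k1, by linear_combination (by exact_mod_cast k2 : d X * κ = _)⟩

theorem dvd_deg {χ : IrrCharacter G} (h : ∀ a ∈ A, a ≠ 1 → χ.1 a = 0) {n : ℕ} (hn : χ.1 1 = n) :
    Nat.card A ∣ n := by
  have := Fintype.ofFinite A
  obtain ⟨m, hm⟩ := (χ.2.isCharacter.restrict A).classInner_nat isIrrCharacter_one.isCharacter
  rw [classInner_def, sum_eq_single 1 (fun a _ a1 => by simp [h a a.2 (by simpa using a1)]) (by simp),
    inv_mul_eq_iff_eq_mul₀ (card_ne_zero' A)] at hm
  exact ⟨m, by exact_mod_cast show (n : ℂ) = Nat.card A * m from hn.symm.trans (by simpa using hm)⟩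

theorem off_om (hA : IsCC A) (h6 : (Nat.card A).Coprime 6) {g : G} (hg : Om g) : Off A g :=
  fun x hx => by
    obtain ⟨g1, h, ho, hc⟩ := hg
    have := A.orderOf_dvd_natCard (hA.mem_of_commute (g := MulAut.conj x⁻¹ h) hx
      (fun e => g1 (conj_eq_one_iff.1 (by rwa [inv_inv])))
      (by simpa [mul_assoc] using (hc.symm.map (MulAut.conj x⁻¹)).eq))
    rw [MulEquiv.orderOf_eq] at this
    have := Nat.eq_one_of_dvd_coprimes h6 this (by rcases ho with e | e <;> rw [e] <;> decide)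
    omega

end

theorem four_dvd {χ : G → ℂ} (hχ : IsCharacter G χ) {y v w : G} (h : Cfg y v w) :
    ∃ p q : ℤ, χ y + 3 * χ (y * v) = 4 * (p + q * om3) := by
  let K := closure {y, v, w}
  have hK : ∀ a b : K, a * b = b * a := (isMulCommutative_closure (k := {y, v, w}) (by
    rintro a (rfl | rfl | rfl) b (rfl | rfl | rfl)
    exacts [rfl, h.yv, h.yw, h.yv.symm, rfl, h.vw, h.yw.symm, h.vw.symm, rfl])).is_comm.comm
  obtain ⟨s, hs⟩ := (hχ.restrict K).exists_sum_hom_of_comm hK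
  let y' : K := ⟨y, subset_closure (by simp)⟩
  let v' : K := ⟨v, subset_closure (by simp)⟩
  let w' : K := ⟨w, subset_closure (by simp)⟩
  have pw : ∀ (f : K →* ℂˣ) (a : K) (n : ℕ), orderOf a.1 = n → (f a : ℂ) ^ n = 1 := fun f a n e => by
    rw [← Units.val_pow_eq_pow_val, ← map_pow, show a ^ n = 1 from
      Subtype.ext (e ▸ pow_orderOf_eq_one a.1), map_one, Units.val_one]
  have : χ y + 3 * χ (y * v) = (s.map fun f => (f y' : ℂ) * (1 + f v') * (1 + f w')).sum := by
    have e1 := hχ.isClassFunction.eq_of_isConj h.c1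
    have e2 := hχ.isClassFunction.eq_of_isConj h.c2
    have := congrArg₂ (· + ·) (congrArg₂ (· + ·) (hs y') (hs (y' * v')))
      (congrArg₂ (· + ·) (hs (y' * w')) (hs (y' * (v' * w'))))
    simp only [← Multiset.sum_map_add] at this
    refine (show _ = χ y + χ (y * v) + (χ (y * w) + χ (y * (v * w))) by rw [← e1, ← e2]; ring).trans
      (this.trans (congrArg _ (Multiset.map_congr rfl fun f _ => ?_)))
    simp only [map_mul, Units.val_mul]; ring
  rw [this]
  clear this hs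
  induction s using Multiset.induction_on with
  | empty => exact ⟨0, 0, by simp⟩
  | cons f s ih =>
    obtain ⟨p, q, ih⟩ := ih
    obtain ⟨k, hk⟩ := exists_eq_om3_pow (pw f y' 3 h.y3)
    rw [Multiset.map_cons, Multiset.sum_cons, ih, hk]
    rcases sq_eq_one_iff.1 (pw f v' 2 h.v2) with e | e
    swap
    · exact ⟨p, q, by simp [e]⟩
    rcases sq_eq_one_iff.1 (pw f w' 2 h.w2) with e' | e'
    swap
    · exact ⟨p, q, by simp [e']⟩
    rw [e, e']
    fin_cases k
    · exact ⟨p + 1, q, by push_cast; ring⟩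
    · exact ⟨p, q + 1, by push_cast; ring⟩
    · exact ⟨p - 1, q - 1, by push_cast; linear_combination 4 * om3_sq⟩

theorem cfg_cols {y v w : G} (h : Cfg y v w) : ∃ A B : IrrCharacter G → ℤ,
    (∀ χ, (A χ : ℂ) = 4⁻¹ * χ.1 y + 3 / 4 * χ.1 (y * v)) ∧
    (∀ χ, (B χ : ℂ) = 4⁻¹ * χ.1 y + -4⁻¹ * χ.1 (y * v)) ∧ ∑ χ, A χ ^ 2 = 9 ∧ ∑ χ, B χ ^ 2 = 3 := by
  have := Fintype.ofFinite G
  have v2 : v ^ 2 = 1 := h.v2 ▸ pow_orderOf_eq_one v
  have k : ∀ χ : G → ℂ, IsIrrCharacter G χ → (∃ n : ℤ, χ y = n) ∧ ∃ n : ℤ, χ (y * v) = n :=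
    fun χ hχ => by
      obtain ⟨_, _, _, _, -, h1, -, h2⟩ := hχ.isCharacter.mult6 h.yv (h.y3 ▸ pow_orderOf_eq_one y) v2
        (hχ.isClassFunction.eq_of_isConj h.ry).symm (by
          rw [hχ.isClassFunction.eq_of_isConj h.rz, h.yv.eq, mul_inv_rev,
            inv_eq_of_mul_eq_one_right (a := v) (pow_two v ▸ v2)])
      exact ⟨⟨_, h1⟩, _, h2⟩
  have ry : RatEl y := fun χ hχ => (k χ hχ).1
  have rz : RatEl (y * v) := fun χ hχ => (k χ hχ).2
  have : ∀ χ : IrrCharacter G, ∃ p : ℤ, ival χ.1 y + 3 * ival χ.1 (y * v) = 4 * p := fun χ => by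
    obtain ⟨p, q, e⟩ := four_dvd χ.2.isCharacter h
    rw [← ry.cast χ.2, ← rz.cast χ.2] at e
    exact ⟨p, sub_eq_zero.1 (eq_zero_of_add_mul_om3 (y := -4 * q) (by
      push_cast; linear_combination e)).1⟩
  choose A hA using this
  have s1 := sum_ival_mul_self ry
  have s2 := sum_ival_mul_self rz
  have s3 := sum_ival_mul_of_not_isConj ry rz fun hc => by
    have := H30.card_centralizer_eq_of_isConj hc
    rw [h.cy, h.cz] at this
    omega
  rw [h.cy] at s1
  rw [h.cz] at s2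
  have hA' : ∀ χ : IrrCharacter G, χ.1 y + 3 * χ.1 (y * v) = 4 * A χ := fun χ => by
    rw [← ry.cast χ.2, ← rz.cast χ.2]; exact_mod_cast hA χ
  refine ⟨A, fun χ => A χ - ival χ.1 (y * v), fun χ => by linear_combination -4⁻¹ * hA' χ,
    fun χ => by push_cast; linear_combination -4⁻¹ * hA' χ - rz.cast χ.2,
    mul_left_cancel₀ (by norm_num : (16 : ℤ) ≠ 0) ?_, mul_left_cancel₀ (by norm_num : (16 : ℤ) ≠ 0) ?_⟩
  · rw [mul_sum, sum_congr rfl (g := fun χ => ival χ.1 y * ival χ.1 y + 6 * (ival χ.1 y * ival χ.1 (y * v)) +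
      9 * (ival χ.1 (y * v) * ival χ.1 (y * v))) fun χ _ => by
        linear_combination -(4 * A χ + ival χ.1 y + 3 * ival χ.1 (y * v)) * hA χ,
      sum_add_distrib, sum_add_distrib, ← mul_sum, ← mul_sum, s1, s2, s3]; rfl
  · rw [mul_sum, sum_congr rfl (g := fun χ => ival χ.1 y * ival χ.1 y - 2 * (ival χ.1 y * ival χ.1 (y * v)) +
      ival χ.1 (y * v) * ival χ.1 (y * v)) fun χ _ => by
        linear_combination -(4 * A χ + ival χ.1 y - 5 * ival χ.1 (y * v)) * hA χ,
      sum_add_distrib, sum_sub_distrib, ← mul_sum, s1, s2, s3]; rfl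

theorem jobLink : JobLink.{u} := fun hEx hC G _ _ A S => by
  choose E c κ h using fun i => hEx G (A i) _ (S.cc i) (S.idx i)
    (lt_of_lt_of_le (by fin_cases i <;> decide) (S.big i))
  have b0 : 2 * #(E 0) + 1 = _ ∧ 5 ≤ _ := ⟨(h 0).card, S.big 0⟩
  have b1 : 4 * #(E 1) + 1 = _ ∧ 13 ≤ _ := ⟨(h 1).card, S.big 1⟩
  have b2 : 4 * #(E 2) + 1 = _ ∧ 13 ≤ _ := ⟨(h 2).card, S.big 2⟩
  have t2 : ∀ i, 2 ≤ #(E i) := fun i => by
    fin_cases i <;> simp only [Fin.zero_eta, Fin.mk_one, Fin.reduceFinMk] <;> omega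
  have ex : ∀ i, ∃ a ∈ A i, a ≠ 1 := fun i => (A i).nontrivial_iff_exists_ne_one.1
    (Finite.one_lt_card_iff_nontrivial.1 (lt_of_lt_of_le (by fin_cases i <;> decide) (S.big i)))
  choose a ha a1 using ex
  have o1 : ∀ i, irrOne G ∉ E i := fun i m => not_cst (h i) (t2 i) m 1 fun _ _ _ => rfl
  have dj := fun i j ij => disj_of (h i) (h j) (S.cop i j ij) (t2 i) (t2 j)
  have col : ∀ g, (∀ i, Off (A i) g) → (fun χ => χ.1 g) ∈ colS E c κ := fun g hg i X hX =>
    ⟨(h i).eq g (hg i) X hX, rel' (h i) g (hg i) X hX⟩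
  have o2 : ∀ i, c i (irrOne G) = 1 := fun i => by
    exact_mod_cast show _ = (1 : ℂ) from ((h i).val _ (o1 i) _ (ha i) (a1 i)).symm
  obtain ⟨C1, C2, C3⟩ := hC _ (irrOne G) E c κ ⟨fun i => ⟨o1 i, o2 i⟩,
    fun i => by convert norm' (h i); fin_cases i <;> rfl, dj, fun i j ij X hX Y hY => by
      obtain ⟨Z, hZ⟩ := card_pos.1 (by linarith [t2 i] : 0 < #(E i))
      exact (orth_of (h j) (h i) (S.cop j i ij.symm) (dj j i ij.symm) (ha j) (a1 j) hX hZ).1 Y hY,
    fun i j ij X hX Y hY => (orth_of (h i) (h j) (S.cop i j ij) (dj i j ij) (ha i) (a1 i) hX hY).2,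
    ⟨by omega, by omega, by omega, by
      by_contra hlt
      have := S.cop 1 2 (by decide)
      rw [show Nat.card (A 1) = 13 by omega, show Nat.card (A 2) = 13 by omega] at this
      exact absurd this (by decide)⟩,
    fun χ => ival χ.1 1, col_int (by
      simpa only [fun χ : IrrCharacter G => ratEl_one.cast χ.2] using col 1 fun _ _ _ => rfl),
    ival_irrOne 1⟩
  have hT : #{χ | ∀ i, χ ∉ E i ∧ c i χ = 0} ≤ 2 := by
    choose n n0 hn using fun χ : IrrCharacter G => χ.2.exists_degree_pos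
    have s : ∑ χ, n χ ^ 2 = Nat.card G := by
      have := Fintype.ofFinite G
      exact_mod_cast show ∑ χ, (n χ : ℂ) ^ 2 = Nat.card G by simpa only [hn] using sum_degree_sq (G := G)
    have le := card_nsmul_le_sum {χ | ∀ i, χ ∉ E i ∧ c i χ = 0} (fun χ => n χ ^ 2)
      ((Nat.card (A 0) * Nat.card (A 1) * Nat.card (A 2)) ^ 2) fun χ m => by
        have d := fun i => dvd_deg (A := A i) (fun a ha a1 => by
          rw [(h i).val χ ((mem_filter.1 m).2 i).1 a ha a1, ((mem_filter.1 m).2 i).2, Int.cast_zero])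
          (hn χ)
        exact Nat.pow_le_pow_left (Nat.le_of_dvd (n0 χ) (((S.cop 0 2 (by decide)).mul_left
          (S.cop 1 2 (by decide))).mul_dvd_of_dvd_of_dvd ((S.cop 0 1 (by decide)).mul_dvd_of_dvd_of_dvd
            (d 0) (d 1)) (d 2))) 2
    have lt := sum_lt_sum_of_subset (subset_univ {χ | ∀ i, χ ∉ E i ∧ c i χ = 0}) (mem_univ (irrOne G))
      (f := fun χ => n χ ^ 2) (fun m => by simpa [o2] using ((mem_filter.1 m).2 0).2)
      (pow_pos (n0 _) 2) fun _ _ _ => Nat.zero_le _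
    exact Nat.le_of_lt_succ (lt_of_mul_lt_mul_right (le.trans_lt (lt.trans_le (s ▸ S.ord)))
      (Nat.zero_le _))
  have om : ∀ {g}, Om g → (fun χ => χ.1 g) ∈ colS E c κ := fun hg =>
    col _ fun i => off_om (S.cc i) (S.six i) hg
  refine ⟨fun g hg => ?_, fun y v w hc => ?_⟩
  · by_contra hn
    push Not at hn
    let g' : Option (Fin 6) → G := fun i => i.elim 1 g
    have nc : ∀ i j, i ≠ j → ¬ IsConj (g' i) (g' j) := by
      rintro (_ | i) (_ | j) ij hc
      exacts [ij rfl, (hg j).1 (isConj_one_right.1 hc), (hg i).1 (isConj_one_left.1 hc),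
        hn i j (fun e => ij (congrArg some e)) hc]
    have li : LinearIndependent ℂ fun i (χ : {χ // ∀ i, χ ∉ E i}) => χ.1.1 (g' i) :=
      Fintype.linearIndependent_iff.2 fun l hl j => by
        have := C2 (∑ i, l i • fun χ => χ.1 (g' i)) (Submodule.sum_mem (colS E c κ) fun i _ =>
          Submodule.smul_mem _ _ (by
            cases i
            exacts [col 1 fun _ _ _ => rfl, om (hg _)])) fun χ m => by simpa using congrFun hl ⟨χ, m⟩
        have e : ∑ χ : IrrCharacter G, (∑ i, l i * χ.1 (g' i)) * conj (χ.1 (g' j)) = 0 :=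
          sum_eq_zero fun χ _ => mul_eq_zero_of_left (by simpa using congrFun this χ) _
        simp only [sum_mul, mul_assoc] at e
        rw [sum_comm, sum_eq_single j (fun i _ ij => by
          rw [← mul_sum, column_orthogonality_of_not_isConj (nc i j ij), mul_zero]) (by simp),
          ← mul_sum, column_orthogonality_of_isConj (IsConj.refl _)] at e
        exact (mul_eq_zero.1 e).resolve_right (card_ne_zero' _)
    have := li.fintype_card_le_finrank
    rw [Module.finrank_fintype_fun_eq_card, Fintype.card_subtype] at this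
    have le := (card_le_card (s := {χ | ∀ i, χ ∉ E i}) (t := filter (fun χ => (∀ i, χ ∉ E i) ∧
      ∃ i, c i χ ≠ 0) univ ∪ filter (fun χ => ∀ i, χ ∉ E i ∧ c i χ = 0) univ) fun χ m => by
        simp only [mem_union, mem_filter, mem_univ, true_and] at m ⊢
        exact or_iff_not_imp_left.2 fun q i => ⟨m i, by_contra fun e => q ⟨m, i, e⟩⟩).trans
      (card_union_le _ _)
    simp only [Fintype.card_option, Fintype.card_fin] at this
    omega
  · obtain ⟨P, Q, h1, h2, h3, h4⟩ := cfg_cols hc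
    have y1 := om ⟨fun e => by simpa [e] using hc.y3, y, .inr hc.y3, Commute.refl y⟩
    have z1 := om (g := y * v) ⟨fun e => by
      have := hc.y3
      rw [eq_inv_of_mul_eq_one_left e, orderOf_inv, hc.v2] at this
      omega, y, .inr hc.y3, (Commute.refl y).mul_left hc.yv.symm⟩
    have k : ∀ a b : ℂ, (fun χ : IrrCharacter G => a * χ.1 y + b * χ.1 (y * v)) ∈ colS E c κ :=
      fun a b => add_mem (Submodule.smul_mem _ a y1) (Submodule.smul_mem _ b z1)
    refine C3 hT P Q (col_int (by simpa only [h1] using k _ _)) (col_int (by simpa only [h2] using k _ _))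
      (Int.cast_injective (α := ℂ) ?_) (Int.cast_injective (α := ℂ) ?_) h3 h4
    · rw [h1]; norm_num [irrOne]
    · rw [h2]; norm_num [irrOne]

end H21.Sz
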