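import Cfsg.Agent.H53.SzBase
import Cfsg.Agent.H55.BinSL
import Cfsg.Agent.H59.SU

/-! ITO tower, part 2: no automiser of order four in `L₂(q)`, `L₃(2ⁿ)`, `U₃(2ⁿ)`. -/

set_option autoImplicit false

namespace H21.Sz

open H53.Sz Cfsg Subgroup H66 Module
open scoped MatrixGroups

universe u

theorem four_ne {K : Type*} [Field K] {α β : K} (h : α ≠ α⁻¹) (i j : Fin 4)
    (e : ![α, β⁻¹, α⁻¹, β⁻¹⁻¹] i = ![α, β⁻¹, α⁻¹, β⁻¹⁻¹] j)
    (e' : ![β, α, β⁻¹, α⁻¹] i = ![β, α, β⁻¹, α⁻¹] j) : i = j := by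
  fin_cases i <;> fin_cases j <;> simp at e e' ⊢ <;> grind

theorem lin {K V H : Type*} [Field K] [IsAlgClosed K] [AddCommGroup V] [Module K V]
    [FiniteDimensional K V] [Group H] (ρ : H →* End K V) (hd : finrank K V ≤ 3) {r : ℕ} (hr : Odd r)
    (hK : (r : K) ≠ 0) {a f : H} (ha : a ^ r = 1) (a1 : ρ a ≠ 1) (hc : Commute a (f * a * f⁻¹))
    (hi : f * f * a * (f * f)⁻¹ = a⁻¹) : False := by
  classical
  have mul : ∀ x y v, ρ x (ρ y v) = ρ (x * y) v := fun x y v => by rw [map_mul]; rfl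
  have : Nontrivial (LinearMap.range (ρ a - 1)) := Submodule.nontrivial_iff_ne_bot.2 fun e =>
    a1 (sub_eq_zero.1 (LinearMap.range_eq_bot.1 e))
  obtain ⟨α, h1⟩ := End.exists_eigenvalue ((ρ a).restrict (p := LinearMap.range (ρ a - 1))
    (q := LinearMap.range (ρ a - 1)) (by rintro _ ⟨u, rfl⟩; exact ⟨ρ a u, by simp⟩))
  obtain ⟨⟨_, u, rfl⟩, h1, h2⟩ := h1.exists_hasEigenvector
  replace h1 : ρ a ((ρ a - 1) u) = α • (ρ a - 1) u := congrArg Subtype.val (End.mem_eigenspace_iff.1 h1)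
  replace h2 : (ρ a - 1) u ≠ 0 := fun e => h2 (Subtype.ext e)
  have α1 : α ≠ 1 := by
    rintro rfl
    have : ∀ k : ℕ, ρ (a ^ k) u = u + (k : K) • (ρ a - 1) u := fun k => by
      induction k with
      | zero => simp
      | succ k ih =>
        rw [pow_succ', ← mul, ih, map_add, map_smul, h1, Nat.cast_succ, add_smul, one_smul]; simp; abel
    simpa [ha, hK, h2, -LinearMap.sub_apply] using this r
  have : Nontrivial (End.eigenspace (ρ a) α) := ⟨⟨_, End.mem_eigenspace_iff.2 h1⟩, 0,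
    fun e => h2 (congrArg Subtype.val e)⟩
  obtain ⟨β, h3⟩ := End.exists_eigenvalue ((ρ (f * a * f⁻¹)).restrict (p := End.eigenspace (ρ a) α)
    (q := End.eigenspace (ρ a) α) fun v hv => End.mem_eigenspace_iff.2 (by
      rw [mul, hc.eq, ← mul, End.mem_eigenspace_iff.1 hv, map_smul]))
  obtain ⟨⟨w, h4⟩, h3, h5⟩ := h3.exists_hasEigenvector
  let P : V → K → K → Prop := fun v α β => v ≠ 0 ∧ ρ a v = α • v ∧ ρ (f * a * f⁻¹) v = β • v
  have p0 : P w α β := ⟨fun e => h5 (Subtype.ext e), End.mem_eigenspace_iff.1 h4,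
    congrArg Subtype.val (End.mem_eigenspace_iff.1 h3)⟩
  have inj : ∀ x v, ρ x v = 0 → v = 0 := fun x v e => by
    simpa [mul] using congrArg (ρ x⁻¹) e
  have step : ∀ {v α β}, P v α β → P (ρ f v) β⁻¹ α := fun {v α β} ⟨q1, q2, q3⟩ => by
    have b0 : β ≠ 0 := fun e => q1 (inj _ _ (by rw [q3, e, zero_smul]))
    refine ⟨mt (inj _ _) q1, (eq_inv_smul_iff₀ b0).2 ?_, by
      rw [mul, inv_mul_cancel_right, ← mul, q2, map_smul]⟩
    rw [← map_smul, ← map_smul, ← q3, mul, mul, show a * f * (f * a * f⁻¹) =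
      a * (f * f * a * (f * f)⁻¹) * f by group, hi, mul_inv_cancel, one_mul]
  have a2 : α * α ≠ 1 := fun e => by
    have : ∀ k : ℕ, ρ (a ^ k) w = α ^ k • w := fun k => by
      induction k with
      | zero => simp
      | succ k ih => rw [pow_succ', ← mul, ih, map_smul, p0.2.1, smul_smul, pow_succ]
    obtain ⟨k, rfl⟩ := hr
    have := this (2 * k + 1)
    rw [ha, map_one, pow_succ, pow_mul, sq, e, one_pow, one_mul] at this
    exact α1 (smul_left_injective K p0.1 (this.symm.trans (one_smul K w).symm))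
  have a0 : α ≠ 0 := fun e => p0.1 (inj _ _ (by rw [p0.2.1, e, zero_smul]))
  have a3 : α ≠ α⁻¹ := fun e => a2 (by nth_rw 2 [e]; exact mul_inv_cancel₀ a0)
  let s : Fin 4 → K := ![α, β⁻¹, α⁻¹, β⁻¹⁻¹]
  let t : Fin 4 → K := ![β, α, β⁻¹, α⁻¹]
  let v : Fin 4 → V := ![w, ρ f w, ρ f (ρ f w), ρ f (ρ f (ρ f w))]
  have hv : ∀ i, P (v i) (s i) (t i) := fun i => by
    fin_cases i
    exacts [p0, step p0, step (step p0), step (step (step p0))]
  have ne : ∀ i j, s i = s j → t i = t j → i = j := four_ne a3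
  obtain ⟨x, hx⟩ := Infinite.exists_notMem_finset
    (Finset.univ.image fun p : Fin 4 × Fin 4 => (s p.2 - s p.1) / (t p.1 - t p.2))
  have := (End.eigenvectors_linearIndependent' (ρ a + x • ρ (f * a * f⁻¹)) (fun i => s i + x * t i)
    (fun i j e => by
      by_cases e' : t i = t j
      · exact ne i j (by simpa [e'] using e) e'
      · exact absurd (Finset.mem_image.2 ⟨(i, j), Finset.mem_univ _, (div_eq_iff (sub_ne_zero.2 e')).2
          (by linear_combination -e)⟩) hx) v fun i => ⟨End.mem_eigenspace_iff.2 (by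
      simp [(hv i).2.1, (hv i).2.2, add_smul, mul_smul, -map_mul]), (hv i).1⟩).fintype_card_le_finrank
  rw [Fintype.card_fin] at this
  omega

theorem mat {F H : Type*} [Field F] [Group H] {n : ℕ} (hn : n ≤ 3) (ρ : H →* Matrix (Fin n) (Fin n) F)
    (hρ : Function.Injective ρ) {r : ℕ} (hr : Odd r) (hK : (r : F) ≠ 0) {a f : H} (ha : a ^ r = 1)
    (a1 : a ≠ 1) (hc : Commute a (f * a * f⁻¹)) (hi : f * f * a * (f * f)⁻¹ = a⁻¹) : False :=
  lin (K := AlgebraicClosure F) (((Matrix.toLinAlgEquiv' (n := Fin n)).toRingEquiv.toMonoidHom.comp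
    (algebraMap F (AlgebraicClosure F)).mapMatrix.toMonoidHom).comp ρ) (by simpa using hn) hr
    (by rwa [← map_natCast (algebraMap F _), map_ne_zero]) ha (fun e => a1 (hρ (Matrix.map_injective
      (algebraMap F (AlgebraicClosure F)).injective ((Matrix.toLinAlgEquiv' (n := Fin n)).injective
        (e.trans (by simp)))))) hc hi

theorem lift {G : Type u} {H : Type*} [Group G] [Group H] [Finite H] {A : Subgroup G} (h : C4 A)
    (e : G ≃* H ⧸ center H) (hz : ∀ z ∈ center H, z ^ 6 = 1) : ∃ r : ℕ, r.Prime ∧ 5 ≤ r ∧ ∃ a f : H,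
      a ^ r = 1 ∧ a ≠ 1 ∧ Commute a (f * a * f⁻¹) ∧ f * f * a * (f * f)⁻¹ = a⁻¹ ∧
      ∀ d, Commute a (d * a * d⁻¹) → Commute a (d ^ 4) := by
  have : Finite G := Finite.of_equiv _ e.symm.toEquiv
  let π : H →* G := e.symm.toMonoidHom.comp (QuotientGroup.mk' _)
  have sj : Function.Surjective π := e.symm.surjective.comp (QuotientGroup.mk'_surjective _)
  have ker : ∀ z, π z = 1 → z ∈ center H := fun z h =>
    (QuotientGroup.eq_one_iff z).1 (e.symm.map_eq_one_iff.1 h)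
  obtain ⟨r, hr, hd⟩ := Nat.exists_prime_and_dvd (mt card_eq_one.1 h.ne)
  have := Fact.mk hr
  have r6 : r.Coprime 6 := h.six.coprime_dvd_left hd
  obtain ⟨⟨a, ha⟩, oa⟩ := exists_prime_orderOf_dvd_card' r hd
  rw [orderOf_mk] at oa
  obtain ⟨a, rfl⟩ := sj a
  obtain ⟨f, hf, -, hi⟩ := h.exists_f
  obtain ⟨f, rfl⟩ := sj f
  have h1 : (a ^ 6) ^ r = 1 := by
    rw [← pow_mul, mul_comm, pow_mul, hz _ (ker _ (by rw [map_pow, ← oa, pow_orderOf_eq_one]))]
  have h2 : π (a ^ 6) ∈ A := map_pow π a 6 ▸ pow_mem ha 6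
  have h3 : π (a ^ 6) ≠ 1 := fun e => hr.ne_one (r6.eq_one_of_dvd (by
    rwa [map_pow, ← orderOf_dvd_iff_pow_eq_one, oa] at e))
  generalize a ^ 6 = b at h1 h2 h3
  have un : ∀ x y, y ^ r = 1 → π (x * b * x⁻¹) = π y → x * b * x⁻¹ = y := fun x y hy e => by
    have c := ker (x * b * x⁻¹ * y⁻¹) (by rw [map_mul, e, map_inv, mul_inv_cancel])
    have := (show Commute y (x * b * x⁻¹ * y⁻¹) from mem_center_iff.1 c y).symm.mul_pow r
    rw [inv_mul_cancel_right, conj_pow, h1, hy, mul_one, mul_one, mul_inv_cancel] at this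
    exact mul_inv_eq_one.1 (by simpa [r6.gcd_eq_one] using pow_gcd_eq_one.2 ⟨this.symm, hz _ c⟩)
  have cm : ∀ x, π x ∈ A → Commute b x := fun x hx => (mul_inv_eq_iff_eq_mul.1 (un x b h1 (by
    rw [map_mul, map_mul, map_inv, h.cc.comm h2 hx, mul_inv_cancel_right]))).symm
  refine ⟨r, hr, ?_, b, f, h1, fun e => h3 (by rw [e, map_one]), cm _ (by
    simpa using (mem_normalizer_iff.1 hf _).1 h2), un _ _ (by rw [inv_pow, h1, inv_one]) (by
    simpa using hi _ h2), fun d hd => cm _ ?_⟩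
  · by_contra hlt
    have := hr.two_le
    interval_cases r <;> simp_all (config := {decide := true})
  · have m := h.cc.mem_normalizer h2 h3 (g := π d) (h.cc.mem_of_commute h2 h3 (by
      simpa using (hd.map π).symm.eq))
    have := pow_index_mem (H := A.subgroupOf (normalizer (A : Set G))) ⟨_, m⟩
    rw [← relIndex, h.idx] at this
    rw [map_pow]; exact this

theorem dvd_card {F : Type*} [Field F] [Fintype F] {r : ℕ} (hr : r.Prime) (h : (r : F) = 0) :
    r ∣ Fintype.card F :=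
  have := Fact.mk hr
  (prime_dvd_char_iff_dvd_card r).1 (CharP.ringChar_of_prime_eq_zero hr h).symm.dvd

theorem cen {F : Type*} [Field F] {n : ℕ} (hn : n ∣ 6) (z : SL(n, F)) (hz : z ∈ center SL(n, F)) :
    z ^ 6 = 1 := by
  obtain ⟨c, h1, h2⟩ := Matrix.SpecialLinearGroup.mem_center_iff.1 hz
  obtain ⟨k, hk⟩ := hn
  exact Subtype.ext (by
    rw [Matrix.SpecialLinearGroup.coe_pow, ← h2, ← map_pow, hk, pow_mul, ← Fintype.card_fin n, h1,
      one_pow, map_one]; rfl)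

theorem five {r q : ℕ} (hr : r.Prime) (h5 : 5 ≤ r) (h1 : q - 1 ∣ 8) (h2 : r ∣ q) (h3 : 1 < q) :
    q - 1 = 4 := by
  have := Nat.le_of_dvd (by norm_num) h1
  have := Nat.le_of_dvd (by omega) h2
  have : q ≤ 9 := by omega
  interval_cases q <;> try omega
  have := Nat.le_of_dvd (by norm_num) (hr.dvd_of_dvd_pow (m := 3) (n := 2) h2)
  omega

open H61 H55.Bn in
theorem unip {F : Type*} [Field F] [Fintype F] {r : ℕ} (hr : r.Prime) (h5 : 5 ≤ r) (h0 : (r : F) = 0)
    {a f : SL(2, F)} (ha : a ^ r = 1) (a1 : a ≠ 1) (hc : Commute a (f * a * f⁻¹))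
    (hi : f * f * a * (f * f)⁻¹ = a⁻¹) (h4 : ∀ d, Commute a (d * a * d⁻¹) → Commute a (d ^ 4)) :
    False := by
  have := Fact.mk hr
  have : CharP F r := (CharP.charP_iff_prime_eq_zero hr).2 h0
  have t : tr a = 2 := by
    have : IsNilpotent (a.1 - 1) := ⟨r, by
      rw [sub_pow_char_of_commute _ (Commute.one_right _), ← Matrix.SpecialLinearGroup.coe_pow, ha]; simp⟩
    have := (Matrix.isNilpotent_trace_of_isNilpotent this).eq_zero
    simp only [Matrix.trace_fin_two, Matrix.sub_apply, Matrix.one_apply_eq] at this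
    rw [tr]; linear_combination this
  obtain ⟨x, hx⟩ := exists_upper (a := a) fun hA => hA.tr_ne (by rw [t]; norm_num)
  obtain ⟨b, hb⟩ : ∃ b, x⁻¹ * a * x = uu b := by
    have h1 : (x⁻¹ * a * x) 0 0 + (x⁻¹ * a * x) 1 1 = 2 := by
      have := (tr_conj' x⁻¹ a).trans t
      rwa [inv_inv] at this
    have h2 := sl_det (x⁻¹ * a * x)
    rw [hx] at h2
    have h3 : (x⁻¹ * a * x) 0 0 = 1 := sub_eq_zero.1 (pow_eq_zero_iff two_ne_zero |>.1 (by
      linear_combination (x⁻¹ * a * x) 0 0 * h1 - h2))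
    exact ⟨(x⁻¹ * a * x) 0 1, sl_ext h3 rfl hx (show _ = 1 by rw [h3] at h1; linear_combination h1)⟩
  obtain rfl : a = x * uu b * x⁻¹ := by rw [← hb]; group
  have b0 : b ≠ 0 := fun e => a1 (by rw [e, show uu (0 : F) = 1 by slx]; group)
  have cj : ∀ {y z : SL(2, F)}, Commute (x * y * x⁻¹) (x * z * x⁻¹) ↔ Commute y z :=
    ⟨fun h => h.of_map (MulAut.conj x).injective, fun h => h.map (MulAut.conj x)⟩
  obtain ⟨f, rfl⟩ : ∃ g, f = x * g * x⁻¹ := ⟨x⁻¹ * f * x, by group⟩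
  have k1 := (comm_iff.1 ((cj (z := f * uu b * f⁻¹)).1 (by convert hc using 1; group)).eq).1
  have f0 : f 1 0 = 0 := by
    simp [sl_mul_apply, sl_inv_00, sl_inv_10, uu, b0] at k1
    exact pow_eq_zero_iff two_ne_zero |>.1 (mul_left_cancel₀ b0 (by linear_combination -k1))
  have k2 : f * f * uu b = (uu b)⁻¹ * (f * f) := (MulAut.conj x).injective (by
    simp only [MulAut.conj_apply]
    calc _ = x * f * x⁻¹ * (x * f * x⁻¹) * (x * uu b * x⁻¹) * (x * f * x⁻¹ * (x * f * x⁻¹))⁻¹ *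
        (x * (f * f) * x⁻¹) := by group
      _ = _ := by rw [hi]; group)
  have k3 := congrArg (fun g : SL(2, F) => g 0 1) k2
  have d := sl_det f
  simp [sl_mul_apply, sl_inv_00, sl_inv_01, uu, f0] at k3 d
  have k4 : f 0 0 ^ 4 = -1 := mul_left_cancel₀ b0 (by
    linear_combination f 0 0 ^ 2 * k3 - b * (f 0 0 * f 1 1 + 1) * d)
  have k5 := (FiniteField.forall_pow_eq_one_iff F 8).1 fun t => by
    have := h4 (x * dd t.1 t.ne_zero * x⁻¹) (by
      rw [show x * dd t.1 t.ne_zero * x⁻¹ * (x * uu b * x⁻¹) * (x * dd t.1 t.ne_zero * x⁻¹)⁻¹ =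
        x * (dd t.1 t.ne_zero * uu b * (dd t.1 t.ne_zero)⁻¹) * x⁻¹ by group, cj]
      change _ = _
      slx; ring)
    rw [conj_pow, cj] at this
    have := congrArg (fun g : SL(2, F) => g 0 1) this.eq
    simp [pow_succ, sl_mul_apply, uu, dd] at this
    field_simp at this
    exact Units.ext (by simpa using this.symm)
  have k6 := dvd_card hr h0
  have k7 := Fintype.one_lt_card (α := F)
  have k8 := five hr h5 k5 k6 k7
  have k9 := FiniteField.pow_card_sub_one_eq_one (f 0 0) (left_ne_zero_of_mul_eq_one d)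
  rw [k8, k4] at k9
  have := Nat.le_of_dvd two_pos ((CharP.cast_eq_zero_iff F r 2).1 (by
    push_cast; linear_combination -k9))
  omega

theorem jobX : JobX.{u} where
  l2 G _ A F _ _ h := ⟨fun e => by
    obtain ⟨r, hr, h5, a, f, h1, h2, h3, h4, h6⟩ := lift h e (cen (by decide))
    by_cases h0 : (r : F) = 0
    · exact unip hr h5 h0 h1 h2 h3 h4 h6
    · exact mat (by decide) (slToMat 2 F) Subtype.val_injective (hr.odd_of_ne_two (by omega)) h0
        h1 h2 h3 h4⟩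
  l3 G _ A F _ _ n h _ hF := ⟨fun e => by
    obtain ⟨r, hr, h5, a, f, h1, h2, h3, h4, -⟩ := lift h e (cen (by decide))
    exact mat le_rfl (slToMat 3 F) Subtype.val_injective (hr.odd_of_ne_two (by omega)) (fun h0 => by
      have := Nat.le_of_dvd two_pos (hr.dvd_of_dvd_pow (hF ▸ dvd_card hr h0))
      omega) h1 h2 h3 h4⟩
  u3 G _ A F _ _ n h _ hF := ⟨fun e => by
    obtain ⟨r, hr, h5, a, f, h1, h2, h3, h4, -⟩ := lift h e fun z hz => by
      have := orderOf_dvd_natCard _ hz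
      rw [H59.card_center_SU hF (by decide)] at this
      exact orderOf_dvd_iff_pow_eq_one.1 (this.trans ((Nat.gcd_dvd_left _ _).trans (by decide)))
    exact mat le_rfl ((slToMat 3 F).comp (SU 3 F (2 ^ n)).subtype)
      (Subtype.val_injective.comp Subtype.val_injective) (hr.odd_of_ne_two (by omega)) (fun h0 => by
      have := Nat.le_of_dvd two_pos (hr.dvd_of_dvd_pow (hr.dvd_of_dvd_pow (hF ▸ dvd_card hr h0)))
      omega) h1 h2 h3 h4⟩

end H21.Sz
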