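import Cfsg.Agent.H32.SHKit2
import Cfsg.Agent.H13.CtrlLift
import Cfsg.Agent.H2.PrimeCore

/-! TE2 (blueprints/TE2.md): weak closure of a class modulo a central subgroup, and Goldschmidt's
theorem inside a subgroup. -/

set_option autoImplicit false
set_option linter.unusedSectionVars false

namespace H21.TE

open Subgroup Cfsg H98 H1.Gold

universe u
variable {G : Type u} [Group G] [Finite G] {C V W S : Subgroup G} {D : G → Prop} {g s d w : G}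

local instance : Fact (Nat.Prime 2) := ⟨Nat.prime_two⟩

/-- `W / V` is abelian, generated by its elements of the class `D`, which contains all elements
of `D` that normalize `W`. -/
structure Sh (C V W : Subgroup G) (D : G → Prop) : Prop where
  two : IsPGroup 2 W
  le : W ≤ C
  vw : V ≤ W
  cv : C ≤ cen V
  cm : ∀ a ∈ W, ∀ b ∈ W, a * b * a⁻¹ * b⁻¹ ∈ V
  dc : ∀ g ∈ C, ∀ d, D d → D (g * d * g⁻¹)
  gen : W ≤ closure {d | d ∈ W ∧ D d} ⊔ V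
  wk : ∀ d ∈ C ⊓ nor W, D d → d ∈ W

/-- the elements of `C` that commute with `x` modulo `V` -/
def Cm (hV : C ≤ cen V) (x : G) : Subgroup G where
  carrier := {c | c ∈ C ∧ c * x * c⁻¹ * x⁻¹ ∈ V}
  mul_mem' {a b} ha hb := ⟨mul_mem ha.1 hb.1, by
    have := mul_mem hb.2 ha.2
    rw [mul_assoc a, mul_assoc a, ← mul_assoc, hV ha.1 _ hb.2] at this
    simpa [mul_assoc] using this⟩
  one_mem' := ⟨one_mem _, by simp⟩
  inv_mem' {a} ha := ⟨inv_mem ha.1, by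
    have := inv_mem ha.2
    have e : a⁻¹ * ((a * x * a⁻¹ * x⁻¹)⁻¹ * a) = (a * x * a⁻¹ * x⁻¹)⁻¹ := by
      rw [hV ha.1 _ this, inv_mul_cancel_left]
    rw [← e] at this
    simpa [mul_assoc] using this⟩

namespace Sh

variable (h : Sh C V W D)
include h

theorem fixV (hg : g ∈ C) (hw : w ∈ V) : g * w * g⁻¹ = w := by
  rw [← h.cv hg w hw, mul_inv_cancel_right]

theorem cj_le {X : Subgroup G} (hg : g ∈ C) (hV : V ≤ X)
    (e : ∀ d ∈ W, D d → g * d * g⁻¹ ∈ X) : cj g W ≤ X :=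
  cj_le_iff.2 (h.gen.trans (sup_le ((closure_le _).2 fun d hd => by
    simpa using mem_cj.2 (show g⁻¹⁻¹ * d * g⁻¹ ∈ X by simpa using e d hd.1 hd.2))
    fun v hv => mem_cj.2 (by simpa [h.fixV hg hv] using hV hv)))

/-- a `2`-subgroup of `C` over `W` normalizes `W` -/
theorem le_nor (hS : IsPGroup 2 S) (h1 : W ≤ S) (h2 : S ≤ C) : S ≤ nor W := by
  by_contra n
  obtain ⟨g, hg, ng⟩ := SetLike.exists_of_lt (lt_inf_normalizer hS
    (lt_of_le_of_ne inf_le_left fun e : S ⊓ nor W = S => n (inf_eq_left.1 e)))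
  refine ng ⟨hg.1, mem_normalizer_of_cj_le (h.cj_le (h2 hg.1) h.vw fun d hd e => ?_)⟩
  have := conj_mem_of_mem_normalizer hg.2 (⟨h1 hd, le_normalizer hd⟩ : d ∈ S ⊓ nor W)
  exact h.wk _ ⟨h2 this.1, this.2⟩ (h.dc g (h2 hg.1) d e)

theorem cj (hg : g ∈ C) : Sh C V (cj g W) D where
  two := isPGroup_cj g h.two
  le := cj_le_of_le_of_mem h.le hg
  vw := fun v hv => h.fixV hg hv ▸ conj_mem_cj (h.vw hv)
  cv := h.cv
  cm := by
    rintro _ ⟨a, ha, rfl⟩ _ ⟨b, hb, rfl⟩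
    have := h.cm a ha b hb
    rw [← h.fixV hg this] at this
    simpa [mul_assoc] using this
  dc := h.dc
  gen := h.cj_le hg le_sup_right fun d hd e =>
    mem_sup_left (subset_closure ⟨conj_mem_cj hd, h.dc g hg d e⟩)
  wk := fun d hd e => mem_cj.2 (h.wk _ ⟨C.mul_mem (C.mul_mem (C.inv_mem hg) (mem_inf.1 hd).1) hg,
    mem_cj.1 ((cj_normalizer g W).ge hd.2)⟩ (by simpa using h.dc _ (inv_mem hg) d e))

theorem cj_eq (hg : g ∈ C) (e : H98.cj g W ≤ nor W) : H98.cj g W = W :=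
  eq_of_le_of_card_ge (h.cj_le hg h.vw fun d hd k => h.wk _ ⟨(h.cj hg).le (conj_mem_cj hd),
    e (conj_mem_cj hd)⟩ (h.dc g hg d k)) (card_cj g W).ge

/-- a conjugate of an element of `W` that commutes with `d` modulo `V` lies in `W` -/
theorem mem (hg : g ∈ C) (hw : w ∈ W) (hd : d ∈ W) (dD : D d)
    (hn : ∀ c ∈ C, c * d * c⁻¹ * d⁻¹ ∈ V → c ∈ nor W)
    (e : g * w * g⁻¹ * d * (g * w * g⁻¹)⁻¹ * d⁻¹ ∈ V) : g * w * g⁻¹ ∈ W := by
  have h' := h.cj hg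
  have hs := conj_mem_cj (g := g) hw
  generalize g * w * g⁻¹ = s at e hs
  obtain ⟨T, hT, h1⟩ := exists_isSyl_le (H := Cm h.cv s) h'.two fun a ha => ⟨h'.le ha, h'.cm a ha s hs⟩
  obtain ⟨x, hx, h2⟩ := hT.exists_cj_le (h.two.to_le (zpowers_le.2 hd))
    (zpowers_le.2 ⟨h.le hd, by simpa [mul_assoc] using inv_mem e⟩)
  have h3 := h2 (conj_mem_cj (mem_zpowers d))
  have h4 := h'.wk _ ⟨(hT.le h3).1, h'.le_nor hT.isPGroup h1 (fun _ k => (hT.le k).1) h3⟩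
    (h.dc x hx.1 d dD)
  have k := mul_mem (inv_mem hx.1) hg
  have m : ∀ {a}, x * a * x⁻¹ ∈ H98.cj g W → a ∈ H98.cj (x⁻¹ * g) W := fun e => by
    rw [← cj_cj, mem_cj, inv_inv]; exact e
  exact (h.cj_eq k fun a ha => hn a ((h.cj k).le ha) ((h.cj k).cm a ha d (m h4))).le
    (m (by simpa using mul_mem (h'.vw hx.2) hs))

end Sh

/-- The second case of Goldschmidt's theorem. -/
structure GW (C V W B B' : Subgroup G) : Prop where
  le : B ≤ W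
  le' : B' ≤ W
  cb : B' ≤ cen B
  vb : V ≤ B
  vb' : V ≤ B'
  dec : ∀ q ∈ W, ∃ b ∈ B, ∃ c ∈ B', b * c = q
  two : ∃ x ∈ B, ∃ y ∈ B, x ∉ B' ∧ y ∉ B' ∧ x⁻¹ * y ∉ B'
  tr : ∀ a ∈ B, ∀ a' ∈ B, a ∉ B' → a' ∉ B' → ∃ c ∈ B ⊓ B', a * a = c * a' * (c * a')
  cj : ∀ g ∈ C ⊓ nor W, cj g B = B ∨ cj g B ≤ B'

theorem goldW (hS : IsSyl 2 S C) (hW : W ≤ S) (hV : V ≤ W) (cv : C ≤ cen V)
    (sq : ∀ x ∈ W, x * x ∈ V) (sc : ∀ w ∈ W, ∀ g ∈ C, g * w * g⁻¹ ∈ S → g * w * g⁻¹ ∈ W)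
    (hO : ∀ X ≤ C, Odd (Nat.card X) → C ≤ nor X → X ≤ cen W) :
    C ≤ nor W ∨ ∃ B B', GW C V W B B' := by
  have WC := hW.trans hS.le
  let f := QuotientGroup.mk' (oddCore C)
  have sf : Function.Surjective f := QuotientGroup.mk'_surjective _
  have one : ∀ x : C, f x = 1 → (∃ k, (x : G) ^ 2 ^ k = 1) → x = 1 := fun x e ⟨k, hk⟩ => by
    have h1 := orderOf_dvd_natCard _ ((QuotientGroup.eq_one_iff x).1 e)
    have h2 : orderOf x ∣ 2 ^ k := orderOf_dvd_of_pow_eq_one (Subtype.ext hk)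
    exact orderOf_eq_one_iff.1 (Nat.eq_one_of_dvd_coprimes
      ((Nat.coprime_two_right.2 H99.odd_card_oddCore).pow_right k) h1 h2)
  have W2 := isPGroup_iff_forall.1 (hS.isPGroup.to_le hW)
  have inj : ∀ x y : C, (x : G) ∈ W → (y : G) ∈ W → f x = f y → x = y := fun x y hx hy e =>
    mul_inv_eq_one.1 (one _ (by rw [map_mul, map_inv, e, mul_inv_cancel]) (W2 _ (mul_mem hx (inv_mem hy))))
  have hS' : IsSyl 2 ((S.subgroupOf C).map f) ⊤ := by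
    have := hS.subgroupOf_top.map f
    rwa [← MonoidHom.range_eq_map, MonoidHom.range_eq_top.2 sf] at this
  have vc : ∀ x : C, (x : G) ∈ V → ∀ q, q * f x = f x * q := fun x hx q => by
    obtain ⟨g, rfl⟩ := sf q
    rw [← map_mul, ← map_mul]
    exact congrArg f (Subtype.ext (cv g.2 x hx).symm)
  refine (H32.SH.gold_z (V := (V.subgroupOf C).map f) (Q := (W.subgroupOf C).map f)
    (H2.pPrimeCore_quotient_pPrimeCore 2 C) ?_ (map_mono (subgroupOf_mono C hV)) hS' ?_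
    (H13.sc_map f sf (H7.isSylowIn_top hS.subgroupOf_top.toSylowTop)
      ⟨subgroupOf_mono C hW, fun x hx g hg => sc x hx g g.2 hg⟩)).imp (fun n g hg => ?_) ?_
  · rintro _ ⟨x, hx, rfl⟩
    exact mem_center_iff.2 (vc x hx)
  · rintro _ ⟨x, hx, rfl⟩
    exact ⟨x * x, sq x hx, map_mul f x x⟩
  · refine mem_normalizer_of_cj_le ?_
    rintro _ ⟨w, hw, rfl⟩
    obtain ⟨y, hy, e⟩ := n.conj_mem _ (mem_map_of_mem f (show ⟨w, WC hw⟩ ∈ W.subgroupOf C from hw))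
      (f ⟨g, hg⟩)
    rw [← map_inv, ← map_mul, ← map_mul] at e
    have e' : f (y⁻¹ * (⟨g, hg⟩ * ⟨w, WC hw⟩ * (⟨g, hg⟩ : C)⁻¹)) = 1 := by
      rw [map_mul, map_inv, e, inv_mul_cancel]
    have h1 := hO ((oddCore C).map C.subtype) (map_subtype_le _)
      (by rw [card_map_of_injective C.subtype_injective]; exact H99.odd_card_oddCore)
      (le_normalizer_map_subtype _) ⟨_, (QuotientGroup.eq_one_iff _).1 e', rfl⟩ _ hy
    obtain ⟨k, hk⟩ := W2 w hw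
    obtain ⟨l, hl⟩ := W2 y hy
    have h2 := congrArg Subtype.val (one _ e' ⟨k + l, ?_⟩)
    · have h3 : (y : G) = g * w * g⁻¹ := inv_mul_eq_one.1 h2
      exact show g * w * g⁻¹ ∈ W from h3 ▸ hy
    · have h3 : Commute (y : G)⁻¹ (g * w * g⁻¹) := Commute.inv_left (by
        simpa [Commute, SemiconjBy, mul_assoc, eq_inv_mul_iff_mul_eq] using h1)
      simp only [coe_mul, coe_inv]
      rw [h3.mul_pow, conj_pow, inv_pow, pow_add, pow_mul w, hk, mul_comm, pow_mul, hl]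
      simp
  rintro ⟨L, h⟩
  have mem : ∀ {K : Subgroup (C ⧸ oddCore C)} {x : C}, (x : G) ∈ W ⊓ (K.comap f).map C.subtype ↔
      (x : G) ∈ W ∧ f x ∈ K := fun {K x} =>
    and_congr_right' ⟨fun ⟨y, hy, e⟩ => (Subtype.ext e : y = x) ▸ hy, fun e => ⟨x, e, rfl⟩⟩
  have mk : ∀ {x : C}, (x : G) ∈ W → f x ∈ (W.subgroupOf C).map f := fun hx => mem_map_of_mem f hx
  refine ⟨W ⊓ (L.comap f).map C.subtype, W ⊓ ((cen L).comap f).map C.subtype, inf_le_left, inf_le_left,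
    ?_, fun v hv => mem (x := ⟨v, WC (hV hv)⟩).2 ⟨hV hv, h.le (mem_map_of_mem f hv)⟩,
    fun v hv => mem (x := ⟨v, WC (hV hv)⟩).2 ⟨hV hv, fun l _ => vc _ hv l⟩, fun q hq => ?_, ?_, ?_, ?_⟩
  · rintro _ ⟨hc, c, hc', rfl⟩ _ ⟨hb, b, hb', rfl⟩
    exact congrArg Subtype.val (inj (b * c) (c * b) (mul_mem hb hc) (mul_mem hc hb) (by
      rw [map_mul, map_mul, hc' _ hb']))
  · obtain ⟨_, ⟨⟨b, hb, rfl⟩, hb'⟩, _, ⟨⟨c, hc, rfl⟩, hc'⟩, e⟩ := h.dec _ (mk (x := ⟨q, WC hq⟩) hq)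
    exact ⟨b, mem.2 ⟨hb, hb'⟩, c, mem.2 ⟨hc, hc'⟩,
      congrArg Subtype.val (inj (b * c) ⟨q, WC hq⟩ (mul_mem hb hc) hq (by rw [map_mul, e]))⟩
  · obtain ⟨_, ⟨⟨x, hx, rfl⟩, hx'⟩, _, ⟨⟨y, hy, rfl⟩, hy'⟩, n1, n2, n3⟩ := h.two
    exact ⟨x, mem.2 ⟨hx, hx'⟩, y, mem.2 ⟨hy, hy'⟩, fun e => n1 (mem.1 e).2, fun e => n2 (mem.1 e).2,
      fun e => n3 (by simpa using (mem (x := x⁻¹ * y).1 e).2)⟩
  · rintro _ ⟨ha, a, ha', rfl⟩ _ ⟨hb, b, hb', rfl⟩ n1 n2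
    obtain ⟨q, hq, e⟩ := h.tr _ (mk ha) _ (mk hb) (fun e => n1 (mem.2 ⟨ha, e⟩)) fun e => n2 (mem.2 ⟨hb, e⟩)
    obtain ⟨c, hc, e'⟩ := mul_mem (conj_mem_of_mem_normalizer hq.2 (mk ha)) (inv_mem (mk hb))
    refine ⟨c, ⟨mem.2 ⟨hc, e' ▸ L.mul_mem (L.mul_mem (L.mul_mem hq.1 ha') (L.inv_mem hq.1))
      (L.inv_mem hb')⟩, mem.2 ⟨hc, e' ▸ e⟩⟩, congrArg Subtype.val (inj (a * a) (c * b * (c * b))
      (mul_mem ha ha) (mul_mem (mul_mem hc hb) (mul_mem hc hb)) ?_)⟩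
    rw [map_mul f (c * b), map_mul f c, e', inv_mul_cancel_right, conj_mul, ← map_mul,
      vc (a * a) (sq _ ha), mul_inv_cancel_right]
  · intro g hg
    have k : ∀ K : Subgroup (C ⧸ oddCore C), H98.cj (f ⟨g, hg.1⟩) L ≤ K →
        H98.cj g (W ⊓ (L.comap f).map C.subtype) ≤ W ⊓ (K.comap f).map C.subtype := fun K e => by
      rintro _ ⟨_, ⟨hb, b, hb', rfl⟩, rfl⟩
      exact mem (x := ⟨g, hg.1⟩ * b * (⟨g, hg.1⟩ : C)⁻¹).2 ⟨conj_mem_of_mem_normalizer hg.2 hb,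
        e (by simpa using conj_mem_cj (g := f ⟨g, hg.1⟩) hb')⟩
    exact (h.cj (f ⟨g, hg.1⟩)).imp (fun e => eq_of_le_of_card_ge (k L e.le) (card_cj _ _).ge) (k _)

end H21.TE
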