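import Cfsg.Agent.H21.TEC
import Cfsg.Agent.H21.TEGold

/-! TE2 (blueprints/TE2.md, S4): `N(Z)` normalizes `P`. -/

set_option autoImplicit false
set_option linter.unusedSectionVars false
set_option maxRecDepth 100000
set_option synthInstance.maxSize 4096

namespace H21.TE

open Subgroup Cfsg H98 H1.Gold H86.L34 H88.AS H88.TE
open H6 (F4)

universe u

namespace S4

variable {G : Type u} [Group G] [Finite G] {s : SD G} {g d w q : G} {x y : V4}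

local instance : Fact (Nat.Prime 2) := ⟨Nat.prime_two⟩

def D (s : SD G) (d : G) : Prop := ∃ g ∈ cen s.Z, g * s.r 1 * g⁻¹ = d

theorem D_conj (hg : g ∈ cen s.Z) (hd : D s d) : D s (g * d * g⁻¹) := by
  obtain ⟨k, hk, rfl⟩ := hd
  exact ⟨g * k, mul_mem hg hk, by group⟩

def Gd (x : V4) : Prop := qf x = 0 ∧ x ≠ 0 ∧ ¬ VT x

instance : DecidablePred Gd := fun _ => by unfold Gd; infer_instance

theorem gd_sum : ∀ x : V4, ∃ y, Gd y ∧ Gd (x + y) := by decide +kernel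

theorem onto : ∀ x : V4, x ≠ 0 → ∀ t, ∃ y, bf x y ≠ 0 ∧ bf x y ≠ t := by decide +kernel

theorem GG : Gm ∘ Gm = id := rfl

theorem fx : ∀ p q p' q' : F4, p * q = 0 → (p ≠ 0 ∨ q ≠ 0) → (p' * q + q' * p = 0 → p' * q' = 0) ∧ p ≠ q := by
  decide +kernel

theorem cjZ (hg : g ∈ cen s.Z) (hw : w ∈ s.Z) : g * w * g⁻¹ = w := by
  rw [← hg w hw, mul_inv_cancel_right]

variable (h : Sz s) (a : SA s)
include h

theorem z_Z (e : F4) : s.z e ∈ s.Z := (mem_Z h).2 ⟨e, rfl⟩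

theorem r_P (c : F4) : s.r c ∈ s.P := p_r h c ▸ p_mem _ _

theorem P_cm (hq : q ∈ s.P) (hw : w ∈ s.P) : q * w * q⁻¹ * w⁻¹ ∈ s.Z := by
  obtain ⟨x, e, rfl⟩ := (mem_P h).1 hq
  obtain ⟨y, e', rfl⟩ := (mem_P h).1 hw
  rw [p_conj h, ← p_zl h, mul_inv_cancel_right]
  exact z_Z h _

theorem P_sq (hq : q ∈ s.P) : q * q ∈ s.Z := by
  obtain ⟨x, e, rfl⟩ := (mem_P h).1 hq
  exact p_sq h x e ▸ z_Z h _

theorem bf0 {e e' : F4} (k : s.p x e * s.p y e' = s.p y e' * s.p x e) : bf x y = 0 := by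
  have := p_conj h x y e e'
  rw [k, mul_inv_cancel_right] at this
  exact left_eq_add.1 (p_ext h this).2

/-- an element acting as `φ` and commuting with `p x e` modulo `Z` fixes `x` -/
theorem fixes {φ : V4 → V4} {e : F4} (hg : g ∈ cen s.Z) (h1 : s.Act g φ)
    (k : g * s.p x e * g⁻¹ * (s.p x e)⁻¹ ∈ s.Z) : φ x = x := by
  obtain ⟨e1, k1⟩ := act_all h (nZ hg) h1 x e
  obtain ⟨e2, k2⟩ := (mem_Z h).1 k
  rw [k1, eq_mul_inv_iff_mul_eq, p_zl h] at k2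
  exact (p_ext h k2).1.symm

theorem Gm_r (h1 : s.Act g Gm) (c : F4) : g * s.r c * g⁻¹ * (s.r c)⁻¹ ∈ s.Z := by
  obtain ⟨e, k⟩ := h1 (c, 0, 0, 0)
  rw [← p_r h, k, show Gm (c, 0, 0, 0) = (c, 0, 0, 0) from rfl, ← zero_add e, ← p_zl h,
    mul_inv_cancel_right]
  exact z_Z h _

theorem D_KI (hd : D s d) : KI s.K d := by
  obtain ⟨k, -, rfl⟩ := hd
  exact KI_conj ⟨r_ord h one_ne_zero, 1, (cj_one _).ge (r_K h 1)⟩ k

include a

theorem crz {c : F4} (hg : g ∈ cen s.Z) (n : c ≠ 0) (k : g * s.r c * g⁻¹ * (s.r c)⁻¹ ∈ s.Z) :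
    g ∈ nor s.P ∧ (s.Act g id ∨ s.Act g Gm) := by
  obtain ⟨e, k⟩ := (mem_Z h).1 k
  have := a.cr g hg c n e (by
    rw [← eq_mul_inv_iff_mul_eq.1 k, ← p_r h, p_zl h, p_zr h])
  exact ⟨this.1, this.2.2⟩

theorem two_elt (hg : g ∈ cen s.Z) (h1 : s.Act g id) (h2 : g ^ 4 = 1) : g ∈ s.P := by
  obtain ⟨o, ho, x, e, rfl⟩ := a.ker g hg h1
  have c : Commute o (s.p x e) := P_cenO h (p_mem x e) o ho
  rw [c.mul_pow, P_four h (p_mem x e), mul_one] at h2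
  have : orderOf o = 1 := Nat.eq_one_of_dvd_coprimes
    ((Nat.coprime_two_right.2 h.loc.od.odd).pow_right 2) (s.O.orderOf_dvd_natCard ho)
    (orderOf_dvd_of_pow_eq_one h2)
  rw [orderOf_eq_one_iff.1 this, one_mul]
  exact p_mem x e

theorem sq_elt (hg : g ∈ cen s.Z) (h1 : s.Act g id) (h2 : g * g ∈ s.Z) : g ∈ s.P :=
  two_elt h a hg h1 (by
    obtain ⟨e, k⟩ := (mem_Z h).1 h2
    rw [show 4 = 2 * 2 from rfl, pow_mul, pow_two, pow_two, ← k, z_add h, F4.add_self, Dt.z, (hm h).one])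

theorem KI_D (hw : w ∈ s.P) (k : KI s.K w) : D s w := by
  obtain ⟨x, e, rfl⟩ := (mem_P h).1 hw
  obtain ⟨y, hy, k⟩ := a.kc x e k
  exact ⟨y, (Y_le h hy).1.1, k⟩

theorem gen : s.P ≤ closure {d | d ∈ s.P ∧ D s d} ⊔ s.Z := fun q hq => by
  obtain ⟨x, e, rfl⟩ := (mem_P h).1 hq
  obtain ⟨y, h1, h2⟩ := gd_sum x
  have k : ∀ {y}, Gd y → ∀ e, s.p y e ∈ closure {d | d ∈ s.P ∧ D s d} ⊔ s.Z := fun {y} k e =>
    mem_sup_left (subset_closure ⟨p_mem y e, KI_D h a (p_mem y e) ((a.ki y e).2 k)⟩)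
  have := mul_mem (k h2 (e + (x + y).2.1 * y.1 + (x + y).2.2.1 * y.2.2.2)) (k h1 0)
  rw [p_mul h, add_assoc x, v_self h, add_zero x] at this
  convert this using 2
  linear_combination (-(x + y).2.1 * y.1 - (x + y).2.2.1 * y.2.2.2) * F4.two_eq

/-- one of three elements of a four-group acts trivially -/
theorem one3 {t : F4 → G} (hc : ∀ c, t c ∈ cen s.Z) (m : t 1 * t F4.w = t F4.v)
    (k : ∀ c, s.Act (t c) id ∨ s.Act (t c) Gm) : ∃ c ≠ 0, s.Act (t c) id := by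
  rcases k 1 with k1 | k1
  · exact ⟨1, one_ne_zero, k1⟩
  rcases k F4.w with k2 | k2
  · exact ⟨F4.w, by decide, k2⟩
  exact ⟨F4.v, by decide, m ▸ act_mul h (nZ (hc 1)) k1 k2⟩

theorem noW {t e : F4} (n : t ≠ 0) (hd : D s (s.w₁ t * s.z e)) : False := by
  obtain ⟨k, hk, e0⟩ := hd
  replace hk := inv_mem hk
  replace e0 : k⁻¹ * (s.w₁ t * s.z e) * k⁻¹⁻¹ = s.r 1 := by rw [← e0]; group
  generalize k⁻¹ = g at hk e0
  have hc : ∀ x e, g * s.p x e * g⁻¹ ∈ cen s.Z := fun x e =>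
    mul_mem (mul_mem hk (P_cenZ h (p_mem x e))) (inv_mem hk)
  have cm : ∀ c d b e', W₁ t (c, d, b, 0) = (c, d, b, 0) → g * s.p (c, d, b, 0) e' * g⁻¹ * s.r 1 *
      (g * s.p (c, d, b, 0) e' * g⁻¹)⁻¹ = s.z (t * d ^ 2) * s.r 1 := fun c d b e' k => by
    have k1 := w₁_p h t c d b 0 e'
    rw [k, mul_zero, add_zero, ← p_zl h, mul_inv_eq_iff_eq_mul] at k1
    have k2 : s.z (t * d ^ 2) * s.z (t * d ^ 2) = 1 := by rw [z_add h, F4.add_self, Dt.z, (hm h).one]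
    have k3 := P_cenZ h (p_mem (c, d, b, 0) e') _ (z_Z h e)
    rw [← e0, conj_inv, conj_mul, conj_mul, ← cjZ hk (z_Z h (t * d ^ 2)), conj_mul, mul_left_inj,
      mul_right_inj, mul_inv_eq_iff_eq_mul, mul_assoc, mul_assoc, k3, ← mul_assoc (s.w₁ t), k1]
    simp only [← mul_assoc, k2, one_mul]
  have ac : ∀ c d b e', W₁ t (c, d, b, 0) = (c, d, b, 0) → _ := fun c d b e' k =>
    (crz h a (hc (c, d, b, 0) e') one_ne_zero (by
      rw [cm c d b e' k, mul_inv_cancel_right]; exact z_Z h _)).2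
  have sq : ∀ x e, g * s.p x e * g⁻¹ * (g * s.p x e * g⁻¹) = s.z (qf x) := fun x e => by
    rw [conj_mul, p_sq h, cjZ hk (z_Z h _)]
  have hb : ∀ {x e y e'}, s.p y e' = g * s.p x e * g⁻¹ → ∀ c d b, x = (c, d, b, 0) →
      W₁ t (c, d, b, 0) = (c, d, b, 0) → y.2.1 = t * d ^ 2 := by
    rintro _ e y e' k c d b rfl k'
    have := cm c d b e k'
    rw [← k, ← p_r h, p_conj h, p_zl h] at this
    simpa [bf] using (p_ext h this).2
  obtain ⟨b, nb, k1⟩ := one3 h a (t := fun b => g * s.p (0, 0, b, 0) 0 * g⁻¹) (fun _ => hc _ _)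
    (by rw [conj_mul, p_mul h]; congr 2)
    fun b => ac 0 0 b 0 (by simp [W₁])
  obtain ⟨⟨x1, x2, x3, x4⟩, e1, k2⟩ := (mem_P h).1 (sq_elt h a (hc _ _) k1 (sq _ _ ▸ z_Z h _))
  have h2 : x2 = 0 := by simpa using hb k2 0 0 b rfl (by simp [W₁])
  have n0 : (x1, x2, x3, x4) ≠ 0 := fun e => by
    rw [e, p_z h, ← cjZ hk (z_Z h e1), mul_left_inj, mul_right_inj, ← p_z h] at k2
    exact nb (congrArg (·.2.2.1) (p_ext h k2).1).symm
  have vt : VT (x1, x2, x3, x4) := by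
    by_contra nv
    refine h.pr.noKI _ (h.fr.uA b 0 0) ?_
    rw [← p_u h, ← KI_iff g, ← k2, a.ki]
    refine ⟨z_inj h ?_, n0, nv⟩
    rw [← p_sq h _ e1, k2, sq]
    simp [qf]
  obtain ⟨rfl, rfl, h3⟩ : x1 = 0 ∧ x2 = 0 ∧ x3 * x4 = 0 := vt.2.resolve_right fun k => k.2.2.1 h2
  have h4 := fun p q => fx x3 x4 p q h3 (by
    by_contra! k
    exact n0 (by rw [k.1, k.2]; rfl))
  have key : ∀ d ≠ 0, ∀ e, ∃ y e', s.p y e' = g * s.p (t * d, d, 0, 0) e * g⁻¹ ∧ y.1 = 1 := by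
    intro d nd e
    have fW : W₁ t (t * d, d, 0, 0) = (t * d, d, 0, 0) := by
      simp only [W₁, mul_zero, add_zero, zero_add]
      congr 3
      linear_combination (t ^ 2 * d) * F4.two_eq
    have c0 : g * s.p (t * d, d, 0, 0) e * g⁻¹ * s.p (0, 0, x3, x4) e1 =
        s.p (0, 0, x3, x4) e1 * (g * s.p (t * d, d, 0, 0) e * g⁻¹) := by
      rw [k2, conj_mul, conj_mul, p_mul h, p_mul h, add_comm]
      simp [add_comm]
    obtain k3 | k3 := ac _ d 0 e fW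
    · obtain ⟨y, e', k4⟩ := (mem_P h).1 (sq_elt h a (hc _ _) k3 (sq _ _ ▸ z_Z h _))
      refine ⟨y, e', k4, ?_⟩
      have h5 := hb k4 _ _ _ rfl fW
      have h6 := sq (t * d, d, 0, 0) e
      rw [← k4] at c0 h6
      have h7 := (h4 y.2.2.1 y.2.2.2).1 (by simpa [bf] using bf0 h c0)
      have h8 := z_inj h ((p_sq h y e').symm.trans h6)
      simp only [qf, h5, h7, add_zero, mul_zero] at h8
      exact mul_right_cancel₀ (mul_ne_zero n (pow_ne_zero 2 nd)) (by rw [h8]; ring)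
    · exact absurd (congrArg (·.2.2.2) (fixes h (hc _ _) k3 (by
        rw [c0, mul_inv_cancel_right, mul_inv_cancel]; exact one_mem _))) (h4 0 0).2
  obtain ⟨y1, f1, k3, m1⟩ := key 1 one_ne_zero 0
  obtain ⟨y2, f2, k4, m2⟩ := key F4.w (by decide) 0
  obtain ⟨y3, f3, k5, m3⟩ := key (1 + F4.w) (by decide) (0 + 0 + 1 * (t * F4.w) + 0 * 0)
  have := p_mul h (t * 1, 1, 0, 0) (t * F4.w, F4.w, 0, 0) 0 0
  simp only [Prod.mk_add_mk, ← mul_add, add_zero (0 : F4)] at this k5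
  rw [← this, ← conj_mul, ← k3, ← k4, p_mul h] at k5
  have h5 := congrArg Prod.fst (p_ext h k5).1
  rw [Prod.fst_add, m1, m2, m3] at h5
  exact absurd h5 (by decide)

theorem noG (hd : D s d) (h1 : s.Act d Gm) : False := by
  obtain ⟨g, hg, rfl⟩ := hd
  have hc : ∀ {g q}, g ∈ cen s.Z → q ∈ s.P → g * q * g⁻¹ ∈ cen s.Z := fun hg hq =>
    mul_mem (mul_mem hg (P_cenZ h hq)) (inv_mem hg)
  have hd := hc hg (r_P h 1)
  obtain ⟨c, nc, k1⟩ := one3 h a (t := fun c => g⁻¹ * s.r c * g⁻¹⁻¹) (fun c => hc (inv_mem hg) (r_P h c))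
    (by rw [conj_mul, ← r_add h]; rfl) fun c => (crz h a (hc (inv_mem hg) (r_P h c)) one_ne_zero (by
      have := inv_mem (Gm_r h h1 c)
      rw [← cjZ (inv_mem hg) this] at this
      simpa [mul_assoc] using this)).2
  have k2 := sq_elt h a (hc (inv_mem hg) (r_P h c)) k1 (by rw [conj_mul, r_sq h]; simp)
  have k3 : ∀ x e, s.Act (g * s.p x e * g⁻¹) id → ∃ y e', g * s.p x e * g⁻¹ = s.p y e' ∧ Gm y = y :=
    fun x e k => by
      obtain ⟨y, e', k4⟩ := (mem_P h).1 (sq_elt h a (hc hg (p_mem x e)) k (by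
        rw [conj_mul, p_sq h, cjZ hg (z_Z h _)]; exact z_Z h _))
      refine ⟨y, e', k4.symm, fixes h hd h1 (e := e') ?_⟩
      have := P_cm h (r_P h 1) (p_mem x e)
      rw [← cjZ hg this] at this
      rw [k4]
      simpa [mul_assoc] using this
  have k4 : ∀ x : V4, ∃ t : (F4 × F4 × F4) × Bool, ∃ e e', g * s.p (x + if t.2 then (1, 0, 0, 0) else 0) e
      * g⁻¹ = s.p (t.1.1, t.1.2.1, t.1.2.2, t.1.2.2) e' := fun x => by
    have m : ∀ {y : V4}, Gm y = y → y = (y.1, y.2.1, y.2.2.1, y.2.2.1) := fun {y} k =>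
      Prod.ext rfl (Prod.ext rfl (Prod.ext rfl (congrArg (·.2.2.2) k).symm))
    obtain k | k := (crz h a (hc hg (p_mem x 0)) nc (by
      have := P_cm h (p_mem x 0) k2
      rw [← cjZ hg this] at this
      simpa [mul_assoc] using this)).2
    · obtain ⟨y, e', k5, k6⟩ := k3 x 0 k
      exact ⟨((y.1, y.2.1, y.2.2.1), false), 0, e', by rw [← m k6, ← k5]; simp⟩
    · have := act_mul h (nZ (hc hg (p_mem x 0))) k h1
      rw [GG, conj_mul, ← p_r h, p_mul h] at this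
      obtain ⟨y, e', k5, k6⟩ := k3 _ _ this
      exact ⟨((y.1, y.2.1, y.2.2.1), true), _, e', by rw [← m k6, ← k5]; rfl⟩
  choose t e e' k5 using k4
  refine absurd (Fintype.card_le_of_injective t fun x y k => ?_) (by decide +kernel)
  have k6 := p_zr h ((t y).1.1, (t y).1.2.1, (t y).1.2.2, (t y).1.2.2) (e' y) (e' y + e' x)
  rw [← add_assoc, F4.add_self, zero_add, ← k5, ← k, ← k5, ← cjZ hg (z_Z h _), conj_mul, p_zr h,
    mul_left_inj, mul_right_inj] at k6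
  exact (add_right_cancel (p_ext h k6).1).symm

variable (b : SB s)
include b

/-- reduction to the three normal forms -/
theorem red (hw : w ∈ s.M) (h2 : w * w ∈ s.Z) (h3 : ∀ y ∈ cen s.Z, KI s.K (y * w * y⁻¹) → D s w)
    (h4 : D s w → ∀ t ≠ 0, ∀ e, D s (s.w₁ t * s.z e) → w ∈ s.P)
    (h5 : ∀ y ∈ cen s.Z, s.Act (y * w * y⁻¹) Gm → y * w * y⁻¹ ∈ s.P) : w ∈ s.P := by
  obtain ⟨y, hy, k⟩ := b.inv w hw h2
  have hM := mem_inf.1 (mem_inf.1 (Y_le h hy)).1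
  have hc := mul_mem (mul_mem hM.1 (mem_inf.1 hw).1) (inv_mem hM.1)
  have h6 : y * w * y⁻¹ * (y * w * y⁻¹) ∈ s.Z := by rwa [conj_mul, cjZ hM.1 h2]
  have m : y * w * y⁻¹ ∈ s.P → w ∈ s.P := fun k => by
    simpa [mul_assoc] using conj_mem_of_mem_normalizer (inv_mem hM.2) k
  rcases k with k | ⟨t, n, k⟩ | k
  · exact m (sq_elt h a hc k h6)
  · obtain ⟨q, hq, e, k1⟩ := b.wc _ hc t n k h6
    have hD := h3 y hM.1 ((KI_iff q).1 (k1 ▸ b.wk t n e))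
    exact h4 hD t n e (k1 ▸ D_conj (P_cenZ h hq) (D_conj hM.1 hD))
  · exact m (h5 y hM.1 k)

theorem sh : Sh (cen s.Z) s.Z s.P (D s) where
  two := P_two h
  le := fun _ => P_cenZ h
  vw := Z_le_P h
  cv := le_rfl
  cm := fun _ ha _ hb => P_cm h ha hb
  dc := fun _ hg _ => D_conj hg
  gen := gen h a
  wk := fun d hd k => red h a b hd (by
      obtain ⟨g, -, rfl⟩ := k
      rw [conj_mul, r_sq h]; simp) (fun _ _ _ => k) (fun _ _ n _ k => (noW h a n k).elim)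
    fun y hy k' => (noG h a (D_conj hy k) k').elim

theorem sc (hw : w ∈ s.P) (hg : g ∈ cen s.Z) (k : g * w * g⁻¹ ∈ nor s.P) : g * w * g⁻¹ ∈ s.P := by
  have hc := mul_mem (mul_mem hg (P_cenZ h hw)) (inv_mem hg)
  refine red h a b ⟨hc, k⟩ (by rw [conj_mul, cjZ hg (P_sq h hw)]; exact P_sq h hw)
    (fun y _ k => D_conj hg (KI_D h a hw ((KI_iff g).1 ((KI_iff y).1 k))))
    (fun k1 _ _ _ _ => (sh h a b).wk _ ⟨hc, k⟩ k1) fun y hy k1 => ?_
  have e : y * (g * w * g⁻¹) * y⁻¹ = y * g * w * (y * g)⁻¹ := by group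
  rw [e] at k1 ⊢
  exact (sh h a b).mem (mul_mem hy hg) hw (r_P h 1) ⟨1, one_mem _, by simp⟩
    (fun c hc k => (crz h a hc one_ne_zero k).1)
    (Gm_r h k1 1)

omit a b in
theorem noGW {B B' : Subgroup G} (k : GW (cen s.Z) s.Z s.P B B') : False := by
  obtain ⟨_, hx, -, -, nx, -⟩ := k.two
  obtain ⟨x, e, rfl⟩ := (mem_P h).1 (k.le hx)
  have b0 : ∀ {x y e e'}, s.p x e ∈ B → s.p y e' ∈ B' → bf x y = 0 := fun h1 h2 => bf0 h (k.cb h2 _ h1)
  have ad : ∀ x y y' : V4, bf x (y + y') = bf x y + bf x y' := fun x y y' => by simp [bf]; ring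
  have dec : ∀ y, ∃ y1 e1 y2 e2, s.p y1 e1 ∈ B ∧ s.p y2 e2 ∈ B' ∧ y = y1 + y2 := fun y => by
    obtain ⟨c, hc, c', hc', k1⟩ := k.dec _ (p_mem y 0)
    obtain ⟨y1, e1, rfl⟩ := (mem_P h).1 (k.le hc)
    obtain ⟨y2, e2, rfl⟩ := (mem_P h).1 (k.le' hc')
    exact ⟨y1, e1, y2, e2, hc, hc', (p_ext h ((p_mul h ..).symm.trans k1)).1.symm⟩
  have tr : ∀ y e', s.p y e' ∈ B → s.p y e' ∉ B' → qf y = qf x := fun y e' h1 h2 => by
    obtain ⟨c, hc, k1⟩ := k.tr _ h1 _ hx h2 nx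
    obtain ⟨y1, e1, rfl⟩ := (mem_P h).1 (k.le hc.1)
    obtain rfl : y1 = 0 := by
      by_contra n
      obtain ⟨y, n1, -⟩ := onto y1 n 0
      obtain ⟨y2, e2, y3, e3, h3, h4, rfl⟩ := dec y
      refine n1 ?_
      rw [ad, b0 hc.1 h4, bf0 h (k.cb hc.2 _ h3).symm, add_zero]
    rw [p_mul h 0, zero_add, p_sq h, p_sq h] at k1
    exact z_inj h k1
  obtain ⟨y, n1, n2⟩ := onto x (by rintro rfl; exact nx (k.vb' (p_z h e ▸ z_Z h e))) (qf x)
  obtain ⟨y1, e1, y2, e2, h1, h2, rfl⟩ := dec y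
  rw [ad, b0 hx h2, add_zero] at n1 n2
  have h3 := mul_mem hx h1
  rw [p_mul h] at h3
  have h4 := tr _ _ h3 fun k1 => n1 (by
    have := b0 hx k1
    rw [ad] at this
    simp only [bf] at this ⊢
    linear_combination this - (x.1 * x.2.1 + x.2.2.1 * x.2.2.2) * F4.two_eq)
  have h5 := tr _ _ h1 fun k1 => n1 (b0 hx k1)
  refine n2 ?_
  simp only [qf, bf, Prod.fst_add, Prod.snd_add] at h4 h5 ⊢
  linear_combination h4 - h5 - (x.1 * x.2.1 + x.2.2.1 * x.2.2.2) * F4.two_eq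

theorem cen_le : cen s.Z ≤ nor s.P := by
  obtain ⟨S, hS, h1⟩ := exists_isSyl_le (H := cen s.Z) (P_two h) fun _ => P_cenZ h
  refine (goldW hS h1 (Z_le_P h) le_rfl (fun _ => P_sq h) (fun w hw g hg k => sc h a b hw hg
    ((sh h a b).le_nor hS.isPGroup h1 hS.le k)) fun X h2 h3 h4 o ho q hq => ?_).resolve_right
    fun ⟨_, _, k⟩ => noGW h k
  refine (P_cenO h hq o (a.odd X (fun x hx => mem_cen1.2 (h2 hx _ (z_Z h 1)).symm) h3
    (le_trans (sup_le (fun x hx => ?_) fun x hx => ?_) (fun _ k => h4 (P_cenZ h k))) ho)).symm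
  · obtain ⟨c, -, rfl⟩ := (h.pr.mem x).1 hx
    exact r_P h c
  · obtain ⟨c, d, e, rfl⟩ := (mem_U h).1 hx
    exact p_u h c d e ▸ p_mem _ _

end S4

theorem jobS4 : H88.TE.JobS4.{u} := fun G _ _ s h a b g hg => by
  have e : cj g (cen s.Z) = cen s.Z := (cj_centralizer g _).trans (by rw [cj_eq_self hg])
  have h1 := S4.cen_le h a b
  have h2 : cj g s.P ≤ cen s.Z := (cj_mono g fun _ => P_cenZ h).trans e.le
  exact mem_normalizer_of_cj_le (b.o2 _ (le_inf h2 (h2.trans h1)) (isPGroup_cj g (P_two h))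
    fun y hy => (cj_normalizer g _).le (cj_mono g h1 (e.ge (Y_le h hy).1.1)))

end H21.TE
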