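import Cfsg.Agent.H21.TEC

/-! TE2, job S5 (blueprints/TE2.md): the normalizer of `V₁`. -/

set_option autoImplicit false
set_option linter.unusedSectionVars false
set_option maxRecDepth 100000
set_option synthInstance.maxSize 4096

namespace H21.TE

open Subgroup Cfsg H98 H1.Gold H86.L34 H88.AS H88.TE
open H6 (F4)

universe u

theorem bf_nd {x y : V4} (e : ∀ t, bf x t = bf y t) : x = y :=
  Prod.ext (by simpa [bf] using e (0, 1, 0, 0)) (Prod.ext (by simpa [bf] using e (1, 0, 0, 0))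
    (Prod.ext (by simpa [bf] using e (0, 0, 0, 1)) (by simpa [bf] using e (0, 0, 1, 0))))

theorem bf_smul (c : F4) (x y : V4) : bf (c • x) y = c * bf x y := by
  simp only [bf, Prod.smul_fst, Prod.smul_snd, smul_eq_mul]; ring

theorem sq_inj : ∀ a b : F4, a ^ 2 = b ^ 2 → a = b := by decide

/-- an additive map that squares the form is semilinear -/
theorem semi {φ : V4 → V4} (ha : ∀ x y, φ (x + y) = φ x + φ y)
    (hb : ∀ x y, bf (φ x) (φ y) = bf x y ^ 2) (c d a b : F4) : φ (c, d, a, b) =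
      c ^ 2 • φ (1, 0, 0, 0) + d ^ 2 • φ (0, 1, 0, 0) + φ (0, 0, a, 0) + b ^ 2 • φ (0, 0, 0, 1) := by
  have hs := Finite.surjective_of_injective (f := φ) fun x y e => bf_nd fun t =>
    sq_inj _ _ (by rw [← hb, ← hb, e])
  have hm : ∀ (c : F4) x, φ (c • x) = c ^ 2 • φ x := fun c x => bf_nd fun t => by
    obtain ⟨t, rfl⟩ := hs t
    rw [hb, bf_smul, bf_smul, hb, mul_pow]
  rw [← hm, ← hm, ← hm, ← ha, ← ha, ← ha]
  simp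

theorem rho_pow (a ν c : F4) (n : ℕ) : ((W₁ a ∘ Rho ν)^[n] (c, 0, 0, 0)).1 = ν ^ n * c ∧
    ((W₁ a ∘ Rho ν)^[n] (c, 0, 0, 0)).2.2.2 = 0 := by
  induction n with
  | zero => simp
  | succ n ih =>
    rw [Function.iterate_succ_apply']
    generalize (W₁ a ∘ Rho ν)^[n] (c, 0, 0, 0) = t at ih
    simp [W₁, Rho, ih.1, ih.2, pow_succ', mul_assoc]

theorem pow_two_pow {ν : F4} {k : ℕ} (e : ν ^ 2 ^ k = 1) : ν = 1 := by
  induction k with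
  | zero => simpa using e
  | succ k ih =>
    rw [pow_succ, pow_mul] at e
    exact ih (sq_inj _ _ (by rw [e, one_pow]))

variable {G : Type u} [Group G] [Finite G] {s : SD G} {g f : G} (h : Sz s)
include h

theorem n_norV : s.n ∈ nor s.V₁ := mem_normalizer_of_cj_le (by
  rintro _ ⟨v, hv, rfl⟩
  obtain ⟨a, e, rfl⟩ := (mem_V h).1 hv
  exact (mem_V h).2 ⟨_, _, (h.fr.nu a e).symm⟩)

theorem cj_cenV (hg : g ∈ nor s.V₁) (hf : f ∈ cen s.V₁) : g * f * g⁻¹ ∈ cen s.V₁ :=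
  conj_mem_of_mem_normalizer (normalizer_le_normalizer_centralizer _ hg) hf

theorem p_cenV (c d a e : F4) : s.p (c, d, a, 0) e ∈ cen s.V₁ := mem_cenV.2 fun a' e' => by
  rw [← p_u h, p_conj h]; simp [bf]

theorem gen_two (y c d a e : F4) : s.w₁ y * s.p (c, d, a, 0) e ∈ cen s.V₁ ∧
    ∃ k, (s.w₁ y * s.p (c, d, a, 0) e) ^ 2 ^ k = 1 := by
  refine ⟨mul_mem (w₁_cenV h y) (p_cenV h c d a e), 3, ?_⟩
  have : (s.w₁ y * s.p (c, d, a, 0) e) ^ 2 =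
      s.w₁ y * s.p (c, d, a, 0) e * (s.w₁ y)⁻¹ * s.p (c, d, a, 0) e := by
    rw [inv_eq_of_mul_eq_one_right (w₁_sq h y), pow_two]; group
  rw [show 2 ^ 3 = 2 * 4 from rfl, pow_mul, this, w₁_p h]
  exact P_four h (mul_mem (p_mem _ _) (p_mem _ _))

/-- an element that fixes `Z` pointwise and `r 1` up to a scalar is brought into `N` -/
theorem adj_N {ν e : F4} (n : ν ≠ 0) (k : g * s.r 1 * g⁻¹ = s.p (ν, 0, 0, 0) e) :
    ∃ d, s.β d * g ∈ s.N := ⟨e * ν⁻¹, mem_N h (c := 1) n (by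
  calc _ = s.β (e * ν⁻¹) * (g * s.r 1 * g⁻¹) * (s.β (e * ν⁻¹))⁻¹ := by group
    _ = _ := by
      rw [k, ← p_β h, p_conj h, ← p_r h]
      exact p_cg h rfl (by simp [bf, n]))⟩

theorem β_v (d a e : F4) : s.β d * s.u a 0 e * (s.β d)⁻¹ = s.u a 0 e := by
  rw [(h.loc.βu ..).eq, mul_inv_cancel_right]

variable (hb : SB s) (hZ : nor s.Z ≤ nor s.P)
include hb hZ

theorem cV (hg : g ∈ cen s.V₁) : ∃ a ν, ν ≠ 0 ∧ s.Act g (W₁ a ∘ Rho ν) := by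
  obtain ⟨a, ν, n, k | k⟩ := hb.stab g ⟨cenV_le hg, hZ (nZ (cenV_le hg))⟩ (centralizer_le_normalizer _ hg)
  · exact ⟨a, ν, n, k⟩
  obtain ⟨e, k⟩ := k (1, 0, 0, 0)
  have h1 := conj_mem_of_mem_normalizer (hZ (nZ (cenV_le (cj_cenV h (n_norV h) hg)))) (p_mem (1, 0, 0, 0) 0)
  have h2 : s.n * g * s.n⁻¹ * s.p (1, 0, 0, 0) 0 * (s.n * g * s.n⁻¹)⁻¹ =
      s.w₁ (ν ^ 2) * s.u e 0 (a ^ 2 * ν ^ 2) := by
    calc _ = s.n * (g * (s.n⁻¹ * s.p (1, 0, 0, 0) 0 * s.n) * g⁻¹) * s.n⁻¹ := by group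
      _ = _ := by
        rw [p_r h, mul_assoc s.n⁻¹, ← r_A h 1 h.fr.nA, inv_mul_cancel_left, ← p_r h, k, ← h.fr.nu, SD.w₁,
          conj_mul]
        simp [SD.p, W₁, Rho, G0, r_zero h]
  rw [h2, Subgroup.mul_mem_cancel_right _ (p_u h e 0 _ ▸ p_mem _ _)] at h1
  obtain ⟨x, e', h3⟩ := (mem_P h).1 h1
  have := congrFun (act_uniq h (h3 ▸ act_p h x e') (act_w₁ h _)) (1, 0, 0, 0)
  simp [W₁, n, eq_comm] at this

theorem two_cV (hg : g ∈ cen s.V₁) (h2 : ∃ k, g ^ 2 ^ k = 1) :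
    ∃ y c d a e, s.w₁ y * s.p (c, d, a, 0) e = g := by
  obtain ⟨y, ν, n, k⟩ := cV h hb hZ hg
  obtain ⟨m, hm'⟩ := id h2
  have h1 := act_uniq h (act_pow h (nZ (cenV_le hg)) k (2 ^ m)) (hm' ▸ p_one h ▸ act_p h 0 0)
  obtain rfl := pow_two_pow (by simpa [h1] using (rho_pow y ν 1 (2 ^ m)).1.symm)
  obtain ⟨⟨c, d, a, b⟩, e, rfl⟩ := hb.wa g (cenV_le hg) y (by
    simpa [show Rho 1 = id from funext fun x => by simp [Rho]] using k) h2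
  have h3 := mem_cenV.1 ((Subgroup.mul_mem_cancel_left _ (w₁_cenV h y)).1 hg) 1 0
  rw [← p_u h, p_conj h] at h3
  obtain rfl : b = 0 := by simpa [bf] using (p_ext h h3).2
  exact ⟨y, c, d, a, e, rfl⟩

theorem cj_gen (hg : g ∈ nor s.V₁) (y c d a e : F4) : ∃ y' c' d' a' e',
    s.w₁ y' * s.p (c', d', a', 0) e' = g * (s.w₁ y * s.p (c, d, a, 0) e) * g⁻¹ :=
  two_cV h hb hZ (cj_cenV h hg (gen_two h y c d a e).1) ((gen_two h y c d a e).2.imp fun k e => by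
    rw [conj_pow, e]; simp)

theorem nF : nor s.V₁ ≤ nor s.F₁ := fun g hg => mem_normalizer_of_cj_le (by
  rw [SD.F₁, cj, MonoidHom.map_closure, closure_le]
  rintro _ ⟨_, ⟨y, c, d, a, e, rfl⟩, rfl⟩
  exact subset_closure (cj_gen h hb hZ hg y c d a e))

omit hb hZ in
theorem com_F (y c' d' a' e' c d a e : F4) :
    s.w₁ y * s.p (c', d', a', 0) e' * s.p (c, d, a, 0) e * (s.w₁ y * s.p (c', d', a', 0) e')⁻¹ *
      (s.p (c, d, a, 0) e)⁻¹ = s.u (c * y + y ^ 2 * d) 0 (y * d ^ 2 + c' * d + d' * c) := by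
  calc _ = s.w₁ y * (s.p (c', d', a', 0) e' * s.p (c, d, a, 0) e * (s.p (c', d', a', 0) e')⁻¹) *
      (s.w₁ y)⁻¹ * (s.p (c, d, a, 0) e)⁻¹ := by group
    _ = _ := by
      rw [p_conj h, w₁_p h, p_inv h, p_mul h, ← p_u h]
      refine p_cg h ?_ ?_
      · simp only [W₁, Prod.mk_add_mk]
        ext <;> simp only
        exacts [by simp, by simp, by linear_combination a * F4.two_eq, by simp]
      · simp only [W₁, bf, qf]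
        linear_combination (e + c * d) * F4.two_eq

theorem hyp (hg : g ∈ nor s.V₁) (hc : Commute g (s.z 1)) (a e : F4) (ha : a = 0 ∨ a = 1) :
    ∃ a' e', (a' = 0 ∨ a' = 1) ∧ g * s.u a 0 e * g⁻¹ = s.u a' 0 e' := by
  obtain ⟨y, rfl⟩ := (by decide : ∀ a : F4, a = 0 ∨ a = 1 → ∃ y : F4, 1 * y + y ^ 2 * 1 = a) a ha
  obtain ⟨y', c', d', a', e', k⟩ := cj_gen h hb hZ hg y (e + y) 0 0 0
  obtain ⟨y₀, c, d, a, e₀, k₀⟩ := cj_gen h hb hZ hg 0 1 1 0 0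
  rw [w₁_zero h, one_mul] at k₀
  have sq : s.w₁ y₀ * s.p (c, d, a, 0) e₀ * (s.w₁ y₀)⁻¹ * s.p (c, d, a, 0) e₀ = s.p 0 1 := by
    rw [inv_eq_of_mul_eq_one_right (w₁_sq h y₀), mul_assoc, k₀, conj_mul, p_sq h, p_z h]
    simpa [qf] using mul_inv_eq_iff_eq_mul.2 hc.eq
  rw [w₁_p h, p_mul h] at sq
  obtain ⟨rfl, h2⟩ : y₀ = 0 ∧ c * d = 1 := by
    have h3 : a + c * y₀ + y₀ ^ 2 * d + a = 0 := by simpa [W₁] using congrArg (·.2.2.1) (p_ext h sq).1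
    have h4 : e₀ + y₀ * d ^ 2 + e₀ + d * c = 1 := by simpa [W₁] using (p_ext h sq).2
    exact (by decide : ∀ y c d : F4, c * y + y ^ 2 * d = 0 → y * d ^ 2 + d * c = 1 → y = 0 ∧ c * d = 1)
      _ _ _ (by linear_combination h3 - a * F4.two_eq) (by linear_combination h4 - e₀ * F4.two_eq)
  rw [w₁_zero h, one_mul] at k₀
  refine ⟨_, y' * d ^ 2 + c' * d + d' * c, (by decide : ∀ y c d : F4, c * d = 1 →
    c * y + y ^ 2 * d = 0 ∨ c * y + y ^ 2 * d = 1) y' c d h2, ?_⟩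
  rw [← com_F h y' c' d' a' e' c d a e₀, k, k₀, conj_inv, conj_inv, conj_mul, conj_mul, conj_mul, com_F h]
  congr 2
  exact cg s.u rfl rfl (by linear_combination (-y) * F4.two_eq)

omit hb hZ in
theorem y0 (b c : F4) : s.w₂ 1 * s.w₁ 1 * s.u 0 b c * (s.w₂ 1 * s.w₁ 1)⁻¹ = s.u b 0 (c + b ^ 2) := by
  calc _ = s.w₂ 1 * (s.w₁ 1 * s.u 0 b c * (s.w₁ 1)⁻¹) * (s.w₂ 1)⁻¹ := by group
    _ = _ := by
      rw [← p_u h, w₁_p h, W₁, w₂_p h, ← p_u h]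
      refine p_cg h (by simp [W₂]) ?_
      simp only
      linear_combination (b ^ 2) * F4.two_eq

omit hb hZ in
theorem x0 : ∃ x ∈ cen s.O, ∀ a e, x * s.u a 0 e * x⁻¹ = s.u (a ^ 2) 0 (e ^ 2 + a) := by
  have hy := mul_mem (w₂_cenO h 1) (w₁_cenO h 1)
  have k := y0 h
  generalize s.w₂ 1 * s.w₁ 1 = y at hy k
  refine ⟨s.n * y * s.m * y⁻¹ * s.n⁻¹, mul_mem (mul_mem (mul_mem (mul_mem (A_cenO h h.fr.nA) hy)
    (A_cenO h h.fr.mA)) (inv_mem hy)) (inv_mem (A_cenO h h.fr.nA)), fun a e => ?_⟩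
  have h1 : s.u a 0 e = s.n * (y * s.u 0 e (a + e ^ 2) * y⁻¹) * s.n⁻¹ := by
    rw [k, h.fr.nu, add_assoc, F4.add_self, add_zero]
  calc _ = s.n * (y * (s.m * s.u 0 e (a + e ^ 2) * s.m⁻¹) * y⁻¹) * s.n⁻¹ := by rw [h1]; group
    _ = _ := by
      rw [h.fr.mu, k, h.fr.nu]
      exact cg s.u ((by decide : ∀ a e : F4, e + (a + e ^ 2) ^ 2 = a ^ 2) a e) rfl (add_comm _ _)

variable (ha : SA s)
include ha

theorem x1 : ∃ x ∈ cen s.O, ∃ ν ≠ 0, (∀ a e, x * s.u a 0 e * x⁻¹ = s.u (a ^ 2) 0 (e ^ 2 + a)) ∧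
    s.Act x fun t => (ν ^ 2 * t.2.1 ^ 2, ν * t.1 ^ 2, t.2.2.1 ^ 2, t.2.2.2 ^ 2) := by
  have key : ∀ x, (∀ a e, x * s.u a 0 e * x⁻¹ = s.u (a ^ 2) 0 (e ^ 2 + a)) → x ∈ nor s.Z ∧
      ∃ φ, s.Act x φ ∧ (∀ t t', bf (φ t) (φ t') = bf t t' ^ 2) ∧ (∀ t, qf (φ t) = qf t ^ 2) ∧
        ∀ a, φ (0, 0, a, 0) = (0, 0, a ^ 2, 0) := fun x k => by
    have kz : ∀ e, x * s.z e * x⁻¹ = s.z (e ^ 2) := fun e => by simpa using k 0 e
    have xZ : x ∈ nor s.Z := mem_normalizer_of_cj_le (by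
      rintro _ ⟨v, hv, rfl⟩
      obtain ⟨e, rfl⟩ := (mem_Z h).1 hv
      exact (mem_Z h).2 ⟨_, (kz e).symm⟩)
    obtain ⟨φ, hφ⟩ := act_ex h (hZ xZ)
    refine ⟨xZ, φ, hφ, fun t t' => z_inj h ((act_bf h hφ t t').symm.trans (kz _)),
      fun t => z_inj h ((act_qf h hφ t).symm.trans (kz _)), fun a => ?_⟩
    obtain ⟨e, he⟩ := hφ (0, 0, a, 0)
    rw [p_u h, k, ← p_u h] at he
    exact (p_ext h he).1.symm
  obtain ⟨x, xO, k⟩ := x0 h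
  obtain ⟨y, hy⟩ : ∃ y, ∃ e, s.w₁ y * x * s.p (0, 0, 0, 1) 0 * (s.w₁ y * x)⁻¹ = s.p (0, 0, 0, 1) e := by
    obtain ⟨-, φ, h1, h2, h3, h4⟩ := key x k
    obtain ⟨e, he⟩ := h1 (0, 0, 0, 1)
    have h5 := mt (ha.ki _ e).2 (he ▸ mt (KI_iff x).1 (mt (ha.ki _ 0).1 (by decide)))
    have h6 := h2 (0, 0, 0, 1) (0, 0, 1, 0)
    have h7 := h3 (0, 0, 0, 1)
    rw [h4] at h6
    generalize φ (0, 0, 0, 1) = t at he h5 h6 h7
    obtain ⟨y, hy⟩ := (by decide +kernel : ∀ t : V4, ¬ (qf t = 0 ∧ t ≠ 0 ∧ ¬ VT t) →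
      bf t (0, 0, 1 ^ 2, 0) = bf (0, 0, 0, 1) (0, 0, 1, 0) ^ 2 → qf t = qf (0, 0, 0, 1) ^ 2 →
      ∃ y, W₁ y t = (0, 0, 0, 1)) t h5 h6 h7
    refine ⟨y, hy ▸ act_all h (nZ (cenV_le (w₁_cenV h y))) (act_w₁ h y) t e |>.imp fun e' k' => ?_⟩
    rw [← k', ← he]
    group
  have k' : ∀ a e, s.w₁ y * x * s.u a 0 e * (s.w₁ y * x)⁻¹ = s.u (a ^ 2) 0 (e ^ 2 + a) := fun a e => by
    rw [← w₁_u h y (a ^ 2), ← k]; group
  have xO' := mul_mem (w₁_cenO h y) xO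
  generalize s.w₁ y * x = x at hy k' xO'
  obtain ⟨xZ, φ, h1, h2, h3, h4⟩ := key x k'
  have h5 : φ (0, 0, 0, 1) = (0, 0, 0, 1) := by
    obtain ⟨e, he⟩ := h1 (0, 0, 0, 1)
    exact (p_ext h (he.symm.trans hy.choose_spec)).1
  have b1 := fun t => h2 t (0, 0, 1, 0)
  have b2 := fun t => h2 t (0, 0, 0, 1)
  rw [h4] at b1
  rw [h5] at b2
  obtain ⟨ν, n, h6⟩ : ∃ ν ≠ 0, φ (1, 0, 0, 0) = (0, ν, 0, 0) ∧ φ (0, 1, 0, 0) = (ν ^ 2, 0, 0, 0) := by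
    obtain ⟨ν, n, h6 | h6⟩ := (by decide +kernel : ∀ t : V4, bf t (0, 0, 1 ^ 2, 0) = 0 →
      bf t (0, 0, 0, 1) = 0 → qf t = 0 → ∀ t' : V4, bf t' (0, 0, 1 ^ 2, 0) = 0 → bf t' (0, 0, 0, 1) = 0 →
      qf t' = 0 → bf t t' = 1 → ∃ ν : F4, ν ≠ 0 ∧ (t = (0, ν, 0, 0) ∧ t' = (ν ^ 2, 0, 0, 0) ∨
        t = (ν, 0, 0, 0))) _ (b1 (1, 0, 0, 0)) (b2 _) (h3 _) _ (b1 (0, 1, 0, 0)) (b2 _) (h3 _) (h2 _ _)
    · exact ⟨ν, n, h6⟩
    obtain ⟨e, he⟩ := h1 (1, 0, 0, 0)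
    obtain ⟨d, hd⟩ := adj_N h n (p_r h 1 ▸ h6 ▸ he)
    have k2 : ∀ a e, s.β d * x * s.u a 0 e * (s.β d * x)⁻¹ = s.u (a ^ 2) 0 (e ^ 2 + a) := fun a e => by
      rw [← β_v h d (a ^ 2), ← k']; group
    obtain ⟨a', b', l, m, σ, τ, -, -, h7⟩ := h.fr.aut _ hd (h.fr.norU _ hd 1 one_ne_zero 1 (by
      simpa using k2 0 1))
    have h8 : ∀ a, s.u a' b' 0 * (s.β d * x) * s.u a 0 0 * (s.u a' b' 0 * (s.β d * x))⁻¹ =
        s.u (a ^ 2) 0 (a + b' * a ^ 2) := fun a => by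
      rw [← show 0 ^ 2 + a + a' * 0 + b' * a ^ 2 = a + b' * a ^ 2 by ring, ← (hm h).conj _ _ 0, ← k2]
      group
    have h9 := fun a => (h8 a).symm.trans (h7 a 0 0)
    cases τ
    · have f0 : fr σ 0 = 0 := by cases σ <;> simp [fr]
      simp only [Bool.false_eq_true, if_false, f0, mul_zero] at h9
      exact absurd ⟨((hm h).ext (h9 1)).2.2, ((hm h).ext (h9 F4.w)).2.2⟩
        ((by decide : ∀ b : F4, ¬ (1 + b * 1 ^ 2 = 0 ∧ F4.w + b * F4.w ^ 2 = 0)) b')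
    · have := ((hm h).ext (h9 1)).1
      cases σ <;> simp [fr] at this
  refine ⟨x, xO', ν, n, k', ?_⟩
  convert h1 using 1
  funext ⟨c, d, a, b⟩
  rw [semi (act_add h xZ h1) h2, h6.1, h6.2, h4, h5]
  simp [mul_comm]

theorem x2 : ∃ x ∈ cen s.O, s.Act x Xs ∧ ∀ a e, x * s.u a 0 e * x⁻¹ = s.u (a ^ 2) 0 (e ^ 2 + a) := by
  obtain ⟨x, xO, ν, n, k, h1⟩ := x1 h hb hZ ha
  obtain ⟨y, hy, h2⟩ := hb.rho ν n
  obtain ⟨⟨yZ, -⟩, yO⟩ := Y_le h hy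
  obtain ⟨e, he⟩ := h2 (1, 0, 0, 0)
  obtain ⟨d, hd⟩ := adj_N h (e := e) n (by simpa [p_r h, Rho] using he)
  have bZ := mul_mem (P_cenZ h (p_β h d ▸ p_mem _ _)) yZ
  obtain ⟨q, hq, a', b, c, h3⟩ := h.fr.tri₁ _ hd (fun e => mul_inv_eq_iff_eq_mul.1 (mem_cenZ.1 bZ e))
    fun a => by
      obtain ⟨e, he⟩ := h2 (0, 0, a, 0)
      simp only [Rho, mul_zero, p_u h] at he
      exact ⟨e, by rw [← β_v h d a e, ← he]; group⟩
  have h4 : ∀ a e, s.u 0 b 0 * y * s.u a 0 e * (s.u 0 b 0 * y)⁻¹ = s.u a 0 e := fun a e => by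
    calc _ = s.u 0 b 0 * ((s.β d)⁻¹ * (s.β d * y * s.u a 0 e * (s.β d * y)⁻¹) * s.β d) * (s.u 0 b 0)⁻¹ := by
          group
      _ = s.u 0 b 0 * ((s.β d)⁻¹ * (q * (s.u a' b c * s.u a 0 e * (s.u a' b c)⁻¹) * q⁻¹) * s.β d) *
          (s.u 0 b 0)⁻¹ := by rw [h3]; group
      _ = _ := by
        rw [(hm h).conj, ← hq _ (h.fr.uA ..), mul_inv_cancel_right, mul_assoc _ _ (s.β d),
          ← (h.loc.βu ..).eq, inv_mul_cancel_left, (hm h).conj]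
        exact cg s.u rfl rfl (by linear_combination (b * a) * F4.two_eq)
  have vP : s.u 0 b 0 ∈ s.P := p_u h 0 b 0 ▸ p_mem _ _
  refine ⟨s.u 0 b 0 * y * x, mul_mem (mul_mem (P_cenO h vP) yO) xO, ?_, fun a e => by
    rw [← h4 (a ^ 2), ← k]; group⟩
  have := act_mul h (nZ (mul_mem (P_cenZ h vP) yZ))
    (act_mul h (nZ (P_cenZ h vP)) (p_u h 0 b 0 ▸ act_p h _ _) h2) h1
  convert this using 1
  funext t
  simp only [Xs, Rho, Function.comp_apply, id, ← mul_assoc, ← pow_succ, ← pow_succ', F4.cube ν n, one_mul]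

omit h hb hZ ha in
theorem jobS5 : JobS5.{u} := fun _ _ _ s h ha hb hZ => by
  obtain ⟨x, xO, h1, k⟩ := x2 h hb hZ ha
  have key : ∀ a e, s.n * x * s.u 0 1 0 * s.n * s.u 0 F4.w 0 * s.u a 0 e *
      (s.n * x * s.u 0 1 0 * s.n * s.u 0 F4.w 0)⁻¹ =
      s.u ((a + e + F4.w * a) ^ 2 + (e + F4.w * a)) 0 ((e + F4.w * a) ^ 2) := fun a e => by
    calc _ = s.n * (x * (s.u 0 1 0 * (s.n * (s.u 0 F4.w 0 * s.u a 0 e * (s.u 0 F4.w 0)⁻¹) * s.n⁻¹) *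
        (s.u 0 1 0)⁻¹) * x⁻¹) * s.n⁻¹ := by group
      _ = _ := by
        rw [(hm h).conj, h.fr.nu, (hm h).conj, k, h.fr.nu]
        exact cg s.u (by ring) rfl (by ring)
  have A := fun {a} (ha : a ∈ s.A) => A_cenO h ha
  exact ⟨x, _, fun _ => cV h hb hZ, nF h hb hZ, fun _ => hyp h hb hZ, xO, h1, k,
    mul_mem (mul_mem (mul_mem (mul_mem (A h.fr.nA) xO) (A (h.fr.uA ..))) (A h.fr.nA)) (A (h.fr.uA ..)),
    key 0 1, key 0 F4.w, key 1 0, key F4.w 0⟩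

end H21.TE
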