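import Cfsg.Agent.H88.TELoc
import Cfsg.Agent.H44.TeF1
import Cfsg.Agent.H44.TeF2c
import Cfsg.Agent.H25.TEP
import Cfsg.Agent.H92.TEC0
import Cfsg.Agent.H92.TEC2
import Cfsg.Agent.H33.TEC1
import Cfsg.Agent.H48.TeC3
import Cfsg.Agent.H48.TeS1
import Cfsg.Agent.H92.TES2
import Cfsg.Agent.H21.TES4
import Cfsg.Agent.H21.TES5
import Cfsg.Agent.H52.TeS6
import Cfsg.Agent.H52.TeS7
import Cfsg.Agent.H86.TES8
import Cfsg.Agent.H55.Basic
import Cfsg.Agent.H57.SLGen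

/-! TE2 (blueprints/TE2.md): assembly. -/

set_option autoImplicit false

namespace H21.TE

open Subgroup Cfsg H98 H14 H1.Gold H88.TE
open H6 (F4)

universe u

/-- Rescaling of the coordinates. -/
def Resc : Prop := ∀ (G : Type u) [Group G] [Finite G] (d : Dt G) (R : Subgroup G) (r : F4 → G)
  (O : Subgroup G) (β : F4 → G) (γ₁ γ₂ : F4), Fr d → Pr d true R r → Loc d true R r O β γ₁ γ₂ →
  γ₁ * γ₂ = 1 → ∃ s : SD G, s.A = d.A ∧ Sz s

variable {G : Type u} [Group G] [Finite G]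

theorem sz_of (hr : Resc.{u}) (h3 : JobS3.{u}) {d : Dt G} {R : Subgroup G} {r : F4 → G}
    (f : Fr d) (p : Pr d true R r) : ∃ (s : SD G) (j : G) (Q S : Subgroup G), s.A = d.A ∧ Sz s ∧ SA s ∧
      SB s ∧ nor s.Z ≤ nor s.P ∧ (∃ x, SX s x j) ∧ SQ s j Q ∧ SE s Q S := by
  obtain ⟨O, β, γ₁, γ₂, l⟩ := exists_loc f p
  obtain ⟨s, e, h⟩ := hr G d R r O β γ₁ γ₂ f p l (H48.TeS1.jobS1 G d R r O β γ₁ γ₂ f p l)
  have a := H92.TES.jobS2 G s h
  have b := h3 G s h a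
  have c := jobS4 G s h a b
  obtain ⟨x, j, k⟩ := jobS5 G s h a b c
  obtain ⟨Q, q⟩ := H52.TeS6.jobS6 h G s x j h a b c k
  obtain ⟨S, t⟩ := H52.TeS7.jobS7 G s x j Q h a b c k q
  exact ⟨s, j, Q, S, e, h, a, b, c, ⟨x, k⟩, q, t⟩

/-- the pair analysis in a simple group -/
theorem pr_of [IsSimpleGroup G] {A : Subgroup G} (hA : IsStandardSubgroup A)
    (ho : Odd (Nat.card (center A)))
    (φ : Nonempty ((A ⧸ center A) ≃* Matrix.ProjectiveSpecialLinearGroup (Fin 3) F4)) :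
    ∃ (d : Dt G) (big : Bool) (R : Subgroup G) (r : F4 → G), d.A = A ∧ Fr d ∧ Pr d big R r := by
  obtain ⟨d, rfl, f0⟩ := H44.Te.jobF1 G A hA ho φ
  have f := H44.Te.jobF2 G d f0
  obtain ⟨t, ht, ot⟩ := exists_involution_mem (even_iff_two_dvd.1 hA.2.1.1)
  have e : normalClosure (cen d.A : Set G) = ⊤ := normalClosure_normal.eq_bot_or_eq_top.resolve_left
    fun e => ne_one_of_two ot (mem_bot.1 (e ▸ subset_normalClosure ht))
  obtain ⟨big, R, r, p⟩ := H25.TE.jobP G d f (ex_pair hA (fun n => by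
    rcases n.eq_bot_or_eq_top with k | k
    · exact absurd (f.hm.inj (mem_bot.1 (k ▸ f.uA 0 0 1))).2.2 (by decide)
    · exact absurd (ot ▸ f.zodd t (k ▸ mem_top t) ht) (by decide)) (e ▸ le_top)
    (f0.twoRank (e ▸ le_top)))
  exact ⟨d, big, R, r, rfl, f, p⟩

theorem not_small [IsSimpleGroup G] (hG : ¬ IsMulCommutative G) {d : Dt G} {R : Subgroup G} {r : F4 → G}
    (f : Fr d) (p : Pr d false R r) : False := by
  obtain ⟨O, β, γ₁, γ₂, l⟩ := exists_loc f p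
  obtain rfl := l.s₁.small
  obtain rfl := l.s₂.small
  have c := H92.TE.jobC0 G d R r O β f p l
  exact (H33.TE.jobC1 G d R r O β f p l c).elim (H92.TE.jobC2 G _ _ _ hG c) (H48.TeC3.jobC3 G _ _ _ hG c)

theorem suz_of (hr : Resc.{u}) (h3 : JobS3.{u}) [IsSimpleGroup G]
    (hG : ¬ IsMulCommutative G) {A : Subgroup G} (hA : IsStandardSubgroup A)
    (ho : Odd (Nat.card (center A)))
    (φ : Nonempty ((A ⧸ center A) ≃* Matrix.ProjectiveSpecialLinearGroup (Fin 3) F4)) :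
    Spor.IsoSuz G := by
  obtain ⟨d, big, R, r, -, f, p⟩ := pr_of hA ho φ
  cases big
  · exact (not_small hG f p).elim
  obtain ⟨s, j, Q, S, -, h, -, -, -, -, q, t⟩ := sz_of hr h3 f p
  exact H86.TE8.jobS8 G s j Q S hG h q t

theorem s1748_of (hr : Resc.{u}) (h3 : JobS3.{u}) [IsSimpleGroup G]
    (hG : ¬ IsMulCommutative G) (L : Subgroup G) (hL : IsStandardSubgroup L) {F : Type*} [Field F]
    [Fintype F] (hF : Fintype.card F = 4)
    (hLX : Nonempty (L ≃* Matrix.ProjectiveSpecialLinearGroup (Fin 3) F)) : Spor.IsoSuz G := by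
  obtain ⟨φ⟩ := hLX
  have := H57.psl_isSimpleGroup_of_three_le (ι := Fin 3) (F := F) (by simp)
  have := φ.isSimpleGroup
  have e : center L = ⊥ :=
    (inferInstance : (center L).Normal).eq_bot_or_eq_top.resolve_right (quasi_center_ne_top hL.1)
  exact suz_of hr h3 hG hL (by rw [e, card_bot]; exact odd_one)
    ⟨((QuotientGroup.quotientMulEquivOfEq e).trans QuotientGroup.quotientBot).trans
      (φ.trans (H55.pslCongr (FiniteField.ringEquivOfCardEq (hF.trans F4.card_eq.symm))))⟩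

end H21.TE
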