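import Cfsg.Agent.H88.TESpec2

/-! TE2 (blueprints/TE2.md, part 2): coordinates on `P`, the action of `w₁`, `w₂`. -/

set_option autoImplicit false
set_option linter.unusedSectionVars false
set_option maxRecDepth 100000
set_option synthInstance.maxSize 4096

namespace H21.TE

open Subgroup Cfsg H98 H1.Gold H86.L34 H88.AS H88.TE
open H6 (F4)

universe u
variable {G : Type u} [Group G] {s : SD G} {g g' : G} {x y : V4} {φ ψ : V4 → V4}

theorem mem_cen1 {a b : G} : a ∈ cen1 b ↔ a * b = b * a := mem_centralizer_singleton_iff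

theorem mem_cenZ : g ∈ cen s.Z ↔ ∀ e, g * s.z e * g⁻¹ = s.z e := by
  simp only [Dt.Z, cen, centralizer_closure, mem_centralizer_iff, Set.mem_ofPred_eq,
    forall_exists_index, mul_inv_eq_iff_eq_mul]
  exact ⟨fun h e => (h _ e rfl).symm, by rintro h _ e rfl; exact (h e).symm⟩

theorem mem_cenV : g ∈ cen s.V₁ ↔ ∀ a e, g * s.u a 0 e * g⁻¹ = s.u a 0 e := by
  simp only [Dt.V₁, cen, centralizer_closure, mem_centralizer_iff, Set.mem_ofPred_eq,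
    forall_exists_index, mul_inv_eq_iff_eq_mul]
  exact ⟨fun h a e => (h _ a e rfl).symm, by rintro h _ a e rfl; exact (h a e).symm⟩

theorem cenV_le (hg : g ∈ cen s.V₁) : g ∈ cen s.Z := mem_cenZ.2 fun e => mem_cenV.1 hg 0 e

theorem p_mem (x : V4) (e : F4) : s.p x e ∈ s.P := subset_closure ⟨x, e, rfl⟩

variable (h : Sz s)
include h

theorem hm : HM s.u := h.fr.hm

theorem r_add (c c' : F4) : s.r (c + c') = s.r c * s.r c' := h.pr.add c c' (.inl rfl) (.inl rfl)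

theorem r_zero : s.r 0 = 1 := by simpa using r_add h 0 0

theorem r_R (c : F4) : s.r c ∈ s.R := (h.pr.mem _).2 ⟨c, .inl rfl, rfl⟩

theorem r_K (c : F4) : s.r c ∈ s.K := h.pr.syl.le (r_R h c)

theorem r_A (c : F4) {a : G} (ha : a ∈ s.A) : a * s.r c = s.r c * a := r_K h c a ha

theorem β_zero : s.β 0 = 1 := by simpa using h.loc.add 0 0

theorem β_sq (d : F4) : s.β d * s.β d = 1 := by rw [← h.loc.add, F4.add_self, β_zero h]

theorem r_sq (c : F4) : s.r c * s.r c = 1 := by rw [← r_add h, F4.add_self, r_zero h]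

theorem r_ord {c : F4} (n : c ≠ 0) : orderOf (s.r c) = 2 :=
  orderOf_eq_prime ((pow_two _).trans (r_sq h c)) fun e => n (h.pr.inj c (.inl rfl) e)

theorem β_r (d c : F4) : s.β d * s.r c = s.r c * s.z (c * d) * s.β d :=
  mul_inv_eq_iff_eq_mul.1 (h.loc.βr d c (.inl rfl))

theorem p_u (a b e : F4) : s.p (0, 0, a, b) e = s.u a b e := by simp [SD.p, r_zero h, β_zero h]

theorem p_r (c : F4) : s.p (c, 0, 0, 0) 0 = s.r c := by simp [SD.p, β_zero h, (hm h).one]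

theorem p_β (d : F4) : s.p (0, d, 0, 0) 0 = s.β d := by simp [SD.p, r_zero h, (hm h).one]

theorem p_z (e : F4) : s.p 0 e = s.z e := p_u h 0 0 e

theorem p_one : s.p 0 0 = 1 := (p_z h 0).trans (hm h).one

theorem p_mul (x y : V4) (e e' : F4) :
    s.p x e * s.p y e' = s.p (x + y) (e + e' + x.2.1 * y.1 + x.2.2.1 * y.2.2.2) := by
  obtain ⟨c, d, a, b⟩ := x
  obtain ⟨c', d', a', b'⟩ := y
  have h1 := r_A h c' (h.fr.uA a b e)
  have h2 := (h.loc.βu d' a b e).eq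
  have h3 := (h.loc.βu (d + d') 0 0 (c' * d)).eq
  simp only [SD.p, Prod.mk_add_mk]
  calc _ = s.r c * s.β d * (s.u a b e * s.r c') * s.β d' * s.u a' b' e' := by group
    _ = s.r c * (s.β d * s.r c') * (s.u a b e * s.β d') * s.u a' b' e' := by rw [h1]; group
    _ = s.r c * s.r c' * (s.z (c' * d) * (s.β d * s.β d')) * (s.u a b e * s.u a' b' e') := by
      rw [β_r h, ← h2]; group
    _ = _ := by
      rw [← r_add h, ← h.loc.add, ← h3, (hm h).mul, ← mul_assoc, mul_assoc _ (s.z _), (hm h).mul]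
      congr 1
      exact cg s.u (zero_add _) (zero_add _) (by ring)

theorem p_cg {e e' : F4} (h1 : x = y) (h2 : e = e') : s.p x e = s.p y e' := by rw [h1, h2]

theorem v_self (x : V4) : x + x = 0 := by ext <;> simp

theorem p_inv (x : V4) (e : F4) : (s.p x e)⁻¹ = s.p x (e + qf x) := by
  refine inv_eq_of_mul_eq_one_right ?_
  rw [p_mul h, v_self h, ← p_one h]
  exact p_cg h rfl (by simp only [qf]; linear_combination (e + x.1 * x.2.1 + x.2.2.1 * x.2.2.2) * F4.two_eq)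

theorem p_sq (x : V4) (e : F4) : s.p x e * s.p x e = s.z (qf x) := by
  rw [p_mul h, v_self h, ← p_z h]
  exact p_cg h rfl (by simp only [qf]; linear_combination e * F4.two_eq)

theorem p_conj (x y : V4) (e e' : F4) : s.p x e * s.p y e' * (s.p x e)⁻¹ = s.p y (e' + bf x y) := by
  rw [p_inv h, p_mul h, p_mul h]
  refine p_cg h (by rw [add_right_comm, v_self h, zero_add]) ?_
  simp only [qf, bf, Prod.fst_add, Prod.snd_add]
  linear_combination (e + x.1 * x.2.1 + x.2.2.1 * x.2.2.2) * F4.two_eq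

theorem p_zr (x : V4) (e e' : F4) : s.p x e * s.z e' = s.p x (e + e') := by
  rw [← p_z h, p_mul h]; simp

theorem p_zl (x : V4) (e e' : F4) : s.z e' * s.p x e = s.p x (e + e') := by
  rw [← p_z h, p_mul h]; simp [add_comm]

theorem z_add (e e' : F4) : s.z e * s.z e' = s.z (e + e') := by rw [← p_z h e, p_zr h, p_z h]

theorem z_inj {e e' : F4} (k : s.z e = s.z e') : e = e' := ((hm h).ext k).2.2

theorem mem_P : g ∈ s.P ↔ ∃ x e, s.p x e = g := by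
  refine ⟨fun k => ?_, fun ⟨x, e, k⟩ => k ▸ p_mem x e⟩
  induction k using closure_induction with
  | mem _ k => exact k
  | one => exact ⟨0, 0, p_one h⟩
  | mul _ _ _ _ a b =>
    obtain ⟨x, e, rfl⟩ := a
    obtain ⟨y, e', rfl⟩ := b
    exact ⟨_, _, (p_mul h ..).symm⟩
  | inv _ _ a =>
    obtain ⟨x, e, rfl⟩ := a
    exact ⟨_, _, (p_inv h ..).symm⟩

theorem mem_Z : g ∈ s.Z ↔ ∃ e, s.z e = g := by
  refine ⟨fun k => ?_, fun k => subset_closure k⟩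
  induction k using closure_induction with
  | mem _ k => exact k
  | one => exact ⟨0, (hm h).one⟩
  | mul _ _ _ _ a b =>
    obtain ⟨e, rfl⟩ := a
    obtain ⟨e', rfl⟩ := b
    exact ⟨_, (z_add h ..).symm⟩
  | inv _ _ a =>
    obtain ⟨e, rfl⟩ := a
    exact ⟨e, by rw [(hm h).inv]; simp⟩

theorem mem_V : g ∈ s.V₁ ↔ ∃ a e, s.u a 0 e = g :=
  ⟨fun k => (closure_le (hm h).A).2 (fun _ k => k) k, fun k => subset_closure k⟩

theorem mem_U : g ∈ s.U ↔ ∃ a b e, s.u a b e = g :=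
  ⟨fun k => (closure_le (hm h).S).2 (fun _ k => k) k, fun k => subset_closure k⟩

theorem p_ext {e e' : F4} (k : s.p x e = s.p y e') : x = y ∧ e = e' := by
  have key : ∀ x e, s.p x e = 1 → x = 0 ∧ e = 0 := fun x e k => by
    have h1 : ∀ y, bf x y = 0 := fun y => by
      have := p_conj h x y e 0
      rw [k, one_mul, inv_one, mul_one, ← p_zr h, left_eq_mul] at this
      exact ((hm h).inj this).2.2
    obtain rfl : x = 0 := Prod.ext (by simpa [bf] using h1 (0, 1, 0, 0)) (Prod.ext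
      (by simpa [bf] using h1 (1, 0, 0, 0)) (Prod.ext (by simpa [bf] using h1 (0, 0, 0, 1))
        (by simpa [bf] using h1 (0, 0, 1, 0))))
    exact ⟨rfl, ((hm h).inj ((p_z h e).symm.trans k)).2.2⟩
  have h1 := mul_inv_eq_one.2 k
  rw [p_inv h, p_mul h] at h1
  obtain rfl : x = y := by
    rw [← add_zero x, ← v_self h y, ← add_assoc, (key _ _ h1).1, zero_add]
  have h2 := (key _ _ h1).2
  simp only [qf] at h2
  exact ⟨rfl, by linear_combination h2 - (e' + x.1 * x.2.1 + x.2.2.1 * x.2.2.2) * F4.two_eq⟩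

theorem P_cenZ (hg : g ∈ s.P) : g ∈ cen s.Z := mem_cenZ.2 fun e => by
  obtain ⟨x, e', rfl⟩ := (mem_P h).1 hg
  rw [p_zr h, ← p_zl h, mul_inv_cancel_right]

theorem Z_le_P : s.Z ≤ s.P := fun _ k => by
  obtain ⟨e, rfl⟩ := (mem_Z h).1 k
  exact p_z h e ▸ p_mem 0 e

theorem P_four (hg : g ∈ s.P) : g ^ 4 = 1 := by
  obtain ⟨x, e, rfl⟩ := (mem_P h).1 hg
  rw [show 4 = 2 * 2 from rfl, pow_mul, pow_two, pow_two, p_sq h, z_add h, F4.add_self, Dt.z, (hm h).one]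

theorem P_two : IsPGroup 2 s.P := isPGroup_iff_forall.2 fun _ k => ⟨2, P_four h k⟩

theorem P_cenO (hg : g ∈ s.P) : g ∈ cen s.O := fun o ho => by
  obtain ⟨x, e, rfl⟩ := (mem_P h).1 hg
  have k := h.loc.od.le ho
  exact ((Commute.mul_left (Commute.mul_left (k.2 _ (r_R h _)) (h.loc.βO _ o ho))
    (k.1 _ (h.fr.uA ..))).symm).eq

theorem A_cenO {a : G} (ha : a ∈ s.A) : a ∈ cen s.O := fun _ ho => ((h.loc.od.le ho).1 a ha).symm

/-! ### `Act` -/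

theorem act_p (x : V4) (e : F4) : s.Act (s.p x e) id := fun _ => ⟨_, p_conj h ..⟩

theorem act_uniq (h1 : s.Act g φ) (h2 : s.Act g ψ) : φ = ψ := funext fun x => by
  obtain ⟨e, k⟩ := h1 x
  obtain ⟨e', k'⟩ := h2 x
  exact (p_ext h (k.symm.trans k')).1

variable [Finite G]

theorem cj_z (hg : g ∈ nor s.Z) (e : F4) : ∃ e', g * s.z e * g⁻¹ = s.z e' :=
  ((mem_Z h).1 (conj_mem_of_mem_normalizer hg ((mem_Z h).2 ⟨e, rfl⟩))).imp fun _ => Eq.symm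

theorem act_all (hg : g ∈ nor s.Z) (h1 : s.Act g φ) (x : V4) (e : F4) :
    ∃ e', g * s.p x e * g⁻¹ = s.p (φ x) e' := by
  obtain ⟨e1, k1⟩ := h1 x
  obtain ⟨e2, k2⟩ := cj_z h hg e
  exact ⟨e1 + e2, by rw [← p_zr h, ← k1, ← k2, conj_mul, p_zr h, zero_add]⟩

omit h in
theorem nZ (hg : g ∈ cen s.Z) : g ∈ nor s.Z := centralizer_le_normalizer _ hg

theorem act_mul (hg : g ∈ nor s.Z) (h1 : s.Act g φ) (h2 : s.Act g' ψ) : s.Act (g * g') (φ ∘ ψ) :=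
  fun x => by
    obtain ⟨e, k⟩ := h2 x
    obtain ⟨e', k'⟩ := act_all h hg h1 (ψ x) e
    exact ⟨e', by rw [Function.comp_apply, ← k', ← k]; group⟩

theorem act_pow (hg : g ∈ nor s.Z) (h1 : s.Act g φ) (n : ℕ) : s.Act (g ^ n) φ^[n] := by
  induction n with
  | zero => exact fun x => ⟨0, by simp⟩
  | succ n ih => rw [pow_succ', Function.iterate_succ']; exact act_mul h hg h1 ih

theorem act_inv (hg : g ∈ nor s.Z) (h1 : s.Act g φ) (e : ∀ x, φ (ψ x) = x) : s.Act g⁻¹ ψ := fun x => by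
  obtain ⟨e1, k1⟩ := h1 (ψ x)
  obtain ⟨e2, k2⟩ := cj_z h (inv_mem hg) e1
  refine ⟨e2, ?_⟩
  rw [e] at k1
  have k3 : s.p x 0 = s.p x e1 * s.z e1 := by rw [p_zr h, F4.add_self]
  rw [← zero_add e2, ← p_zr h, ← k2, k3, ← k1]
  group

theorem act_nor (hg : g ∈ nor s.Z) (h1 : s.Act g φ) : g ∈ nor s.P := mem_normalizer_of_cj_le (by
  rintro _ ⟨q, hq, rfl⟩
  obtain ⟨x, e, rfl⟩ := (mem_P h).1 hq
  obtain ⟨e', k⟩ := act_all h hg h1 x e
  exact (mem_P h).2 ⟨_, _, k.symm⟩)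

theorem act_ex (hg : g ∈ nor s.P) : ∃ φ, s.Act g φ := by
  choose φ e k using fun x => (mem_P h).1 (conj_mem_of_mem_normalizer hg (p_mem x 0))
  exact ⟨φ, fun x => ⟨e x, (k x).symm⟩⟩

theorem act_add (hg : g ∈ nor s.Z) (h1 : s.Act g φ) (x y : V4) : φ (x + y) = φ x + φ y := by
  obtain ⟨e1, k1⟩ := h1 x
  obtain ⟨e2, k2⟩ := h1 y
  obtain ⟨e3, k3⟩ := act_all h hg h1 (x + y) (0 + 0 + x.2.1 * y.1 + x.2.2.1 * y.2.2.2)
  rw [← p_mul h, ← conj_mul, k1, k2, p_mul h] at k3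
  exact (p_ext h k3).1.symm

theorem act_bf (h1 : s.Act g φ) (x y : V4) :
    g * s.z (bf x y) * g⁻¹ = s.z (bf (φ x) (φ y)) := by
  obtain ⟨e1, k1⟩ := h1 x
  obtain ⟨e2, k2⟩ := h1 y
  have := p_conj h (φ x) (φ y) e1 e2
  rw [← p_zr h, ← k1, ← k2, conj_inv, conj_mul, conj_mul, p_conj h, ← p_zr h, ← conj_mul,
    mul_right_inj] at this
  exact this

theorem act_qf (h1 : s.Act g φ) (x : V4) : g * s.z (qf x) * g⁻¹ = s.z (qf (φ x)) := by
  obtain ⟨e1, k1⟩ := h1 x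
  rw [← p_sq h (φ x) e1, ← k1, conj_mul, p_sq h]

/-! ### `w₁`, `w₂` -/

omit [Finite G]

theorem n_inv : s.n⁻¹ = s.n := inv_eq_of_mul_eq_one_right h.fr.nn

theorem m_inv : s.m⁻¹ = s.m := inv_eq_of_mul_eq_one_right h.fr.mm

theorem w₁_sq (y : F4) : s.w₁ y * s.w₁ y = 1 := by rw [SD.w₁, conj_mul, β_sq h]; simp

theorem w₂_sq (y : F4) : s.w₂ y * s.w₂ y = 1 := by rw [SD.w₂, conj_mul, β_sq h]; simp

theorem w₁_zero : s.w₁ 0 = 1 := by simp [SD.w₁, β_zero h]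

theorem w₁_add (y y' : F4) : s.w₁ (y + y') = s.w₁ y * s.w₁ y' := by
  rw [SD.w₁, SD.w₁, SD.w₁, conj_mul, h.loc.add]

theorem w₁_u (y a e : F4) : s.w₁ y * s.u a 0 e * (s.w₁ y)⁻¹ = s.u a 0 e := by
  rw [← h.fr.nu, SD.w₁, conj_inv, conj_mul, conj_mul, (h.loc.βu ..).eq, mul_inv_cancel_right]

theorem w₂_u (y b e : F4) : s.w₂ y * s.u 0 b e * (s.w₂ y)⁻¹ = s.u 0 b e := by
  rw [← h.fr.mu, SD.w₂, conj_inv, conj_mul, conj_mul, (h.loc.βu ..).eq, mul_inv_cancel_right]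

theorem w₁_r (y c : F4) : s.w₁ y * s.r c * (s.w₁ y)⁻¹ = s.p (c, 0, c * y, 0) 0 := by
  have k := mul_inv_eq_iff_eq_mul.2 (r_A h c h.fr.nA)
  nth_rewrite 1 [← k]
  rw [SD.w₁, conj_inv, conj_mul, conj_mul, h.loc.βr y c (.inl rfl), ← conj_mul, k, h.fr.nu]
  simp [SD.p, β_zero h]

theorem w₂_r (y c : F4) : s.w₂ y * s.r c * (s.w₂ y)⁻¹ = s.p (c, 0, 0, c * y) 0 := by
  have k := mul_inv_eq_iff_eq_mul.2 (r_A h c h.fr.mA)
  nth_rewrite 1 [← k]
  rw [SD.w₂, conj_inv, conj_mul, conj_mul, h.loc.βr y c (.inl rfl), ← conj_mul, k, h.fr.mu]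
  simp [SD.p, β_zero h]

theorem w₁_β (y d : F4) : s.w₁ y * s.β d * (s.w₁ y)⁻¹ = s.p (0, d, y ^ 2 * d, 0) (y * d ^ 2) := by
  simpa [SD.p, SD.w₁, r_zero h] using h.loc.s₁.wβ y d

theorem w₂_β (y d : F4) : s.w₂ y * s.β d * (s.w₂ y)⁻¹ = s.p (0, d, 0, y ^ 2 * d) (y * d ^ 2) := by
  simpa [SD.p, SD.w₂, r_zero h, Dt.swap] using h.loc.s₂.wβ y d

omit h in
theorem flip_inv {w v t : G} (h2 : w * w = 1) (e : v * w * v⁻¹ = w * t) : w * v * w⁻¹ = t * v := by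
  rw [inv_eq_of_mul_eq_one_right h2, mul_assoc, mul_inv_eq_iff_eq_mul.1 e, ← mul_assoc, ← mul_assoc,
    h2, one_mul]

theorem w₁_v (y b : F4) : s.w₁ y * s.u 0 b 0 * (s.w₁ y)⁻¹ = s.p (y ^ 2 * b, y * b, y ^ 3 * b, b) 0 := by
  have : s.u 0 b 0 * s.w₁ y * (s.u 0 b 0)⁻¹ =
      s.w₁ y * (s.β (y * b) * s.r (y ^ 2 * b) * s.u (y ^ 3 * b) 0 0) := by
    simpa [SD.w₁, mul_assoc] using h.loc.s₁.vw y b
  rw [flip_inv (w₁_sq h y) this, ← p_β h, ← p_r h, ← p_u h, ← p_u h, p_mul h, p_mul h, p_mul h]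
  exact p_cg h (by simp) (by simp only [Prod.mk_add_mk]; linear_combination (y ^ 3 * b ^ 2) * F4.two_eq)

theorem w₂_v (y a : F4) :
    s.w₂ y * s.u a 0 0 * (s.w₂ y)⁻¹ = s.p (y ^ 2 * a, y * a, a, y ^ 3 * a) (y ^ 3 * a ^ 2) := by
  have : s.u a 0 0 * s.w₂ y * (s.u a 0 0)⁻¹ =
      s.w₂ y * (s.β (y * a) * s.r (y ^ 2 * a) * s.u 0 (y ^ 3 * a) 0) := by
    simpa [SD.w₂, mul_assoc, Dt.swap] using h.loc.s₂.vw y a
  rw [flip_inv (w₂_sq h y) this, ← p_β h, ← p_r h, ← p_u h, ← p_u h, p_mul h, p_mul h, p_mul h]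
  exact p_cg h (by simp) (by simp only [Prod.mk_add_mk]; ring)

/-- the exact action of `w₁ y` -/
theorem w₁_p (y c d a b e : F4) : s.w₁ y * s.p (c, d, a, b) e * (s.w₁ y)⁻¹ =
    s.p (W₁ y (c, d, a, b)) (e + y * d ^ 2 + c * y * b) := by
  rw [SD.p, (hm h).dec, ← conj_mul, ← conj_mul, ← conj_mul, w₁_r h, w₁_β h, w₁_u h, w₁_v h, ← p_u h,
    p_mul h, p_mul h, p_mul h]
  refine p_cg h (by simp only [W₁, Prod.mk_add_mk]; ext <;> simp only <;> ring) ?_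
  simp only [Prod.mk_add_mk]
  linear_combination (a * b + d * y ^ 2 * b) * F4.two_eq

/-- the exact action of `w₂ y` -/
theorem w₂_p (y c d a b e : F4) : s.w₂ y * s.p (c, d, a, b) e * (s.w₂ y)⁻¹ =
    s.p (W₂ y (c, d, a, b)) (e + y * d ^ 2 + y ^ 2 * a * d + y ^ 3 * a ^ 2) := by
  have : s.u a b e = s.u 0 b e * s.u a 0 0 := by rw [(hm h).mul]; simp
  rw [SD.p, this, ← conj_mul, ← conj_mul, ← conj_mul, w₂_r h, w₂_β h, w₂_u h, w₂_v h, ← p_u h,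
    p_mul h, p_mul h, p_mul h]
  refine p_cg h (by simp only [W₂, Prod.mk_add_mk]; ext <;> simp only <;> ring) ?_
  simp only [Prod.mk_add_mk]
  ring

theorem act_w₁ (y : F4) : s.Act (s.w₁ y) (W₁ y) := fun ⟨_, _, _, _⟩ => ⟨_, w₁_p h ..⟩

theorem act_w₂ (y : F4) : s.Act (s.w₂ y) (W₂ y) := fun ⟨_, _, _, _⟩ => ⟨_, w₂_p h ..⟩

theorem w₁_cenV (y : F4) : s.w₁ y ∈ cen s.V₁ := mem_cenV.2 (w₁_u h y)

theorem w₂_cenZ (y : F4) : s.w₂ y ∈ cen s.Z := mem_cenZ.2 (w₂_u h y 0)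

theorem β_cenO (y : F4) : s.β y ∈ cen s.O := fun o ho => (h.loc.βO y o ho).symm.eq

theorem w₁_cenO (y : F4) : s.w₁ y ∈ cen s.O :=
  mul_mem (mul_mem (A_cenO h h.fr.nA) (β_cenO h y)) (inv_mem (A_cenO h h.fr.nA))

theorem w₂_cenO (y : F4) : s.w₂ y ∈ cen s.O :=
  mul_mem (mul_mem (A_cenO h h.fr.mA) (β_cenO h y)) (inv_mem (A_cenO h h.fr.mA))

variable [Finite G]

theorem Y_le : s.Y ≤ s.M ⊓ cen s.O := sup_le ((closure_le _).2 (by
    rintro _ ⟨y, rfl | rfl⟩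
    exacts [⟨⟨cenV_le (w₁_cenV h y), act_nor h (nZ (cenV_le (w₁_cenV h y))) (act_w₁ h y)⟩, w₁_cenO h y⟩,
      ⟨⟨w₂_cenZ h y, act_nor h (nZ (w₂_cenZ h y)) (act_w₂ h y)⟩, w₂_cenO h y⟩]))
  fun _ k => ⟨⟨P_cenZ h k, le_normalizer k⟩, P_cenO h k⟩

/-- an element that maps an involution of `K` into `K` normalizes `A` -/
theorem mem_N {c c' : F4} (n : c' ≠ 0) (e : g * s.r c * g⁻¹ = s.r c') : g ∈ s.N := by
  have := same h.fr.std.2.1 (g := g) (g' := 1) (r_ord h n) (e ▸ conj_mem_cj (r_K h c))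
    ((cj_one _).ge (r_K h c'))
  rw [cj_one] at this
  exact h.fr.std.2.2.2.ge (cj_eq_self_iff.1 this)

omit h [Finite G] in
theorem KI_conj {K : Subgroup G} {t : G} (k : KI K t) (g : G) : KI K (g * t * g⁻¹) :=
  ⟨((MulAut.conj g).orderOf_eq t).trans k.1, k.2.elim fun a ha => ⟨g * a, cj_cj g a K ▸ conj_mem_cj ha⟩⟩

omit h [Finite G] in
theorem KI_iff {K : Subgroup G} {t : G} (g : G) : KI K (g * t * g⁻¹) ↔ KI K t :=
  ⟨fun k => by simpa [mul_assoc] using KI_conj k g⁻¹, fun k => KI_conj k g⟩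

end H21.TE
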